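import Mathlib

/-!
# K-S5630-C1: absolutely irreducible matrix representations with equal traces are conjugate

Also: Skolem–Noether for the full matrix algebra in matrix form (`exists_conj_of_algEquiv`).
-/

set_option autoImplicit false

namespace Cfsg.Agent.Lib.Helper04.Asch

open scoped Matrix MatrixGroups

variable {F : Type*} [Field F] {n : ℕ}

/-- Skolem–Noether for `M_n(F)`: every `F`-algebra automorphism is conjugation by an invertible matrix. -/
theorem exists_conj_of_algEquiv (Φ : Matrix (Fin n) (Fin n) F ≃ₐ[F] Matrix (Fin n) (Fin n) F) :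
    ∃ C : GL (Fin n) F, ∀ M : Matrix (Fin n) (Fin n) F,
      Φ M = (C : Matrix (Fin n) (Fin n) F) * M * ((C⁻¹ : GL (Fin n) F) : Matrix (Fin n) (Fin n) F) := by
  classical
  let tl : Matrix (Fin n) (Fin n) F ≃ₐ[F] Module.End F (Fin n → F) := Matrix.toLinAlgEquiv'
  let Ψ : Module.End F (Fin n → F) ≃ₐ[F] Module.End F (Fin n → F) := tl.symm.trans (Φ.trans tl)
  obtain ⟨T, hT⟩ := Ψ.eq_linearEquivConjAlgEquiv
  let C : Matrix (Fin n) (Fin n) F := LinearMap.toMatrix' T.toLinearMap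
  let C' : Matrix (Fin n) (Fin n) F := LinearMap.toMatrix' T.symm.toLinearMap
  have h1 : C * C' = 1 := by
    rw [← LinearMap.toMatrix'_comp]
    have : T.toLinearMap ∘ₗ T.symm.toLinearMap = LinearMap.id := by
      ext x; simp
    rw [this, LinearMap.toMatrix'_id]
  have h2 : C' * C = 1 := by
    rw [← LinearMap.toMatrix'_comp]
    have : T.symm.toLinearMap ∘ₗ T.toLinearMap = LinearMap.id := by
      ext x; simp
    rw [this, LinearMap.toMatrix'_id]
  refine ⟨⟨C, C', h1, h2⟩, ?_⟩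
  intro M
  have h3 : Ψ (tl M) = tl (Φ M) := by
    simp [Ψ]
  have h4 : Ψ (tl M) = T.toLinearMap ∘ₗ (tl M) ∘ₗ T.symm.toLinearMap := by
    rw [hT]; rfl
  have h5 : Φ M = tl.symm (T.toLinearMap ∘ₗ (tl M) ∘ₗ T.symm.toLinearMap) := by
    rw [← h4, h3, AlgEquiv.symm_apply_apply]
  rw [h5]
  change LinearMap.toMatrix' (T.toLinearMap ∘ₗ (Matrix.toLin' M) ∘ₗ T.symm.toLinearMap) = C * M * C'
  rw [LinearMap.toMatrix'_comp, LinearMap.toMatrix'_comp, LinearMap.toMatrix'_toLin', mul_assoc]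

section conj

variable {X : Type*} [Group X]

/-- the algebra hom from the group algebra defined by a matrix representation -/
noncomputable def repAlg (ρ : X →* GL (Fin n) F) :
    MonoidAlgebra F X →ₐ[F] Matrix (Fin n) (Fin n) F :=
  MonoidAlgebra.lift F (Matrix (Fin n) (Fin n) F) X
    ((Units.coeHom (Matrix (Fin n) (Fin n) F)).comp ρ)

theorem repAlg_of (ρ : X →* GL (Fin n) F) (x : X) :
    repAlg ρ (MonoidAlgebra.of F X x) = ((ρ x : GL (Fin n) F) : Matrix (Fin n) (Fin n) F) := by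
  unfold repAlg
  rw [MonoidAlgebra.lift_of]
  rfl

theorem repAlg_surjective (ρ : X →* GL (Fin n) F)
    (h : Algebra.adjoin F (Set.range fun x => ((ρ x : GL (Fin n) F) : Matrix (Fin n) (Fin n) F)) = ⊤) :
    Function.Surjective (repAlg ρ) := by
  rw [← AlgHom.range_eq_top, eq_top_iff, ← h]
  apply Algebra.adjoin_le
  rintro _ ⟨x, rfl⟩
  exact ⟨MonoidAlgebra.of F X x, repAlg_of ρ x⟩

theorem trace_repAlg_eq (ρ₁ ρ₂ : X →* GL (Fin n) F)
    (htr : ∀ x, Matrix.trace ((ρ₁ x : GL (Fin n) F) : Matrix (Fin n) (Fin n) F)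
      = Matrix.trace ((ρ₂ x : GL (Fin n) F) : Matrix (Fin n) (Fin n) F))
    (a : MonoidAlgebra F X) : Matrix.trace (repAlg ρ₁ a) = Matrix.trace (repAlg ρ₂ a) := by
  induction a using MonoidAlgebra.induction_on with
  | of x => rw [repAlg_of, repAlg_of, htr]
  | add a b ha hb => rw [map_add, map_add, Matrix.trace_add, Matrix.trace_add, ha, hb]
  | smul r a ha => rw [map_smul, map_smul, Matrix.trace_smul, Matrix.trace_smul, ha]

theorem repAlg_eq_zero_of (ρ₁ ρ₂ : X →* GL (Fin n) F)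
    (h₂ : Algebra.adjoin F (Set.range fun x => ((ρ₂ x : GL (Fin n) F) : Matrix (Fin n) (Fin n) F)) = ⊤)
    (htr : ∀ x, Matrix.trace ((ρ₁ x : GL (Fin n) F) : Matrix (Fin n) (Fin n) F)
      = Matrix.trace ((ρ₂ x : GL (Fin n) F) : Matrix (Fin n) (Fin n) F))
    (a : MonoidAlgebra F X) (ha : repAlg ρ₁ a = 0) : repAlg ρ₂ a = 0 := by
  rw [Matrix.ext_iff_trace_mul_right]
  intro M
  obtain ⟨b, rfl⟩ := repAlg_surjective ρ₂ h₂ M
  rw [← map_mul, ← trace_repAlg_eq ρ₁ ρ₂ htr, map_mul, ha, zero_mul, zero_mul]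

/-- K-S5630-C1 -/
theorem exists_conj_of_trace_eq [Fintype F] (ρ₁ ρ₂ : X →* GL (Fin n) F)
    (h₁ : Algebra.adjoin F (Set.range fun x => ((ρ₁ x : GL (Fin n) F) : Matrix (Fin n) (Fin n) F)) = ⊤)
    (h₂ : Algebra.adjoin F (Set.range fun x => ((ρ₂ x : GL (Fin n) F) : Matrix (Fin n) (Fin n) F)) = ⊤)
    (htr : ∀ x, Matrix.trace ((ρ₁ x : GL (Fin n) F) : Matrix (Fin n) (Fin n) F)
      = Matrix.trace ((ρ₂ x : GL (Fin n) F) : Matrix (Fin n) (Fin n) F)) :
    ∃ C : GL (Fin n) F, ∀ x, C * ρ₁ x * C⁻¹ = ρ₂ x := by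
  have hs1 := repAlg_surjective ρ₁ h₁
  have hs2 := repAlg_surjective ρ₂ h₂
  have k12 := repAlg_eq_zero_of ρ₁ ρ₂ h₂ htr
  have k21 := repAlg_eq_zero_of ρ₂ ρ₁ h₁ (fun x => (htr x).symm)
  -- the map Φ
  let Φf : Matrix (Fin n) (Fin n) F → Matrix (Fin n) (Fin n) F :=
    fun M => repAlg ρ₂ (Function.surjInv hs1 M)
  have key : ∀ a, Φf (repAlg ρ₁ a) = repAlg ρ₂ a := by
    intro a
    have h1 : repAlg ρ₁ (Function.surjInv hs1 (repAlg ρ₁ a) - a) = 0 := by
      rw [map_sub, Function.surjInv_eq hs1, sub_self]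
    have h2 := k12 _ h1
    rw [map_sub, sub_eq_zero] at h2
    exact h2
  let Φ : Matrix (Fin n) (Fin n) F →ₐ[F] Matrix (Fin n) (Fin n) F :=
    { toFun := Φf
      map_one' := by
        have := key 1
        rwa [map_one, map_one] at this
      map_mul' := by
        intro M N
        obtain ⟨a, rfl⟩ := hs1 M
        obtain ⟨b, rfl⟩ := hs1 N
        rw [← map_mul, key, key, key, map_mul]
      map_zero' := by
        have := key 0
        rwa [map_zero, map_zero] at this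
      map_add' := by
        intro M N
        obtain ⟨a, rfl⟩ := hs1 M
        obtain ⟨b, rfl⟩ := hs1 N
        rw [← map_add, key, key, key, map_add]
      commutes' := by
        intro r
        have := key (algebraMap F _ r)
        rwa [AlgHom.commutes, AlgHom.commutes] at this }
  have hΦ : ∀ a, Φ (repAlg ρ₁ a) = repAlg ρ₂ a := key
  have hinj : Function.Injective Φ := by
    rw [injective_iff_map_eq_zero]
    intro M hM
    obtain ⟨a, rfl⟩ := hs1 M
    rw [hΦ] at hM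
    exact k21 a hM
  have hsurj : Function.Surjective Φ := by
    intro N
    obtain ⟨a, rfl⟩ := hs2 N
    exact ⟨repAlg ρ₁ a, hΦ a⟩
  obtain ⟨C, hC⟩ := exists_conj_of_algEquiv (AlgEquiv.ofBijective Φ ⟨hinj, hsurj⟩)
  refine ⟨C, fun x => ?_⟩
  apply Units.ext
  have h := hC ((ρ₁ x : GL (Fin n) F) : Matrix (Fin n) (Fin n) F)
  have h' : Φ ((ρ₁ x : GL (Fin n) F) : Matrix (Fin n) (Fin n) F)
      = (C : Matrix (Fin n) (Fin n) F) * ((ρ₁ x : GL (Fin n) F) : Matrix (Fin n) (Fin n) F)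
        * ((C⁻¹ : GL (Fin n) F) : Matrix (Fin n) (Fin n) F) := h
  rw [← repAlg_of ρ₁ x, hΦ, repAlg_of, repAlg_of] at h'
  rw [h']
  simp

end conj

end Cfsg.Agent.Lib.Helper04.Asch
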