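import Mathlib
import Cfsg.Prelude.Def_GeometricClasses

/-!
# Pure tensors of matrices on `Fin t → Fin m` (tools for K-S5630-E3)
-/

set_option autoImplicit false

namespace Cfsg.Agent.Lib.Helper04.Asch

open Cfsg Cfsg.Geo
open scoped Matrix MatrixGroups

variable {F : Type*} [Field F] {m t : ℕ}

/-- The matrix on `Fin t → Fin m` of `1 ⊗ … ⊗ x ⊗ … ⊗ 1` (`x` in position `i`). -/
def pureAt (m t : ℕ) (i : Fin t) (x : Matrix (Fin m) (Fin m) F) :
    Matrix (Fin t → Fin m) (Fin t → Fin m) F :=
  fun u v => if ∀ j, j ≠ i → u j = v j then x (u i) (v i) else 0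

theorem pureAt_apply (i : Fin t) (x : Matrix (Fin m) (Fin m) F) (u v : Fin t → Fin m) :
    pureAt m t i x u v = if ∀ j, j ≠ i → u j = v j then x (u i) (v i) else 0 := rfl

/-- the pure tensor of `t` square matrices -/
def PT (a : Fin t → Matrix (Fin m) (Fin m) F) : Matrix (Fin t → Fin m) (Fin t → Fin m) F :=
  fun u v => ∏ i, a i (u i) (v i)

theorem PT_apply (a : Fin t → Matrix (Fin m) (Fin m) F) (u v : Fin t → Fin m) :
    PT a u v = ∏ i, a i (u i) (v i) := rfl

theorem PT_one : PT (fun _ => (1 : Matrix (Fin m) (Fin m) F)) = (1 : Matrix (Fin t → Fin m) _ F) := by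
  ext u v
  rw [PT_apply]
  simp only [Matrix.one_apply]
  rw [Finset.prod_ite_zero]
  simp only [Finset.mem_univ, forall_const, Finset.prod_const_one]
  by_cases h : u = v
  · subst h; simp
  · have : ¬ ∀ i, u i = v i := fun hc => h (funext hc)
    simp [h, this]

theorem PT_mul (a b : Fin t → Matrix (Fin m) (Fin m) F) :
    PT a * PT b = PT (fun i => a i * b i) := by
  ext u v
  rw [Matrix.mul_apply, PT_apply]
  simp only [Matrix.mul_apply, PT_apply]
  rw [Finset.prod_univ_sum]
  simp only [Fintype.piFinset_univ, Finset.prod_mul_distrib]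

theorem pureAt_eq_PT (i : Fin t) (x : Matrix (Fin m) (Fin m) F) :
    pureAt m t i x = PT (Function.update (fun _ => (1 : Matrix (Fin m) (Fin m) F)) i x) := by
  ext u v
  rw [PT_apply, ← Finset.mul_prod_erase Finset.univ _ (Finset.mem_univ i)]
  simp only [Function.update_self]
  have h1 : ∀ j ∈ Finset.univ.erase i,
      (Function.update (fun _ => (1 : Matrix (Fin m) (Fin m) F)) i x j) (u j) (v j)
        = if u j = v j then 1 else 0 := by
    intro j hj
    rw [Function.update_of_ne (Finset.ne_of_mem_erase hj), Matrix.one_apply]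
  rw [Finset.prod_congr rfl h1, Finset.prod_ite_zero]
  simp only [Finset.mem_erase, Finset.mem_univ, and_true, Finset.prod_const_one]
  rw [pureAt_apply]
  by_cases h : ∀ j, j ≠ i → u j = v j
  · simp [h]
  · simp [h]

theorem pureAt_one (i : Fin t) : pureAt m t i (1 : Matrix (Fin m) (Fin m) F) = 1 := by
  rw [pureAt_eq_PT, Function.update_eq_self, PT_one]

theorem pureAt_mul (i : Fin t) (x y : Matrix (Fin m) (Fin m) F) :
    pureAt m t i (x * y) = pureAt m t i x * pureAt m t i y := by
  rw [pureAt_eq_PT, pureAt_eq_PT, pureAt_eq_PT, PT_mul]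
  congr 1
  funext j
  by_cases h : j = i
  · subst h; simp
  · simp [Function.update_of_ne h]

theorem pureAt_add (i : Fin t) (x y : Matrix (Fin m) (Fin m) F) :
    pureAt m t i (x + y) = pureAt m t i x + pureAt m t i y := by
  ext u v
  rw [Matrix.add_apply, pureAt_apply, pureAt_apply, pureAt_apply, Matrix.add_apply]
  split_ifs <;> simp

theorem pureAt_smul (i : Fin t) (c : F) (x : Matrix (Fin m) (Fin m) F) :
    pureAt m t i (c • x) = c • pureAt m t i x := by
  ext u v
  rw [Matrix.smul_apply, pureAt_apply, pureAt_apply, Matrix.smul_apply]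
  split_ifs <;> simp

theorem pureAt_injective (i : Fin t) :
    Function.Injective (pureAt m t i : Matrix (Fin m) (Fin m) F → _) := by
  intro x y h
  ext a b
  have := congrFun (congrFun h (fun _ => a)) (Function.update (fun _ => a) i b)
  rw [pureAt_apply, pureAt_apply] at this
  have hc : ∀ j, j ≠ i → (fun _ : Fin t => a) j = (Function.update (fun _ => a) i b) j := by
    intro j hj
    rw [Function.update_of_ne hj]
  rw [if_pos hc, if_pos hc, Function.update_self] at this
  exact this

/-- `pureAt` as an algebra homomorphism -/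
def pureAtAlg (m t : ℕ) (i : Fin t) :
    Matrix (Fin m) (Fin m) F →ₐ[F] Matrix (Fin t → Fin m) (Fin t → Fin m) F where
  toFun := pureAt m t i
  map_one' := pureAt_one i
  map_mul' := pureAt_mul i
  map_zero' := by
    have := pureAt_smul (m := m) (t := t) i (0 : F) (0 : Matrix (Fin m) (Fin m) F)
    simpa using this
  map_add' := pureAt_add i
  commutes' := by
    intro r
    rw [Algebra.algebraMap_eq_smul_one, Algebra.algebraMap_eq_smul_one, pureAt_smul, pureAt_one]

theorem pureAtAlg_apply (i : Fin t) (x : Matrix (Fin m) (Fin m) F) :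
    pureAtAlg m t i x = pureAt m t i x := rfl

end Cfsg.Agent.Lib.Helper04.Asch
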