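import Mathlib
import Cfsg.Agent.Lib.Helper04.AschE3a

/-!
# Pure tensors and factor permutations as invertible matrices (tools for K-S5630-E3)
-/

set_option autoImplicit false

namespace Cfsg.Agent.Lib.Helper04.Asch

open Cfsg Cfsg.Geo
open scoped Matrix MatrixGroups

variable {F : Type*} [Field F] {m t : ℕ}

/-- the pure tensor of invertible matrices, as an invertible matrix -/
def ptGL (g : Fin t → GL (Fin m) F) : GL (Fin t → Fin m) F where
  val := PT (fun i => (g i : Matrix (Fin m) (Fin m) F))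
  inv := PT (fun i => ((g i)⁻¹ : GL (Fin m) F))
  val_inv := by
    rw [PT_mul]
    simp only [← Units.val_mul, mul_inv_cancel, Units.val_one]
    exact PT_one
  inv_val := by
    rw [PT_mul]
    simp only [← Units.val_mul, inv_mul_cancel, Units.val_one]
    exact PT_one

theorem ptGL_val (g : Fin t → GL (Fin m) F) :
    ((ptGL g : GL (Fin t → Fin m) F) : Matrix (Fin t → Fin m) (Fin t → Fin m) F)
      = PT (fun i => (g i : Matrix (Fin m) (Fin m) F)) := rfl

theorem ptGL_inv_val (g : Fin t → GL (Fin m) F) :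
    (((ptGL g)⁻¹ : GL (Fin t → Fin m) F) : Matrix (Fin t → Fin m) (Fin t → Fin m) F)
      = PT (fun i => ((g i)⁻¹ : GL (Fin m) F)) := rfl

theorem ptGL_isPureTensor (g : Fin t → GL (Fin m) F) : IsPureTensor m t (ptGL g) :=
  ⟨g, fun _ _ => rfl⟩

/-- conjugating `pureAt i x` by a pure tensor -/
theorem ptGL_conj_pureAt (g : Fin t → GL (Fin m) F) (i : Fin t) (x : Matrix (Fin m) (Fin m) F) :
    ((ptGL g : GL (Fin t → Fin m) F) : Matrix (Fin t → Fin m) (Fin t → Fin m) F) * pureAt m t i x
      * (((ptGL g)⁻¹ : GL (Fin t → Fin m) F) : Matrix (Fin t → Fin m) (Fin t → Fin m) F)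
      = pureAt m t i ((g i : Matrix (Fin m) (Fin m) F) * x
          * (((g i)⁻¹ : GL (Fin m) F) : Matrix (Fin m) (Fin m) F)) := by
  rw [ptGL_val, ptGL_inv_val, pureAt_eq_PT, pureAt_eq_PT, PT_mul, PT_mul]
  congr 1
  funext j
  by_cases h : j = i
  · subst h; simp
  · simp only [Function.update_of_ne h, mul_one]
    rw [← Units.val_mul, mul_inv_cancel, Units.val_one]

/-- the matrix permuting the tensor factors -/
def permMat (m : ℕ) (σ : Equiv.Perm (Fin t)) : Matrix (Fin t → Fin m) (Fin t → Fin m) F :=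
  fun x y => if y = x ∘ σ then 1 else 0

theorem permMat_apply (σ : Equiv.Perm (Fin t)) (x y : Fin t → Fin m) :
    (permMat m σ : Matrix (Fin t → Fin m) (Fin t → Fin m) F) x y = if y = x ∘ σ then 1 else 0 := rfl

theorem permMat_mul_apply (σ : Equiv.Perm (Fin t)) (M : Matrix (Fin t → Fin m) (Fin t → Fin m) F)
    (u v : Fin t → Fin m) :
    ((permMat m σ : Matrix (Fin t → Fin m) (Fin t → Fin m) F) * M) u v = M (u ∘ σ) v := by
  rw [Matrix.mul_apply]
  simp only [permMat_apply, ite_mul, one_mul, zero_mul]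
  rw [Finset.sum_ite_eq']
  simp

theorem mul_permMat_apply (σ : Equiv.Perm (Fin t)) (M : Matrix (Fin t → Fin m) (Fin t → Fin m) F)
    (u v : Fin t → Fin m) :
    (M * (permMat m σ : Matrix (Fin t → Fin m) (Fin t → Fin m) F)) u v = M u (v ∘ σ.symm) := by
  rw [Matrix.mul_apply]
  simp only [permMat_apply, mul_ite, mul_one, mul_zero]
  have h : ∀ w : Fin t → Fin m, (v = w ∘ σ) ↔ (w = v ∘ σ.symm) := by
    intro w
    constructor
    · rintro rfl; funext j; simp
    · rintro rfl; funext j; simp
  simp only [h]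
  rw [Finset.sum_ite_eq']
  simp

theorem permMat_mul_permMat (σ τ : Equiv.Perm (Fin t)) :
    (permMat m σ : Matrix (Fin t → Fin m) (Fin t → Fin m) F) * permMat m τ = permMat m (σ * τ) := by
  ext u v
  rw [permMat_mul_apply, permMat_apply, permMat_apply]
  rfl

theorem permMat_one :
    (permMat m (1 : Equiv.Perm (Fin t)) : Matrix (Fin t → Fin m) (Fin t → Fin m) F) = 1 := by
  ext u v
  rw [permMat_apply, Matrix.one_apply]
  simp [eq_comm]

/-- the factor permutation as an invertible matrix -/
def permGL (m : ℕ) (σ : Equiv.Perm (Fin t)) : GL (Fin t → Fin m) F where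
  val := permMat m σ
  inv := permMat m σ⁻¹
  val_inv := by rw [permMat_mul_permMat, mul_inv_cancel, permMat_one]
  inv_val := by rw [permMat_mul_permMat, inv_mul_cancel, permMat_one]

theorem permGL_val (σ : Equiv.Perm (Fin t)) :
    ((permGL m σ : GL (Fin t → Fin m) F) : Matrix (Fin t → Fin m) (Fin t → Fin m) F) = permMat m σ := rfl

theorem permGL_inv_val (σ : Equiv.Perm (Fin t)) :
    (((permGL m σ)⁻¹ : GL (Fin t → Fin m) F) : Matrix (Fin t → Fin m) (Fin t → Fin m) F) = permMat m σ⁻¹ := rfl

theorem permGL_isFactorPermutation (σ : Equiv.Perm (Fin t)) :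
    IsFactorPermutation m t (permGL m σ : GL (Fin t → Fin m) F) :=
  ⟨σ, fun _ _ => rfl⟩

/-- conjugating a pure tensor by a factor permutation -/
theorem permMat_mul_PT (σ : Equiv.Perm (Fin t)) (a : Fin t → Matrix (Fin m) (Fin m) F) :
    (permMat m σ : Matrix (Fin t → Fin m) (Fin t → Fin m) F) * PT a
      = PT (fun j => a (σ.symm j)) * permMat m σ := by
  ext u v
  rw [permMat_mul_apply, mul_permMat_apply, PT_apply, PT_apply]
  exact Fintype.prod_equiv σ _ _ (fun j => by simp)

theorem permMat_conj_pureAt (σ : Equiv.Perm (Fin t)) (i : Fin t) (x : Matrix (Fin m) (Fin m) F) :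
    (permMat m σ : Matrix (Fin t → Fin m) (Fin t → Fin m) F) * pureAt m t i x * permMat m σ⁻¹
      = pureAt m t (σ i) x := by
  rw [pureAt_eq_PT, permMat_mul_PT, mul_assoc, permMat_mul_permMat, mul_inv_cancel, permMat_one,
    mul_one, pureAt_eq_PT]
  congr 1
  funext j
  by_cases h : j = σ i
  · subst h; simp
  · have h' : σ.symm j ≠ i := by
      intro hc
      apply h
      rw [← hc]; simp
    simp [Function.update_of_ne h, Function.update_of_ne h']

end Cfsg.Agent.Lib.Helper04.Asch
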