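import Mathlib
import Cfsg.Agent.Lib.Helper04.AschE3b
import Cfsg.Agent.Lib.Helper04.AschC1

/-!
# Matrices commuting with all tensor factors are scalar; K-S5630-E3 in standard coordinates
-/

set_option autoImplicit false

namespace Cfsg.Agent.Lib.Helper04.Asch

open Cfsg Cfsg.Geo
open scoped Matrix MatrixGroups

variable {F : Type*} [Field F] {m t : ℕ}

theorem pureAt_diagonal (i : Fin t) (d : Fin m → F) :
    pureAt m t i (Matrix.diagonal d) = Matrix.diagonal (fun w : Fin t → Fin m => d (w i)) := by
  ext u v
  rw [pureAt_apply, Matrix.diagonal_apply, Matrix.diagonal_apply]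
  by_cases h : u = v
  · subst h; simp
  · rw [if_neg h]
    by_cases h2 : ∀ j, j ≠ i → u j = v j
    · rw [if_pos h2, if_neg]
      intro hc
      apply h
      funext j
      by_cases hj : j = i
      · rw [hj]; exact hc
      · exact h2 j hj
    · rw [if_neg h2]

theorem diag_of_commutes (h : Matrix (Fin t → Fin m) (Fin t → Fin m) F)
    (hcomm : ∀ (i : Fin t) (x : Matrix (Fin m) (Fin m) F), h * pureAt m t i x = pureAt m t i x * h)
    (u v : Fin t → Fin m) (huv : u ≠ v) : h u v = 0 := by
  obtain ⟨i, hi⟩ : ∃ i, u i ≠ v i := by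
    by_contra hc
    push Not at hc
    exact huv (funext hc)
  have h1 := hcomm i (Matrix.diagonal (fun a => if a = u i then (1 : F) else 0))
  rw [pureAt_diagonal] at h1
  have h2 := congrFun (congrFun h1 u) v
  rw [Matrix.mul_diagonal, Matrix.diagonal_mul] at h2
  simp only [if_true] at h2
  rw [if_neg (fun hc => hi hc.symm), mul_zero, one_mul] at h2
  exact h2.symm

theorem scalar_of_commutes (hm : 0 < m) (h : Matrix (Fin t → Fin m) (Fin t → Fin m) F)
    (hcomm : ∀ (i : Fin t) (x : Matrix (Fin m) (Fin m) F), h * pureAt m t i x = pureAt m t i x * h) :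
    ∃ c : F, h = c • (1 : Matrix (Fin t → Fin m) (Fin t → Fin m) F) := by
  classical
  have hd : h = Matrix.diagonal (fun u => h u u) := by
    ext u v
    rw [Matrix.diagonal_apply]
    by_cases huv : u = v
    · subst huv; simp
    · rw [if_neg huv]; exact diag_of_commutes h hcomm u v huv
  have hstep : ∀ (u : Fin t → Fin m) (i : Fin t) (c : Fin m),
      h (Function.update u i c) (Function.update u i c) = h u u := by
    intro u i c
    have h1 := hcomm i (Matrix.of fun _ _ => (1 : F))
    have h2 : ((Matrix.diagonal (fun u => h u u)) * pureAt m t i (Matrix.of fun _ _ => (1 : F))) u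
        (Function.update u i c) = (pureAt m t i (Matrix.of fun _ _ => (1 : F)) *
          (Matrix.diagonal (fun u => h u u))) u (Function.update u i c) := by
      rw [← hd, h1]
    rw [Matrix.diagonal_mul, Matrix.mul_diagonal] at h2
    have hc : ∀ j, j ≠ i → u j = Function.update u i c j := by
      intro j hj; rw [Function.update_of_ne hj]
    have hp : pureAt m t i (Matrix.of fun _ _ => (1 : F)) u (Function.update u i c) = 1 := by
      rw [pureAt_apply, if_pos hc, Matrix.of_apply]
    simp only [hp, mul_one, one_mul] at h2
    exact h2.symm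
  have hconst : ∀ u v : Fin t → Fin m, h v v = h u u := by
    intro u v
    have key : ∀ S : Finset (Fin t),
        h (fun j => if j ∈ S then v j else u j) (fun j => if j ∈ S then v j else u j) = h u u := by
      intro S
      induction S using Finset.induction_on with
      | empty => simp
      | insert a S ha ih =>
        have : (fun j => if j ∈ insert a S then v j else u j)
            = Function.update (fun j => if j ∈ S then v j else u j) a (v a) := by
          funext j
          by_cases hj : j = a
          · subst hj; simp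
          · rw [Function.update_of_ne hj]
            simp [Finset.mem_insert, hj]
        rw [this, hstep, ih]
    have := key Finset.univ
    simpa using this
  let u₀ : Fin t → Fin m := fun _ => ⟨0, hm⟩
  refine ⟨h u₀ u₀, ?_⟩
  rw [hd]
  ext u v
  rw [Matrix.diagonal_apply, Matrix.smul_apply, Matrix.one_apply]
  by_cases huv : u = v
  · rw [if_pos huv, if_pos huv, hconst u₀ u, Matrix.diagonal_apply, if_pos rfl]
    simp
  · rw [if_neg huv, if_neg huv]; simp

/-- a nonzero scalar matrix is a pure tensor (for `0 < t`) -/
theorem isPureTensor_of_scalar (ht : 0 < t) (h : GL (Fin t → Fin m) F) (c : F) (hc : c ≠ 0)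
    (hh : (h : Matrix (Fin t → Fin m) (Fin t → Fin m) F) = c • 1) : IsPureTensor m t h := by
  classical
  let i₀ : Fin t := ⟨0, ht⟩
  let sc : GL (Fin m) F := Units.map (Matrix.scalar (Fin m) : F →+* Matrix (Fin m) (Fin m) F).toMonoidHom
    (Units.mk0 c hc)
  have hsc : (sc : Matrix (Fin m) (Fin m) F) = c • 1 := by
    simp [sc, Matrix.smul_one_eq_diagonal]
  refine ⟨Function.update (fun _ => 1) i₀ sc, ?_⟩
  intro x y
  have h1 : (fun i => ((Function.update (fun _ => (1 : GL (Fin m) F)) i₀ sc i : GL (Fin m) F) :
      Matrix (Fin m) (Fin m) F))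
      = Function.update (fun _ => (1 : Matrix (Fin m) (Fin m) F)) i₀ (c • 1) := by
    funext i
    by_cases hi : i = i₀
    · subst hi; simp [hsc]
    · simp [Function.update_of_ne hi]
  have h2 : PT (fun i => ((Function.update (fun _ => (1 : GL (Fin m) F)) i₀ sc i : GL (Fin m) F) :
      Matrix (Fin m) (Fin m) F)) = c • (1 : Matrix (Fin t → Fin m) (Fin t → Fin m) F) := by
    rw [h1, ← pureAt_eq_PT, pureAt_smul, pureAt_one]
  rw [hh, ← h2]
  rfl

end Cfsg.Agent.Lib.Helper04.Asch
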