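import Mathlib
import Cfsg.Agent.Lib.Helper04.AschE3c

/-!
# K-S5630-E3: an element permuting the tensor factor algebras lies in the tensor-wreath subgroup
-/

set_option autoImplicit false

namespace Cfsg.Agent.Lib.Helper04.Asch

open Cfsg Cfsg.Geo
open scoped Matrix MatrixGroups

variable {F : Type*} [Field F] {m t : ℕ}

local notation "MT" => Matrix (Fin t → Fin m) (Fin t → Fin m) F
local notation "Mm" => Matrix (Fin m) (Fin m) F

/-- an invertible matrix normalizing every tensor factor algebra is a pure tensor times a scalar -/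
theorem exists_pure_of_normalizes (hm : 0 < m) (g : GL (Fin t → Fin m) F)
    (hg : ∀ (i : Fin t) (x : Mm), ∃ y : Mm,
      (g : MT) * pureAt m t i x * ((g⁻¹ : GL (Fin t → Fin m) F) : MT) = pureAt m t i y) :
    ∃ (u : Fin t → GL (Fin m) F) (c : F), c ≠ 0 ∧
      (((ptGL u)⁻¹ * g : GL (Fin t → Fin m) F) : MT) = c • 1 := by
  classical
  choose φ hφ using hg
  have hginv : ((g⁻¹ : GL (Fin t → Fin m) F) : MT) * (g : MT) = 1 := by
    rw [← Units.val_mul, inv_mul_cancel, Units.val_one]
  have hginv' : (g : MT) * ((g⁻¹ : GL (Fin t → Fin m) F) : MT) = 1 := by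
    rw [← Units.val_mul, mul_inv_cancel, Units.val_one]
  -- φ i is an algebra endomorphism
  have hone : ∀ i, φ i 1 = 1 := by
    intro i
    apply pureAt_injective (m := m) (t := t) i
    rw [← hφ, pureAt_one, mul_one, hginv']
  have hmul : ∀ i x y, φ i (x * y) = φ i x * φ i y := by
    intro i x y
    apply pureAt_injective (m := m) (t := t) i
    rw [pureAt_mul, ← hφ, ← hφ, ← hφ, pureAt_mul]
    calc (g : MT) * (pureAt m t i x * pureAt m t i y) * ((g⁻¹ : GL (Fin t → Fin m) F) : MT)
        = (g : MT) * pureAt m t i x * (1 : MT) * pureAt m t i y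
            * ((g⁻¹ : GL (Fin t → Fin m) F) : MT) := by
          rw [mul_one]; simp only [mul_assoc]
      _ = (g : MT) * pureAt m t i x * ((g⁻¹ : GL (Fin t → Fin m) F) : MT)
            * ((g : MT) * pureAt m t i y * ((g⁻¹ : GL (Fin t → Fin m) F) : MT)) := by
          rw [← hginv]; simp only [mul_assoc]
  have hadd : ∀ i x y, φ i (x + y) = φ i x + φ i y := by
    intro i x y
    apply pureAt_injective (m := m) (t := t) i
    rw [pureAt_add, ← hφ, ← hφ, ← hφ, pureAt_add, mul_add, add_mul]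
  have hsmul : ∀ i (c : F) x, φ i (c • x) = c • φ i x := by
    intro i c x
    apply pureAt_injective (m := m) (t := t) i
    rw [pureAt_smul, ← hφ, ← hφ, pureAt_smul, Matrix.mul_smul, Matrix.smul_mul]
  have hzero : ∀ i, φ i 0 = 0 := by
    intro i
    have := hsmul i 0 0
    simpa using this
  let Φ : ∀ i, Mm →ₐ[F] Mm := fun i =>
    { toFun := φ i
      map_one' := hone i
      map_mul' := hmul i
      map_zero' := hzero i
      map_add' := hadd i
      commutes' := by
        intro r
        rw [Algebra.algebraMap_eq_smul_one, hsmul, hone] }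
  have hΦ : ∀ i x, Φ i x = φ i x := fun _ _ => rfl
  have hinj : ∀ i, Function.Injective (Φ i) := by
    intro i
    rw [injective_iff_map_eq_zero]
    intro x hx
    rw [hΦ] at hx
    have h1 := hφ i x
    rw [hx] at h1
    have h0 : pureAt m t i (0 : Mm) = (0 : MT) := by
      have := pureAt_smul (m := m) (t := t) i (0 : F) (0 : Mm)
      simpa using this
    rw [h0] at h1
    apply pureAt_injective (m := m) (t := t) i
    rw [h0]
    calc pureAt m t i x = ((g⁻¹ : GL (Fin t → Fin m) F) : MT) * ((g : MT) * pureAt m t i x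
          * ((g⁻¹ : GL (Fin t → Fin m) F) : MT)) * (g : MT) := by
          simp only [mul_assoc]
          rw [hginv, mul_one, ← mul_assoc, hginv, one_mul]
      _ = 0 := by rw [h1, mul_zero, zero_mul]
  have hsurj : ∀ i, Function.Surjective (Φ i) := by
    intro i
    exact LinearMap.surjective_of_injective (f := (Φ i).toLinearMap) (hinj i)
  have hSN : ∀ i, ∃ C : GL (Fin m) F, ∀ M : Mm,
      φ i M = (C : Mm) * M * ((C⁻¹ : GL (Fin m) F) : Mm) := by
    intro i
    obtain ⟨C, hC⟩ := exists_conj_of_algEquiv (AlgEquiv.ofBijective (Φ i) ⟨hinj i, hsurj i⟩)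
    exact ⟨C, fun M => hC M⟩
  choose u hu using hSN
  -- h := U⁻¹ g commutes with every factor
  have hUinv : (((ptGL u)⁻¹ : GL (Fin t → Fin m) F) : MT) * ((ptGL u : GL (Fin t → Fin m) F) : MT)
      = 1 := by
    rw [← Units.val_mul, inv_mul_cancel, Units.val_one]
  have hcomm : ∀ (i : Fin t) (x : Mm),
      (((ptGL u)⁻¹ * g : GL (Fin t → Fin m) F) : MT) * pureAt m t i x
        = pureAt m t i x * (((ptGL u)⁻¹ * g : GL (Fin t → Fin m) F) : MT) := by
    intro i x
    have h1 := hφ i x
    rw [hu i x, ← ptGL_conj_pureAt] at h1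
    -- g A g⁻¹ = U A U⁻¹
    have h2 : (g : MT) * pureAt m t i x
        = ((ptGL u : GL (Fin t → Fin m) F) : MT) * pureAt m t i x
          * (((ptGL u)⁻¹ : GL (Fin t → Fin m) F) : MT) * (g : MT) := by
      rw [← h1]
      simp only [mul_assoc]
      rw [hginv, mul_one]
    rw [Units.val_mul, mul_assoc, h2]
    simp only [← mul_assoc]
    rw [hUinv, one_mul]
  obtain ⟨c, hc⟩ := scalar_of_commutes hm _ hcomm
  refine ⟨u, c, ?_, hc⟩
  rintro rfl
  rw [zero_smul] at hc
  have h1 : (((ptGL u)⁻¹ * g : GL (Fin t → Fin m) F) : MT)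
      * ((((ptGL u)⁻¹ * g)⁻¹ : GL (Fin t → Fin m) F) : MT) = 1 := by
    rw [← Units.val_mul, mul_inv_cancel, Units.val_one]
  rw [hc, zero_mul] at h1
  have h2 := congrFun (congrFun h1 (fun _ => ⟨0, hm⟩)) (fun _ => ⟨0, hm⟩)
  simp at h2

/-- K-S5630-E3 in standard coordinates -/
theorem mem_tensorWreathStandard_of_permutes (hm : 0 < m) (ht : 0 < t)
    (g : GL (Fin t → Fin m) F) (σ : Equiv.Perm (Fin t))
    (hg : ∀ (i : Fin t) (x : Mm), ∃ y : Mm,
      (g : MT) * pureAt m t i x * ((g⁻¹ : GL (Fin t → Fin m) F) : MT) = pureAt m t (σ i) y) :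
    g ∈ tensorWreathStandard m t F := by
  have h1 : ∀ (i : Fin t) (x : Mm), ∃ y : Mm,
      (((permGL m σ)⁻¹ * g : GL (Fin t → Fin m) F) : MT) * pureAt m t i x
        * ((((permGL m σ)⁻¹ * g)⁻¹ : GL (Fin t → Fin m) F) : MT) = pureAt m t i y := by
    intro i x
    obtain ⟨y, hy⟩ := hg i x
    refine ⟨y, ?_⟩
    have e1 : ((((permGL m σ)⁻¹ * g)⁻¹ : GL (Fin t → Fin m) F) : MT)
        = ((g⁻¹ : GL (Fin t → Fin m) F) : MT) * permMat m σ := by
      rw [mul_inv_rev, inv_inv, Units.val_mul, permGL_val]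
    rw [e1, Units.val_mul, permGL_inv_val]
    have e2 := permMat_conj_pureAt (F := F) (m := m) σ⁻¹ (σ i) y
    rw [inv_inv] at e2
    have e3 : σ⁻¹ (σ i) = i := by simp
    rw [e3] at e2
    rw [← e2, ← hy]
    simp only [mul_assoc]
  obtain ⟨u, c, hc, hh⟩ := exists_pure_of_normalizes hm _ h1
  have hg_eq : g = permGL m σ * ptGL u * ((ptGL u)⁻¹ * ((permGL m σ)⁻¹ * g)) := by group
  rw [hg_eq]
  unfold tensorWreathStandard
  refine mul_mem (mul_mem ?_ ?_) ?_
  · exact Subgroup.subset_closure (Or.inr (permGL_isFactorPermutation σ))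
  · exact Subgroup.subset_closure (Or.inl (ptGL_isPureTensor u))
  · exact Subgroup.subset_closure (Or.inl (isPureTensor_of_scalar ht _ c hc hh))

/-- K-S5630-E3 (with the additional hypothesis `0 < t`, without which the statement fails). -/
theorem mem_tensorWreathSubgroup_of_permutes {n : ℕ} (m t : ℕ) (hm : 0 < m) (ht : 0 < t)
    (e : Fin n ≃ (Fin t → Fin m)) (P : GL (Fin n) F) (k : GL (Fin n) F) (σ : Equiv.Perm (Fin t))
    (hk : ∀ i x, ∃ y, (k : Matrix (Fin n) (Fin n) F) * ((P : Matrix (Fin n) (Fin n) F)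
        * Matrix.reindex e.symm e.symm (pureAt m t i x)
        * ((P⁻¹ : GL (Fin n) F) : Matrix (Fin n) (Fin n) F))
        * ((k⁻¹ : GL (Fin n) F) : Matrix (Fin n) (Fin n) F) =
      (P : Matrix (Fin n) (Fin n) F) * Matrix.reindex e.symm e.symm (pureAt m t (σ i) y)
        * ((P⁻¹ : GL (Fin n) F) : Matrix (Fin n) (Fin n) F)) :
    k ∈ tensorWreathSubgroup m t e P := by
  classical
  set Q : GL (Fin n) F := P⁻¹ * k * P with hQ
  have hPi : ((P⁻¹ : GL (Fin n) F) : Matrix (Fin n) (Fin n) F) * (P : Matrix (Fin n) (Fin n) F) = 1 := by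
    rw [← Units.val_mul, inv_mul_cancel, Units.val_one]
  have hPi' : (P : Matrix (Fin n) (Fin n) F) * ((P⁻¹ : GL (Fin n) F) : Matrix (Fin n) (Fin n) F) = 1 := by
    rw [← Units.val_mul, mul_inv_cancel, Units.val_one]
  have hQstd : glReindex e Q ∈ tensorWreathStandard m t F := by
    apply mem_tensorWreathStandard_of_permutes hm ht _ σ
    intro i x
    obtain ⟨y, hy⟩ := hk i x
    refine ⟨y, ?_⟩
    have hQA : (Q : Matrix (Fin n) (Fin n) F) * Matrix.reindex e.symm e.symm (pureAt m t i x)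
        * ((Q⁻¹ : GL (Fin n) F) : Matrix (Fin n) (Fin n) F)
        = Matrix.reindex e.symm e.symm (pureAt m t (σ i) y) := by
      have hQinv : (Q⁻¹ : GL (Fin n) F) = P⁻¹ * k⁻¹ * P := by rw [hQ]; group
      rw [hQinv, hQ]
      simp only [Units.val_mul]
      calc ((P⁻¹ : GL (Fin n) F) : Matrix (Fin n) (Fin n) F) * (k : Matrix (Fin n) (Fin n) F)
            * (P : Matrix (Fin n) (Fin n) F) * Matrix.reindex e.symm e.symm (pureAt m t i x)
            * (((P⁻¹ : GL (Fin n) F) : Matrix (Fin n) (Fin n) F)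
              * ((k⁻¹ : GL (Fin n) F) : Matrix (Fin n) (Fin n) F) * (P : Matrix (Fin n) (Fin n) F))
          = ((P⁻¹ : GL (Fin n) F) : Matrix (Fin n) (Fin n) F)
            * ((k : Matrix (Fin n) (Fin n) F) * ((P : Matrix (Fin n) (Fin n) F)
              * Matrix.reindex e.symm e.symm (pureAt m t i x)
              * ((P⁻¹ : GL (Fin n) F) : Matrix (Fin n) (Fin n) F))
              * ((k⁻¹ : GL (Fin n) F) : Matrix (Fin n) (Fin n) F))
            * (P : Matrix (Fin n) (Fin n) F) := by simp only [mul_assoc]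
        _ = Matrix.reindex e.symm e.symm (pureAt m t (σ i) y) := by
          rw [hy]
          simp only [mul_assoc]
          rw [hPi, mul_one, ← mul_assoc, hPi, one_mul]
    have hR := congrArg (Matrix.reindexAlgEquiv F F e) hQA
    rw [map_mul, map_mul] at hR
    have hA : ∀ A : Matrix (Fin t → Fin m) (Fin t → Fin m) F, Matrix.reindexAlgEquiv F F e (Matrix.reindex e.symm e.symm A) = A := by
      intro A
      ext a b
      simp
    rw [hA, hA] at hR
    exact hR
  unfold tensorWreathSubgroup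
  refine Subgroup.mem_map.mpr ⟨glReindex e.symm (glReindex e Q), ?_, ?_⟩
  · exact Subgroup.mem_map.mpr ⟨glReindex e Q, hQstd, rfl⟩
  · have h1 : glReindex e.symm (glReindex e Q) = Q := by
      apply Units.ext
      ext a b
      simp [glReindex]
    rw [h1, hQ]
    simp [MulAut.conj_apply]
    group

end Cfsg.Agent.Lib.Helper04.Asch
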