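import Mathlib

set_option autoImplicit false

namespace Cfsg.Agent.Lib.Helper04

open Module

section FiniteOrder

variable {V : Type*} [AddCommGroup V] [Module ℂ V] [FiniteDimensional ℂ V]

omit [FiniteDimensional ℂ V] in
theorem isSemisimple_of_pow_eq_one (f : End ℂ V) (n : ℕ) (hn : n ≠ 0) (hf : f ^ n = 1) :
    f.IsSemisimple := by
  apply End.isSemisimple_of_squarefree_aeval_eq_zero (p := Polynomial.X ^ n - Polynomial.C 1)
  · exact (Polynomial.separable_X_pow_sub_C 1 (by exact_mod_cast hn) one_ne_zero).squarefree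
  · simp [hf]

theorem isInternal_eigenspace_of_pow_eq_one (f : End ℂ V) (n : ℕ) (hn : n ≠ 0) (hf : f ^ n = 1) :
    DirectSum.IsInternal (fun μ : ℂ => f.eigenspace μ) := by
  have hss : f.IsSemisimple := isSemisimple_of_pow_eq_one f n hn hf
  apply DirectSum.isInternal_submodule_of_iSupIndep_of_iSup_eq_top
  · exact f.eigenspaces_iSupIndep
  · have := End.iSup_maxGenEigenspace_eq_top f
    simpa [hss.isFinitelySemisimple.maxGenEigenspace_eq_eigenspace] using this

theorem iSup_eigenspace_of_pow_eq_one (f : End ℂ V) (n : ℕ) (hn : n ≠ 0) (hf : f ^ n = 1) :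
    ⨆ μ : ℂ, f.eigenspace μ = ⊤ := by
  have hss : f.IsSemisimple := isSemisimple_of_pow_eq_one f n hn hf
  have := End.iSup_maxGenEigenspace_eq_top f
  simpa [hss.isFinitelySemisimple.maxGenEigenspace_eq_eigenspace] using this

/-- the eigenvalue set, as a finset -/
noncomputable def eigFinset (f : End ℂ V) : Finset ℂ := f.finite_hasEigenvalue.toFinset

theorem mem_eigFinset {f : End ℂ V} {μ : ℂ} : μ ∈ eigFinset f ↔ f.eigenspace μ ≠ ⊥ := by
  simp [eigFinset, End.hasEigenvalue_iff]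

theorem trace_eq_sum_of_eigen (f h : End ℂ V) (n : ℕ) (hn : n ≠ 0) (hf : f ^ n = 1) (c : ℂ → ℂ)
    (hc : ∀ μ, ∀ v ∈ f.eigenspace μ, h v = c μ • v) :
    LinearMap.trace ℂ V h = ∑ μ ∈ eigFinset f, c μ * (finrank ℂ (f.eigenspace μ) : ℂ) := by
  classical
  have hint := isInternal_eigenspace_of_pow_eq_one f n hn hf
  have hN : {μ : ℂ | f.eigenspace μ ≠ ⊥}.Finite := by
    have := f.finite_hasEigenvalue
    simpa [End.hasEigenvalue_iff] using this
  have hmaps : ∀ μ : ℂ, Set.MapsTo h (f.eigenspace μ) (f.eigenspace μ) := by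
    intro μ v hv
    rw [hc μ v hv]
    exact Submodule.smul_mem _ _ hv
  rw [LinearMap.trace_eq_sum_trace_restrict' hint hN hmaps]
  have hfs : hN.toFinset = eigFinset f := by
    ext μ; simp [mem_eigFinset]
  rw [hfs]
  apply Finset.sum_congr rfl
  intro μ _
  have : h.restrict (hmaps μ) = c μ • LinearMap.id := by
    ext ⟨v, hv⟩
    exact hc μ v hv
  rw [this, map_smul, LinearMap.trace_id, smul_eq_mul]

theorem eig_pow_eq_one (f : End ℂ V) (n : ℕ) (hf : f ^ n = 1) {μ : ℂ} (hμ : μ ∈ eigFinset f) :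
    μ ^ n = 1 := by
  rw [mem_eigFinset] at hμ
  obtain ⟨v, hv, hv0⟩ := Submodule.exists_mem_ne_zero_of_ne_bot hμ
  rw [End.mem_eigenspace_iff] at hv
  have h1 : (f ^ n) v = μ ^ n • v := by
    clear hf
    induction n with
    | zero => simp
    | succ k ih => rw [pow_succ', Module.End.mul_apply, ih, map_smul, hv, smul_smul, pow_succ]
  rw [hf, Module.End.one_apply] at h1
  have : (μ ^ n - 1) • v = 0 := by rw [sub_smul, one_smul, ← h1, sub_self]
  rcases smul_eq_zero.mp this with h | h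
  · exact sub_eq_zero.mp h
  · exact absurd h hv0

theorem sum_finrank_eigenspace (f : End ℂ V) (n : ℕ) (hn : n ≠ 0) (hf : f ^ n = 1) :
    ∑ μ ∈ eigFinset f, (finrank ℂ (f.eigenspace μ) : ℂ) = (finrank ℂ V : ℂ) := by
  have := trace_eq_sum_of_eigen f 1 n hn hf (fun _ => 1) (by intro μ v _; simp)
  simp only [one_mul] at this
  rw [← this]
  exact LinearMap.trace_one ℂ V

theorem trace_eq_sum_eig (f : End ℂ V) (n : ℕ) (hn : n ≠ 0) (hf : f ^ n = 1) :
    LinearMap.trace ℂ V f = ∑ μ ∈ eigFinset f, μ * (finrank ℂ (f.eigenspace μ) : ℂ) :=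
  trace_eq_sum_of_eigen f f n hn hf (fun μ => μ) (fun _ _ hv => End.mem_eigenspace_iff.mp hv)

end FiniteOrder

end Cfsg.Agent.Lib.Helper04
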