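import Mathlib
import Cfsg.Agent.Lib.Helper04.Eigen

set_option autoImplicit false

namespace Cfsg.Agent.Lib.Helper04

open Module
open scoped ComplexConjugate

section

variable {G : Type*} [Group G] [Finite G] {V : Type*} [AddCommGroup V] [Module ℂ V]
  [FiniteDimensional ℂ V] (ρ : Representation ℂ G V)

omit [FiniteDimensional ℂ V] [Finite G] in
theorem rho_pow_card (g : G) : (ρ g) ^ (Nat.card G) = 1 := by
  rw [← map_pow, pow_card_eq_one', map_one]

theorem card_ne_zero' : Nat.card G ≠ 0 := Nat.card_pos.ne'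

theorem char_eq_sum_eig (g : G) :
    ρ.character g = ∑ μ ∈ eigFinset (ρ g), μ * (finrank ℂ (End.eigenspace (ρ g) μ) : ℂ) :=
  trace_eq_sum_eig (ρ g) (Nat.card G) card_ne_zero' (rho_pow_card ρ g)

theorem eig_norm_eq_one (g : G) {μ : ℂ} (hμ : μ ∈ eigFinset (ρ g)) : ‖μ‖ = 1 :=
  Complex.norm_eq_one_of_pow_eq_one (eig_pow_eq_one (ρ g) (Nat.card G) (rho_pow_card ρ g) hμ)
    card_ne_zero'

theorem char_inv (g : G) : ρ.character g⁻¹ = conj (ρ.character g) := by
  have h1 : ρ.character g⁻¹ =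
      ∑ μ ∈ eigFinset (ρ g), μ⁻¹ * (finrank ℂ (End.eigenspace (ρ g) μ) : ℂ) := by
    apply trace_eq_sum_of_eigen (ρ g) (ρ g⁻¹) (Nat.card G) card_ne_zero' (rho_pow_card ρ g)
    intro μ v hv
    rw [End.mem_eigenspace_iff] at hv
    by_cases hv0 : v = 0
    · simp [hv0]
    have hμ : μ ≠ 0 := by
      intro h0
      rw [h0, zero_smul] at hv
      have : ρ g⁻¹ (ρ g v) = v := by
        rw [← Module.End.mul_apply, ← map_mul, inv_mul_cancel, map_one, Module.End.one_apply]
      rw [hv, map_zero] at this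
      exact hv0 this.symm
    have : ρ g⁻¹ (ρ g v) = v := by
      rw [← Module.End.mul_apply, ← map_mul, inv_mul_cancel, map_one, Module.End.one_apply]
    rw [hv, map_smul] at this
    conv_rhs => rw [← this]
    rw [smul_smul, inv_mul_cancel₀ hμ, one_smul]
  rw [h1, char_eq_sum_eig, map_sum]
  apply Finset.sum_congr rfl
  intro μ hμ
  rw [map_mul, Complex.conj_natCast, Complex.inv_eq_conj (eig_norm_eq_one ρ g hμ)]

theorem norm_char_le (g : G) : ‖ρ.character g‖ ≤ (finrank ℂ V : ℝ) := by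
  rw [char_eq_sum_eig]
  refine (norm_sum_le _ _).trans ?_
  have h := sum_finrank_eigenspace (ρ g) (Nat.card G) card_ne_zero' (rho_pow_card ρ g)
  have h2 : ∑ μ ∈ eigFinset (ρ g), (finrank ℂ (End.eigenspace (ρ g) μ) : ℝ) = (finrank ℂ V : ℝ) := by
    exact_mod_cast h
  rw [← h2]
  apply le_of_eq
  apply Finset.sum_congr rfl
  intro μ hμ
  rw [norm_mul, eig_norm_eq_one ρ g hμ, one_mul, Complex.norm_natCast]

theorem isIntegral_char (g : G) : IsIntegral ℤ (ρ.character g) := by
  rw [char_eq_sum_eig]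
  apply IsIntegral.sum
  intro μ hμ
  apply IsIntegral.mul
  · have h1 := eig_pow_eq_one (ρ g) (Nat.card G) (rho_pow_card ρ g) hμ
    refine IsIntegral.of_pow (n := Nat.card G) Nat.card_pos ?_
    rw [h1]
    exact isIntegral_one
  · exact isIntegral_natCast _

end

end Cfsg.Agent.Lib.Helper04
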