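import Mathlib
import Cfsg.Agent.Lib.Helper04.CharValues

set_option autoImplicit false

namespace Cfsg.Agent.Lib.Helper04

open Module
open scoped ComplexConjugate

theorem complex_eq_one_of_norm_of_re {z : ℂ} (h1 : ‖z‖ = 1) (h2 : z.re = 1) : z = 1 := by
  have h3 : z.re ^ 2 + z.im ^ 2 = 1 := by
    have := Complex.sq_norm z
    rw [h1, Complex.normSq_apply] at this
    nlinarith
  have h4 : z.im = 0 := by
    rw [h2] at h3
    nlinarith
  exact Complex.ext (by simp [h2]) (by simp [h4])

section

variable {G : Type*} [Group G] [Finite G] {V : Type*} [AddCommGroup V] [Module ℂ V]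
  [FiniteDimensional ℂ V] (ρ : Representation ℂ G V)

theorem eq_smul_id_of_eig_subset (g : G) (u : ℂ) (h : ∀ μ ∈ eigFinset (ρ g), μ = u) :
    ρ g = u • (LinearMap.id : V →ₗ[ℂ] V) := by
  have hsup := iSup_eigenspace_of_pow_eq_one (ρ g) (Nat.card G) card_ne_zero' (rho_pow_card ρ g)
  have htop : End.eigenspace (ρ g) u = ⊤ := by
    rw [eq_top_iff, ← hsup]
    apply iSup_le
    intro μ
    by_cases hμ : μ ∈ eigFinset (ρ g)
    · rw [h μ hμ]
    · rw [mem_eigFinset, not_not] at hμ
      rw [hμ]
      exact bot_le
  ext v
  have : v ∈ End.eigenspace (ρ g) u := by rw [htop]; trivial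
  simpa using End.mem_eigenspace_iff.mp this

theorem norm_char_eq_iff (g : G) :
    ‖ρ.character g‖ = (finrank ℂ V : ℝ) ↔ ∃ ω : ℂ, ρ g = ω • (LinearMap.id : V →ₗ[ℂ] V) := by
  constructor
  · intro h
    by_cases hd : finrank ℂ V = 0
    · have : Subsingleton V := Module.finrank_zero_iff.mp hd
      exact ⟨0, by ext v; exact Subsingleton.elim _ _⟩
    set t := ρ.character g with ht
    have ht0 : t ≠ 0 := by
      intro h0
      rw [h0, norm_zero] at h
      exact hd (by exact_mod_cast h.symm)
    have hnt : (‖t‖ : ℂ) ≠ 0 := by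
      simpa using ht0
    set u : ℂ := t / ‖t‖ with hu
    have hun : ‖u‖ = 1 := by
      rw [hu, norm_div, Complex.norm_real, norm_norm, div_self (by simpa using ht0)]
    refine ⟨u, eq_smul_id_of_eig_subset ρ g u ?_⟩
    -- the key computation
    have hsum := sum_finrank_eigenspace (ρ g) (Nat.card G) card_ne_zero' (rho_pow_card ρ g)
    have hchar := char_eq_sum_eig ρ g
    have h1 : (conj u * t).re = ‖t‖ := by
      have : conj u * t = (‖t‖ : ℂ) := by
        rw [hu, map_div₀, Complex.conj_ofReal, div_mul_eq_mul_div, mul_comm, Complex.mul_conj,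
          Complex.normSq_eq_norm_sq]
        push_cast
        field_simp
      rw [this, Complex.ofReal_re]
    have h2 : ∑ μ ∈ eigFinset (ρ g), (finrank ℂ (End.eigenspace (ρ g) μ) : ℝ) *
        (1 - (conj u * μ).re) = 0 := by
      have e1 : (conj u * t).re = ∑ μ ∈ eigFinset (ρ g),
          (finrank ℂ (End.eigenspace (ρ g) μ) : ℝ) * (conj u * μ).re := by
        rw [ht, hchar, Finset.mul_sum, Complex.re_sum]
        apply Finset.sum_congr rfl
        intro μ _
        rw [← mul_assoc, ← Complex.ofReal_natCast, Complex.re_mul_ofReal]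
        ring
      have e2 : ∑ μ ∈ eigFinset (ρ g), (finrank ℂ (End.eigenspace (ρ g) μ) : ℝ) = finrank ℂ V := by
        exact_mod_cast hsum
      simp only [mul_sub, mul_one, Finset.sum_sub_distrib]
      rw [e2, ← e1, h1, h]
      ring
    have h3 : ∀ μ ∈ eigFinset (ρ g), (finrank ℂ (End.eigenspace (ρ g) μ) : ℝ) *
        (1 - (conj u * μ).re) = 0 := by
      apply (Finset.sum_eq_zero_iff_of_nonneg ?_).mp h2
      intro μ hμ
      apply mul_nonneg (Nat.cast_nonneg _)
      have : (conj u * μ).re ≤ ‖conj u * μ‖ := Complex.re_le_norm _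
      rw [norm_mul, Complex.norm_conj, hun, eig_norm_eq_one ρ g hμ, one_mul] at this
      linarith
    intro μ hμ
    have h4 := h3 μ hμ
    have hpos : (finrank ℂ (End.eigenspace (ρ g) μ) : ℝ) ≠ 0 := by
      have := mem_eigFinset.mp hμ
      have : 0 < finrank ℂ (End.eigenspace (ρ g) μ) := by
        rw [Module.finrank_pos_iff]
        exact Submodule.nontrivial_iff_ne_bot.mpr this
      exact_mod_cast this.ne'
    have h5 : (conj u * μ).re = 1 := by
      rcases mul_eq_zero.mp h4 with h | h
      · exact absurd h hpos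
      · linarith
    have h6 : conj u * μ = 1 := by
      apply complex_eq_one_of_norm_of_re _ h5
      rw [norm_mul, Complex.norm_conj, hun, eig_norm_eq_one ρ g hμ, one_mul]
    have h7 : u * conj u = 1 := by
      rw [Complex.mul_conj, Complex.normSq_eq_norm_sq, hun]; simp
    calc μ = (u * conj u) * μ := by rw [h7, one_mul]
      _ = u * (conj u * μ) := by ring
      _ = u := by rw [h6, mul_one]
  · rintro ⟨ω, hω⟩
    by_cases hd : finrank ℂ V = 0
    · have : Subsingleton V := Module.finrank_zero_iff.mp hd
      have : ρ.character g = 0 := by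
        have : ρ g = 0 := by ext v; exact Subsingleton.elim _ _
        simp [Representation.character, this]
      rw [this, hd]; simp
    · have : Nontrivial V := Module.finrank_pos_iff.mp (Nat.pos_of_ne_zero hd)
      obtain ⟨v, hv⟩ := exists_ne (0 : V)
      have hpow : ω ^ (Nat.card G) = 1 := by
        have h1 := rho_pow_card ρ g
        rw [hω, smul_pow] at h1
        have h2 : (ω ^ Nat.card G • (LinearMap.id : V →ₗ[ℂ] V) ^ Nat.card G) v = v := by
          rw [h1]; rfl
        have h3 : (LinearMap.id : V →ₗ[ℂ] V) ^ Nat.card G = LinearMap.id := by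
          exact one_pow _
        rw [h3] at h2
        simp only [LinearMap.smul_apply, LinearMap.id_coe, id_eq] at h2
        have : (ω ^ Nat.card G - 1) • v = 0 := by rw [sub_smul, one_smul, h2, sub_self]
        rcases smul_eq_zero.mp this with h | h
        · exact sub_eq_zero.mp h
        · exact absurd h hv
      have hn : ‖ω‖ = 1 := Complex.norm_eq_one_of_pow_eq_one hpow card_ne_zero'
      have : ρ.character g = ω * finrank ℂ V := by
        simp [Representation.character, hω]
      rw [this, norm_mul, hn, one_mul, Complex.norm_natCast]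

theorem char_eq_finrank_iff (g : G) :
    ρ.character g = (finrank ℂ V : ℂ) ↔ ρ g = LinearMap.id := by
  constructor
  · intro h
    have h1 : ‖ρ.character g‖ = (finrank ℂ V : ℝ) := by
      rw [h, Complex.norm_natCast]
    obtain ⟨ω, hω⟩ := (norm_char_eq_iff ρ g).mp h1
    by_cases hd : finrank ℂ V = 0
    · have : Subsingleton V := Module.finrank_zero_iff.mp hd
      ext v; exact Subsingleton.elim _ _
    · have h2 : ρ.character g = ω * finrank ℂ V := by
        simp [Representation.character, hω]
      rw [h] at h2
      have hd' : (finrank ℂ V : ℂ) ≠ 0 := by exact_mod_cast hd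
      have : ω = 1 := by
        have := mul_right_cancel₀ hd' (by rw [one_mul]; exact h2 : (1 : ℂ) * finrank ℂ V = ω * finrank ℂ V)
        exact this.symm
      rw [hω, this, one_smul]
  · intro h
    simp [Representation.character, h]

end

end Cfsg.Agent.Lib.Helper04
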