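import Mathlib

set_option autoImplicit false

namespace Cfsg.Agent.Lib.Helper04

/-- Norm lemma: `H` normalises `N`, acts fixed-point-freely on it, both act on the abelian group `V`
through `a`, and the norm of `H` kills `V`. Then the norm of `N` is the `|N|`-th power map. -/
theorem prod_eq_pow_card {Γ V : Type*} [Group Γ] [CommGroup V] (a : Γ →* MulAut V)
    (N H : Subgroup Γ) [Fintype N] [Fintype H]
    (hHN : ∀ h ∈ H, ∀ k ∈ N, h * k * h⁻¹ ∈ N)
    (hfpf : ∀ k ∈ N, ∀ h ∈ H, h ≠ 1 → k * h = h * k → k = 1)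
    (hnorm : ∀ v : V, ∏ h : H, a h v = 1) (v : V) :
    ∏ k : N, a k v = v ^ Fintype.card N := by
  classical
  have key : ∀ h : H, h ≠ 1 →
      ∏ k : N, a ((k : Γ) * h) v = ∏ k : N, a ((k : Γ) * h * (k : Γ)⁻¹) v := by
    intro h hh
    let σ : N → N := fun k =>
      ⟨(k : Γ) * ((h : Γ) * (k : Γ)⁻¹ * (h : Γ)⁻¹),
        N.mul_mem k.2 (hHN h h.2 _ (N.inv_mem k.2))⟩
    have hσ : Function.Injective σ := by
      intro k k' hkk
      have h1 : (k : Γ) * ((h : Γ) * (k : Γ)⁻¹ * (h : Γ)⁻¹)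
          = (k' : Γ) * ((h : Γ) * (k' : Γ)⁻¹ * (h : Γ)⁻¹) := congrArg Subtype.val hkk
      have h2 : ((k' : Γ)⁻¹ * k) * h = h * ((k' : Γ)⁻¹ * k) := by
        calc ((k' : Γ)⁻¹ * k) * h
            = (k' : Γ)⁻¹ * ((k : Γ) * ((h : Γ) * (k : Γ)⁻¹ * (h : Γ)⁻¹)) * h * k := by group
          _ = (k' : Γ)⁻¹ * ((k' : Γ) * ((h : Γ) * (k' : Γ)⁻¹ * (h : Γ)⁻¹)) * h * k := by rw [h1]
          _ = h * ((k' : Γ)⁻¹ * k) := by group
      have h3 := hfpf _ (N.mul_mem (N.inv_mem k'.2) k.2) h h.2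
        (by intro h0; exact hh (Subtype.ext h0)) h2
      rw [inv_mul_eq_one] at h3
      exact Subtype.ext h3.symm
    have hσb : Function.Bijective σ := Finite.injective_iff_bijective.mp hσ
    symm
    apply Fintype.prod_bijective σ hσb
    intro k
    congr 2
    simp only [σ]
    group
  have hP1 : ∏ k : N, ∏ h : H, a ((k : Γ) * h) v = 1 := by
    apply Finset.prod_eq_one
    intro k _
    have : ∀ h : H, a ((k : Γ) * h) v = a k (a h v) := by
      intro h; rw [map_mul, MulAut.mul_apply]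
    simp only [this]
    rw [← map_prod, hnorm, map_one]
  rw [Finset.prod_comm] at hP1
  rw [← Finset.mul_prod_erase Finset.univ _ (Finset.mem_univ (1 : H))] at hP1
  have hT : ∏ k : N, a ((k : Γ) * ((1 : H) : Γ)) v = ∏ k : N, a k v := by
    simp
  rw [hT] at hP1
  have hrest : ∏ h ∈ Finset.univ.erase (1 : H), ∏ k : N, a ((k : Γ) * h) v
      = (v⁻¹) ^ Fintype.card N := by
    have e1 : ∏ h ∈ Finset.univ.erase (1 : H), ∏ k : N, a ((k : Γ) * h) v
        = ∏ h ∈ Finset.univ.erase (1 : H), ∏ k : N, a ((k : Γ) * h * (k : Γ)⁻¹) v := by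
      apply Finset.prod_congr rfl
      intro h hh
      exact key h (Finset.ne_of_mem_erase hh)
    rw [e1, Finset.prod_comm]
    have e2 : ∀ k : N, ∏ h ∈ Finset.univ.erase (1 : H), a ((k : Γ) * h * (k : Γ)⁻¹) v = v⁻¹ := by
      intro k
      have e3 : ∀ h : H, a ((k : Γ) * h * (k : Γ)⁻¹) v = a k (a h (a (k : Γ)⁻¹ v)) := by
        intro h; rw [map_mul, map_mul, MulAut.mul_apply, MulAut.mul_apply]
      simp only [e3]
      rw [← map_prod]
      have e4 : ∏ h ∈ Finset.univ.erase (1 : H), a h (a (k : Γ)⁻¹ v) = (a (k : Γ)⁻¹ v)⁻¹ := by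
        have := Finset.mul_prod_erase Finset.univ (fun h : H => a h (a (k : Γ)⁻¹ v))
          (Finset.mem_univ (1 : H))
        rw [hnorm] at this
        simp only [OneMemClass.coe_one, map_one, MulAut.one_apply] at this
        exact (eq_inv_of_mul_eq_one_right this)
      rw [e4, map_inv, ← MulAut.mul_apply, ← map_mul]
      simp
    rw [Finset.prod_congr rfl (fun k _ => e2 k), Finset.prod_const, Finset.card_univ]
  rw [hrest, inv_pow] at hP1
  exact mul_inv_eq_one.mp hP1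

/-- quadratic action: `a (β^i) v = v * c^i` where `c = a β v * v⁻¹` is fixed by `β`. -/
theorem quad_pow_apply {Γ V : Type*} [Group Γ] [CommGroup V] (a : Γ →* MulAut V) (β : Γ) (v : V)
    (hq : a β (a β v * v⁻¹) = a β v * v⁻¹) (i : ℕ) :
    a (β ^ i) v = v * (a β v * v⁻¹) ^ i := by
  obtain ⟨c, hc⟩ : ∃ c, c = a β v * v⁻¹ := ⟨_, rfl⟩
  have hv : a β v = v * c := by rw [hc]; simp
  rw [← hc] at hq ⊢
  induction i with
  | zero => simp
  | succ i ih =>
    rw [pow_succ', map_mul, MulAut.mul_apply, ih, map_mul, map_pow, hq, hv, pow_succ', mul_assoc]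

theorem quad_norm_eq_one {Γ V : Type*} [Group Γ] [CommGroup V] {p : ℕ} [Fact p.Prime]
    (hp : p ≠ 2) (a : Γ →* MulAut V) (hV : ∀ v : V, v ^ p = 1) (β : Γ) (v : V)
    (hq : a β (a β v * v⁻¹) = a β v * v⁻¹) :
    ∏ i ∈ Finset.range p, a (β ^ i) v = 1 := by
  have hodd : p % 2 = 1 := by
    rcases Nat.Prime.eq_two_or_odd (Fact.out : p.Prime) with h | h
    · exact absurd h hp
    · exact h
  simp only [quad_pow_apply a β v hq]
  rw [Finset.prod_mul_distrib, Finset.prod_const, Finset.card_range, hV, one_mul,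
    Finset.prod_pow_eq_pow_sum, Finset.sum_range_id]
  obtain ⟨m, hm⟩ : ∃ m, p = 2 * m + 1 := ⟨p / 2, by omega⟩
  have : p * (p - 1) / 2 = p * m := by
    rw [hm]
    have : (2 * m + 1) * (2 * m + 1 - 1) = ((2 * m + 1) * m) * 2 := by
      simp only [Nat.add_sub_cancel]; ring
    rw [this, Nat.mul_div_cancel _ (by norm_num : 0 < 2)]
  rw [this, pow_mul, hV, one_pow]

/-- the commutator hom `x ↦ x * (β x⁻¹ β⁻¹)` on a normal abelian subgroup. -/
def commHom {Γ : Type*} [Group Γ] (K : Subgroup Γ) [K.Normal]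
    (hKc : ∀ x ∈ K, ∀ y ∈ K, x * y = y * x) (β : Γ) : K →* Γ :=
  MonoidHom.mk' (fun x => (x : Γ) * (β * (x : Γ)⁻¹ * β⁻¹)) (by
    intro x y
    have hx : β * (x : Γ)⁻¹ * β⁻¹ ∈ K := Subgroup.Normal.conj_mem inferInstance _ (K.inv_mem x.2) β
    have h1 := hKc _ hx _ y.2
    have h2 := hKc _ x.2 _ y.2
    simp only [Subgroup.coe_mul]
    calc (x : Γ) * y * (β * ((x : Γ) * y)⁻¹ * β⁻¹)
        = (x : Γ) * y * (β * ((y : Γ) * x)⁻¹ * β⁻¹) := by rw [h2]
      _ = (x : Γ) * ((y : Γ) * (β * (x : Γ)⁻¹ * β⁻¹)) * (β * (y : Γ)⁻¹ * β⁻¹) := by group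
      _ = (x : Γ) * ((β * (x : Γ)⁻¹ * β⁻¹) * y) * (β * (y : Γ)⁻¹ * β⁻¹) := by rw [h1]
      _ = _ := by group)

/-- a `p`-element acting quadratically (`p` odd) on a faithful module of exponent `p` centralises
every normal abelian `p'`-subgroup. -/
theorem quadratic_centralizes {Γ V : Type*} [Group Γ] [Finite Γ] [CommGroup V] [Finite V]
    {p : ℕ} [Fact p.Prime] (hp : p ≠ 2)
    (a : Γ →* MulAut V) (ha : Function.Injective a) (hV : ∀ v : V, v ^ p = 1)
    (K : Subgroup Γ) [K.Normal] (hKc : ∀ x ∈ K, ∀ y ∈ K, x * y = y * x)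
    (hK : (Nat.card K).Coprime p)
    (β : Γ) (hβ : β ^ p = 1) (hquad : ∀ v : V, a β (a β v * v⁻¹) = a β v * v⁻¹) :
    ∀ x ∈ K, β * x = x * β := by
  classical
  have hpp : p.Prime := Fact.out
  by_cases hβ1 : β = 1
  · intro x _; rw [hβ1]; simp
  have hord : orderOf β = p := orderOf_eq_prime hβ hβ1
  set φ := commHom K hKc β with hφ
  have hφx : ∀ x : K, φ x = (x : Γ) * (β * (x : Γ)⁻¹ * β⁻¹) := fun x => rfl
  set N : Subgroup Γ := φ.range with hN
  set H : Subgroup Γ := Subgroup.zpowers β with hH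
  let _ : Fintype N := Fintype.ofFinite N
  let _ : Fintype H := Fintype.ofFinite H
  have hNK : N ≤ K := by
    rintro _ ⟨x, rfl⟩
    rw [hφx]
    exact K.mul_mem x.2 (Subgroup.Normal.conj_mem inferInstance _ (K.inv_mem x.2) β)
  have hNcop : (Nat.card N).Coprime p :=
    Nat.Coprime.coprime_dvd_left (Subgroup.card_dvd_of_le hNK) hK
  have hHN : ∀ h ∈ H, ∀ k ∈ N, h * k * h⁻¹ ∈ N := by
    rintro h hh _ ⟨x, rfl⟩
    obtain ⟨n, rfl⟩ := Subgroup.mem_zpowers_iff.mp hh
    refine ⟨⟨β ^ n * x * (β ^ n)⁻¹, Subgroup.Normal.conj_mem inferInstance _ x.2 _⟩, ?_⟩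
    rw [hφx, hφx]
    simp only
    group
  have hfpf : ∀ k ∈ N, ∀ h ∈ H, h ≠ 1 → k * h = h * k → k = 1 := by
    rintro k hkN h hh hh1 hkh
    obtain ⟨n, rfl⟩ := Subgroup.mem_zpowers_iff.mp hh
    have hnp : ¬ (p : ℤ) ∣ n := by
      intro hd
      apply hh1
      obtain ⟨m, rfl⟩ := hd
      rw [zpow_mul, zpow_natCast, hβ, one_zpow]
    have hcop : IsCoprime n (p : ℤ) := by
      rw [isCoprime_comm]
      exact (Nat.prime_iff_prime_int.mp hpp).coprime_iff_not_dvd.mpr hnp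
    obtain ⟨u, w, huw⟩ := hcop
    have hβu : β = (β ^ n) ^ u := by
      have : β = β ^ (u * n + w * (p : ℤ)) := by rw [huw, zpow_one]
      rw [zpow_add, zpow_mul' β u n, zpow_mul' β w p, zpow_natCast, hβ, one_zpow, mul_one] at this
      exact this
    have hkβ : Commute k β := by
      rw [hβu]
      exact Commute.zpow_right hkh u
    obtain ⟨x, rfl⟩ := hkN
    have h1 : ((x : Γ) * β * (x : Γ)⁻¹) = φ x * β := by rw [hφx]; group
    have h2 : ((x : Γ) * β * (x : Γ)⁻¹) ^ p = 1 := by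
      rw [conj_pow, hβ]; simp
    rw [h1, hkβ.mul_pow, hβ, mul_one] at h2
    have h3 : φ x ∈ K := hNK ⟨x, rfl⟩
    have h4 : (⟨φ x, h3⟩ : K) ^ (Nat.card K) = 1 := pow_card_eq_one'
    have h5 : (φ x) ^ (Nat.card K) = 1 := by
      have := congrArg Subtype.val h4
      simp only [SubmonoidClass.coe_pow, OneMemClass.coe_one] at this
      exact this
    have h6 : orderOf (φ x) ∣ Nat.gcd (Nat.card K) p :=
      Nat.dvd_gcd (orderOf_dvd_of_pow_eq_one h5) (orderOf_dvd_of_pow_eq_one h2)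
    rw [hK] at h6
    exact orderOf_eq_one_iff.mp (Nat.dvd_one.mp h6)
  have hnorm : ∀ v : V, ∏ h : H, a h v = 1 := by
    intro v
    have hfo : IsOfFinOrder β := isOfFinOrder_of_finite β
    rw [← quad_norm_eq_one hp a hV β v (hquad v)]
    rw [← Fin.prod_univ_eq_prod_range (fun i => a (β ^ i) v) p]
    symm
    subst hord
    apply Fintype.prod_equiv (finEquivZPowers hfo)
    intro i
    rw [finEquivZPowers_apply]
  have hmain := prod_eq_pow_card a N H hHN hfpf hnorm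
  -- N acts trivially
  have hNtriv : ∀ k ∈ N, k = 1 := by
    intro k hk
    apply ha
    rw [map_one]
    ext v
    rw [MulAut.one_apply]
    have hfix : a k (v ^ Fintype.card N) = v ^ Fintype.card N := by
      rw [← hmain v, map_prod]
      apply Fintype.prod_equiv (Equiv.mulLeft (⟨k, hk⟩ : N))
      intro k'
      simp [map_mul]
    have hc : (Fintype.card N).Coprime p := by
      rw [← Nat.card_eq_fintype_card]; exact hNcop
    obtain ⟨m, -, hm⟩ := Nat.exists_mul_mod_eq_one_of_coprime hc hpp.one_lt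
    have hv : v = (v ^ Fintype.card N) ^ m := by
      rw [← pow_mul, ← Nat.div_add_mod (Fintype.card N * m) p, hm, pow_add, pow_mul, hV]
      simp
    rw [hv, map_pow, hfix]
  intro x hx
  have := hNtriv (φ ⟨x, hx⟩) ⟨⟨x, hx⟩, rfl⟩
  rw [hφx] at this
  simp only at this
  calc β * x = ((x : Γ) * (β * (x : Γ)⁻¹ * β⁻¹))⁻¹ * x * β := by group
    _ = x * β := by rw [this]; group

end Cfsg.Agent.Lib.Helper04
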