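import Mathlib

set_option autoImplicit false

namespace Cfsg.Agent.Lib.Helper04

/-- If an automorphism `a` of a finite `p`-group fixes `c := g⁻¹ * a g`, and the order of `a`
is prime to `p`, then `a g = g`. -/
theorem aut_fix_of_fix_commutator {G : Type*} [Group G] [Finite G] {p : ℕ} [Fact p.Prime]
    (hG : IsPGroup p G) (a : MulAut G) (ha : Nat.Coprime (orderOf a) p) (g : G)
    (hc : a (g⁻¹ * a g) = g⁻¹ * a g) : a g = g := by
  set c := g⁻¹ * a g with hcdef
  have hag : a g = g * c := by rw [hcdef]; group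
  have hpow : ∀ k : ℕ, (a ^ k) g = g * c ^ k := by
    intro k
    induction k with
    | zero => simp
    | succ k ih =>
      rw [pow_succ', MulAut.mul_apply, ih, map_mul, map_pow, hc, hag, mul_assoc, ← pow_succ']
  have h1 := hpow (orderOf a)
  rw [pow_orderOf_eq_one, MulAut.one_apply] at h1
  have h2 : c ^ orderOf a = 1 := by
    have : g * c ^ orderOf a = g * 1 := by rw [mul_one]; exact h1.symm
    exact mul_left_cancel this
  obtain ⟨j, hj⟩ := hG c
  have h3 : c = 1 := by
    have hcop : Nat.Coprime (orderOf a) (p ^ j) := ha.pow_right j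
    have hd1 : orderOf c ∣ orderOf a := orderOf_dvd_of_pow_eq_one h2
    have hd2 : orderOf c ∣ p ^ j := orderOf_dvd_of_pow_eq_one hj
    have : orderOf c ∣ 1 := by
      have := Nat.dvd_gcd hd1 hd2
      rwa [hcop] at this
    exact orderOf_eq_one_iff.mp (Nat.dvd_one.mp this)
  rw [hag, h3, mul_one]

end Cfsg.Agent.Lib.Helper04
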