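import Mathlib
import Cfsg.Agent.Lib.Helper04.CoprimeAut
import Cfsg.Agent.Lib.Helper03.PGroupFrattini
import Cfsg.Agent.Lib.Helper32.Class2

set_option autoImplicit false

namespace Cfsg.Agent.Lib.Helper04

open scoped commutatorElement

universe u

section Restrict

variable {G : Type*} [Group G]

/-- restriction of an automorphism to an invariant subgroup -/
def restrictAut (a : MulAut G) (H : Subgroup G) (hH : ∀ x, a x ∈ H ↔ x ∈ H) : MulAut H where
  toFun x := ⟨a x, (hH x).mpr x.2⟩
  invFun x := ⟨a.symm x, by
    have := hH (a.symm x)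
    rw [MulEquiv.apply_symm_apply] at this
    exact this.mp x.2⟩
  left_inv x := by simp
  right_inv x := by simp
  map_mul' x y := by
    apply Subtype.ext
    simp

@[simp] theorem restrictAut_apply (a : MulAut G) (H : Subgroup G) (hH : ∀ x, a x ∈ H ↔ x ∈ H)
    (x : H) : ((restrictAut a H hH x : H) : G) = a x := rfl

theorem restrictAut_pow (a : MulAut G) (H : Subgroup G) (hH : ∀ x, a x ∈ H ↔ x ∈ H) (k : ℕ)
    (x : H) : (((restrictAut a H hH) ^ k) x : G) = (a ^ k) x := by
  induction k generalizing x with
  | zero => simp
  | succ k ih =>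
    rw [pow_succ, pow_succ, MulAut.mul_apply, MulAut.mul_apply, ih]
    rfl

theorem orderOf_restrictAut_dvd (a : MulAut G) (H : Subgroup G) (hH : ∀ x, a x ∈ H ↔ x ∈ H) :
    orderOf (restrictAut a H hH) ∣ orderOf a := by
  apply orderOf_dvd_of_pow_eq_one
  ext x
  rw [restrictAut_pow, pow_orderOf_eq_one]
  rfl

theorem characteristic_mem_iff (a : MulAut G) (H : Subgroup G) [hH : H.Characteristic] (x : G) :
    a x ∈ H ↔ x ∈ H := by
  have := hH.fixed a
  conv_rhs => rw [← this]
  rfl

end Restrict

theorem aut_trivial_aux (p : ℕ) [Fact p.Prime] (hp : p ≠ 2) :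
    ∀ n : ℕ, ∀ (G : Type u) [Group G] [Finite G], Nat.card G = n → IsPGroup p G →
      ∀ a : MulAut G, Nat.Coprime (orderOf a) p → (∀ x : G, x ^ p = 1 → a x = x) → a = 1 := by
  intro n
  induction n using Nat.strong_induction_on with
  | _ n ih =>
    intro G _ _ hn hG a ha h
    -- restriction to a proper characteristic subgroup is trivial
    have hchar : ∀ (H : Subgroup G) [H.Characteristic], H ≠ ⊤ → ∀ x ∈ H, a x = x := by
      intro H _ hH x hx
      have hlt : Nat.card H < n := by
        rw [← hn]
        apply lt_of_le_of_ne (Subgroup.card_le_card_group H)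
        intro hcard
        exact hH (Subgroup.eq_top_of_card_eq H hcard)
      have hmem := characteristic_mem_iff a H
      have h1 := ih _ hlt H rfl (hG.to_subgroup H) (restrictAut a H hmem)
        (Nat.Coprime.coprime_dvd_left (orderOf_restrictAut_dvd a H hmem) ha)
        (by
          intro y hy
          apply Subtype.ext
          rw [restrictAut_apply]
          apply h
          have := congrArg Subtype.val hy
          simpa using this)
      have h2 := congrArg (fun f => ((f ⟨x, hx⟩ : H) : G)) h1
      simpa using h2
    by_cases hsub : Subsingleton G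
    · ext x
      exact Subsingleton.elim _ _
    rw [not_subsingleton_iff_nontrivial] at hsub
    -- the Frattini subgroup is proper
    have hΦtop : frattini G ≠ ⊤ := by
      obtain ⟨M, hM⟩ : ∃ M : Subgroup G, IsCoatom M := by
        rcases eq_top_or_exists_le_coatom (⊥ : Subgroup G) with h0 | ⟨M, hM, _⟩
        · exact absurd h0 bot_ne_top
        · exact ⟨M, hM⟩
      intro htop
      have : (⊤ : Subgroup G) ≤ M := htop ▸ frattini_le_coatom hM
      exact hM.1 (top_le_iff.mp this)
    have hΦfix : ∀ z ∈ frattini G, a z = z := hchar (frattini G) hΦtop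
    have hΦn : (frattini G).Normal := inferInstance
    -- c_g centralizes Φ
    have hcent : ∀ g : G, g⁻¹ * a g ∈ Subgroup.centralizer (frattini G : Set G) := by
      intro g
      rw [Subgroup.mem_centralizer_iff]
      intro x hx
      have hx' : g * x * g⁻¹ ∈ frattini G := hΦn.conj_mem x hx g
      have e1 := hΦfix _ hx'
      rw [map_mul, map_mul, hΦfix x hx, map_inv] at e1
      have e2 : x * (g⁻¹ * a g) = g⁻¹ * (g * x * g⁻¹) * a g := by group
      rw [e2, ← e1]
      group
    by_cases hK : Subgroup.centralizer (frattini G : Set G) = ⊤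
    · -- Frattini is central
      have hcentral : ∀ z ∈ frattini G, ∀ g : G, Commute z g := by
        intro z hz g
        have hg : g ∈ Subgroup.centralizer (frattini G : Set G) := by rw [hK]; trivial
        exact (Subgroup.mem_centralizer_iff.mp hg z hz)
      ext g
      rw [MulAut.one_apply]
      apply aut_fix_of_fix_commutator hG a ha g
      apply h
      -- (g⁻¹ * a g)^p = 1
      have hcomm_mem : ∀ u v : G, ⁅v, u⁆ ∈ frattini G := by
        intro u v
        apply Cfsg.Agent.Lib.Helper03.commutator_le_frattini_of_isPGroup hG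
        exact Subgroup.commutator_mem_commutator (Subgroup.mem_top v) (Subgroup.mem_top u)
      have hpowmem : ∀ x : G, x ^ p ∈ frattini G :=
        Cfsg.Agent.Lib.Helper03.pow_mem_frattini_of_isPGroup hG
      have hodd : Odd p := (Fact.out : p.Prime).odd_of_ne_two hp
      have hz : ∀ u v : G, ⁅v, u⁆ ^ p = 1 := by
        intro u v
        rw [← Cfsg.Agent.Lib.Helper32.commutator_pow_left_of_central u v
          (hcentral _ (hcomm_mem u v) v) p]
        rw [commutatorElement_def]
        have := hcentral _ (hpowmem v) u
        rw [this.eq]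
        group
      rw [Cfsg.Agent.Lib.Helper32.mul_pow_prime_of_central g⁻¹ (a g) p hodd
        (hcentral _ (hcomm_mem _ _) _) (hcentral _ (hcomm_mem _ _) _) (hz _ _)]
      rw [← map_pow, hΦfix _ (hpowmem g), inv_pow, inv_mul_cancel]
    · -- centralizer of Frattini is proper: a fixes it
      have hKfix := hchar (Subgroup.centralizer (frattini G : Set G)) hK
      ext g
      rw [MulAut.one_apply]
      exact aut_fix_of_fix_commutator hG a ha g (hKfix _ (hcent g))

theorem aut_trivial_of_fix_omega {G : Type u} [Group G] [Finite G] {p : ℕ} [Fact p.Prime]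
    (hp : p ≠ 2) (hG : IsPGroup p G) (a : MulAut G) (ha : Nat.Coprime (orderOf a) p)
    (h : ∀ x : G, x ^ p = 1 → a x = x) : a = 1 :=
  aut_trivial_aux p hp _ G rfl hG a ha h

end Cfsg.Agent.Lib.Helper04
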