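import Mathlib

set_option autoImplicit false

namespace Cfsg.Agent.Lib.Helper04

open scoped commutatorElement

section collect
variable {G : Type*} [Group G]

/-- `z u = t u z` with `t` commuting with `u`: `z u^n = t^n u^n z` -/
theorem semi_pow_right (z u t : G) (h : z * u = t * u * z) (htu : Commute t u) (n : ℕ) :
    z * u ^ n = t ^ n * u ^ n * z := by
  induction n with
  | zero => simp
  | succ n ih =>
    have e1 : u ^ n * t = t * u ^ n := (htu.pow_right n).eq.symm
    calc z * u ^ (n + 1) = (z * u ^ n) * u := by rw [pow_succ, mul_assoc]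
      _ = t ^ n * u ^ n * (z * u) := by rw [ih, mul_assoc]
      _ = t ^ n * u ^ n * (t * u * z) := by rw [h]
      _ = t ^ n * (u ^ n * t) * u * z := by simp only [mul_assoc]
      _ = t ^ n * (t * u ^ n) * u * z := by rw [e1]
      _ = t ^ (n + 1) * u ^ (n + 1) * z := by rw [pow_succ t, pow_succ u]; simp only [mul_assoc]

/-- `z u = t u z` with `t` commuting with `z`: `z^a u = t^a u z^a` -/
theorem semi_pow_left (z u t : G) (h : z * u = t * u * z) (htz : Commute t z) (a : ℕ) :
    z ^ a * u = t ^ a * u * z ^ a := by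
  induction a with
  | zero => simp
  | succ a ih =>
    have e1 : z * t ^ a = t ^ a * z := (htz.pow_left a).eq.symm
    calc z ^ (a + 1) * u = z * (z ^ a * u) := by rw [pow_succ', mul_assoc]
      _ = z * (t ^ a * u * z ^ a) := by rw [ih]
      _ = (z * t ^ a) * u * z ^ a := by simp only [mul_assoc]
      _ = t ^ a * (z * u) * z ^ a := by rw [e1]; simp only [mul_assoc]
      _ = t ^ a * (t * u * z) * z ^ a := by rw [h]
      _ = t ^ (a + 1) * u * z ^ (a + 1) := by rw [pow_succ t, pow_succ' z]; simp only [mul_assoc]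

/-- exponent sequences of the collection formula in class three -/
def colA : ℕ → ℕ
  | 0 => 0
  | n + 1 => colA n + n

def colB : ℕ → ℕ
  | 0 => 0
  | n + 1 => colB n + (2 * colA n + n)

def colE : ℕ → ℕ
  | 0 => 0
  | n + 1 => colE n + colA n

theorem colA_spec (n : ℕ) : 2 * colA n + n = n * n := by
  induction n with
  | zero => rfl
  | succ n ih => simp only [colA]; nlinarith

theorem colB_spec (n : ℕ) : 6 * colB n + 3 * (n * n) = 2 * (n * n * n) + n := by
  induction n with
  | zero => rfl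
  | succ n ih =>
    have hA := colA_spec n
    simp only [colB]; nlinarith

theorem colE_spec (n : ℕ) : 6 * colE n + 3 * (n * n) = n * n * n + 2 * n := by
  induction n with
  | zero => rfl
  | succ n ih =>
    have hA := colA_spec n
    simp only [colE]; nlinarith

theorem prime_dvd_colA (p : ℕ) (hp : p.Prime) (h2 : p ≠ 2) : p ∣ colA p := by
  have h := colA_spec p
  have h1 : p ∣ 2 * colA p := by
    have : p ∣ 2 * colA p + p := by rw [h]; exact dvd_mul_right p p
    exact (Nat.dvd_add_left (dvd_refl p)).mp this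
  rcases (Nat.Prime.dvd_mul hp).mp h1 with h3 | h3
  · exact absurd ((Nat.prime_dvd_prime_iff_eq hp Nat.prime_two).mp h3) h2
  · exact h3

theorem prime_dvd_of_dvd_six_mul (p : ℕ) (hp : p.Prime) (h3 : 3 < p) (m : ℕ) (h : p ∣ 6 * m) :
    p ∣ m := by
  rcases (Nat.Prime.dvd_mul hp).mp h with h6 | hm
  · exfalso
    have : p ≤ 6 := Nat.le_of_dvd (by norm_num) h6
    interval_cases p
    · norm_num at h6
    · norm_num at h6
    · norm_num at hp
  · exact hm

theorem prime_dvd_colB (p : ℕ) (hp : p.Prime) (h3 : 3 < p) : p ∣ colB p := by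
  apply prime_dvd_of_dvd_six_mul p hp h3
  have h := colB_spec p
  have h1 : p ∣ 6 * colB p + 3 * (p * p) := by
    rw [h]
    exact dvd_add (Dvd.dvd.mul_left (dvd_mul_left p (p * p)) 2) (dvd_refl p)
  exact (Nat.dvd_add_left (Dvd.dvd.mul_left (dvd_mul_right p p) 3)).mp h1

theorem prime_dvd_colE (p : ℕ) (hp : p.Prime) (h3 : 3 < p) : p ∣ colE p := by
  apply prime_dvd_of_dvd_six_mul p hp h3
  have h := colE_spec p
  have h1 : p ∣ 6 * colE p + 3 * (p * p) := by
    rw [h]
    exact dvd_add (dvd_mul_left p (p * p)) (dvd_mul_left p 2)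
  exact (Nat.dvd_add_left (Dvd.dvd.mul_left (dvd_mul_right p p) 3)).mp h1

/-- hypotheses of the class three collection formula -/
structure Collect3 (x y z t₁ t₂ : G) : Prop where
  hz : y * x = z * x * y
  h1 : z * x = t₁ * x * z
  h2 : z * y = t₂ * y * z
  c1x : Commute t₁ x
  c1y : Commute t₁ y
  c1z : Commute t₁ z
  c2x : Commute t₂ x
  c2y : Commute t₂ y
  c2z : Commute t₂ z
  c12 : Commute t₁ t₂

theorem Collect3.conj_pow {x y z t₁ t₂ : G} (h : Collect3 x y z t₁ t₂) (n : ℕ) :
    y * x ^ n * t₁ ^ colA n = z ^ n * x ^ n * y := by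
  induction n with
  | zero => simp [colA]
  | succ n ih =>
    have hK : ∀ w : G, Commute t₁ w → Commute (t₁ ^ n) w := fun w hw => hw.pow_left n
    have hKA : ∀ w : G, Commute t₁ w → Commute (t₁ ^ colA n) w := fun w hw => hw.pow_left _
    have e1 : z * x ^ n = t₁ ^ n * x ^ n * z := semi_pow_right z x t₁ h.h1 h.c1x n
    calc y * x ^ (n + 1) * t₁ ^ colA (n + 1)
        = y * x ^ n * x * (t₁ ^ colA n * t₁ ^ n) := by
          simp only [colA, pow_succ, pow_add, mul_assoc]
      _ = y * x ^ n * (x * t₁ ^ colA n) * t₁ ^ n := by simp only [mul_assoc]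
      _ = y * x ^ n * (t₁ ^ colA n * x) * t₁ ^ n := by rw [(hKA x h.c1x).eq]
      _ = (y * x ^ n * t₁ ^ colA n) * x * t₁ ^ n := by simp only [mul_assoc]
      _ = z ^ n * x ^ n * y * x * t₁ ^ n := by rw [ih]
      _ = z ^ n * x ^ n * (y * x) * t₁ ^ n := by simp only [mul_assoc]
      _ = z ^ n * x ^ n * (z * x * y) * t₁ ^ n := by rw [h.hz]
      _ = z ^ n * ((x ^ n * z * x * y) * t₁ ^ n) := by simp only [mul_assoc]
      _ = z ^ n * (t₁ ^ n * (x ^ n * z * x * y)) := by
          have : Commute (t₁ ^ n) (x ^ n * z * x * y) :=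
            ((((hK x h.c1x).pow_right n).mul_right (hK z h.c1z)).mul_right (hK x h.c1x)).mul_right
              (hK y h.c1y)
          rw [this.eq]
      _ = z ^ n * ((t₁ ^ n * x ^ n * z) * x * y) := by simp only [mul_assoc]
      _ = z ^ n * ((z * x ^ n) * x * y) := by rw [← e1]
      _ = z ^ (n + 1) * x ^ (n + 1) * y := by rw [pow_succ z, pow_succ x]; simp only [mul_assoc]

theorem Collect3.mul_pow {x y z t₁ t₂ : G} (h : Collect3 x y z t₁ t₂) (n : ℕ) :
    (x * y) ^ n * t₁ ^ colB n * t₂ ^ colE n = z ^ colA n * x ^ n * y ^ n := by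
  induction n with
  | zero => simp [colA, colB, colE]
  | succ n ih =>
    set a := colA n with ha
    have h1p : ∀ (k : ℕ) (w : G), Commute t₁ w → Commute (t₁ ^ k) w := fun k w hw => hw.pow_left k
    have h2p : ∀ (k : ℕ) (w : G), Commute t₂ w → Commute (t₂ ^ k) w := fun k w hw => hw.pow_left k
    -- the four moves
    have m1 : t₂ ^ a * y * z ^ a = z ^ a * y := (semi_pow_left z y t₂ h.h2 h.c2z a).symm
    have m2 : t₁ ^ a * x * z ^ a = z ^ a * x := (semi_pow_left z x t₁ h.h1 h.c1z a).symm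
    have m3 : y * x ^ n * t₁ ^ a = z ^ n * x ^ n * y := h.conj_pow n
    have m4 : t₁ ^ n * x * z ^ n = z ^ n * x := (semi_pow_left z x t₁ h.h1 h.c1z n).symm
    -- commutation of central powers with x*y
    have cxy1 : ∀ k, Commute (t₁ ^ k) (x * y) := fun k => (h1p k x h.c1x).mul_right (h1p k y h.c1y)
    have cxy2 : ∀ k, Commute (t₂ ^ k) (x * y) := fun k => (h2p k x h.c2x).mul_right (h2p k y h.c2y)
    have c12p : ∀ k l, Commute (t₁ ^ k) (t₂ ^ l) := fun k l => (h.c12.pow_left k).pow_right l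
    calc (x * y) ^ (n + 1) * t₁ ^ colB (n + 1) * t₂ ^ colE (n + 1)
        = (x * y) * (x * y) ^ n * (t₁ ^ colB n * (t₁ ^ a * t₁ ^ a * t₁ ^ n)) *
            (t₂ ^ colE n * t₂ ^ a) := by
          simp only [colB, colE, pow_succ', pow_add, two_mul, ← ha]
      _ = (x * y) * ((x * y) ^ n * t₁ ^ colB n * t₂ ^ colE n) *
            (t₁ ^ a * t₁ ^ a * t₁ ^ n * t₂ ^ a) := by
          have e : t₁ ^ a * t₁ ^ a * t₁ ^ n * t₂ ^ colE n = t₂ ^ colE n * (t₁ ^ a * t₁ ^ a * t₁ ^ n) :=
            (((c12p a _).mul_left (c12p a _)).mul_left (c12p n _)).eq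
          simp only [mul_assoc]
          congr 3
          rw [← mul_assoc (t₁ ^ a), ← mul_assoc (t₁ ^ a * t₁ ^ a), ← mul_assoc (t₁ ^ a * t₁ ^ a * t₁ ^ n), e]
          simp only [mul_assoc]
      _ = (x * y) * (z ^ a * x ^ n * y ^ n) * (t₁ ^ a * t₁ ^ a * t₁ ^ n * t₂ ^ a) := by rw [ih]
      _ = z ^ (a + n) * x ^ (n + 1) * y ^ (n + 1) := by
          set U := t₁ ^ a with hU
          set V := t₁ ^ n with hV
          set S := t₂ ^ a with hS
          have Ux : Commute U x := h1p a x h.c1x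
          have Uy : Commute U y := h1p a y h.c1y
          have Uz : Commute U z := h1p a z h.c1z
          have Vx : Commute V x := h1p n x h.c1x
          have Vy : Commute V y := h1p n y h.c1y
          have Vz : Commute V z := h1p n z h.c1z
          have Sx : Commute S x := h2p a x h.c2x
          have Sy : Commute S y := h2p a y h.c2y
          have Sz : Commute S z := h2p a z h.c2z
          have UV : Commute U V := (Commute.refl t₁).pow_pow a n
          have hW : ∀ c : G, Commute c x → Commute c y → Commute c z →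
              Commute c ((x * y) * (z ^ a * x ^ n * y ^ n)) := fun c cx cy cz =>
            (cx.mul_right cy).mul_right (((cz.pow_right a).mul_right (cx.pow_right n)).mul_right
              (cy.pow_right n))
          have hC : Commute (U * U * V * S) ((x * y) * (z ^ a * x ^ n * y ^ n)) :=
            (((hW U Ux Uy Uz).mul_left (hW U Ux Uy Uz)).mul_left (hW V Vx Vy Vz)).mul_left
              (hW S Sx Sy Sz)
          have m3' : U * (y * x ^ n) = z ^ n * x ^ n * y := by
            rw [← m3, (Uy.mul_right (Ux.pow_right n)).eq]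
          calc x * y * (z ^ a * x ^ n * y ^ n) * (U * U * V * S)
              = (U * U * V * S) * (x * y * (z ^ a * x ^ n * y ^ n)) := hC.eq.symm
            _ = V * (U * (U * (S * x * (y * z ^ a) * x ^ n * y ^ n))) := by
                have : U * U * V = V * (U * U) := ((UV.mul_left UV)).eq
                rw [this]; simp only [mul_assoc]
            _ = V * (U * (U * (x * (S * y * z ^ a) * x ^ n * y ^ n))) := by
                rw [Sx.eq]; simp only [mul_assoc]
            _ = V * (U * (U * (x * (z ^ a * y) * x ^ n * y ^ n))) := by rw [m1]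
            _ = V * (U * ((U * x * z ^ a) * (y * x ^ n) * y ^ n)) := by simp only [mul_assoc]
            _ = V * (U * ((z ^ a * x) * (y * x ^ n) * y ^ n)) := by rw [m2]
            _ = V * ((z ^ a * x) * (U * (y * x ^ n)) * y ^ n) := by
                have : U * (z ^ a * x) = (z ^ a * x) * U := ((Uz.pow_right a).mul_right Ux).eq
                rw [← mul_assoc U, ← mul_assoc U, this]; simp only [mul_assoc]
            _ = V * ((z ^ a * x) * (z ^ n * x ^ n * y) * y ^ n) := by rw [m3']
            _ = z ^ a * ((V * x * z ^ n) * x ^ n * y * y ^ n) := by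
                have : V * z ^ a = z ^ a * V := (Vz.pow_right a).eq
                rw [← mul_assoc V, ← mul_assoc V, ← mul_assoc V, this]; simp only [mul_assoc]
            _ = z ^ a * ((z ^ n * x) * x ^ n * y * y ^ n) := by rw [m4]
            _ = z ^ (a + n) * x ^ (n + 1) * y ^ (n + 1) := by
                rw [pow_add, pow_succ' x, pow_succ' y]; simp only [mul_assoc]
      _ = z ^ colA (n + 1) * x ^ (n + 1) * y ^ (n + 1) := by simp only [colA, ← ha]

theorem Collect3.mul_pow_of_exponents {x y z t₁ t₂ : G} (h : Collect3 x y z t₁ t₂) (n : ℕ)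
    (hz : z ^ colA n = 1) (h1 : t₁ ^ colB n = 1) (h2 : t₂ ^ colE n = 1) :
    (x * y) ^ n = x ^ n * y ^ n := by
  have := h.mul_pow n
  rw [hz, h1, h2, mul_one, mul_one, one_mul] at this
  exact this

/-- under `x^n = 1` the element `t₁` has order dividing `n` -/
theorem Collect3.t1_pow {x y z t₁ t₂ : G} (h : Collect3 x y z t₁ t₂) (n : ℕ) (hx : x ^ n = 1) :
    t₁ ^ n = 1 := by
  have := semi_pow_right z x t₁ h.h1 h.c1x n
  rw [hx, mul_one, mul_one] at this
  exact (mul_eq_right.mp this.symm)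

theorem Collect3.t2_pow {x y z t₁ t₂ : G} (h : Collect3 x y z t₁ t₂) (n : ℕ) (hy : y ^ n = 1) :
    t₂ ^ n = 1 := by
  have := semi_pow_right z y t₂ h.h2 h.c2y n
  rw [hy, mul_one, mul_one] at this
  exact (mul_eq_right.mp this.symm)

theorem Collect3.z_pow {x y z t₁ t₂ : G} (h : Collect3 x y z t₁ t₂) (n : ℕ) (hx : x ^ n = 1)
    (hn : n ∣ colA n) : z ^ n = 1 := by
  have ht := h.t1_pow n hx
  have := h.conj_pow n
  obtain ⟨k, hk⟩ := hn
  rw [hx, hk, pow_mul, ht, one_pow, mul_one, mul_one, mul_one] at this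
  exact (mul_eq_right.mp this.symm)

end collect

section classthree
variable {R : Type*} [Group R] {p : ℕ}

theorem exists_collect3 (hp : p.Prime)
    (hcl : (p ≠ 2 ∧ ⁅commutator R, (⊤ : Subgroup R)⁆ = ⊥) ∨
      (3 < p ∧ ⁅⁅commutator R, (⊤ : Subgroup R)⁆, (⊤ : Subgroup R)⁆ = ⊥)) (x y : R) :
    ∃ z t₁ t₂ : R, Collect3 x y z t₁ t₂ ∧ z ∈ commutator R ∧ t₁ ∈ commutator R ∧
      t₂ ∈ commutator R ∧ (t₁ ^ p = 1 → t₁ ^ colB p = 1) ∧ (t₂ ^ p = 1 → t₂ ^ colE p = 1) := by
  have hzmem : ⁅y, x⁆ ∈ commutator R :=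
    Subgroup.commutator_mem_commutator (Subgroup.mem_top y) (Subgroup.mem_top x)
  have hzeq : y * x = ⁅y, x⁆ * x * y := by rw [commutatorElement_def]; group
  rcases hcl with ⟨_, h2⟩ | ⟨h3, h2⟩
  · have hcen : commutator R ≤ Subgroup.center R :=
      Subgroup.commutator_top_right_eq_bot_iff_le_center.mp h2
    have hz := Subgroup.mem_center_iff.mp (hcen hzmem)
    refine ⟨⁅y, x⁆, 1, 1, ⟨hzeq, ?_, ?_, Commute.one_left _, Commute.one_left _, Commute.one_left _,
      Commute.one_left _, Commute.one_left _, Commute.one_left _, Commute.one_left _⟩, hzmem,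
      Subgroup.one_mem _, Subgroup.one_mem _, fun _ => one_pow _, fun _ => one_pow _⟩
    · rw [one_mul]; exact (hz x).symm
    · rw [one_mul]; exact (hz y).symm
  · have hcen : ⁅commutator R, (⊤ : Subgroup R)⁆ ≤ Subgroup.center R :=
      Subgroup.commutator_top_right_eq_bot_iff_le_center.mp h2
    set z := ⁅y, x⁆ with hz
    have ht1 : ⁅z, x⁆ ∈ ⁅commutator R, (⊤ : Subgroup R)⁆ :=
      Subgroup.commutator_mem_commutator hzmem (Subgroup.mem_top x)
    have ht2 : ⁅z, y⁆ ∈ ⁅commutator R, (⊤ : Subgroup R)⁆ :=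
      Subgroup.commutator_mem_commutator hzmem (Subgroup.mem_top y)
    have hc1 := Subgroup.mem_center_iff.mp (hcen ht1)
    have hc2 := Subgroup.mem_center_iff.mp (hcen ht2)
    have hB : p ∣ colB p := prime_dvd_colB p hp h3
    have hE : p ∣ colE p := prime_dvd_colE p hp h3
    refine ⟨z, ⁅z, x⁆, ⁅z, y⁆, ⟨hzeq, ?_, ?_, (hc1 x).symm, (hc1 y).symm, (hc1 z).symm,
      (hc2 x).symm, (hc2 y).symm, (hc2 z).symm, (hc1 _).symm⟩, hzmem,
      Subgroup.commutator_mem_commutator (Subgroup.mem_top z) (Subgroup.mem_top x),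
      Subgroup.commutator_mem_commutator (Subgroup.mem_top z) (Subgroup.mem_top y), ?_, ?_⟩
    · rw [commutatorElement_def]; group
    · rw [commutatorElement_def]; group
    · intro h
      obtain ⟨k, hk⟩ := hB
      rw [hk, pow_mul, h, one_pow]
    · intro h
      obtain ⟨k, hk⟩ := hE
      rw [hk, pow_mul, h, one_pow]

theorem prime_ne_two_of_hcl
    (hcl : (p ≠ 2 ∧ ⁅commutator R, (⊤ : Subgroup R)⁆ = ⊥) ∨
      (3 < p ∧ ⁅⁅commutator R, (⊤ : Subgroup R)⁆, (⊤ : Subgroup R)⁆ = ⊥)) : p ≠ 2 := by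
  rcases hcl with ⟨h, _⟩ | ⟨h, _⟩
  · exact h
  · omega

/-- the elements of order dividing `p` generate a subgroup of exponent dividing `p` -/
theorem omega_exponent_of_class (hp : p.Prime)
    (hcl : (p ≠ 2 ∧ ⁅commutator R, (⊤ : Subgroup R)⁆ = ⊥) ∨
      (3 < p ∧ ⁅⁅commutator R, (⊤ : Subgroup R)⁆, (⊤ : Subgroup R)⁆ = ⊥))
    (g : R) (hg : g ∈ Subgroup.closure {x : R | x ^ p = 1}) : g ^ p = 1 := by
  have hA : p ∣ colA p := prime_dvd_colA p hp (prime_ne_two_of_hcl hcl)
  induction hg using Subgroup.closure_induction with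
  | mem x hx => exact hx
  | one => exact one_pow p
  | mul x y _ _ hx hy =>
    obtain ⟨z, t₁, t₂, hc, _, _, _, hB, hE⟩ := exists_collect3 hp hcl x y
    have h1 := hc.t1_pow p hx
    have h2 := hc.t2_pow p hy
    have hz := hc.z_pow p hx hA
    have hzA : z ^ colA p = 1 := by
      obtain ⟨k, hk⟩ := hA
      rw [hk, pow_mul, hz, one_pow]
    rw [hc.mul_pow_of_exponents p hzA (hB h1) (hE h2), hx, hy, one_mul]
  | inv x _ hx => rw [inv_pow, hx, inv_one]

/-- the `p`-th power map is multiplicative -/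
theorem mul_pow_of_class (hp : p.Prime)
    (hcl : (p ≠ 2 ∧ ⁅commutator R, (⊤ : Subgroup R)⁆ = ⊥) ∨
      (3 < p ∧ ⁅⁅commutator R, (⊤ : Subgroup R)⁆, (⊤ : Subgroup R)⁆ = ⊥))
    (hder : commutator R ≤ Subgroup.closure {x : R | x ^ p = 1}) (x y : R) :
    (x * y) ^ p = x ^ p * y ^ p := by
  have hA : p ∣ colA p := prime_dvd_colA p hp (prime_ne_two_of_hcl hcl)
  obtain ⟨z, t₁, t₂, hc, hz, ht1, ht2, hB, hE⟩ := exists_collect3 hp hcl x y
  have hzp := omega_exponent_of_class hp hcl z (hder hz)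
  have h1 := omega_exponent_of_class hp hcl t₁ (hder ht1)
  have h2 := omega_exponent_of_class hp hcl t₂ (hder ht2)
  have hzA : z ^ colA p = 1 := by
    obtain ⟨k, hk⟩ := hA
    rw [hk, pow_mul, hzp, one_pow]
  exact hc.mul_pow_of_exponents p hzA (hB h1) (hE h2)

end classthree


end Cfsg.Agent.Lib.Helper04
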