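import Mathlib
import Cfsg.Agent.Lib.Helper16.BG124Defs

set_option autoImplicit false

/-! # K-S1416-K1 : `exists_coatom_ne` (architect helper16) -/

namespace Cfsg.Agent.Lib.Helper04.BG124

open Cfsg Cfsg.Agent.Lib.Helper16.BG124

variable {G : Type*} [Group G] [Finite G]
variable {M A : Subgroup G} {p : ℕ} [Fact p.Prime]

/-- In a nonabelian simple group, the normalizer of a subgroup of prime order is proper. -/
theorem normalizer_ne_top_of_card_prime (hs : IsSimpleGroup G) (hc : ¬ IsMulCommutative G)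
    (A₀ : Subgroup G) (hA₀ : Nat.card A₀ = p) :
    Subgroup.normalizer (A₀ : Set G) ≠ ⊤ := by
  have hp : p.Prime := Fact.out
  intro htop
  have hn : A₀.Normal := Subgroup.normalizer_eq_top_iff.mp htop
  rcases hn.eq_bot_or_eq_top with h | h
  · rw [h, Subgroup.card_bot] at hA₀
    exact hp.one_lt.ne hA₀
  · apply hc
    have hcard : Nat.card G = p := by
      rw [← hA₀, h, Subgroup.card_top]
    have : IsCyclic G := isCyclic_of_prime_card hcard
    exact ⟨⟨fun a b => IsCyclic.commGroup.mul_comm a b⟩⟩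

/-- K1. If no `A₀` is good, every `A₀` has a coatom `H ≠ M` over `N(A₀)`. -/
theorem exists_coatom_ne (hG : IsMinSimpleOddOrder G) (hM : IsCoatom M)
    (hng : ∀ A₀ : Subgroup G, A₀ ≤ A → Nat.card A₀ = p → ¬ Good M A₀) :
    ∀ A₀ : Subgroup G, A₀ ≤ A → Nat.card A₀ = p →
      ∃ H : Subgroup G, IsCoatom H ∧ H ≠ M ∧ Subgroup.normalizer (A₀ : Set G) ≤ H := by
  intro A₀ hle hcard
  by_contra hno
  push Not at hno
  have hall : ∀ L : Subgroup G, IsCoatom L → Subgroup.normalizer (A₀ : Set G) ≤ L → L = M := by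
    intro L hL hNL
    by_contra hne
    exact hno L hL hne hNL
  have hne : Subgroup.normalizer (A₀ : Set G) ≠ ⊤ :=
    normalizer_ne_top_of_card_prime hG.2.1 hG.2.2.1 A₀ hcard
  rcases eq_top_or_exists_le_coatom (Subgroup.normalizer (A₀ : Set G)) with h | ⟨L, hL, hNL⟩
  · exact hne h
  · have hLM : L = M := hall L hL hNL
    exact hng A₀ hle hcard ⟨hLM ▸ hNL, hall⟩

end Cfsg.Agent.Lib.Helper04.BG124
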