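import Mathlib
import Cfsg.Agent.Lib.Helper16.BG124Defs
import Cfsg.Agent.Lib.Helper13.BG12B
import Cfsg.Agent.Lib.Helper58.BG12P
import Cfsg.Agent.S1350
import Cfsg.Agent.S1405

set_option autoImplicit false

/-! # K-S1416-K6 : `nilpotent_of_alphaCore_eq_bot` (architect helper16) -/

namespace Cfsg.Agent.Lib.Helper04.BG124

open Cfsg

variable {G : Type*} [Group G] [Finite G]
variable {M : Subgroup G}

/-- The commutator subgroup `⁅M, M⁆` of `G` is the image of `commutator M`. -/
theorem commutator_self_eq_map (M : Subgroup G) :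
    ⁅M, M⁆ = (commutator ↥M).map M.subtype := by
  rw [commutator_def, Subgroup.map_commutator, ← MonoidHom.range_eq_map, Subgroup.range_subtype]

/-- K6. STEP 3: `M_α = 1` gives `M'` nilpotent, `M_σ ≤ M'`, `M_σ` nilpotent. -/
theorem nilpotent_of_alphaCore_eq_bot (hG : IsMinSimpleOddOrder G) (hM : IsCoatom M) (h : alphaCore M = ⊥) :
    Group.IsNilpotent ↥⁅M, M⁆ ∧ sigmaCore M ≤ ⁅M, M⁆ ∧ Group.IsNilpotent ↥(sigmaCore M) := by
  -- `M'` nilpotent
  have h1405 := (Cfsg.Agent.S1405.result hG M hM).2.2.2.2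
  have hbot : piCore (alpha M) ↥M = ⊥ := by
    have : (piCore (alpha M) ↥M).map M.subtype = ⊥ := h
    exact (Subgroup.map_eq_bot_iff_of_injective _ M.subtype_injective).mp this
  have hinj : Function.Injective (QuotientGroup.mk' (piCore (alpha M) ↥M)) := by
    rw [← MonoidHom.ker_eq_bot_iff, QuotientGroup.ker_mk', hbot]
  have hnilM : Group.IsNilpotent ↥(commutator ↥M) := by
    have e := (commutator ↥M).equivMapOfInjective _ hinj
    haveI := h1405
    exact (Group.isNilpotent_congr e).mpr h1405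
  have hnil : Group.IsNilpotent ↥⁅M, M⁆ := by
    rw [commutator_self_eq_map]
    have e := (commutator ↥M).equivMapOfInjective _ M.subtype_injective
    exact (Group.isNilpotent_congr e).mp hnilM
  -- `M_σ ≤ M'`
  have hHall := (Cfsg.Agent.S1350.result hG M hM).1
  obtain ⟨E, hE, -⟩ := Cfsg.Agent.Lib.Helper13.BG12.exists_complIn_ge hG hM hHall
    (K := ⊥) bot_le (fun p hp hdvd => by
      rw [Subgroup.card_bot] at hdvd
      exact absurd (Nat.dvd_one.mp hdvd) hp.one_lt.ne')
  have hcomm := (Cfsg.Agent.Lib.Helper58.BG12.sigmaCore_commutator_compl hG M hM E hE).2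
  have hle : sigmaCore M ≤ ⁅M, M⁆ := by
    rw [← hcomm]
    exact Subgroup.commutator_mono hE.2.1 hE.1
  refine ⟨hnil, hle, ?_⟩
  have e := Subgroup.subgroupOfEquivOfLe hle
  haveI := hnil
  have : Group.IsNilpotent ↥((sigmaCore M).subgroupOf ⁅M, M⁆) := Subgroup.isNilpotent _
  exact (Group.isNilpotent_congr e).mp this

end Cfsg.Agent.Lib.Helper04.BG124
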