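import Mathlib

set_option autoImplicit false

namespace Cfsg.Agent.Lib.Helper04

section OrbitSum

variable {P X : Type*} [Group P] (act : P → X → X) (f : X → ℕ)

theorem sigFin_ext {a b : Σ x : X, Fin (f x)} (h1 : a.1 = b.1) (h2 : a.2.1 = b.2.1) : a = b := by
  obtain ⟨x, i⟩ := a
  obtain ⟨y, j⟩ := b
  simp only at h1 h2
  subst h1
  congr 1
  exact Fin.ext h2

/-- the auxiliary action on `Σ x, Fin (f x)` -/
@[reducible] def sigAct (h1 : ∀ x, act 1 x = x) (hmul : ∀ g h x, act (g * h) x = act g (act h x))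
    (hf : ∀ g x, f (act g x) = f x) : MulAction P (Σ x : X, Fin (f x)) where
  smul g y := ⟨act g y.1, ⟨y.2.1, by rw [hf]; exact y.2.2⟩⟩
  one_smul y := sigFin_ext f (h1 y.1) rfl
  mul_smul g h y := sigFin_ext f (hmul g h y.1) rfl

/-- weighted fixed point congruence for a `p`-group acting on a finite set, the weight being constant
on orbits. -/
theorem sum_modEq_sum_fixed [Fintype X] {p : ℕ} [Fact p.Prime] (hP : IsPGroup p P)
    (h1 : ∀ x, act 1 x = x) (hmul : ∀ g h x, act (g * h) x = act g (act h x))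
    (hf : ∀ g x, f (act g x) = f x) [DecidablePred fun x => ∀ g, act g x = x] :
    ∑ x, f x ≡ ∑ x ∈ Finset.univ.filter (fun x => ∀ g, act g x = x), f x [MOD p] := by
  classical
  let _ : MulAction P (Σ x : X, Fin (f x)) := sigAct act f h1 hmul hf
  have hsmul : ∀ (g : P) (y : Σ x : X, Fin (f x)), (g • y).1 = act g y.1 := fun g y => rfl
  have key := hP.card_modEq_card_fixedPoints (Σ x : X, Fin (f x))
  have e : MulAction.fixedPoints P (Σ x : X, Fin (f x)) ≃
      Σ x : {x : X // ∀ g, act g x = x}, Fin (f x.1) :=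
    { toFun := fun y => ⟨⟨y.1.1, fun g => by
        have := y.2 g
        rw [← hsmul, this]⟩, y.1.2⟩
      invFun := fun z => ⟨⟨z.1.1, z.2⟩, fun g => sigFin_ext f (by rw [hsmul]; exact z.1.2 g) rfl⟩
      left_inv := fun y => rfl
      right_inv := fun z => rfl }
  rw [Nat.card_congr e, Nat.card_eq_fintype_card, Nat.card_eq_fintype_card, Fintype.card_sigma,
    Fintype.card_sigma] at key
  simp only [Fintype.card_fin] at key
  rw [← Finset.sum_subtype (Finset.univ.filter (fun x => ∀ g, act g x = x)) (by simp) f] at key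
  exact key

end OrbitSum

section Residual

variable {G : Type*} [Group G] (p : ℕ)

/-- `O^p(G)`, as the subgroup generated by the elements of order prime to `p`. -/
def OpRes (G : Type*) [Group G] (p : ℕ) : Subgroup G :=
  Subgroup.closure {x : G | ¬ p ∣ orderOf x}

theorem OpRes_normal : (OpRes G p).Normal := by
  constructor
  intro n hn g
  have h : (OpRes G p).map (MulAut.conj g).toMonoidHom ≤ OpRes G p := by
    rw [OpRes, MonoidHom.map_closure, Subgroup.closure_le]
    rintro _ ⟨x, hx, rfl⟩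
    apply Subgroup.subset_closure
    simp only [Set.mem_ofPred_eq] at hx ⊢
    rw [MulEquiv.coe_toMonoidHom, MulEquiv.orderOf_eq]
    exact hx
  have := h (Subgroup.mem_map_of_mem _ hn)
  simpa using this

theorem OpRes_pow_mem [Fact p.Prime] (g : G) (hg : IsOfFinOrder g) :
    ∃ n : ℕ, g ^ (p ^ n) ∈ OpRes G p := by
  have hp : p.Prime := Fact.out
  obtain ⟨n, m, hm, hnm⟩ := Nat.exists_eq_pow_mul_and_not_dvd (hg.orderOf_pos).ne' p hp.ne_one
  refine ⟨n, Subgroup.subset_closure ?_⟩
  show ¬ p ∣ orderOf (g ^ (p ^ n))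
  intro hd
  apply hm
  refine dvd_trans hd (orderOf_dvd_of_pow_eq_one ?_)
  rw [← pow_mul, ← hnm, pow_orderOf_eq_one]

theorem OpRes_index [Finite G] [Fact p.Prime] : ∃ k : ℕ, (OpRes G p).index = p ^ k := by
  have _ : (OpRes G p).Normal := OpRes_normal p
  have h : IsPGroup p (G ⧸ OpRes G p) := by
    intro q
    obtain ⟨g, rfl⟩ := QuotientGroup.mk_surjective q
    obtain ⟨n, hn⟩ := OpRes_pow_mem p g (isOfFinOrder_of_finite g)
    refine ⟨n, ?_⟩
    rw [← QuotientGroup.mk_pow, QuotientGroup.eq_one_iff]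
    exact hn
  obtain ⟨k, hk⟩ := IsPGroup.iff_card.mp h
  exact ⟨k, by rw [Subgroup.index_eq_card]; exact hk⟩

/-- `O^p(G)` has no nontrivial homomorphism of `p`-power order into a commutative group. -/
theorem OpRes_hom_trivial [Fact p.Prime] {A : Type*} [CommGroup A] (lam : OpRes G p →* A)
    (h : lam ^ p = 1) : lam = 1 := by
  have hp : p.Prime := Fact.out
  have key : ∀ (x : G) (hx : x ∈ OpRes G p), lam ⟨x, hx⟩ = 1 := by
    intro x hx
    unfold OpRes at hx
    induction hx using Subgroup.closure_induction with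
    | mem x hx =>
      have hx' : ¬ p ∣ orderOf x := hx
      set y : OpRes G p := ⟨x, Subgroup.subset_closure hx⟩ with hy
      have h1 : lam y ^ p = 1 := by
        have := congrArg (fun f : OpRes G p →* A => f y) h
        simpa using this
      have h2 : lam y ^ orderOf x = 1 := by
        rw [← map_pow]
        have : y ^ orderOf x = 1 := by
          apply Subtype.ext
          simp [hy, pow_orderOf_eq_one]
        rw [this, map_one]
      have h3 : orderOf (lam y) ∣ Nat.gcd p (orderOf x) :=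
        Nat.dvd_gcd (orderOf_dvd_of_pow_eq_one h1) (orderOf_dvd_of_pow_eq_one h2)
      rw [(Nat.Prime.coprime_iff_not_dvd hp).mpr hx'] at h3
      exact orderOf_eq_one_iff.mp (Nat.dvd_one.mp h3)
    | one => exact map_one lam
    | mul x y hx hy ihx ihy =>
      have : (⟨x * y, Subgroup.mul_mem _ hx hy⟩ : OpRes G p) = ⟨x, hx⟩ * ⟨y, hy⟩ := rfl
      rw [this, map_mul, ihx, ihy, one_mul]
    | inv x hx ih =>
      have : (⟨x⁻¹, Subgroup.inv_mem _ hx⟩ : OpRes G p) = (⟨x, hx⟩ : OpRes G p)⁻¹ := rfl
      rw [this, map_inv, ih, inv_one]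
  ext ⟨x, hx⟩
  rw [key x hx]
  rfl

/-- consequently every homomorphism of finite order from `O^p(G)` to a commutative group has order
prime to `p`. -/
theorem OpRes_not_dvd_orderOf [Fact p.Prime] {A : Type*} [CommGroup A] (lam : OpRes G p →* A)
    (hfin : IsOfFinOrder lam) : ¬ p ∣ orderOf lam := by
  have hp : p.Prime := Fact.out
  rintro ⟨m, hm⟩
  have hpos := hfin.orderOf_pos
  have h1 : (lam ^ m) ^ p = 1 := by
    rw [← pow_mul, mul_comm, ← hm, pow_orderOf_eq_one]
  have h2 := OpRes_hom_trivial p (lam ^ m) h1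
  have h3 := orderOf_dvd_of_pow_eq_one h2
  have h4 : orderOf lam ≤ m := Nat.le_of_dvd (by
    rcases Nat.eq_zero_or_pos m with h0 | h0
    · rw [h0, mul_zero] at hm; omega
    · exact h0) h3
  have : m < p * m := by
    have := hp.two_le
    rcases Nat.eq_zero_or_pos m with h0 | h0
    · rw [h0, mul_zero] at hm; omega
    · nlinarith
  omega

end Residual

end Cfsg.Agent.Lib.Helper04
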