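import Mathlib
import Cfsg.Prelude.Def_Characters

set_option autoImplicit false

namespace Cfsg.Agent.Lib.Helper04

open scoped ComplexConjugate

section

variable {G : Type*} [Group G]

theorem extendByZero_apply_mem (H : Subgroup G) (θ : H → ℂ) (h : H) :
    Cfsg.extendByZero H θ (h : G) = θ h :=
  Subtype.val_injective.extend_apply _ _ _

theorem extendByZero_apply_of_mem (H : Subgroup G) (θ : H → ℂ) (g : G) (hg : g ∈ H) :
    Cfsg.extendByZero H θ g = θ ⟨g, hg⟩ :=
  extendByZero_apply_mem H θ ⟨g, hg⟩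

theorem extendByZero_apply_not_mem (H : Subgroup G) (θ : H → ℂ) (g : G) (hg : g ∉ H) :
    Cfsg.extendByZero H θ g = 0 := by
  unfold Cfsg.extendByZero
  rw [Function.extend_apply']
  · rfl
  · rintro ⟨h, rfl⟩
    exact hg h.2

theorem sum_extendByZero_mul [Fintype G] (H : Subgroup G) [Fintype H] (θ : H → ℂ) (F : G → ℂ) :
    ∑ g : G, Cfsg.extendByZero H θ g * F g = ∑ h : H, θ h * F h := by
  classical
  have h1 : ∑ g : G, Cfsg.extendByZero H θ g * F g =
      ∑ g ∈ Finset.univ.filter (· ∈ H), Cfsg.extendByZero H θ g * F g := by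
    rw [Finset.sum_filter]
    apply Finset.sum_congr rfl
    intro g _
    split_ifs with hg
    · rfl
    · rw [extendByZero_apply_not_mem H θ g hg, zero_mul]
  rw [h1, Finset.sum_subtype (p := (· ∈ H)) _ (by simp)]
  apply Finset.sum_congr rfl
  intro h _
  rw [extendByZero_apply_mem]

theorem sum_extendByZero [Fintype G] (H : Subgroup G) [Fintype H] (θ : H → ℂ) :
    ∑ g : G, Cfsg.extendByZero H θ g = ∑ h : H, θ h := by
  have := sum_extendByZero_mul H θ (fun _ => 1)
  simpa using this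

theorem indFun_apply [Fintype G] (H : Subgroup G) (θ : H → ℂ) (g : G) :
    Cfsg.indFun H θ g = (Nat.card H : ℂ)⁻¹ * ∑ x : G, Cfsg.extendByZero H θ (x⁻¹ * g * x) := rfl

theorem indFun_isClassFunction [Fintype G] (H : Subgroup G) (θ : H → ℂ) :
    Cfsg.IsClassFunction G (Cfsg.indFun H θ) := by
  intro g h
  rw [indFun_apply, indFun_apply]
  congr 1
  apply Fintype.sum_equiv (Equiv.mulLeft h⁻¹)
  intro x
  simp only [Equiv.coe_mulLeft, mul_inv_rev, inv_inv]
  congr 1
  group

/-- Frobenius reciprocity -/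
theorem frobenius_reciprocity [Fintype G] (H : Subgroup G) [Fintype H] (θ : H → ℂ) (χ : G → ℂ)
    (hχ : Cfsg.IsClassFunction G χ) :
    Cfsg.classInner (Cfsg.indFun H θ) χ = Cfsg.classInner θ (fun h : H => χ h) := by
  unfold Cfsg.classInner
  simp only [indFun_apply]
  have h1 : ∑ g : G, ((Nat.card H : ℂ)⁻¹ * ∑ x : G, Cfsg.extendByZero H θ (x⁻¹ * g * x)) * conj (χ g)
      = (Nat.card H : ℂ)⁻¹ * ∑ x : G, ∑ g : G, Cfsg.extendByZero H θ (x⁻¹ * g * x) * conj (χ g) := by
    rw [Finset.sum_comm, Finset.mul_sum]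
    apply Finset.sum_congr rfl
    intro g _
    rw [mul_assoc, Finset.sum_mul]
  rw [h1]
  have h2 : ∀ x : G, ∑ g : G, Cfsg.extendByZero H θ (x⁻¹ * g * x) * conj (χ g) =
      ∑ h : H, θ h * conj (χ h) := by
    intro x
    rw [← sum_extendByZero_mul H θ (fun g => conj (χ g))]
    apply Fintype.sum_equiv (MulAut.conj x⁻¹).toEquiv
    intro g
    simp only [MulEquiv.toEquiv_eq_coe, EquivLike.coe_coe, MulAut.conj_apply, inv_inv]
    congr 2
    have := hχ g x⁻¹
    rw [inv_inv] at this
    exact this.symm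
  simp only [h2, Finset.sum_const, Finset.card_univ, nsmul_eq_mul]
  have hG : (Nat.card G : ℂ) ≠ 0 := by
    have : Nat.card G ≠ 0 := Nat.card_pos.ne'
    exact_mod_cast this
  rw [Fintype.card_eq_nat_card]
  field_simp

/-- transitivity of induction -/
theorem indFun_trans [Fintype G] (H K : Subgroup G) [Fintype K] (hHK : H ≤ K) (θ : H → ℂ) :
    Cfsg.indFun K (Cfsg.indFun (H.subgroupOf K)
      (fun x => θ ⟨(x : K), Subgroup.mem_subgroupOf.mp x.2⟩)) = Cfsg.indFun H θ := by
  classical
  set θ' : H.subgroupOf K → ℂ := fun x => θ ⟨(x : K), Subgroup.mem_subgroupOf.mp x.2⟩ with hθ'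
  -- extension by zero agrees
  have hext : ∀ k : K, Cfsg.extendByZero (H.subgroupOf K) θ' k = Cfsg.extendByZero H θ (k : G) := by
    intro k
    by_cases hk : (k : G) ∈ H
    · have hk' : k ∈ H.subgroupOf K := Subgroup.mem_subgroupOf.mpr hk
      rw [extendByZero_apply_of_mem _ _ k hk', extendByZero_apply_of_mem _ _ (k : G) hk]
    · have hk' : k ∉ H.subgroupOf K := fun h => hk (Subgroup.mem_subgroupOf.mp h)
      rw [extendByZero_apply_not_mem _ _ k hk', extendByZero_apply_not_mem _ _ (k : G) hk]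
  have hcard : Nat.card (H.subgroupOf K) = Nat.card H := by
    exact Nat.card_congr (Subgroup.subgroupOfEquivOfLe hHK).toEquiv
  -- formula for the extension by zero of the inner induced function
  have hφ : ∀ z : G, Cfsg.extendByZero K (Cfsg.indFun (H.subgroupOf K) θ') z =
      (Nat.card H : ℂ)⁻¹ * ∑ y : K, Cfsg.extendByZero H θ ((y : G)⁻¹ * z * y) := by
    intro z
    by_cases hz : z ∈ K
    · rw [extendByZero_apply_of_mem _ _ z hz, indFun_apply, hcard]
      congr 1
      apply Finset.sum_congr rfl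
      intro y _
      rw [hext]
      rfl
    · rw [extendByZero_apply_not_mem _ _ z hz]
      symm
      apply mul_eq_zero_of_right
      apply Finset.sum_eq_zero
      intro y _
      apply extendByZero_apply_not_mem
      intro hmem
      apply hz
      have h1 : (y : G)⁻¹ * z * y ∈ K := hHK hmem
      have h2 : z = (y : G) * ((y : G)⁻¹ * z * y) * (y : G)⁻¹ := by group
      rw [h2]
      exact K.mul_mem (K.mul_mem y.2 h1) (K.inv_mem y.2)
  funext g
  rw [indFun_apply, indFun_apply]
  simp only [hφ]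
  rw [← Finset.mul_sum, Finset.sum_comm]
  have h3 : ∀ y : K, ∑ x : G, Cfsg.extendByZero H θ ((y : G)⁻¹ * (x⁻¹ * g * x) * y) =
      ∑ x : G, Cfsg.extendByZero H θ (x⁻¹ * g * x) := by
    intro y
    apply Fintype.sum_equiv (Equiv.mulRight (y : G))
    intro x
    simp only [Equiv.coe_mulRight, mul_inv_rev]
    congr 1
    group
  simp only [h3, Finset.sum_const, Finset.card_univ, nsmul_eq_mul]
  have hK : (Nat.card K : ℂ) ≠ 0 := by
    have : Nat.card K ≠ 0 := Nat.card_pos.ne'
    exact_mod_cast this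
  rw [Fintype.card_eq_nat_card]
  field_simp

theorem indFun_eq_on_ti [Fintype G] (T : Set G)
    (hTI : ∀ g : G, g ∉ Subgroup.normalizer T → ∀ t ∈ T, g * t * g⁻¹ ∈ T → t = 1)
    (hTN : T ⊆ Subgroup.normalizer T) (ψ : Subgroup.normalizer T → ℂ)
    (hψ : Cfsg.IsClassFunction (Subgroup.normalizer T) ψ)
    (hψT : ∀ x : Subgroup.normalizer T, (x : G) ∉ T → ψ x = 0)
    (t : Subgroup.normalizer T) (htT : (t : G) ∈ T) (ht1 : t ≠ 1) :
    Cfsg.indFun (Subgroup.normalizer T) ψ t = ψ t := by
  classical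
  have _ : Fintype (Subgroup.normalizer T) := Fintype.ofFinite _
  rw [indFun_apply]
  have ht1' : (t : G) ≠ 1 := fun h => ht1 (Subtype.ext h)
  have key : ∀ x : G, Cfsg.extendByZero (Subgroup.normalizer T) ψ (x⁻¹ * (t : G) * x) =
      Cfsg.extendByZero (Subgroup.normalizer T) (fun _ => ψ t) x := by
    intro x
    by_cases hx : x ∈ Subgroup.normalizer T
    · have hx' : x⁻¹ * (t : G) * x ∈ Subgroup.normalizer T :=
        Subgroup.mul_mem _ (Subgroup.mul_mem _ (Subgroup.inv_mem _ hx) t.2) hx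
      rw [extendByZero_apply_of_mem _ _ _ hx', extendByZero_apply_of_mem _ _ _ hx]
      have := hψ t ⟨x⁻¹, Subgroup.inv_mem _ hx⟩
      rw [← this]
      congr 1
      apply Subtype.ext
      simp
    · rw [extendByZero_apply_not_mem _ _ x hx]
      by_cases hmem : x⁻¹ * (t : G) * x ∈ Subgroup.normalizer T
      · rw [extendByZero_apply_of_mem _ _ _ hmem]
        apply hψT
        intro hT
        have hx' : x⁻¹ ∉ Subgroup.normalizer T := fun h => hx (by simpa using Subgroup.inv_mem _ h)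
        have := hTI x⁻¹ hx' (t : G) htT (by simpa using hT)
        exact ht1' this
      · exact extendByZero_apply_not_mem _ _ _ hmem
  simp only [key]
  rw [sum_extendByZero]
  simp only [Finset.sum_const, Finset.card_univ, nsmul_eq_mul]
  have hN : (Nat.card (Subgroup.normalizer T) : ℂ) ≠ 0 := by
    have : Nat.card (Subgroup.normalizer T) ≠ 0 := Nat.card_pos.ne'
    exact_mod_cast this
  rw [Fintype.card_eq_nat_card]
  field_simp

theorem indFun_isometry_on_ti [Fintype G] (T : Set G)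
    (hTI : ∀ g : G, g ∉ Subgroup.normalizer T → ∀ t ∈ T, g * t * g⁻¹ ∈ T → t = 1)
    (hTN : T ⊆ Subgroup.normalizer T) [Fintype (Subgroup.normalizer T)]
    (ψ θ : Subgroup.normalizer T → ℂ)
    (hψ : Cfsg.IsClassFunction (Subgroup.normalizer T) ψ)
    (hθ : Cfsg.IsClassFunction (Subgroup.normalizer T) θ)
    (hψT : ∀ x : Subgroup.normalizer T, (x : G) ∉ T → ψ x = 0)
    (hθT : ∀ x : Subgroup.normalizer T, (x : G) ∉ T → θ x = 0) (hψ1 : ψ 1 = 0) :
    Cfsg.classInner (Cfsg.indFun (Subgroup.normalizer T) ψ)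
      (Cfsg.indFun (Subgroup.normalizer T) θ) = Cfsg.classInner ψ θ := by
  rw [frobenius_reciprocity _ _ _ (indFun_isClassFunction _ θ)]
  unfold Cfsg.classInner
  congr 1
  apply Finset.sum_congr rfl
  intro n _
  by_cases hn : (n : G) ∈ T ∧ n ≠ 1
  · simp only []
    rw [indFun_eq_on_ti T hTI hTN θ hθ hθT n hn.1 hn.2]
  · have : ψ n = 0 := by
      by_cases h1 : n = 1
      · rw [h1, hψ1]
      · apply hψT
        intro h
        exact hn ⟨h, h1⟩
    rw [this, zero_mul, zero_mul]


end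

end Cfsg.Agent.Lib.Helper04
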