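import Mathlib
import Cfsg.Prelude.Def_Blocks
import Cfsg.Agent.Lib.Helper04.OrbitSum
import Cfsg.Agent.Lib.Helper80.DetExtGen
import Cfsg.Agent.Lib.Helper84.NormalAction
import Cfsg.Agent.Lib.Helper83.LinearCount
import Cfsg.Agent.Lib.Helper20.LinExt

set_option autoImplicit false

namespace Cfsg.Agent.Lib.Helper04

open Cfsg

section ThompsonDeg

variable {G : Type*} [Group G] [Finite G] (p : ℕ) [Fact p.Prime] (K : Subgroup G) [K.Normal]

/-- invariance of an irreducible character of a normal subgroup under the conjugation action, in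
elementwise form. -/
theorem irr_inv_apply (ψ : IrrCharacter K)
    (hinv : ∀ g : G, (letI := Cfsg.Agent.Lib.Helper84.irrAction K; g • ψ) = ψ)
    (g : G) (n : K) :
    (ψ : K → ℂ) ⟨g * n * g⁻¹, Subgroup.Normal.conj_mem inferInstance (n : G) n.2 g⟩
      = (ψ : K → ℂ) n := by
  have h : ((letI := Cfsg.Agent.Lib.Helper84.irrAction K; g⁻¹ • ψ : IrrCharacter K) : K → ℂ) n
      = (ψ : K → ℂ) n := by
    rw [hinv g⁻¹]
  rw [Cfsg.Agent.Lib.Helper84.irrAction_apply, inv_inv] at h
  rw [← h]
  congr 1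

/-- A `G`-invariant irreducible character of `K`, of degree prime to the index of `K`, whose
determinant has order prime to the index, extends to `G`. -/
theorem exists_extension_of_coprime_det (ψ : IrrCharacter K)
    (hinv : ∀ g : G, (letI := Cfsg.Agent.Lib.Helper84.irrAction K; g • ψ) = ψ)
    (hdeg : Nat.Coprime K.index (charDegree (ψ : K → ℂ)))
    (hdet : Nat.Coprime K.index (orderOf (Cfsg.Agent.Lib.Helper80.detHom (ψ : K → ℂ)))) :
    ∃ χ : G → ℂ, IsIrrCharacter G χ ∧ ∀ n : K, χ n = (ψ : K → ℂ) n := by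
  have hψc : IsCharacter K (ψ : K → ℂ) := Cfsg.Agent.Lib.Helper83.IrrCharacter_isCharacter ψ
  have hd : (ψ : K → ℂ) 1 = (charDegree (ψ : K → ℂ) : ℂ) :=
    (Cfsg.Agent.Lib.Helper83.charDegree_cast hψc).symm
  have hinv' := irr_inv_apply K ψ hinv
  set lam := Cfsg.Agent.Lib.Helper80.detHom (ψ : K → ℂ) with hlam
  have hlaminv : ∀ (g : G) (x y : K), (y : G) = g⁻¹ * x * g → lam y = lam x := by
    intro g x y hy
    apply Units.ext
    rw [hlam, Cfsg.Agent.Lib.Helper80.detHom_apply, Cfsg.Agent.Lib.Helper80.detHom_apply]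
    have h1 := Cfsg.Agent.Lib.Helper80.detChar_comp_hom
      ((MulAut.conjNormal g⁻¹ : MulAut K) : K ≃* K).toMonoidHom hψc
    have h2 : (fun h : K => (ψ : K → ℂ) (((MulAut.conjNormal g⁻¹ : MulAut K) : K ≃* K).toMonoidHom h))
        = (ψ : K → ℂ) := by
      funext h
      have := hinv' g⁻¹ h
      rw [← this]
      congr 1
    rw [h2] at h1
    have h3 := congrFun h1 x
    rw [h3]
    congr 1
    apply Subtype.ext
    simp [hy]
  obtain ⟨μ, hμres, -⟩ := Cfsg.Agent.Lib.Helper20.exists_extension_of_coprime K lam hlaminv hdet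
  have hμ := Cfsg.Agent.Lib.Helper20.isCharacter_homFun μ
  exact Cfsg.Agent.Lib.Helper80.gallagher_ext K (ψ : K → ℂ) ψ.2 hinv' _ hd hdeg
    (Cfsg.Agent.Lib.Helper20.homFun μ) hμ.1 hμ.2 (fun n => by
      rw [Cfsg.Agent.Lib.Helper20.homFun_apply, hμres n, hlam,
        Cfsg.Agent.Lib.Helper80.detHom_apply])

/-- `charDegree` is invariant under the conjugation action. -/
theorem charDegree_irrAction (g : G) (ψ : IrrCharacter K) :
    charDegree (((letI := Cfsg.Agent.Lib.Helper84.irrAction K; g • ψ : IrrCharacter K)) : K → ℂ)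
      = charDegree (ψ : K → ℂ) := by
  unfold charDegree
  rw [Cfsg.Agent.Lib.Helper84.irrAction_apply, map_one]

/-- `K` acts trivially on its own irreducible characters. -/
theorem irrAction_of_mem (x : G) (hx : x ∈ K) (ψ : IrrCharacter K) :
    (letI := Cfsg.Agent.Lib.Helper84.irrAction K; x • ψ) = ψ := by
  apply Subtype.ext
  funext k
  rw [Cfsg.Agent.Lib.Helper84.irrAction_apply]
  have hc := Cfsg.Agent.Lib.Helper83.char_conj_eq
    (Cfsg.Agent.Lib.Helper83.IrrCharacter_isCharacter ψ) k (⟨x, hx⟩⁻¹ : K)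
  rw [← hc]
  congr 1

/-- the group of `G`-invariant linear characters of `K`. -/
def invLin : Subgroup (K →* ℂˣ) where
  carrier := {lam | ∀ (g : G) (x y : K), (y : G) = g⁻¹ * x * g → lam y = lam x}
  one_mem' := by intro g x y _; rfl
  mul_mem' := by
    intro a b ha hb g x y h
    rw [MonoidHom.mul_apply, MonoidHom.mul_apply, ha g x y h, hb g x y h]
  inv_mem' := by
    intro a ha g x y h
    rw [MonoidHom.inv_apply, MonoidHom.inv_apply, ha g x y h]

end ThompsonDeg

section Main

variable {G : Type*} [Group G] [Finite G] (p : ℕ) [Fact p.Prime]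

/-- **Thompson**: if `p` divides the degree of every nonlinear irreducible character of `G`, then
`O^p(G)` has order prime to `p`. -/
theorem card_OpRes_coprime
    (hdeg : ∀ χ : IrrCharacter G, charDegree (χ : G → ℂ) ≠ 1 → p ∣ charDegree (χ : G → ℂ)) :
    (Nat.card (OpRes G p)).Coprime p := by
  classical
  have hp : p.Prime := Fact.out
  have hKn : (OpRes G p).Normal := OpRes_normal p
  obtain ⟨k, hk⟩ := OpRes_index (G := G) p
  set K : Subgroup G := OpRes G p with hK
  let _ : Fintype K := Fintype.ofFinite K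
  let _ : Fintype (IrrCharacter K) := Fintype.ofFinite _
  let _ := Cfsg.Agent.Lib.Helper84.irrAction K
  obtain ⟨P⟩ : Nonempty (Sylow p G) := inferInstance
  -- K ⊔ P = ⊤
  have hKP : K ⊔ (P : Subgroup G) = ⊤ := by
    rw [← Subgroup.index_eq_one]
    have h1 : (K ⊔ (P : Subgroup G)).index ∣ K.index := Subgroup.index_dvd_of_le le_sup_left
    have h2 : (K ⊔ (P : Subgroup G)).index ∣ (P : Subgroup G).index :=
      Subgroup.index_dvd_of_le le_sup_right
    have h3 : Nat.Coprime K.index (P : Subgroup G).index := by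
      rw [hk]
      exact Nat.Coprime.pow_left k ((Nat.Prime.coprime_iff_not_dvd hp).mpr P.not_dvd_index)
    exact Nat.eq_one_of_dvd_coprimes h3 h1 h2
  have hfix : ∀ ψ : IrrCharacter K, (∀ g : P, (g : G) • ψ = ψ) → ∀ g : G, g • ψ = ψ := by
    intro ψ h g
    have hle : K ⊔ (P : Subgroup G) ≤ MulAction.stabilizer G ψ :=
      sup_le (fun x hx => irrAction_of_mem K x hx ψ) (fun x hx => h ⟨x, hx⟩)
    rw [hKP] at hle
    exact hle (Subgroup.mem_top g)
  -- invariant characters of degree prime to p are linear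
  have hlin : ∀ ψ : IrrCharacter K, (∀ g : G, g • ψ = ψ) → ¬ p ∣ charDegree (ψ : K → ℂ) →
      charDegree (ψ : K → ℂ) = 1 := by
    intro ψ hinv hnd
    have hc1 : Nat.Coprime K.index (charDegree (ψ : K → ℂ)) := by
      rw [hk]
      exact Nat.Coprime.pow_left k ((Nat.Prime.coprime_iff_not_dvd hp).mpr hnd)
    have hc2 : Nat.Coprime K.index (orderOf (Cfsg.Agent.Lib.Helper80.detHom (ψ : K → ℂ))) := by
      rw [hk]
      exact Nat.Coprime.pow_left k ((Nat.Prime.coprime_iff_not_dvd hp).mpr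
        (OpRes_not_dvd_orderOf p _ (Cfsg.Agent.Lib.Helper20.isOfFinOrder_hom _)))
    obtain ⟨χ, hχ, hres⟩ := exists_extension_of_coprime_det K ψ hinv hc1 hc2
    have h1 : χ 1 = (ψ : K → ℂ) 1 := hres 1
    have h2 : charDegree χ = charDegree (ψ : K → ℂ) := by
      unfold charDegree
      rw [h1]
    by_contra hne
    have := hdeg ⟨χ, hχ⟩ (by rw [h2]; exact hne)
    rw [h2] at this
    exact hnd this
  -- the congruence
  have hsum := Cfsg.Agent.Lib.Helper83.sum_charDegree_sq (G := K)
  have hcong := sum_modEq_sum_fixed (P := P) (X := IrrCharacter K)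
    (fun g ψ => (g : G) • ψ) (fun ψ => charDegree (ψ : K → ℂ) ^ 2) P.2
    (fun ψ => one_smul G ψ) (fun g h ψ => mul_smul (g : G) (h : G) ψ)
    (fun g ψ => by
      show charDegree ((((g : G) • ψ : IrrCharacter K)) : K → ℂ) ^ 2 = _
      rw [charDegree_irrAction])
  rw [hsum] at hcong
  set F : Finset (IrrCharacter K) :=
    Finset.univ.filter (fun ψ => ∀ g : P, (g : G) • ψ = ψ) with hF
  have h1 : ((Nat.card K : ℕ) : ZMod p) = ∑ ψ ∈ F, ((charDegree (ψ : K → ℂ) ^ 2 : ℕ) : ZMod p) := by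
    rw [← Nat.cast_sum]
    exact (ZMod.natCast_eq_natCast_iff _ _ p).mpr hcong
  have h2 : ∀ ψ ∈ F, ((charDegree (ψ : K → ℂ) ^ 2 : ℕ) : ZMod p)
      = if charDegree (ψ : K → ℂ) = 1 then 1 else 0 := by
    intro ψ hψ
    have hψ' : ∀ g : P, (g : G) • ψ = ψ := (Finset.mem_filter.mp hψ).2
    by_cases hd : p ∣ charDegree (ψ : K → ℂ)
    · have hne : charDegree (ψ : K → ℂ) ≠ 1 := by
        intro h
        rw [h] at hd
        exact hp.one_lt.ne' (Nat.dvd_one.mp hd)
      rw [if_neg hne, Nat.cast_pow, (ZMod.natCast_eq_zero_iff _ p).mpr hd]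
      simp
    · have := hlin ψ (hfix ψ hψ') hd
      rw [if_pos this, this]
      simp
  rw [Finset.sum_congr rfl h2, Finset.sum_boole] at h1
  -- count the invariant linear characters
  set C : Finset (IrrCharacter K) := F.filter (fun ψ => charDegree (ψ : K → ℂ) = 1) with hC
  let Φ : invLin (G := G) K → {ψ : IrrCharacter K // ψ ∈ C} := fun lam =>
    ⟨⟨Cfsg.Agent.Lib.Helper20.homFun (lam : K →* ℂˣ),
        Cfsg.Agent.Lib.Helper05.isIrrCharacter_of_hom (lam : K →* ℂˣ)⟩, by
      rw [hC, Finset.mem_filter, hF, Finset.mem_filter]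
      refine ⟨⟨Finset.mem_univ _, ?_⟩, ?_⟩
      · intro g
        apply Subtype.ext
        funext x
        rw [Cfsg.Agent.Lib.Helper84.irrAction_apply]
        show Cfsg.Agent.Lib.Helper20.homFun (lam : K →* ℂˣ) _
          = Cfsg.Agent.Lib.Helper20.homFun (lam : K →* ℂˣ) x
        rw [Cfsg.Agent.Lib.Helper20.homFun_apply, Cfsg.Agent.Lib.Helper20.homFun_apply]
        congr 1
        exact lam.2 (g : G) x _ (by simp)
      · show charDegree (Cfsg.Agent.Lib.Helper20.homFun (lam : K →* ℂˣ)) = 1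
        unfold charDegree
        rw [Cfsg.Agent.Lib.Helper20.homFun_apply]
        simp⟩
  have hΦinj : Function.Injective Φ := by
    intro a b hab
    have h := congrArg (fun z : {ψ : IrrCharacter K // ψ ∈ C} => ((z : IrrCharacter K) : K → ℂ)) hab
    exact Subtype.ext (Cfsg.Agent.Lib.Helper20.homFun_injective h)
  have hΦsurj : Function.Surjective Φ := by
    rintro ⟨ψ, hψ⟩
    rw [hC, Finset.mem_filter, hF, Finset.mem_filter] at hψ
    obtain ⟨⟨-, hψ1⟩, hψ2⟩ := hψ
    have hψc := Cfsg.Agent.Lib.Helper83.IrrCharacter_isCharacter ψ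
    have h1 : (ψ : K → ℂ) 1 = 1 := by
      rw [← Cfsg.Agent.Lib.Helper83.charDegree_cast hψc, hψ2]
      simp
    obtain ⟨φ, hφ⟩ := Cfsg.Agent.Lib.Helper20.exists_hom_of_linear hψc h1
    have hφmem : φ ∈ invLin (G := G) K := by
      intro g x y hy
      apply Units.ext
      have hx := irr_inv_apply K ψ (hfix ψ hψ1) g⁻¹ x
      rw [← hφ] at hx
      rw [Cfsg.Agent.Lib.Helper20.homFun_apply, Cfsg.Agent.Lib.Helper20.homFun_apply] at hx
      rw [← hx]
      congr 2
      apply Subtype.ext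
      simp [hy]
    refine ⟨⟨φ, hφmem⟩, ?_⟩
    apply Subtype.ext
    apply Subtype.ext
    exact hφ
  have hcard : Nat.card (invLin (G := G) K) = C.card := by
    rw [Nat.card_eq_of_bijective Φ ⟨hΦinj, hΦsurj⟩, Nat.card_eq_fintype_card, Fintype.card_coe]
  have _ : Finite (invLin (G := G) K) := Finite.of_injective Φ hΦinj
  have hnd : ¬ p ∣ C.card := by
    rw [← hcard]
    intro hdvd
    obtain ⟨lam, hlam⟩ := exists_prime_orderOf_dvd_card' p hdvd
    have h3 : ((lam : K →* ℂˣ)) ^ p = 1 := by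
      have : lam ^ p = 1 := by rw [← hlam, pow_orderOf_eq_one]
      have := congrArg Subtype.val this
      simpa using this
    have h4 := OpRes_hom_trivial p (lam : K →* ℂˣ) h3
    have h5 : lam = 1 := Subtype.ext h4
    rw [h5, orderOf_one] at hlam
    exact hp.one_lt.ne hlam
  rw [Nat.coprime_comm, Nat.Prime.coprime_iff_not_dvd hp]
  intro hdvd
  apply hnd
  rw [← ZMod.natCast_eq_zero_iff, ← h1]
  exact (ZMod.natCast_eq_zero_iff _ p).mpr hdvd

end Main

end Cfsg.Agent.Lib.Helper04
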