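import Mathlib
import Cfsg.Prelude.Def_Characters
import Cfsg.Agent.Lib.Helper84.NormalAction

set_option autoImplicit false

namespace Cfsg.Agent.Lib.Helper04

open scoped ComplexConjugate
open Cfsg

section CharTransport

variable {H : Type*} {K : Type*} [Group H] [Group K]

/-- transport of irreducible characters along a group isomorphism. -/
noncomputable def irrCongr [Finite H] [Finite K] (e : H ≃* K) :
    IrrCharacter K ≃ IrrCharacter H where
  toFun θ := ⟨fun h => (θ : K → ℂ) (e h),
    Cfsg.Agent.Lib.Helper84.isIrrCharacter_comp_mulEquiv e θ.2⟩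
  invFun θ := ⟨fun k => (θ : H → ℂ) (e.symm k),
    Cfsg.Agent.Lib.Helper84.isIrrCharacter_comp_mulEquiv e.symm θ.2⟩
  left_inv θ := by
    apply Subtype.ext
    funext k
    simp
  right_inv θ := by
    apply Subtype.ext
    funext h
    simp

@[simp] theorem irrCongr_apply [Finite H] [Finite K] (e : H ≃* K) (θ : IrrCharacter K) (h : H) :
    ((irrCongr e θ : IrrCharacter H) : H → ℂ) h = (θ : K → ℂ) (e h) := rfl

@[simp] theorem irrCongr_symm_apply [Finite H] [Finite K] (e : H ≃* K) (θ : IrrCharacter H)
    (k : K) : (((irrCongr e).symm θ : IrrCharacter K) : K → ℂ) k = (θ : H → ℂ) (e.symm k) := rfl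

/-- the inner product is invariant under transport along an isomorphism. -/
theorem classInner_comp_mulEquiv [Fintype H] [Fintype K] (e : H ≃* K) (f g : K → ℂ) :
    classInner (fun h => f (e h)) (fun h => g (e h)) = classInner f g := by
  rw [classInner, classInner, Nat.card_congr e.toEquiv]
  congr 1
  exact Equiv.sum_comp e.toEquiv (fun k => f k * conj (g k))

end CharTransport

end Cfsg.Agent.Lib.Helper04
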