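import Mathlib
import Cfsg.Prelude.Def_Characters
import Cfsg.Agent.Lib.Helper04.CharValues

set_option autoImplicit false

namespace Cfsg.Agent.Lib.Helper04

open scoped ComplexConjugate

section

variable {G : Type*} [Group G] [Fintype G]

theorem classInner_def (φ ψ : G → ℂ) :
    Cfsg.classInner φ ψ = (Nat.card G : ℂ)⁻¹ * ∑ g : G, φ g * conj (ψ g) := rfl

theorem classInner_add_left (φ₁ φ₂ ψ : G → ℂ) :
    Cfsg.classInner (φ₁ + φ₂) ψ = Cfsg.classInner φ₁ ψ + Cfsg.classInner φ₂ ψ := by
  simp only [classInner_def, Pi.add_apply, add_mul, Finset.sum_add_distrib, mul_add]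

theorem classInner_sub_left (φ₁ φ₂ ψ : G → ℂ) :
    Cfsg.classInner (φ₁ - φ₂) ψ = Cfsg.classInner φ₁ ψ - Cfsg.classInner φ₂ ψ := by
  simp only [classInner_def, Pi.sub_apply, sub_mul, Finset.sum_sub_distrib, mul_sub]

theorem classInner_smul_left (c : ℂ) (φ ψ : G → ℂ) :
    Cfsg.classInner (c • φ) ψ = c * Cfsg.classInner φ ψ := by
  simp only [classInner_def, Pi.smul_apply, smul_eq_mul, Finset.mul_sum]
  apply Finset.sum_congr rfl
  intro g _
  ring

theorem classInner_zero_left (ψ : G → ℂ) : Cfsg.classInner (0 : G → ℂ) ψ = 0 := by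
  simp [classInner_def]

theorem classInner_sum_left {ι : Type*} (s : Finset ι) (f : ι → G → ℂ) (ψ : G → ℂ) :
    Cfsg.classInner (∑ i ∈ s, f i) ψ = ∑ i ∈ s, Cfsg.classInner (f i) ψ := by
  classical
  induction s using Finset.induction_on with
  | empty => simp [classInner_zero_left]
  | insert a s ha ih => rw [Finset.sum_insert ha, Finset.sum_insert ha, classInner_add_left, ih]

/-- Orthonormality of irreducible characters. -/
theorem classInner_irr (χ ψ : G → ℂ) (hχ : Cfsg.IsIrrCharacter G χ) (hψ : Cfsg.IsIrrCharacter G ψ) :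
    Cfsg.classInner χ ψ = if χ = ψ then 1 else 0 := by
  classical
  obtain ⟨n, ρ, hρ, rfl⟩ := hχ
  obtain ⟨m, σ, hσ, rfl⟩ := hψ
  have hG : (Nat.card G : ℂ) ≠ 0 := by
    have : Nat.card G ≠ 0 := Nat.card_pos.ne'
    exact_mod_cast this
  have : Invertible (Nat.card G : ℂ) := invertibleOfNonzero hG
  have key : ∀ {a b : ℕ} (ρ : Representation ℂ G (Fin a → ℂ)) (σ : Representation ℂ G (Fin b → ℂ)),
      Cfsg.classInner ρ.character σ.character =
        (Nat.card G : ℂ)⁻¹ * ∑ g : G, ρ.character g * σ.character g⁻¹ := by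
    intro a b ρ σ
    rw [classInner_def]
    congr 1
    apply Finset.sum_congr rfl
    intro g _
    rw [char_inv]
  split_ifs with h
  · rw [← h, key, Representation.char_orthonormal ρ ρ]
    rw [if_pos ⟨Representation.Equiv.refl ρ⟩]
  · rw [key, Representation.char_orthonormal ρ σ]
    rw [if_neg]
    rintro ⟨e⟩
    exact h (Representation.char_iso e).symm

end

section

variable {G : Type*} [Group G] [Finite G]

theorem irr_linearIndependent :
    LinearIndependent ℂ (fun χ : Cfsg.IrrCharacter G => (χ : G → ℂ)) := by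
  classical
  have _ : Fintype G := Fintype.ofFinite G
  rw [linearIndependent_iff']
  intro s c hc χ hχ
  have h1 := congrArg (fun f => Cfsg.classInner f (χ : G → ℂ)) hc
  simp only [classInner_sum_left, classInner_smul_left, classInner_zero_left] at h1
  rw [Finset.sum_eq_single χ] at h1
  · rw [classInner_irr _ _ χ.2 χ.2, if_pos rfl, mul_one] at h1
    exact h1
  · intro ψ _ hne
    rw [classInner_irr _ _ ψ.2 χ.2, if_neg, mul_zero]
    intro h
    exact hne (Subtype.ext h)
  · intro h
    exact absurd hχ h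

instance irr_finite : Finite (Cfsg.IrrCharacter G) := by
  have _ : Fintype G := Fintype.ofFinite G
  exact (irr_linearIndependent (G := G)).finite

end

end Cfsg.Agent.Lib.Helper04
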