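import Mathlib
import Cfsg.Prelude.Def_Characters
import Cfsg.Agent.Lib.Helper04.Orthonormal

set_option autoImplicit false

namespace Cfsg.Agent.Lib.Helper04

open scoped ComplexConjugate

section

variable {G : Type*} [Group G] [Finite G]

theorem neZero_card_complex : NeZero (Nat.card G : ℂ) :=
  ⟨by exact_mod_cast (Nat.card_pos (α := G)).ne'⟩

omit [Finite G] in
/-- A representation on `Fin d → ℂ` whose algebra hom is surjective is irreducible. -/
theorem isIrreducible_of_surjective {d : ℕ} [NeZero d] (ρ : Representation ℂ G (Fin d → ℂ))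
    (hsurj : Function.Surjective ρ.asAlgebraHom) : ρ.IsIrreducible := by
  have hnt : Nontrivial (Fin d → ℂ) := by
    have : Nonempty (Fin d) := ⟨⟨0, Nat.pos_of_ne_zero (NeZero.ne d)⟩⟩
    infer_instance
  refine { exists_pair_ne := ?_, eq_bot_or_eq_top := ?_ }
  · refine ⟨⊥, ⊤, ?_⟩
    intro h
    obtain ⟨v, hv⟩ := exists_ne (0 : Fin d → ℂ)
    have h1 : v ∈ (⊤ : Subrepresentation ρ) := trivial
    rw [← h] at h1
    exact hv h1
  · intro τ
    by_cases hτ : ∀ v ∈ τ, v = 0
    · left
      apply Subrepresentation.toSubmodule_injective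
      ext v
      constructor
      · intro hv
        rw [hτ v hv]
        exact Submodule.zero_mem _
      · intro hv
        have : v = 0 := hv
        rw [this]
        exact Submodule.zero_mem _
    · right
      push Not at hτ
      obtain ⟨v, hvτ, hv0⟩ := hτ
      have hj : ∃ j, v j ≠ 0 := by
        by_contra hcon
        push Not at hcon
        exact hv0 (funext hcon)
      obtain ⟨j, hj⟩ := hj
      apply Subrepresentation.toSubmodule_injective
      ext w
      constructor
      · intro _; trivial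
      · intro _
        -- a linear map sending v to w
        let L : (Fin d → ℂ) →ₗ[ℂ] (Fin d → ℂ) :=
          (LinearMap.proj j : (Fin d → ℂ) →ₗ[ℂ] ℂ).smulRight ((v j)⁻¹ • w)
        have hL : L v = w := by
          simp only [L, LinearMap.smulRight_apply, LinearMap.proj_apply, smul_smul]
          rw [mul_inv_cancel₀ hj, one_smul]
        obtain ⟨a, ha⟩ := hsurj L
        have hmem : a • (show ρ.asModule from v) ∈ Subrepresentation.asSubmodule τ :=
          Submodule.smul_mem _ a hvτ
        have : ρ.asAlgebraHom a v = w := by rw [ha, hL]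
        rw [← this]
        exact hmem


/-- Wedderburn: a finite family of irreducible matrix representations detecting all of `ℂ[G]`. -/
theorem exists_irr_family :
    ∃ (n : ℕ) (d : Fin n → ℕ) (ρ : ∀ i, Representation ℂ G (Fin (d i) → ℂ)),
      (∀ i, (ρ i).IsIrreducible) ∧ (∀ i, d i ≠ 0) ∧
      ∀ z : MonoidAlgebra ℂ G, (∀ i, (ρ i).asAlgebraHom z = 0) → z = 0 := by
  classical
  have := neZero_card_complex (G := G)
  obtain ⟨n, d, hd, ⟨e⟩⟩ :=
    IsSemisimpleRing.exists_algEquiv_pi_matrix_of_isAlgClosed ℂ (MonoidAlgebra ℂ G)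
  let π : ∀ i, MonoidAlgebra ℂ G →ₐ[ℂ] ((Fin (d i) → ℂ) →ₗ[ℂ] (Fin (d i) → ℂ)) := fun i =>
    (Matrix.toLinAlgEquiv' : Matrix (Fin (d i)) (Fin (d i)) ℂ ≃ₐ[ℂ] _).toAlgHom.comp
      ((Pi.evalAlgHom ℂ (fun i => Matrix (Fin (d i)) (Fin (d i)) ℂ) i).comp e.toAlgHom)
  let ρ : ∀ i, Representation ℂ G (Fin (d i) → ℂ) := fun i =>
    ((π i : MonoidAlgebra ℂ G →* _)).comp (MonoidAlgebra.of ℂ G)
  have hρ : ∀ i, (ρ i).asAlgebraHom = π i := by
    intro i
    apply (MonoidAlgebra.lift ℂ _ G).symm.injective
    ext g v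
    simp [ρ, Representation.asAlgebraHom]
  have hsurj : ∀ i, Function.Surjective (π i) := by
    intro i L
    obtain ⟨M, hM⟩ := (Matrix.toLinAlgEquiv' : Matrix (Fin (d i)) (Fin (d i)) ℂ ≃ₐ[ℂ] _).surjective L
    obtain ⟨a, ha⟩ := e.surjective (Pi.single i M)
    refine ⟨a, ?_⟩
    simp only [π, AlgHom.comp_apply]
    have : (Pi.evalAlgHom ℂ (fun i => Matrix (Fin (d i)) (Fin (d i)) ℂ) i) (e.toAlgHom a) = M := by
      show (e a) i = M
      rw [ha, Pi.single_eq_same]
    rw [this]
    exact hM
  refine ⟨n, d, ρ, ?_, fun i => NeZero.ne (d i), ?_⟩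
  · intro i
    have := hd i
    apply isIrreducible_of_surjective
    rw [hρ i]
    exact hsurj i
  · intro z hz
    apply e.injective
    rw [map_zero]
    funext i
    have h1 := hz i
    rw [hρ i] at h1
    simp only [π, AlgHom.comp_apply] at h1
    have h2 := (Matrix.toLinAlgEquiv' : Matrix (Fin (d i)) (Fin (d i)) ℂ ≃ₐ[ℂ] _).injective
      (a₁ := (e z) i) (a₂ := 0) (by rw [map_zero]; exact h1)
    exact h2


/-- A central element of the group algebra whose trace vanishes in every irreducible
matrix representation is zero. -/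
theorem central_eq_zero_of_trace (z : MonoidAlgebra ℂ G)
    (hz : z ∈ Submonoid.center (MonoidAlgebra ℂ G))
    (h : ∀ (n : ℕ) (ρ : Representation ℂ G (Fin n → ℂ)), ρ.IsIrreducible →
      LinearMap.trace ℂ _ (ρ.asAlgebraHom z) = 0) : z = 0 := by
  obtain ⟨n, d, ρ, hirr, hd, hdet⟩ := exists_irr_family (G := G)
  apply hdet
  intro i
  have := hirr i
  obtain ⟨c, hc⟩ := (Representation.IsIrreducible.algebraMap_intertwiningMap_bijective_of_isAlgClosed
    (ρ := ρ i)).2 (Representation.IntertwiningMap.centralAlgebraMul (ρ i) hz)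
  have hc' : (ρ i).asAlgebraHom z = c • (1 : (Fin (d i) → ℂ) →ₗ[ℂ] (Fin (d i) → ℂ)) := by
    have := congrArg Representation.IntertwiningMap.toLinearMap hc
    rw [Representation.IntertwiningMap.algebraMap_apply] at this
    exact this.symm
  have htr := h (d i) (ρ i) (hirr i)
  rw [hc', map_smul, LinearMap.trace_one, smul_eq_mul, Module.finrank_fin_fun] at htr
  have hdi : ((d i : ℕ) : ℂ) ≠ 0 := by exact_mod_cast hd i
  have hc0 : c = 0 := by
    rcases mul_eq_zero.mp htr with h | h
    · exact h
    · exact absurd h hdi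
  rw [hc', hc0, zero_smul]

end

section

variable {G : Type*} [Group G] [Fintype G]

/-- the group algebra element attached to a function -/
noncomputable def algOf (φ : G → ℂ) : MonoidAlgebra ℂ G := ∑ g : G, MonoidAlgebra.single g (φ g)

theorem algOf_coeff (φ : G → ℂ) (g : G) : (algOf φ).coeff g = φ g := by
  classical
  unfold algOf
  rw [MonoidAlgebra.coeff_sum, Finsupp.finsetSum_apply]
  simp only [MonoidAlgebra.coeff_single]
  rw [Finset.sum_eq_single g]
  · simp
  · intro b _ hb
    simp [hb]
  · intro h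
    exact absurd (Finset.mem_univ g) h

theorem algOf_central (φ : G → ℂ) (hφ : Cfsg.IsClassFunction G φ) :
    algOf φ ∈ Submonoid.center (MonoidAlgebra ℂ G) := by
  rw [Submonoid.mem_center_iff]
  intro a
  induction a using MonoidAlgebra.induction_linear with
  | zero => simp
  | add x y hx hy => rw [add_mul, mul_add, hx, hy]
  | single m r =>
    unfold algOf
    rw [Finset.mul_sum, Finset.sum_mul]
    simp only [MonoidAlgebra.single_mul_single]
    rw [← Fintype.sum_equiv (Equiv.mulLeft m⁻¹) (fun g => MonoidAlgebra.single (m * (m⁻¹ * g)) (r * φ (m⁻¹ * g)))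
      (fun g => MonoidAlgebra.single (m * g) (r * φ g)) (fun g => rfl)]
    rw [← Fintype.sum_equiv (Equiv.mulRight m⁻¹) (fun g => MonoidAlgebra.single ((g * m⁻¹) * m) (φ (g * m⁻¹) * r))
      (fun g => MonoidAlgebra.single (g * m) (φ g * r)) (fun g => rfl)]
    apply Finset.sum_congr rfl
    intro g _
    have h1 : φ (g * m⁻¹) = φ (m⁻¹ * g) := by
      have := hφ (m⁻¹ * g) m
      rw [← this]
      congr 1
      group
    rw [h1, mul_comm r]
    congr 1
    group

theorem asAlgebraHom_algOf {V : Type*} [AddCommGroup V] [Module ℂ V] (ρ : Representation ℂ G V)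
    (φ : G → ℂ) : ρ.asAlgebraHom (algOf φ) = ∑ g : G, φ g • ρ g := by
  unfold algOf
  rw [map_sum]
  apply Finset.sum_congr rfl
  intro g _
  rw [Representation.asAlgebraHom_single]

theorem trace_asAlgebraHom_algOf {V : Type*} [AddCommGroup V] [Module ℂ V]
    (ρ : Representation ℂ G V) (φ : G → ℂ) :
    LinearMap.trace ℂ V (ρ.asAlgebraHom (algOf φ)) = ∑ g : G, φ g * ρ.character g := by
  rw [asAlgebraHom_algOf, map_sum]
  apply Finset.sum_congr rfl
  intro g _
  rw [map_smul, smul_eq_mul]
  rfl

/-- Completeness: a class function orthogonal to all irreducible characters vanishes. -/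
theorem classFunction_eq_zero (φ : G → ℂ) (hφ : Cfsg.IsClassFunction G φ)
    (h : ∀ χ : Cfsg.IrrCharacter G, Cfsg.classInner φ (χ : G → ℂ) = 0) : φ = 0 := by
  have hG : (Nat.card G : ℂ) ≠ 0 := by
    have : Nat.card G ≠ 0 := Nat.card_pos.ne'
    exact_mod_cast this
  set φ' : G → ℂ := fun g => φ g⁻¹ with hφ'
  have hφ'c : Cfsg.IsClassFunction G φ' := by
    intro g x
    simp only [hφ', mul_inv_rev, inv_inv]
    have := hφ g⁻¹ x
    rw [← this]
    congr 1
    group
  have hz : algOf φ' = 0 := by
    apply central_eq_zero_of_trace _ (algOf_central φ' hφ'c)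
    intro n ρ hρ
    rw [trace_asAlgebraHom_algOf]
    have h1 := h ⟨ρ.character, n, ρ, hρ, rfl⟩
    rw [classInner_def] at h1
    have h2 : ∑ g : G, φ g * conj (ρ.character g) = 0 := by
      rcases mul_eq_zero.mp h1 with h | h
      · exact absurd (inv_eq_zero.mp h) hG
      · exact h
    rw [← h2]
    apply Fintype.sum_equiv (Equiv.inv G)
    intro g
    simp only [hφ', Equiv.inv_apply]
    rw [← char_inv, inv_inv]
  funext g
  have := algOf_coeff φ' g⁻¹
  rw [hz] at this
  simp only [hφ', inv_inv] at this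
  simpa using this.symm

end

end Cfsg.Agent.Lib.Helper04
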