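import Mathlib
import Cfsg.Prelude.Def_Characters
import Cfsg.Agent.Lib.Helper04.Complete

set_option autoImplicit false

namespace Cfsg.Agent.Lib.Helper04

open scoped ComplexConjugate

section

variable {G : Type*} [Group G]

theorem isClassFunction_of_isCharacter {χ : G → ℂ} (h : Cfsg.IsCharacter G χ) :
    Cfsg.IsClassFunction G χ := by
  obtain ⟨n, ρ, rfl⟩ := h
  intro g x
  exact Representation.char_conj ρ g x

theorem isClassFunction_of_isIrrCharacter {χ : G → ℂ} (h : Cfsg.IsIrrCharacter G χ) :
    Cfsg.IsClassFunction G χ := by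
  obtain ⟨n, ρ, _, rfl⟩ := h
  intro g x
  exact Representation.char_conj ρ g x

theorem IsClassFunction.add {φ ψ : G → ℂ} (h1 : Cfsg.IsClassFunction G φ)
    (h2 : Cfsg.IsClassFunction G ψ) : Cfsg.IsClassFunction G (φ + ψ) := by
  intro g x; simp only [Pi.add_apply]; rw [h1 g x, h2 g x]

theorem IsClassFunction.sub {φ ψ : G → ℂ} (h1 : Cfsg.IsClassFunction G φ)
    (h2 : Cfsg.IsClassFunction G ψ) : Cfsg.IsClassFunction G (φ - ψ) := by
  intro g x; simp only [Pi.sub_apply]; rw [h1 g x, h2 g x]

theorem IsClassFunction.smul (c : ℂ) {φ : G → ℂ} (h1 : Cfsg.IsClassFunction G φ) :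
    Cfsg.IsClassFunction G (c • φ) := by
  intro g x; simp only [Pi.smul_apply]; rw [h1 g x]

theorem IsClassFunction.zero : Cfsg.IsClassFunction G (0 : G → ℂ) := by
  intro g x; rfl

theorem IsClassFunction.sum {ι : Type*} (s : Finset ι) (f : ι → G → ℂ)
    (h : ∀ i ∈ s, Cfsg.IsClassFunction G (f i)) : Cfsg.IsClassFunction G (∑ i ∈ s, f i) := by
  classical
  induction s using Finset.induction_on with
  | empty => simpa using IsClassFunction.zero
  | insert a s ha ih =>
    rw [Finset.sum_insert ha]
    exact IsClassFunction.add (h a (Finset.mem_insert_self a s))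
      (ih (fun i hi => h i (Finset.mem_insert_of_mem hi)))

end

section

variable {G : Type*} [Group G] [Fintype G]

/-- Expansion of a class function in irreducible characters (finset-sum form). -/
theorem classFunction_expansion [Fintype (Cfsg.IrrCharacter G)] (ψ : G → ℂ)
    (hψ : Cfsg.IsClassFunction G ψ) :
    ψ = ∑ χ : Cfsg.IrrCharacter G, Cfsg.classInner ψ (χ : G → ℂ) • (χ : G → ℂ) := by
  classical
  rw [← sub_eq_zero]
  apply classFunction_eq_zero
  · apply IsClassFunction.sub hψ
    apply IsClassFunction.sum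
    intro χ _
    exact IsClassFunction.smul _ (isClassFunction_of_isIrrCharacter χ.2)
  · intro χ₀
    rw [classInner_sub_left, classInner_sum_left]
    simp only [classInner_smul_left]
    rw [Finset.sum_eq_single χ₀]
    · rw [classInner_irr _ _ χ₀.2 χ₀.2, if_pos rfl, mul_one, sub_self]
    · intro χ _ hne
      rw [classInner_irr _ _ χ.2 χ₀.2, if_neg, mul_zero]
      intro h
      exact hne (Subtype.ext h)
    · intro h
      exact absurd (Finset.mem_univ χ₀) h

theorem classFunction_expansion_finsum (ψ : G → ℂ) (hψ : Cfsg.IsClassFunction G ψ) :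
    ψ = ∑ᶠ χ : Cfsg.IrrCharacter G, Cfsg.classInner ψ (χ : G → ℂ) • (χ : G → ℂ) := by
  have _ : Fintype (Cfsg.IrrCharacter G) := Fintype.ofFinite _
  rw [finsum_eq_sum_of_fintype]
  exact classFunction_expansion ψ hψ

/-- number of `x` with `x g x⁻¹ = y` -/
noncomputable def conjCount (g y : G) : ℂ := by
  classical
  exact ∑ x : G, if x * g * x⁻¹ = y then 1 else 0

theorem conjCount_isClassFunction (g : G) : Cfsg.IsClassFunction G (conjCount g) := by
  classical
  intro y h
  unfold conjCount
  apply Fintype.sum_equiv (Equiv.mulLeft h⁻¹)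
  intro x
  simp only [Equiv.coe_mulLeft, mul_inv_rev, inv_inv]
  have : (x * g * x⁻¹ = h * y * h⁻¹) ↔ (h⁻¹ * x * g * (x⁻¹ * h) = y) := by
    constructor
    · intro e
      calc h⁻¹ * x * g * (x⁻¹ * h) = h⁻¹ * (x * g * x⁻¹) * h := by group
        _ = y := by rw [e]; group
    · intro e
      rw [← e]; group
  simp only [this]

theorem classInner_conjCount (g : G) (χ : G → ℂ) (hχ : Cfsg.IsClassFunction G χ) :
    Cfsg.classInner (conjCount g) χ = conj (χ g) := by
  classical
  rw [classInner_def]
  unfold conjCount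
  have h1 : ∀ y : G, (∑ x : G, if x * g * x⁻¹ = y then (1 : ℂ) else 0) * conj (χ y) =
      ∑ x : G, if x * g * x⁻¹ = y then conj (χ g) else 0 := by
    intro y
    rw [Finset.sum_mul]
    apply Finset.sum_congr rfl
    intro x _
    split_ifs with h
    · rw [one_mul, ← h, hχ g x]
    · rw [zero_mul]
  simp only [h1]
  rw [Finset.sum_comm]
  simp only [Finset.sum_ite_eq, Finset.mem_univ, if_true, Finset.sum_const, Finset.card_univ,
    nsmul_eq_mul]
  have hG : (Nat.card G : ℂ) ≠ 0 := by
    have : Nat.card G ≠ 0 := Nat.card_pos.ne'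
    exact_mod_cast this
  rw [Fintype.card_eq_nat_card]
  field_simp

theorem conjCount_eq_sum [Fintype (Cfsg.IrrCharacter G)] (g h : G) :
    conjCount g h = ∑ χ : Cfsg.IrrCharacter G, conj ((χ : G → ℂ) g) * (χ : G → ℂ) h := by
  have := classFunction_expansion (conjCount g) (conjCount_isClassFunction g)
  have h2 := congrFun this h
  rw [h2, Finset.sum_apply]
  apply Finset.sum_congr rfl
  intro χ _
  rw [Pi.smul_apply, smul_eq_mul, classInner_conjCount g _ (isClassFunction_of_isIrrCharacter χ.2)]

theorem conjCount_eq_zero (g h : G) (hgh : ¬ IsConj g h) : conjCount g h = 0 := by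
  classical
  unfold conjCount
  apply Finset.sum_eq_zero
  intro x _
  rw [if_neg]
  intro e
  exact hgh (isConj_iff.mpr ⟨x, e⟩)

theorem conjCount_eq_card (g h : G) (hgh : IsConj g h) :
    conjCount g h = (Nat.card (Subgroup.centralizer ({g} : Set G)) : ℂ) := by
  classical
  obtain ⟨c, hc⟩ := isConj_iff.mp hgh
  subst hc
  unfold conjCount
  rw [Finset.sum_boole]
  congr 1
  rw [Nat.card_eq_fintype_card, ← Fintype.card_subtype]
  apply Fintype.card_congr
  refine ⟨fun x => ⟨c⁻¹ * x.1, ?_⟩, fun y => ⟨c * y.1, ?_⟩, ?_, ?_⟩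
  · rw [Subgroup.mem_centralizer_singleton_iff]
    have := x.2
    calc c⁻¹ * x.1 * g = c⁻¹ * (x.1 * g * x.1⁻¹) * x.1 := by group
      _ = c⁻¹ * (c * g * c⁻¹) * x.1 := by rw [this]
      _ = g * (c⁻¹ * x.1) := by group
  · have := Subgroup.mem_centralizer_singleton_iff.mp y.2
    calc c * y.1 * g * (c * y.1)⁻¹ = c * (y.1 * g) * y.1⁻¹ * c⁻¹ := by group
      _ = c * (g * y.1) * y.1⁻¹ * c⁻¹ := by rw [this]
      _ = c * g * c⁻¹ := by group
  · intro x; apply Subtype.ext; simp
  · intro y; apply Subtype.ext; simp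


theorem conjCount_self_ne_zero (g : G) : conjCount g g ≠ 0 := by
  rw [conjCount_eq_card g g (IsConj.refl g)]
  have : Nat.card (Subgroup.centralizer ({g} : Set G)) ≠ 0 := Nat.card_pos.ne'
  exact_mod_cast this

/-- Column orthogonality. -/
theorem column_orthogonality (g h : G) :
    (IsConj g h → ∑ᶠ χ : Cfsg.IrrCharacter G, (χ : G → ℂ) g * conj ((χ : G → ℂ) h) =
      (Nat.card (Subgroup.centralizer ({g} : Set G)) : ℂ)) ∧
    (¬ IsConj g h → ∑ᶠ χ : Cfsg.IrrCharacter G, (χ : G → ℂ) g * conj ((χ : G → ℂ) h) = 0) := by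
  have _ : Fintype (Cfsg.IrrCharacter G) := Fintype.ofFinite _
  rw [finsum_eq_sum_of_fintype]
  have key : ∑ χ : Cfsg.IrrCharacter G, (χ : G → ℂ) g * conj ((χ : G → ℂ) h) =
      conj (conjCount g h) := by
    rw [conjCount_eq_sum, map_sum]
    apply Finset.sum_congr rfl
    intro χ _
    rw [map_mul, Complex.conj_conj]
  rw [key]
  constructor
  · intro hgh
    rw [conjCount_eq_card g h hgh, Complex.conj_natCast]
  · intro hgh
    rw [conjCount_eq_zero g h hgh, map_zero]

theorem isConj_iff_irr_agree (g h : G) :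
    IsConj g h ↔ ∀ χ : Cfsg.IrrCharacter G, (χ : G → ℂ) g = (χ : G → ℂ) h := by
  have _ : Fintype (Cfsg.IrrCharacter G) := Fintype.ofFinite _
  constructor
  · intro hgh χ
    obtain ⟨c, hc⟩ := isConj_iff.mp hgh
    rw [← hc]
    exact (isClassFunction_of_isIrrCharacter χ.2 g c).symm
  · intro hall
    by_contra hcon
    have h1 := conjCount_eq_zero g h hcon
    rw [conjCount_eq_sum] at h1
    have h2 : conjCount g g = 0 := by
      rw [conjCount_eq_sum, ← h1]
      apply Finset.sum_congr rfl
      intro χ _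
      rw [hall χ]
    exact conjCount_self_ne_zero g h2

omit [Fintype G] in
theorem irr_apply_one_conj (χ : Cfsg.IrrCharacter G) :
    conj ((χ : G → ℂ) 1) = (χ : G → ℂ) 1 := by
  obtain ⟨n, ρ, _, hρ⟩ := χ.2
  rw [← hρ, Representation.char_one, Complex.conj_natCast]

theorem sum_sq_degrees :
    ∑ᶠ χ : Cfsg.IrrCharacter G, (χ : G → ℂ) 1 ^ 2 = (Nat.card G : ℂ) := by
  have h := (column_orthogonality (1 : G) 1).1 (IsConj.refl 1)
  have h2 : Nat.card (Subgroup.centralizer ({1} : Set G)) = Nat.card G := by
    have : Subgroup.centralizer ({1} : Set G) = ⊤ := by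
      ext x
      simp [Subgroup.mem_centralizer_singleton_iff]
    rw [this, Subgroup.card_top]
  rw [h2] at h
  rw [← h]
  apply finsum_congr
  intro χ
  rw [irr_apply_one_conj, sq]


/-- the space of class functions -/
def classFunctionSubmodule (G : Type*) [Group G] : Submodule ℂ (G → ℂ) where
  carrier := {φ | Cfsg.IsClassFunction G φ}
  add_mem' := fun h1 h2 => IsClassFunction.add h1 h2
  zero_mem' := IsClassFunction.zero
  smul_mem' := fun c _ h => IsClassFunction.smul c h

omit [Fintype G] in
theorem mem_classFunctionSubmodule {φ : G → ℂ} :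
    φ ∈ classFunctionSubmodule G ↔ Cfsg.IsClassFunction G φ := Iff.rfl

omit [Fintype G] in
theorem classFunctionSubmodule_eq_range :
    classFunctionSubmodule G =
      LinearMap.range (LinearMap.funLeft ℂ ℂ (ConjClasses.mk : G → ConjClasses G)) := by
  ext φ
  rw [mem_classFunctionSubmodule, LinearMap.mem_range]
  constructor
  · intro hφ
    refine ⟨fun C => φ (Quotient.out C), ?_⟩
    funext g
    simp only [LinearMap.funLeft_apply]
    have h1 : IsConj (Quotient.out (ConjClasses.mk g)) g := by
      rw [← ConjClasses.mk_eq_mk_iff_isConj]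
      exact Quotient.out_eq _
    obtain ⟨c, hc⟩ := isConj_iff.mp h1
    conv_rhs => rw [← hc, hφ]
  · rintro ⟨f, rfl⟩
    intro g x
    simp only [LinearMap.funLeft_apply]
    congr 1
    rw [ConjClasses.mk_eq_mk_iff_isConj]
    exact (isConj_iff.mpr ⟨x, rfl⟩).symm

theorem finrank_classFunctionSubmodule :
    Module.finrank ℂ (classFunctionSubmodule G) = Nat.card (ConjClasses G) := by
  classical
  rw [classFunctionSubmodule_eq_range, LinearMap.finrank_range_of_inj
    (LinearMap.funLeft_injective_of_surjective ℂ ℂ _ ConjClasses.mk_surjective),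
    Module.finrank_pi, Nat.card_eq_fintype_card]

theorem span_irr_eq :
    Submodule.span ℂ (Set.range (fun χ : Cfsg.IrrCharacter G => (χ : G → ℂ))) =
      classFunctionSubmodule G := by
  have _ : Fintype (Cfsg.IrrCharacter G) := Fintype.ofFinite _
  apply le_antisymm
  · rw [Submodule.span_le]
    rintro _ ⟨χ, rfl⟩
    exact isClassFunction_of_isIrrCharacter χ.2
  · intro φ hφ
    rw [classFunction_expansion φ hφ]
    apply Submodule.sum_mem
    intro χ _
    apply Submodule.smul_mem
    exact Submodule.subset_span ⟨χ, rfl⟩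

theorem card_irr_eq_card_conjClasses :
    Nat.card (Cfsg.IrrCharacter G) = Nat.card (ConjClasses G) := by
  have _ : Fintype (Cfsg.IrrCharacter G) := Fintype.ofFinite _
  rw [← finrank_classFunctionSubmodule, ← span_irr_eq,
    finrank_span_eq_card (irr_linearIndependent (G := G)), Nat.card_eq_fintype_card]

end

end Cfsg.Agent.Lib.Helper04
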