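import Mathlib
import Cfsg.Agent.Lib.Helper01.SZConj
import Cfsg.Agent.Lib.Helper01.Coprime

set_option autoImplicit false

namespace Cfsg.Agent.Lib.Helper04

open Cfsg.Agent.Lib.Helper01

section GlaubCoset

variable {Γ : Type*} [Group Γ] [Finite Γ] (G : Subgroup Γ) [hGn : G.Normal] (s : Γ)

/-- the fixed points of `s` in `G`. -/
def fixC : Subgroup Γ := G ⊓ Subgroup.centralizer ({s} : Set Γ)

theorem mem_fixC {x : Γ} : x ∈ fixC G s ↔ x ∈ G ∧ s * x = x * s := by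
  rw [fixC, Subgroup.mem_inf, Subgroup.mem_centralizer_singleton_iff]
  constructor <;> rintro ⟨h1, h2⟩ <;> exact ⟨h1, h2.symm⟩

theorem fixC_le : fixC G s ≤ G := inf_le_left

variable {G s}

theorem inf_zpowers_eq_bot (hcop : (Nat.card G).Coprime (orderOf s)) :
    G ⊓ Subgroup.zpowers s = ⊥ := by
  have h : (Nat.card G).Coprime (Nat.card (Subgroup.zpowers s)) := by
    rw [Nat.card_zpowers]; exact hcop
  exact (Subgroup.disjoint_of_coprime_natCard h).eq_bot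

theorem index_eq_orderOf (hcop : (Nat.card G).Coprime (orderOf s))
    (hgen : G ⊔ Subgroup.zpowers s = ⊤) : G.index = orderOf s := by
  have h1 := card_sup_mul_card_inf G (Subgroup.zpowers s)
  rw [sup_comm, hgen, inf_zpowers_eq_bot hcop, Subgroup.card_bot, mul_one, Subgroup.card_top,
    Nat.card_zpowers] at h1
  have h2 := G.card_mul_index
  rw [h1] at h2
  exact Nat.eq_of_mul_eq_mul_left Nat.card_pos h2

/-- CRT exponent: `a ≡ 1 (mod |s|)` and `a ≡ 0 (mod |G|)`. -/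
theorem exists_crt (hcop : (Nat.card G).Coprime (orderOf s)) :
    ∃ a : ℕ, s ^ a = s ∧ ∀ g ∈ G, g ^ a = 1 := by
  obtain ⟨a, ha1, ha2⟩ := Nat.chineseRemainder hcop.symm 1 0
  refine ⟨a, ?_, ?_⟩
  · rw [← pow_one s, ← pow_mul, one_mul]
    exact (pow_eq_pow_iff_modEq).mpr ha1
  · intro g hg
    have h1 : (Nat.card G) ∣ a := (Nat.modEq_zero_iff_dvd).mp ha2
    obtain ⟨b, rfl⟩ := h1
    have h2 : (⟨g, hg⟩ : G) ^ Nat.card G = 1 := pow_card_eq_one'
    have h3 : g ^ Nat.card G = 1 := by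
      have := congrArg Subtype.val h2
      simp only [SubmonoidClass.coe_pow, OneMemClass.coe_one] at this
      exact this
    rw [pow_mul, h3, one_pow]

/-- every element of `Γ` is `g * s ^ k` with `g ∈ G`. -/
theorem exists_mul_zpow (hgen : G ⊔ Subgroup.zpowers s = ⊤) (x : Γ) :
    ∃ g ∈ G, ∃ k : ℤ, x = g * s ^ k := by
  have hx : x⁻¹ ∈ Subgroup.zpowers s ⊔ G := by
    rw [sup_comm, hgen]; exact Subgroup.mem_top _
  have hle : Subgroup.zpowers s ≤ Subgroup.normalizer (G : Set Γ) := by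
    rw [Subgroup.normalizer_eq_top]; exact le_top
  obtain ⟨y, hy, g, hg, hxy⟩ := exists_mul_of_mem_sup hle hx
  obtain ⟨k, rfl⟩ := Subgroup.mem_zpowers_iff.mp hy
  refine ⟨g⁻¹, G.inv_mem hg, -k, ?_⟩
  rw [← inv_inv x, hxy, mul_inv_rev, zpow_neg]

/-- **L2** -/
theorem conj_coset_mem_fixC (hcop : (Nat.card G).Coprime (orderOf s)) {c c' γ : Γ}
    (hc : c ∈ fixC G s) (hc' : c' ∈ fixC G s)
    (h : γ * (c * s) * γ⁻¹ = c' * s) : γ * s * γ⁻¹ = s ∧ γ * c * γ⁻¹ = c' := by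
  obtain ⟨a, ha1, ha2⟩ := exists_crt hcop
  rw [mem_fixC] at hc hc'
  have h1 : (c * s) ^ a = s := by
    have hcomm : Commute c s := hc.2.symm
    rw [hcomm.mul_pow, ha2 c hc.1, ha1, one_mul]
  have h2 : (c' * s) ^ a = s := by
    have hcomm : Commute c' s := hc'.2.symm
    rw [hcomm.mul_pow, ha2 c' hc'.1, ha1, one_mul]
  have h3 : γ * s * γ⁻¹ = s := by
    calc γ * s * γ⁻¹ = γ * (c * s) ^ a * γ⁻¹ := by rw [h1]
      _ = (γ * (c * s) * γ⁻¹) ^ a := by rw [conj_pow]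
      _ = (c' * s) ^ a := by rw [h]
      _ = s := h2
  refine ⟨h3, ?_⟩
  have h4 : γ * (c * s) * γ⁻¹ = (γ * c * γ⁻¹) * (γ * s * γ⁻¹) := by group
  rw [h4, h3] at h
  exact mul_right_cancel h

/-- **L1** every element of the coset `G s` is `G`-conjugate to an element of `C s`. -/
theorem exists_conj_mem_fixC_mul (hcop : (Nat.card G).Coprime (orderOf s))
    (hgen : G ⊔ Subgroup.zpowers s = ⊤) {g : Γ} (hg : g ∈ G) :
    ∃ γ ∈ G, ∃ c ∈ fixC G s, γ * (g * s) * γ⁻¹ = c * s := by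
  obtain ⟨a, ha1, ha2⟩ := exists_crt hcop
  have hidx := index_eq_orderOf hcop hgen
  have hdisj := inf_zpowers_eq_bot hcop
  set x := g * s with hx
  set y := x ^ a with hy
  -- images in the quotient
  have hmkx : (QuotientGroup.mk' G) x = (QuotientGroup.mk' G) s := by
    have hg1 : (QuotientGroup.mk' G) g = 1 := (QuotientGroup.eq_one_iff g).mpr hg
    rw [hx, map_mul, hg1, one_mul]
  have hmky : (QuotientGroup.mk' G) y = (QuotientGroup.mk' G) s := by
    rw [hy, map_pow, hmkx, ← map_pow, ha1]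
  have hm : x ^ orderOf s ∈ G := by
    rw [← QuotientGroup.eq_one_iff, ← QuotientGroup.mk'_apply, map_pow, hmkx, ← map_pow,
      pow_orderOf_eq_one, map_one]
  have hym : y ^ orderOf s = 1 := by
    rw [hy, ← pow_mul, mul_comm, pow_mul]
    exact ha2 _ hm
  have hord : orderOf y = orderOf s := by
    apply Nat.dvd_antisymm (orderOf_dvd_of_pow_eq_one hym)
    rw [orderOf_dvd_iff_pow_eq_one]
    have h1 : (QuotientGroup.mk' G) (s ^ orderOf y) = 1 := by
      rw [map_pow, ← hmky, ← map_pow, pow_orderOf_eq_one, map_one]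
    have h2 : s ^ orderOf y ∈ G := (QuotientGroup.eq_one_iff _).mp h1
    have h3 : s ^ orderOf y ∈ G ⊓ Subgroup.zpowers s :=
      Subgroup.mem_inf.mpr ⟨h2, Subgroup.npow_mem_zpowers s _⟩
    rw [hdisj, Subgroup.mem_bot] at h3
    exact h3
  have hcopidx : (Nat.card G).Coprime G.index := by rw [hidx]; exact hcop
  have hsolv : Group.IsSolvable (Subgroup.zpowers y) := inferInstance
  obtain ⟨γ₀, hγ₀⟩ := sz_conj_card G hcopidx (Subgroup.zpowers y) (Subgroup.zpowers s)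
    (Or.inr hsolv) (by rw [Nat.card_zpowers, hord, hidx]) (by rw [Nat.card_zpowers, hidx])
  -- adjust γ₀ to lie in G
  obtain ⟨γ', hγ', k, hk⟩ := exists_mul_zpow hgen γ₀⁻¹
  -- γ₀⁻¹ = γ' s^k so γ₀ = s^{-k} γ'⁻¹
  set γ := γ'⁻¹ with hγ
  have hγG : γ ∈ G := G.inv_mem hγ'
  have hγ₀eq : γ₀ = s ^ (-k) * γ := by
    have : γ₀ = (γ₀⁻¹)⁻¹ := (inv_inv γ₀).symm
    rw [this, hk, mul_inv_rev, ← zpow_neg]
  have hmem : γ * y * γ⁻¹ ∈ Subgroup.zpowers s := by
    have h1 : γ₀ * y * γ₀⁻¹ ∈ Subgroup.zpowers s := by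
      rw [← hγ₀]
      exact ⟨y, Subgroup.mem_zpowers y, rfl⟩
    rw [hγ₀eq] at h1
    have h2 : γ * y * γ⁻¹ = s ^ k * (s ^ (-k) * γ * y * (s ^ (-k) * γ)⁻¹) * s ^ (-k) := by
      rw [zpow_neg]; group
    rw [h2]
    exact Subgroup.mul_mem _ (Subgroup.mul_mem _ (Subgroup.zpow_mem_zpowers s k) h1)
      (Subgroup.zpow_mem_zpowers s (-k))
  have hconj : γ * y * γ⁻¹ = s := by
    have h1 : (QuotientGroup.mk' G) (γ * y * γ⁻¹ * s⁻¹) = 1 := by
      have hγ1 : (QuotientGroup.mk' G) γ = 1 := (QuotientGroup.eq_one_iff γ).mpr hγG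
      rw [map_mul, map_mul, map_mul, map_inv (QuotientGroup.mk' G) γ,
        map_inv (QuotientGroup.mk' G) s, hγ1, hmky]
      simp
    have h2 : γ * y * γ⁻¹ * s⁻¹ ∈ G := (QuotientGroup.eq_one_iff _).mp h1
    have h3 : γ * y * γ⁻¹ * s⁻¹ ∈ G ⊓ Subgroup.zpowers s :=
      Subgroup.mem_inf.mpr ⟨h2, Subgroup.mul_mem _ hmem
        (Subgroup.inv_mem _ (Subgroup.mem_zpowers s))⟩
    rw [hdisj, Subgroup.mem_bot] at h3
    exact mul_inv_eq_one.mp h3
  set x' := γ * x * γ⁻¹ with hx'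
  have hx'a : x' ^ a = s := by rw [hx', conj_pow, ← hy, hconj]
  have hcomm : Commute x' s := by
    rw [← hx'a]; exact Commute.pow_right (Commute.refl x') a
  set c := x' * s⁻¹ with hc
  have hcG : c ∈ G := by
    have : c = γ * g * (s * γ⁻¹ * s⁻¹) := by rw [hc, hx', hx]; group
    rw [this]
    exact G.mul_mem (G.mul_mem hγG hg) (hGn.conj_mem _ (G.inv_mem hγG) s)
  refine ⟨γ, hγG, c, ?_, ?_⟩
  · rw [mem_fixC]
    refine ⟨hcG, ?_⟩
    rw [hc]
    have := hcomm.eq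
    calc s * (x' * s⁻¹) = (s * x') * s⁻¹ := by group
      _ = (x' * s) * s⁻¹ := by rw [this]
      _ = x' * s⁻¹ * s := by group
  · show x' = c * s
    rw [hc]; group

/-- **L3** the coset sum formula. -/
theorem coset_sum_eq (hcop : (Nat.card G).Coprime (orderOf s))
    (hgen : G ⊔ Subgroup.zpowers s = ⊤) [Fintype G] [Fintype (fixC G s)]
    (F : Γ → ℂ) (hF : ∀ γ ∈ G, ∀ x : Γ, F (γ * x * γ⁻¹) = F x) :
    (Nat.card (fixC G s) : ℂ) * ∑ g : G, F ((g : Γ) * s)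
      = (Nat.card G : ℂ) * ∑ c : fixC G s, F ((c : Γ) * s) := by
  classical
  let Φ : G × (fixC G s) → G := fun p =>
    ⟨(p.1 : Γ) * ((p.2 : Γ) * s) * (p.1 : Γ)⁻¹ * s⁻¹, by
      have h : (p.1 : Γ) * ((p.2 : Γ) * s) * (p.1 : Γ)⁻¹ * s⁻¹
          = (p.1 : Γ) * (p.2 : Γ) * (s * (p.1 : Γ)⁻¹ * s⁻¹) := by group
      rw [h]
      exact G.mul_mem (G.mul_mem p.1.2 (fixC_le G s p.2.2))
        (hGn.conj_mem _ (G.inv_mem p.1.2) s)⟩
  have hΦ : ∀ p : G × (fixC G s), ((Φ p : G) : Γ) * s = (p.1 : Γ) * ((p.2 : Γ) * s) * (p.1 : Γ)⁻¹ := by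
    intro p
    simp only [Φ]
    group
  -- Step A
  have hA : ∑ p : G × (fixC G s), F (((Φ p : G) : Γ) * s) = (Nat.card G : ℂ) * ∑ c : (fixC G s), F ((c : Γ) * s) := by
    have h1 : ∀ p : G × (fixC G s), F (((Φ p : G) : Γ) * s) = F ((p.2 : Γ) * s) := by
      intro p
      rw [hΦ p, hF _ p.1.2]
    simp only [h1]
    rw [Fintype.sum_prod_type]
    simp only [Finset.sum_const, Finset.card_univ, nsmul_eq_mul, Nat.card_eq_fintype_card]
  -- Step (fixC G s)
  have hCcard : ∀ g : G, (Finset.univ.filter (fun p : G × (fixC G s) => Φ p = g)).card = Nat.card (fixC G s) := by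
    intro g
    obtain ⟨γ₀, hγ₀, c₀, hc₀, h0⟩ := exists_conj_mem_fixC_mul hcop hgen g.2
    have hbase : (γ₀⁻¹ : Γ) * (c₀ * s) * (γ₀⁻¹)⁻¹ = (g : Γ) * s := by
      rw [← h0]; group
    let e : (fixC G s) → {p : G × (fixC G s) // Φ p = g} := fun δ =>
      ⟨(⟨γ₀⁻¹ * (δ : Γ)⁻¹, G.mul_mem (G.inv_mem hγ₀) (G.inv_mem (fixC_le G s δ.2))⟩,
        ⟨(δ : Γ) * c₀ * (δ : Γ)⁻¹, (fixC G s).mul_mem ((fixC G s).mul_mem δ.2 hc₀) ((fixC G s).inv_mem δ.2)⟩), by
        apply Subtype.ext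
        apply mul_right_cancel (b := s)
        rw [hΦ, ← hbase]
        simp only
        have hδ : s * (δ : Γ) = (δ : Γ) * s := ((mem_fixC G s).mp δ.2).2
        have hδ' : (δ : Γ)⁻¹ * s * (δ : Γ) = s := by
          rw [mul_assoc, hδ]; group
        calc γ₀⁻¹ * (δ : Γ)⁻¹ * ((δ : Γ) * c₀ * (δ : Γ)⁻¹ * s) * (γ₀⁻¹ * (δ : Γ)⁻¹)⁻¹
            = γ₀⁻¹ * (c₀ * ((δ : Γ)⁻¹ * s * (δ : Γ))) * (γ₀⁻¹)⁻¹ := by group
          _ = γ₀⁻¹ * (c₀ * s) * (γ₀⁻¹)⁻¹ := by rw [hδ']⟩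
    have hinj : Function.Injective e := by
      intro δ δ' h
      have h1 := congrArg (fun q : {p : G × (fixC G s) // Φ p = g} => ((q.1.1 : G) : Γ)) h
      simp only [e] at h1
      apply Subtype.ext
      have := mul_left_cancel h1
      exact inv_injective this
    have hsurj : Function.Surjective e := by
      rintro ⟨⟨γ, c⟩, hp⟩
      have h1 : (γ : Γ) * ((c : Γ) * s) * (γ : Γ)⁻¹ = (g : Γ) * s := by
        rw [← hΦ (γ, c), hp]
      set δ' : Γ := (γ : Γ)⁻¹ * γ₀⁻¹ with hδ'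
      have h2 : δ' * (c₀ * s) * δ'⁻¹ = (c : Γ) * s := by
        have : δ' * (c₀ * s) * δ'⁻¹ = (γ : Γ)⁻¹ * (γ₀⁻¹ * (c₀ * s) * (γ₀⁻¹)⁻¹) * (γ : Γ) := by
          rw [hδ']; group
        rw [this, hbase, ← h1]; group
      obtain ⟨h3, h4⟩ := conj_coset_mem_fixC hcop hc₀ c.2 h2
      have hδ'G : δ' ∈ G := G.mul_mem (G.inv_mem γ.2) (G.inv_mem hγ₀)
      have hδ'C : δ' ∈ (fixC G s) := by
        rw [mem_fixC]
        refine ⟨hδ'G, ?_⟩
        calc s * δ' = (δ' * s * δ'⁻¹) * δ' := by rw [h3]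
          _ = δ' * s := by group
      refine ⟨⟨δ', hδ'C⟩, ?_⟩
      apply Subtype.ext
      apply Prod.ext
      · apply Subtype.ext
        simp only [e, hδ']
        group
      · apply Subtype.ext
        simp only [e]
        exact h4
    rw [← Fintype.card_subtype, ← Nat.card_eq_fintype_card]
    exact (Nat.card_eq_of_bijective e ⟨hinj, hsurj⟩).symm
  -- Step B
  have hB : ∑ p : G × (fixC G s), F (((Φ p : G) : Γ) * s)
      = (Nat.card (fixC G s) : ℂ) * ∑ g : G, F ((g : Γ) * s) := by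
    rw [← Finset.sum_fiberwise Finset.univ Φ (fun p => F (((Φ p : G) : Γ) * s)), Finset.mul_sum]
    apply Finset.sum_congr rfl
    intro g _
    have h1 : ∀ p ∈ Finset.univ.filter (fun p : G × (fixC G s) => Φ p = g),
        F (((Φ p : G) : Γ) * s) = F ((g : Γ) * s) := by
      intro p hp
      rw [(Finset.mem_filter.mp hp).2]
    rw [Finset.sum_congr rfl h1, Finset.sum_const, hCcard g, nsmul_eq_mul]
  exact hB.symm.trans hA

/-- two fixed points of `s` in `G` that are conjugate in `G` are conjugate in `C_G(s)`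
(Glauberman's lemma for a coset). -/
theorem exists_fixC_conj (hcop : (Nat.card G).Coprime (orderOf s)) {c c' γ : Γ}
    (hc : c ∈ fixC G s) (hc' : c' ∈ fixC G s) (hγ : γ ∈ G) (h : γ * c * γ⁻¹ = c') :
    ∃ δ ∈ fixC G s, δ * c * δ⁻¹ = c' := by
  set A : Subgroup Γ := Subgroup.zpowers s with hA
  set N : Subgroup Γ := G ⊓ Subgroup.centralizer ({c} : Set Γ) with hN
  have hcs : s * c = c * s := ((mem_fixC G s).mp hc).2
  have hc's : s * c' = c' * s := ((mem_fixC G s).mp hc').2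
  have hAc : ∀ a ∈ A, a * c = c * a := by
    intro a ha
    obtain ⟨k, rfl⟩ := Subgroup.mem_zpowers_iff.mp ha
    exact (Commute.zpow_left (show Commute s c from hcs) k).eq
  have hAc' : ∀ a ∈ A, a * c' = c' * a := by
    intro a ha
    obtain ⟨k, rfl⟩ := Subgroup.mem_zpowers_iff.mp ha
    exact (Commute.zpow_left (show Commute s c' from hc's) k).eq
  have hAN : A ≤ Subgroup.normalizer (N : Set Γ) := by
    intro a ha
    rw [Subgroup.mem_normalizer_iff]
    intro n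
    rw [hN, Subgroup.mem_inf, Subgroup.mem_inf, Subgroup.mem_centralizer_singleton_iff,
      Subgroup.mem_centralizer_singleton_iff]
    have hac : Commute a c := hAc a ha
    constructor
    · rintro ⟨h1, h2⟩
      exact ⟨hGn.conj_mem n h1 a,
        ((hac.mul_left (show Commute n c from h2)).mul_left hac.inv_left).eq⟩
    · rintro ⟨h1, h2⟩
      have h3 : Commute (a⁻¹ * (a * n * a⁻¹) * a) c :=
        (hac.inv_left.mul_left (show Commute (a * n * a⁻¹) c from h2)).mul_left hac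
      have h4 : a⁻¹ * (a * n * a⁻¹) * a = n := by group
      rw [h4] at h3
      refine ⟨?_, h3.eq⟩
      have := hGn.conj_mem _ h1 a⁻¹
      rw [inv_inv, h4] at this
      exact this
  have hNG : N ≤ G := inf_le_left
  have hcopN : (Nat.card N).Coprime (Nat.card A) := by
    rw [hA, Nat.card_zpowers]
    exact Nat.Coprime.coprime_dvd_left (Subgroup.card_dvd_of_le hNG) hcop
  have hk : ∀ a ∈ A, γ⁻¹ * a * γ * a⁻¹ ∈ N := by
    intro a ha
    rw [hN, Subgroup.mem_inf, Subgroup.mem_centralizer_singleton_iff]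
    refine ⟨?_, ?_⟩
    · have : γ⁻¹ * a * γ * a⁻¹ = γ⁻¹ * (a * γ * a⁻¹) := by group
      rw [this]
      exact G.mul_mem (G.inv_mem hγ) (hGn.conj_mem _ hγ a)
    · have hac : Commute a c := hAc a ha
      have hac' := hAc' a ha
      have hc'eq : c' = γ * c * γ⁻¹ := h.symm
      have h1 : γ⁻¹ * c' * γ = c := by rw [hc'eq]; group
      have h2 : Commute (γ⁻¹ * a * γ) c := by
        rw [← h1]
        show (γ⁻¹ * a * γ) * (γ⁻¹ * c' * γ) = (γ⁻¹ * c' * γ) * (γ⁻¹ * a * γ)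
        calc (γ⁻¹ * a * γ) * (γ⁻¹ * c' * γ) = γ⁻¹ * (a * c') * γ := by group
          _ = γ⁻¹ * (c' * a) * γ := by rw [hac']
          _ = (γ⁻¹ * c' * γ) * (γ⁻¹ * a * γ) := by group
      exact (h2.mul_left hac.inv_left).eq
  have hsolv : Group.IsSolvable N ∨ Group.IsSolvable A := Or.inr inferInstance
  obtain ⟨n, hn, hnA⟩ := exists_mul_inv_normalizes hAN hcopN hsolv γ hk
  have hnG : n * γ⁻¹ ∈ G := G.mul_mem (hNG hn) (G.inv_mem hγ)
  have hGA : A ≤ Subgroup.normalizer (G : Set Γ) := by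
    rw [Subgroup.normalizer_eq_top]; exact le_top
  have hdisj : G ⊓ A = ⊥ := inf_zpowers_eq_bot hcop
  have hcent := mem_centralizer_of_conj_smul_eq hGA hdisj hnG hnA
  have hcomm : (n * γ⁻¹) * s = s * (n * γ⁻¹) :=
    (Subgroup.mem_centralizer_iff.mp hcent s (Subgroup.mem_zpowers s)).symm
  have hnc : n * c = c * n := by
    have := (Subgroup.mem_inf.mp hn).2
    rw [Subgroup.mem_centralizer_singleton_iff] at this
    exact this
  refine ⟨(n * γ⁻¹)⁻¹, ?_, ?_⟩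
  · apply Subgroup.inv_mem
    rw [mem_fixC]
    exact ⟨hnG, hcomm.symm⟩
  · have hc'eq : c' = γ * c * γ⁻¹ := h.symm
    have hn' : n⁻¹ * c * n = c := by
      calc n⁻¹ * c * n = n⁻¹ * (c * n) := by group
        _ = n⁻¹ * (n * c) := by rw [hnc]
        _ = c := by group
    calc (n * γ⁻¹)⁻¹ * c * (n * γ⁻¹)⁻¹⁻¹ = γ * (n⁻¹ * c * n) * γ⁻¹ := by group
      _ = γ * c * γ⁻¹ := by rw [hn']
      _ = c' := h

end GlaubCoset

end Cfsg.Agent.Lib.Helper04
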