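import Mathlib
import Cfsg.Agent.Lib.Helper04.GlaubCoset
import Cfsg.Agent.Lib.Helper80.DetCanon
import Cfsg.Agent.Lib.Helper80.GaloisValues
import Cfsg.Agent.Lib.Helper05.CharDegree

set_option autoImplicit false

namespace Cfsg.Agent.Lib.Helper04

open Cfsg

section GlaubGalois

variable {Γ : Type*} [Group Γ] [Finite Γ]

/-- determinant of a Galois-twisted character. -/
theorem detChar_pow_coprime {χ : Γ → ℂ} (hχ : IsCharacter Γ χ) (k : ℕ)
    (hk : k.Coprime (Nat.card Γ)) :
    detChar (fun x => χ (x ^ k)) = fun x => (detChar χ x) ^ k := by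
  obtain ⟨d, ρ, rfl⟩ := hχ
  obtain ⟨τ, hτ⟩ := Cfsg.Agent.Lib.Helper80.exists_ringEquiv_pow (Nat.card Γ) Nat.card_pos k hk
  have h1 : (fun x => ρ.character (x ^ k))
      = (Cfsg.Agent.Lib.Helper80.twistRep τ.toRingHom ρ).character := by
    funext x
    rw [Cfsg.Agent.Lib.Helper80.twistRep_character]
    exact Cfsg.Agent.Lib.Helper80.char_pow_eq_apply ⟨d, ρ, rfl⟩ k τ.toRingHom hτ x
  rw [h1, Cfsg.Agent.Lib.Helper80.detChar_character, Cfsg.Agent.Lib.Helper80.detChar_character]
  funext x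
  have h2 : LinearMap.det ((Cfsg.Agent.Lib.Helper80.twistRep τ.toRingHom ρ) x)
      = τ (LinearMap.det (ρ x)) := by
    unfold Cfsg.Agent.Lib.Helper80.twistRep
    simp only [MonoidHom.coe_mk, OneHom.coe_mk]
    rw [LinearMap.det_toLin', RingHom.mapMatrix_apply, ← LinearMap.det_toMatrix' (ρ x)]
    exact (RingHom.map_det τ.toRingHom _).symm
  rw [h2]
  apply hτ
  rw [← map_pow, ← map_pow, pow_card_eq_one', map_one, map_one]

/-- the order of the determinant of a character divides the group order. -/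
theorem detOrder_dvd_card (χ : Γ → ℂ) : detOrder χ ∣ Nat.card Γ := by
  rw [Cfsg.Agent.Lib.Helper80.detOrder_eq]
  apply orderOf_dvd_of_pow_eq_one
  ext g
  rw [MonoidHom.pow_apply, ← map_pow, pow_card_eq_one', map_one]
  rfl

variable (G : Subgroup Γ) [hGn : G.Normal] (s : Γ)

/-- **Galois invariance of the canonical extension** on the coset `C s`. -/
theorem canonical_pow_invariant (hcop : (Nat.card G).Coprime (orderOf s))
    (hgen : G ⊔ Subgroup.zpowers s = ⊤) {χh : Γ → ℂ} (hχ : IsIrrCharacter Γ χh)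
    (hχG : IsIrrCharacter G (fun g : G => χh g))
    (hcan : (detOrder χh).Coprime (orderOf s)) (k : ℕ) (hk : k.Coprime (orderOf s))
    {c : Γ} (hc : c ∈ fixC G s) : χh (c * s ^ k) = χh (c * s) := by
  classical
  have _ : Fintype Γ := Fintype.ofFinite Γ
  have hidx := index_eq_orderOf hcop hgen
  have hχc : IsCharacter Γ χh := Cfsg.Agent.Lib.Helper83.isCharacter_of_irr hχ
  -- CRT
  obtain ⟨k', hk'1, hk'2⟩ := Nat.chineseRemainder hcop.symm k 1
  have hk'n : k'.Coprime (Nat.card G) := by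
    have : Nat.gcd k' (Nat.card G) = 1 := by
      rw [Nat.ModEq.gcd_eq hk'2]; exact Nat.gcd_one_left _
    exact this
  have hk'm : k'.Coprime (orderOf s) := by
    have : Nat.gcd k' (orderOf s) = 1 := by
      rw [Nat.ModEq.gcd_eq hk'1]; exact hk
    exact this
  have hcardΓ : Nat.card Γ = Nat.card G * orderOf s := by
    rw [← hidx, Subgroup.card_mul_index]
  have hk'Γ : k'.Coprime (Nat.card Γ) := by
    rw [hcardΓ]; exact Nat.Coprime.mul_right hk'n hk'm
  have hpowG : ∀ g ∈ G, g ^ k' = g := by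
    intro g hg
    have h2 : (⟨g, hg⟩ : G) ^ Nat.card G = 1 := pow_card_eq_one'
    have h3 : g ^ Nat.card G = 1 := by
      have := congrArg Subtype.val h2
      simp only [SubmonoidClass.coe_pow, OneMemClass.coe_one] at this
      exact this
    have h4 : k' ≡ 1 [MOD orderOf g] := hk'2.of_dvd (orderOf_dvd_of_pow_eq_one h3)
    rw [← pow_one g, ← pow_mul, one_mul]
    exact pow_eq_pow_iff_modEq.mpr h4
  have hpows : s ^ k' = s ^ k := pow_eq_pow_iff_modEq.mpr hk'1
  -- the twisted character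
  set ψh : Γ → ℂ := fun x => χh (x ^ k') with hψh
  have hψ : IsIrrCharacter Γ ψh := Cfsg.Agent.Lib.Helper80.isIrrCharacter_pow_coprime hχ k' hk'Γ
  have hψres : ∀ g : G, ψh g = χh g := by
    intro g
    simp only [hψh]
    rw [hpowG g g.2]
  have hψdet : (detOrder ψh).Coprime (orderOf s) := by
    have h1 : detOrder ψh ∣ detOrder χh := by
      unfold detOrder
      rw [hψh, detChar_pow_coprime hχc k' hk'Γ]
      have : (fun x => detChar χh x ^ k') = (detChar χh) ^ k' := rfl
      rw [this]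
      exact orderOf_pow_dvd k'
    exact Nat.Coprime.coprime_dvd_left h1 hcan
  -- uniqueness of the canonical extension
  set ϑ : G → ℂ := fun g : G => χh g with hϑ
  obtain ⟨d, hdpos, hd, hddvd⟩ := Cfsg.Agent.Lib.Helper05.exists_degree_dvd hχG
  have hinv : ∀ (x : Γ) (n : G), ϑ ⟨x * n * x⁻¹, hGn.conj_mem (n : Γ) n.2 x⟩ = ϑ n := by
    intro x n
    exact Cfsg.Agent.Lib.Helper83.char_conj_eq hχc (n : Γ) x
  have hcopd : Nat.Coprime G.index (detOrder ϑ * d) := by
    rw [hidx]
    apply Nat.Coprime.symm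
    apply Nat.Coprime.mul_left
    · exact Nat.Coprime.coprime_dvd_left (detOrder_dvd_card ϑ) hcop
    · exact Nat.Coprime.coprime_dvd_left hddvd hcop
  obtain ⟨η, -, huniq⟩ := Cfsg.Agent.Lib.Helper80.exists_canonical_ext G ϑ hχG hinv d hd hcopd
  have e1 : χh = η := huniq χh hχ (fun n => rfl) (by rw [hidx]; exact hcan.symm)
  have e2 : ψh = η := huniq ψh hψ hψres (by rw [hidx]; exact hψdet.symm)
  have e3 : ψh = χh := e2.trans e1.symm
  have h5 := congrFun e3 (c * s)
  simp only [hψh] at h5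
  rw [mem_fixC] at hc
  have hcomm : Commute c s := hc.2.symm
  rw [hcomm.mul_pow, hpowG c hc.1, hpows] at h5
  exact h5

end GlaubGalois

end Cfsg.Agent.Lib.Helper04
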