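import Mathlib
import Cfsg.Agent.Lib.Helper04.GlaubGalois
import Cfsg.Agent.Lib.Helper04.Orthonormal
import Cfsg.Agent.Lib.Helper83.LinearCount
import Cfsg.Agent.Lib.Helper83.Decompose

set_option autoImplicit false

namespace Cfsg.Agent.Lib.Helper04

open scoped ComplexConjugate
open Cfsg

section GlaubInt

variable {Γ : Type*} [Group Γ] [Fintype Γ] (G : Subgroup Γ) [hGn : G.Normal] (s : Γ)

/-- values of an irreducible character on `d * z ^ k`, `z` central. -/
theorem irr_mul_central_pow {D : Type*} [Group D] [Finite D] (θ : IrrCharacter D) {z : D}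
    (hz : z ∈ Subgroup.center D) (d : D) (k : ℕ) :
    (θ : D → ℂ) (d * z ^ k) = (θ : D → ℂ) d * ((θ : D → ℂ) z / (θ : D → ℂ) 1) ^ k := by
  induction k with
  | zero => simp
  | succ k ih =>
    rw [pow_succ, ← mul_assoc, Cfsg.Agent.Lib.Helper83.irr_mul_central θ hz, ih, pow_succ]
    ring

theorem irr_central_root {D : Type*} [Group D] [Finite D] (θ : IrrCharacter D) {z : D}
    (hz : z ∈ Subgroup.center D) (m : ℕ) (hm : z ^ m = 1) :
    ((θ : D → ℂ) z / (θ : D → ℂ) 1) ^ m = 1 := by
  have h := irr_mul_central_pow θ hz 1 m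
  rw [hm, mul_one] at h
  have h1 := Cfsg.Agent.Lib.Helper83.irr_degree_ne_zero θ
  exact (mul_left_cancel₀ h1 (by rw [mul_one]; exact h)).symm

/-- the inner product of `c ↦ χh (c s)` with an irreducible character of `C` is a rational
integer, for the canonical extension `χh`. -/
theorem classInner_coset_isInt [Fintype (fixC G s)] (hcop : (Nat.card G).Coprime (orderOf s))
    (hgen : G ⊔ Subgroup.zpowers s = ⊤) {χh : Γ → ℂ} (hχ : IsIrrCharacter Γ χh)
    (hχG : IsIrrCharacter G (fun g : G => χh g))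
    (hcan : (detOrder χh).Coprime (orderOf s)) (β : IrrCharacter (fixC G s)) :
    ∃ n : ℤ, classInner (fun c : fixC G s => χh ((c : Γ) * s)) (β : fixC G s → ℂ) = (n : ℂ) := by
  classical
  have hχc : IsCharacter Γ χh := Cfsg.Agent.Lib.Helper83.isCharacter_of_irr hχ
  set D : Subgroup Γ := Subgroup.centralizer ({s} : Set Γ) with hD
  have hCD : fixC G s ≤ D := inf_le_right
  have hsD : s ∈ D := by
    rw [hD, Subgroup.mem_centralizer_singleton_iff]
  let z : D := ⟨s, hsD⟩
  have hz : z ∈ Subgroup.center D := by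
    rw [Subgroup.mem_center_iff]
    intro d
    apply Subtype.ext
    have h1 : (d : Γ) ∈ Subgroup.centralizer ({s} : Set Γ) := d.2
    rw [Subgroup.mem_centralizer_singleton_iff] at h1
    exact h1
  have hzm : z ^ orderOf s = 1 := by
    apply Subtype.ext
    simp [z, pow_orderOf_eq_one]
  have _ : Fintype D := Fintype.ofFinite D
  have _ : Fintype (IrrCharacter D) := Fintype.ofFinite _
  set ω : IrrCharacter D → ℂ := fun θ => (θ : D → ℂ) z / (θ : D → ℂ) 1 with hω
  have hωm : ∀ θ, ω θ ^ orderOf s = 1 := fun θ => irr_central_root θ hz _ hzm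
  set R : D → ℂ := fun d => χh d with hR
  have hRc : IsCharacter D R := Cfsg.Agent.Lib.Helper83.isCharacter_restrict D hχc
  have hdec := Cfsg.Agent.Lib.Helper83.char_eq_sum_irrMult hRc
  set nθ : IrrCharacter D → ℕ := fun θ => Cfsg.Agent.Lib.Helper83.irrMult R θ with hnθ
  -- restriction of θ to C
  set res : IrrCharacter D → (fixC G s → ℂ) := fun θ c => (θ : D → ℂ) ⟨c, hCD c.2⟩ with hres
  have hresc : ∀ θ, IsCharacter (fixC G s) (res θ) := fun θ =>
    Cfsg.Agent.Lib.Helper83.isCharacter_comp_hom (Subgroup.inclusion hCD)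
      (Cfsg.Agent.Lib.Helper83.IrrCharacter_isCharacter θ)
  have hM : ∀ θ, ∃ M : ℕ, classInner (res θ) (β : fixC G s → ℂ) = M := fun θ =>
    Cfsg.Agent.Lib.Helper83.classInner_char_nat (hresc θ)
      (Cfsg.Agent.Lib.Helper83.IrrCharacter_isCharacter β)
  choose M hM using hM
  -- expansion
  have hexp : ∀ (k : ℕ), (fun c : fixC G s => χh ((c : Γ) * s ^ k))
      = ∑ θ : IrrCharacter D, ((nθ θ : ℂ) * ω θ ^ k) • res θ := by
    intro k
    funext c
    have h1 : χh ((c : Γ) * s ^ k) = R ((⟨c, hCD c.2⟩ : D) * z ^ k) := by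
      simp [hR, z]
    rw [h1, hdec, Finset.sum_apply, Finset.sum_apply]
    apply Finset.sum_congr rfl
    intro θ _
    rw [Pi.smul_apply, Pi.smul_apply, irr_mul_central_pow θ hz]
    simp only [smul_eq_mul, hres, hω, hnθ]
    ring
  have hA : ∀ k : ℕ, classInner (fun c : fixC G s => χh ((c : Γ) * s ^ k)) (β : fixC G s → ℂ)
      = ∑ θ : IrrCharacter D, ((nθ θ * M θ : ℕ) : ℂ) * ω θ ^ k := by
    intro k
    rw [hexp k, classInner_sum_left]
    apply Finset.sum_congr rfl
    intro θ _
    rw [classInner_smul_left, hM θ]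
    push_cast
    ring
  -- the family of roots of unity
  let ι := Σ θ : IrrCharacter D, Fin (nθ θ * M θ)
  let μ : ι → ℂ := fun i => ω i.1
  have hμsum : ∀ k : ℕ, ∑ i : ι, μ i ^ k = ∑ θ : IrrCharacter D, ((nθ θ * M θ : ℕ) : ℂ) * ω θ ^ k := by
    intro k
    rw [Fintype.sum_sigma]
    apply Finset.sum_congr rfl
    intro θ _
    simp only [μ, Finset.sum_const, Finset.card_univ, Fintype.card_fin, nsmul_eq_mul]
  have hpos : 0 < orderOf s := orderOf_pos s
  have hinv : ∀ k : ℕ, k.Coprime (orderOf s) → ∑ i, μ i ^ k = ∑ i, μ i := by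
    intro k hk
    have h1 := hμsum k
    have h2 := hμsum 1
    simp only [pow_one] at h2
    rw [h1, h2, ← hA k]
    have h3 := hA 1
    simp only [pow_one] at h3
    rw [← h3]
    congr 1
    funext c
    exact canonical_pow_invariant G s hcop hgen hχ hχG hcan k hk c.2
  obtain ⟨q, hq⟩ := Cfsg.Agent.Lib.Helper80.exists_rat_of_pow_invariant (orderOf s) hpos μ
    (fun i => hωm i.1) hinv
  have hint : IsIntegral ℤ (∑ i, μ i) := by
    apply IsIntegral.sum
    intro i _
    apply IsIntegral.of_pow hpos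
    rw [hωm i.1]
    exact isIntegral_one
  rw [hq] at hint
  have h4 : IsIntegral ℤ q := by
    have := (isIntegral_algebraMap_iff (R := ℤ) (A := ℚ) (B := ℂ)
      (algebraMap ℚ ℂ).injective (x := q)).1
    exact this (by simpa using hint)
  obtain ⟨n, hn⟩ := IsIntegrallyClosed.isIntegral_iff.1 h4
  refine ⟨n, ?_⟩
  have h5 := hA 1
  simp only [pow_one] at h5
  have h6 := hμsum 1
  simp only [pow_one] at h6
  rw [h5, ← h6, hq, ← hn]
  simp

end GlaubInt

end Cfsg.Agent.Lib.Helper04
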