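import Mathlib
import Cfsg.Agent.Lib.Helper04.GlaubCoset
import Cfsg.Agent.Lib.Helper04.Basis
import Cfsg.Agent.Lib.Helper04.Orthonormal
import Cfsg.Agent.Lib.Helper85.Gallagher
import Cfsg.Agent.Lib.Helper83.Abelian

set_option autoImplicit false

namespace Cfsg.Agent.Lib.Helper04

open scoped ComplexConjugate
open Cfsg

section GlaubOrtho

variable {Γ : Type*} [Group Γ] [Fintype Γ] (G : Subgroup Γ) [hGn : G.Normal] [Fintype G] (s : Γ)

/-- the quotient by `G` is commutative when `Γ = G ⟨s⟩`. -/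
theorem quotient_comm (hgen : G ⊔ Subgroup.zpowers s = ⊤) (a b : Γ ⧸ G) : a * b = b * a := by
  obtain ⟨x, rfl⟩ := QuotientGroup.mk_surjective a
  obtain ⟨y, rfl⟩ := QuotientGroup.mk_surjective b
  obtain ⟨g, hg, k, rfl⟩ := exists_mul_zpow hgen x
  obtain ⟨g', hg', k', rfl⟩ := exists_mul_zpow hgen y
  have h1 : ((g : Γ) : Γ ⧸ G) = 1 := (QuotientGroup.eq_one_iff g).mpr hg
  have h2 : ((g' : Γ) : Γ ⧸ G) = 1 := (QuotientGroup.eq_one_iff g').mpr hg'
  rw [QuotientGroup.mk_mul, QuotientGroup.mk_mul, h1, h2, one_mul, one_mul, QuotientGroup.mk_zpow,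
    QuotientGroup.mk_zpow]
  exact (Commute.zpow_zpow_self _ k k').eq

/-- sum over the coset `G s` as a sum over `Γ` with an indicator. -/
theorem sum_coset_eq (f : Γ → ℂ) [DecidablePred fun x : Γ => (x : Γ ⧸ G) = (s : Γ ⧸ G)] :
    ∑ g : G, f ((g : Γ) * s) = ∑ x : Γ, if (x : Γ ⧸ G) = (s : Γ ⧸ G) then f x else 0 := by
  classical
  rw [← Finset.sum_filter]
  apply Finset.sum_bij (fun (g : G) _ => (g : Γ) * s)
  · intro g _
    rw [Finset.mem_filter]
    refine ⟨Finset.mem_univ _, ?_⟩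
    rw [QuotientGroup.mk_mul, (QuotientGroup.eq_one_iff (g : Γ)).mpr g.2, one_mul]
  · intro g _ g' _ h
    exact Subtype.ext (mul_right_cancel h)
  · intro x hx
    rw [Finset.mem_filter] at hx
    have h1 : x * s⁻¹ ∈ G := by
      rw [← QuotientGroup.eq_one_iff, QuotientGroup.mk_mul, hx.2, QuotientGroup.mk_inv,
        mul_inv_cancel]
    exact ⟨⟨x * s⁻¹, h1⟩, Finset.mem_univ _, by simp⟩
  · intro g _; rfl

variable {G s}

/-- **Coset orthogonality** (Isaacs 8.14), general form. -/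
theorem coset_sum_eq_sum_inner (hgen : G ⊔ Subgroup.zpowers s = ⊤) [Fintype (IrrCharacter (Γ ⧸ G))]
    (χh ψh : Γ → ℂ) :
    (Nat.card (Γ ⧸ G) : ℂ) * ∑ g : G, χh ((g : Γ) * s) * conj (ψh ((g : Γ) * s))
      = (Nat.card Γ : ℂ) * ∑ β : IrrCharacter (Γ ⧸ G), conj ((β : Γ ⧸ G → ℂ) (s : Γ ⧸ G)) *
          classInner (fun x : Γ => (β : Γ ⧸ G → ℂ) (x : Γ ⧸ G) * χh x) ψh := by
  classical
  have _ : Fintype (Γ ⧸ G) := Fintype.ofFinite _
  have hcol : ∀ x : Γ, ∑ β : IrrCharacter (Γ ⧸ G), (β : Γ ⧸ G → ℂ) (x : Γ ⧸ G) *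
      conj ((β : Γ ⧸ G → ℂ) (s : Γ ⧸ G))
        = if (x : Γ ⧸ G) = (s : Γ ⧸ G) then (Nat.card (Γ ⧸ G) : ℂ) else 0 := by
    intro x
    have h := column_orthogonality (G := Γ ⧸ G) (x : Γ ⧸ G) (s : Γ ⧸ G)
    rw [finsum_eq_sum_of_fintype] at h
    split_ifs with hx
    · have h1 := h.1 (by rw [hx])
      rw [h1]
      have : Subgroup.centralizer ({(x : Γ ⧸ G)} : Set (Γ ⧸ G)) = ⊤ := by
        ext y
        simp only [Subgroup.mem_centralizer_singleton_iff, Subgroup.mem_top, iff_true]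
        exact quotient_comm G s hgen _ _
      rw [this, Subgroup.card_top]
    · apply h.2
      intro hc
      rw [isConj_iff] at hc
      obtain ⟨c, hc⟩ := hc
      apply hx
      rw [← hc, quotient_comm G s hgen c, mul_assoc, mul_inv_cancel, mul_one]
  rw [sum_coset_eq G s (fun x => χh x * conj (ψh x)), Finset.mul_sum]
  have h1 : ∀ x : Γ, (Nat.card (Γ ⧸ G) : ℂ) * (if (x : Γ ⧸ G) = (s : Γ ⧸ G)
      then χh x * conj (ψh x) else 0)
      = ∑ β : IrrCharacter (Γ ⧸ G), conj ((β : Γ ⧸ G → ℂ) (s : Γ ⧸ G)) *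
        (((β : Γ ⧸ G → ℂ) (x : Γ ⧸ G) * χh x) * conj (ψh x)) := by
    intro x
    have h2 : ∑ β : IrrCharacter (Γ ⧸ G), conj ((β : Γ ⧸ G → ℂ) (s : Γ ⧸ G)) *
        (((β : Γ ⧸ G → ℂ) (x : Γ ⧸ G) * χh x) * conj (ψh x))
        = (∑ β : IrrCharacter (Γ ⧸ G), (β : Γ ⧸ G → ℂ) (x : Γ ⧸ G) *
            conj ((β : Γ ⧸ G → ℂ) (s : Γ ⧸ G))) * (χh x * conj (ψh x)) := by
      rw [Finset.sum_mul]
      apply Finset.sum_congr rfl
      intro β _
      ring
    rw [h2, hcol x]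
    split_ifs <;> simp
  rw [Finset.sum_congr rfl (fun x _ => h1 x), Finset.sum_comm, Finset.mul_sum]
  apply Finset.sum_congr rfl
  intro β _
  rw [classInner, ← Finset.mul_sum]
  have hΓ : (Nat.card Γ : ℂ) ≠ 0 := by
    have : Nat.card Γ ≠ 0 := Nat.card_pos.ne'
    exact_mod_cast this
  field_simp

/-- coset orthogonality: the norm. -/
theorem coset_inner_self (hgen : G ⊔ Subgroup.zpowers s = ⊤) {χh : Γ → ℂ}
    (hχ : IsIrrCharacter Γ χh) (hχG : IsIrrCharacter G (fun g : G => χh g)) :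
    ∑ g : G, χh ((g : Γ) * s) * conj (χh ((g : Γ) * s)) = (Nat.card G : ℂ) := by
  classical
  have _ : Fintype (Γ ⧸ G) := Fintype.ofFinite _
  have _ : Fintype (IrrCharacter (Γ ⧸ G)) := Fintype.ofFinite _
  have h := coset_sum_eq_sum_inner hgen χh χh
  let one : IrrCharacter (Γ ⧸ G) := ⟨fun _ => 1, Cfsg.Agent.Lib.Helper05.isIrrCharacter_one⟩
  have hone : (fun x : Γ => (one : Γ ⧸ G → ℂ) (x : Γ ⧸ G) * χh x) = χh := by
    funext x; simp [one]
  have h1 : ∀ β : IrrCharacter (Γ ⧸ G),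
      classInner (fun x : Γ => (β : Γ ⧸ G → ℂ) (x : Γ ⧸ G) * χh x) χh
        = if β = one then 1 else 0 := by
    intro β
    have := Cfsg.Agent.Lib.Helper85.gallagher_inner G hχ hχG β one
    rw [hone] at this
    exact this
  simp only [h1] at h
  rw [Finset.sum_eq_single one] at h
  · simp only [if_true, mul_one] at h
    have h2 : conj ((one : Γ ⧸ G → ℂ) (s : Γ ⧸ G)) = 1 := by simp [one]
    rw [h2, mul_one] at h
    have h3 : (Nat.card Γ : ℂ) = (Nat.card (Γ ⧸ G) : ℂ) * (Nat.card G : ℂ) := by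
      rw [← Nat.cast_mul, ← Subgroup.index_eq_card, mul_comm, Subgroup.card_mul_index]
    rw [h3] at h
    have hQ : (Nat.card (Γ ⧸ G) : ℂ) ≠ 0 := by
      have : Nat.card (Γ ⧸ G) ≠ 0 := Nat.card_pos.ne'
      exact_mod_cast this
    exact mul_left_cancel₀ hQ h
  · intro β _ hβ
    rw [if_neg hβ, mul_zero]
  · intro h0
    exact absurd (Finset.mem_univ _) h0

/-- coset orthogonality: different restrictions. -/
theorem coset_inner_ne (hgen : G ⊔ Subgroup.zpowers s = ⊤) {χh ψh : Γ → ℂ}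
    (hχ : IsIrrCharacter Γ χh) (hχG : IsIrrCharacter G (fun g : G => χh g))
    (hψ : IsIrrCharacter Γ ψh) (hne : (fun g : G => χh g) ≠ (fun g : G => ψh g)) :
    ∑ g : G, χh ((g : Γ) * s) * conj (ψh ((g : Γ) * s)) = 0 := by
  classical
  have _ : Fintype (Γ ⧸ G) := Fintype.ofFinite _
  have _ : Fintype (IrrCharacter (Γ ⧸ G)) := Fintype.ofFinite _
  have h := coset_sum_eq_sum_inner hgen χh ψh
  have hgal := (Cfsg.Agent.Lib.Helper85.gallagher G hχ hχG).1
  have h1 : ∀ β : IrrCharacter (Γ ⧸ G),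
      classInner (fun x : Γ => (β : Γ ⧸ G → ℂ) (x : Γ ⧸ G) * χh x) ψh = 0 := by
    intro β
    rw [classInner_irr _ _ (hgal β) hψ, if_neg]
    intro heq
    apply hne
    funext g
    have h2 : (β : Γ ⧸ G → ℂ) ((g : Γ) : Γ ⧸ G) * χh g = ψh g := congrFun heq (g : Γ)
    rw [(QuotientGroup.eq_one_iff (g : Γ)).mpr g.2,
      Cfsg.Agent.Lib.Helper83.irr_degree_one_of_comm (quotient_comm G s hgen) β, one_mul] at h2
    exact h2
  simp only [h1, mul_zero, Finset.sum_const_zero] at h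
  have hQ : (Nat.card (Γ ⧸ G) : ℂ) ≠ 0 := by
    have : Nat.card (Γ ⧸ G) ≠ 0 := Nat.card_pos.ne'
    exact_mod_cast this
  rcases mul_eq_zero.mp h with h' | h'
  · exact absurd h' hQ
  · exact h'

end GlaubOrtho

end Cfsg.Agent.Lib.Helper04
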