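import Mathlib
import Cfsg.Agent.Lib.Helper04.GlaubInt
import Cfsg.Agent.Lib.Helper04.GlaubOrtho
import Cfsg.Agent.Lib.Helper05.BrauerPerm

set_option autoImplicit false

namespace Cfsg.Agent.Lib.Helper04

open scoped ComplexConjugate
open Cfsg

section GlaubMain

variable {Γ : Type*} [Group Γ] [Fintype Γ] (G : Subgroup Γ) [hGn : G.Normal] [Fintype G] (s : Γ)
  [Fintype (fixC G s)]

/-- `c ↦ χh (c s)` is a class function on `C`. -/
theorem coset_isClassFunction {χh : Γ → ℂ} (hχ : IsCharacter Γ χh) :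
    IsClassFunction (fixC G s) (fun c : fixC G s => χh ((c : Γ) * s)) := by
  intro g h
  have hh : s * (h : Γ) = (h : Γ) * s := ((mem_fixC G s).mp h.2).2
  have h1 : ((h * g * h⁻¹ : fixC G s) : Γ) * s = (h : Γ) * ((g : Γ) * s) * (h : Γ)⁻¹ := by
    simp only [Subgroup.coe_mul, Subgroup.coe_inv]
    calc (h : Γ) * g * (h : Γ)⁻¹ * s = (h : Γ) * g * ((h : Γ)⁻¹ * (s * h)) * (h : Γ)⁻¹ := by
          group
      _ = (h : Γ) * g * ((h : Γ)⁻¹ * (h * s)) * (h : Γ)⁻¹ := by rw [hh]
      _ = (h : Γ) * ((g : Γ) * s) * (h : Γ)⁻¹ := by group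
  show χh (((h * g * h⁻¹ : fixC G s) : Γ) * s) = χh ((g : Γ) * s)
  rw [h1]
  exact Cfsg.Agent.Lib.Helper83.char_conj_eq hχ _ _

variable {G s}

/-- the inner product on `C` of two coset functions is the coset inner product. -/
theorem classInner_coset (hcop : (Nat.card G).Coprime (orderOf s))
    (hgen : G ⊔ Subgroup.zpowers s = ⊤) {χh ψh : Γ → ℂ} (hχ : IsCharacter Γ χh)
    (hψ : IsCharacter Γ ψh) :
    classInner (fun c : fixC G s => χh ((c : Γ) * s)) (fun c : fixC G s => ψh ((c : Γ) * s))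
      = (Nat.card G : ℂ)⁻¹ * ∑ g : G, χh ((g : Γ) * s) * conj (ψh ((g : Γ) * s)) := by
  have h := coset_sum_eq hcop hgen (fun x => χh x * conj (ψh x)) (by
    intro γ _ x
    rw [Cfsg.Agent.Lib.Helper83.char_conj_eq hχ, Cfsg.Agent.Lib.Helper83.char_conj_eq hψ])
  rw [classInner]
  have hC : (Nat.card (fixC G s) : ℂ) ≠ 0 := by
    have : Nat.card (fixC G s) ≠ 0 := Nat.card_pos.ne'
    exact_mod_cast this
  have hG : (Nat.card G : ℂ) ≠ 0 := by
    have : Nat.card G ≠ 0 := Nat.card_pos.ne'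
    exact_mod_cast this
  field_simp
  linear_combination -h

/-- **Glauberman correspondence, cyclic case, existence of `β` and `ε`.** -/
theorem exists_sign_irr (hcop : (Nat.card G).Coprime (orderOf s))
    (hgen : G ⊔ Subgroup.zpowers s = ⊤) {χh : Γ → ℂ} (hχ : IsIrrCharacter Γ χh)
    (hχG : IsIrrCharacter G (fun g : G => χh g))
    (hcan : (detOrder χh).Coprime (orderOf s)) :
    ∃ (β : IrrCharacter (fixC G s)) (ε : ℤ), (ε = 1 ∨ ε = -1) ∧
      ∀ c : fixC G s, χh ((c : Γ) * s) = (ε : ℂ) * (β : fixC G s → ℂ) c := by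
  classical
  have hχc : IsCharacter Γ χh := Cfsg.Agent.Lib.Helper83.isCharacter_of_irr hχ
  have _ : Fintype (IrrCharacter (fixC G s)) := Fintype.ofFinite _
  set ξ : fixC G s → ℂ := fun c => χh ((c : Γ) * s) with hξ
  have hcl : IsClassFunction (fixC G s) ξ := coset_isClassFunction G s hχc
  have hnorm : classInner ξ ξ = 1 := by
    rw [hξ, classInner_coset hcop hgen hχc hχc, coset_inner_self hgen hχ hχG]
    have hG : (Nat.card G : ℂ) ≠ 0 := by
      have : Nat.card G ≠ 0 := Nat.card_pos.ne'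
      exact_mod_cast this
    exact inv_mul_cancel₀ hG
  have hint : ∀ β : IrrCharacter (fixC G s), ∃ n : ℤ, classInner ξ (β : fixC G s → ℂ) = n :=
    fun β => classInner_coset_isInt G s hcop hgen hχ hχG hcan β
  choose n hn using hint
  have hexp := classFunction_expansion ξ hcl
  simp only [hn] at hexp
  have hnorm2 := Cfsg.Agent.Lib.Helper83.classInner_sum_irr_self (G := fixC G s)
    (fun β => ((n β : ℤ) : ℂ))
  rw [← hexp, hnorm] at hnorm2
  have hsq : ∑ β : IrrCharacter (fixC G s), (n β) ^ 2 = 1 := by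
    have : ((∑ β : IrrCharacter (fixC G s), (n β) ^ 2 : ℤ) : ℂ) = 1 := by
      push_cast
      rw [hnorm2]
      apply Finset.sum_congr rfl
      intro β _
      rw [map_intCast, sq]
    exact_mod_cast this
  -- some coefficient is nonzero
  obtain ⟨β₀, hβ₀⟩ : ∃ β₀, n β₀ ≠ 0 := by
    by_contra hall
    push Not at hall
    simp only [hall] at hsq
    simp at hsq
  have hrest : ∀ β, β ≠ β₀ → n β = 0 := by
    intro β hβ
    by_contra hne
    have h1 : (n β₀) ^ 2 + (n β) ^ 2 ≤ ∑ β : IrrCharacter (fixC G s), (n β) ^ 2 := by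
      have : ({β₀, β} : Finset (IrrCharacter (fixC G s))) ⊆ Finset.univ := Finset.subset_univ _
      have h2 := Finset.sum_le_sum_of_subset_of_nonneg (f := fun β => (n β) ^ 2) this
        (fun i _ _ => sq_nonneg _)
      rw [Finset.sum_pair (Ne.symm hβ)] at h2
      exact h2
    have h3 : 1 ≤ (n β₀) ^ 2 := by
      have := sq_nonneg (n β₀)
      have h4 : (n β₀) ^ 2 ≠ 0 := pow_ne_zero 2 hβ₀
      omega
    have h5 : 1 ≤ (n β) ^ 2 := by
      have := sq_nonneg (n β)
      have h4 : (n β) ^ 2 ≠ 0 := pow_ne_zero 2 hne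
      omega
    omega
  have hβ₀sq : (n β₀) ^ 2 = 1 := by
    rw [Finset.sum_eq_single β₀ (fun β _ hβ => by rw [hrest β hβ]; simp)
      (fun h => absurd (Finset.mem_univ _) h)] at hsq
    exact hsq
  have hε : n β₀ = 1 ∨ n β₀ = -1 := by
    have : (n β₀ - 1) * (n β₀ + 1) = 0 := by ring_nf; rw [hβ₀sq]; ring
    rcases mul_eq_zero.mp this with h | h
    · left; omega
    · right; omega
  refine ⟨β₀, n β₀, hε, ?_⟩
  intro c
  have h1 := congrFun hexp c
  rw [Finset.sum_apply, Finset.sum_eq_single β₀ (fun β _ hβ => by rw [hrest β hβ]; simp)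
    (fun h => absurd (Finset.mem_univ _) h)] at h1
  rw [Pi.smul_apply, smul_eq_mul] at h1
  exact h1

/-- injectivity: canonical extensions with different restrictions to `G` cannot yield the same
character of `C`. -/
theorem coset_irr_ne (hcop : (Nat.card G).Coprime (orderOf s))
    (hgen : G ⊔ Subgroup.zpowers s = ⊤) {χh ψh : Γ → ℂ}
    (hχ : IsIrrCharacter Γ χh) (hχG : IsIrrCharacter G (fun g : G => χh g))
    (hψ : IsIrrCharacter Γ ψh)
    (β : IrrCharacter (fixC G s)) (ε ε' : ℤ) (hε : ε = 1 ∨ ε = -1) (hε' : ε' = 1 ∨ ε' = -1)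
    (h1 : ∀ c : fixC G s, χh ((c : Γ) * s) = (ε : ℂ) * (β : fixC G s → ℂ) c)
    (h2 : ∀ c : fixC G s, ψh ((c : Γ) * s) = (ε' : ℂ) * (β : fixC G s → ℂ) c) :
    (fun g : G => χh g) = (fun g : G => ψh g) := by
  classical
  by_contra hne
  have hχc : IsCharacter Γ χh := Cfsg.Agent.Lib.Helper83.isCharacter_of_irr hχ
  have hψc : IsCharacter Γ ψh := Cfsg.Agent.Lib.Helper83.isCharacter_of_irr hψ
  have h3 := classInner_coset hcop hgen hχc hψc
  rw [coset_inner_ne hgen hχ hχG hψ hne, mul_zero] at h3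
  have h4 : (fun c : fixC G s => χh ((c : Γ) * s)) = (ε : ℂ) • (β : fixC G s → ℂ) := by
    funext c; rw [h1 c]; rfl
  have h5 : (fun c : fixC G s => ψh ((c : Γ) * s)) = (ε' : ℂ) • (β : fixC G s → ℂ) := by
    funext c; rw [h2 c]; rfl
  rw [h4, h5, classInner_smul_left, Cfsg.Agent.Lib.Helper83.classInner_smul_right,
    Cfsg.Agent.Lib.Helper83.irr_orthonormal, if_pos rfl, mul_one] at h3
  rcases hε with rfl | rfl <;> rcases hε' with rfl | rfl <;> simp at h3

end GlaubMain

end Cfsg.Agent.Lib.Helper04
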