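import Mathlib
import Cfsg.Agent.Lib.Helper04.GlaubMain
import Cfsg.Agent.Lib.Helper04.Basis
import Cfsg.Agent.Lib.Helper84.NormalAction
import Cfsg.Agent.Lib.Helper05.CharDegree
import Cfsg.Agent.Lib.Helper80.DetCanon

set_option autoImplicit false

namespace Cfsg.Agent.Lib.Helper04

open scoped ComplexConjugate
open Cfsg

section GlaubCount

variable {Γ : Type*} [Group Γ] [Fintype Γ] (G : Subgroup Γ) [hGn : G.Normal] [Fintype G] (s : Γ)
  [Fintype (fixC G s)]

/-- if `β` occurs in `c ↦ χh (c s)` then it occurs in the restriction of `χh` to `C`. -/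
theorem res_ne_zero_of_coset_ne_zero {χh : Γ → ℂ} (hχc : IsCharacter Γ χh)
    (β : IrrCharacter (fixC G s))
    (h : classInner (fun c : fixC G s => χh ((c : Γ) * s)) (β : fixC G s → ℂ) ≠ 0) :
    classInner (fun c : fixC G s => χh (c : Γ)) (β : fixC G s → ℂ) ≠ 0 := by
  classical
  set D : Subgroup Γ := Subgroup.centralizer ({s} : Set Γ) with hD
  have hCD : fixC G s ≤ D := inf_le_right
  have hsD : s ∈ D := by
    rw [hD, Subgroup.mem_centralizer_singleton_iff]
  let z : D := ⟨s, hsD⟩
  have hz : z ∈ Subgroup.center D := by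
    rw [Subgroup.mem_center_iff]
    intro d
    apply Subtype.ext
    have h1 : (d : Γ) ∈ Subgroup.centralizer ({s} : Set Γ) := d.2
    rw [Subgroup.mem_centralizer_singleton_iff] at h1
    exact h1
  have _ : Fintype D := Fintype.ofFinite D
  have _ : Fintype (IrrCharacter D) := Fintype.ofFinite _
  set ω : IrrCharacter D → ℂ := fun θ => (θ : D → ℂ) z / (θ : D → ℂ) 1 with hω
  set R : D → ℂ := fun d => χh d with hR
  have hRc : IsCharacter D R := Cfsg.Agent.Lib.Helper83.isCharacter_restrict D hχc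
  have hdec := Cfsg.Agent.Lib.Helper83.char_eq_sum_irrMult hRc
  set nθ : IrrCharacter D → ℕ := fun θ => Cfsg.Agent.Lib.Helper83.irrMult R θ with hnθ
  set res : IrrCharacter D → (fixC G s → ℂ) := fun θ c => (θ : D → ℂ) ⟨c, hCD c.2⟩ with hres
  have hresc : ∀ θ, IsCharacter (fixC G s) (res θ) := fun θ =>
    Cfsg.Agent.Lib.Helper83.isCharacter_comp_hom (Subgroup.inclusion hCD)
      (Cfsg.Agent.Lib.Helper83.IrrCharacter_isCharacter θ)
  have hM : ∀ θ, ∃ M : ℕ, classInner (res θ) (β : fixC G s → ℂ) = M := fun θ =>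
    Cfsg.Agent.Lib.Helper83.classInner_char_nat (hresc θ)
      (Cfsg.Agent.Lib.Helper83.IrrCharacter_isCharacter β)
  choose M hM using hM
  have hexp : ∀ (k : ℕ), (fun c : fixC G s => χh ((c : Γ) * s ^ k))
      = ∑ θ : IrrCharacter D, ((nθ θ : ℂ) * ω θ ^ k) • res θ := by
    intro k
    funext c
    have h1 : χh ((c : Γ) * s ^ k) = R ((⟨c, hCD c.2⟩ : D) * z ^ k) := by
      simp [hR, z]
    rw [h1, hdec, Finset.sum_apply, Finset.sum_apply]
    apply Finset.sum_congr rfl
    intro θ _
    rw [Pi.smul_apply, Pi.smul_apply, irr_mul_central_pow θ hz]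
    simp only [smul_eq_mul, hres, hω, hnθ]
    ring
  have hA : ∀ k : ℕ, classInner (fun c : fixC G s => χh ((c : Γ) * s ^ k)) (β : fixC G s → ℂ)
      = ∑ θ : IrrCharacter D, ((nθ θ * M θ : ℕ) : ℂ) * ω θ ^ k := by
    intro k
    rw [hexp k, classInner_sum_left]
    apply Finset.sum_congr rfl
    intro θ _
    rw [classInner_smul_left, hM θ]
    push_cast
    ring
  have h0 := hA 0
  have h1 := hA 1
  simp only [pow_zero, mul_one, pow_one] at h0 h1
  rw [h0]
  intro hzero
  apply h
  rw [h1]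
  have h2 : (∑ θ : IrrCharacter D, nθ θ * M θ) = 0 := by
    have : ((∑ θ : IrrCharacter D, nθ θ * M θ : ℕ) : ℂ) = 0 := by
      rw [← hzero]; push_cast; rfl
    exact_mod_cast this
  have h3 : ∀ θ, nθ θ * M θ = 0 := fun θ =>
    (Finset.sum_eq_zero_iff.mp h2) θ (Finset.mem_univ _)
  apply Finset.sum_eq_zero
  intro θ _
  rw [h3 θ]; simp

/-- `s`-invariance of a function on `G`. -/
def SInv (χ : G → ℂ) : Prop := ∀ g : G, χ ((MulAut.conjNormal s : MulAut G) g) = χ g

variable {G s}

/-- an `s`-invariant character of `G` is `Γ`-invariant. -/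
theorem SInv.all (hgen : G ⊔ Subgroup.zpowers s = ⊤) {χ : G → ℂ} (hχ : IsCharacter G χ)
    (h : SInv G s χ) (γ : Γ) (n : G) :
    χ ⟨γ * n * γ⁻¹, hGn.conj_mem (n : Γ) n.2 γ⟩ = χ n := by
  let T : Subgroup Γ :=
    { carrier := {γ | ∀ n : G, χ ((MulAut.conjNormal γ : MulAut G) n) = χ n}
      one_mem' := by
        intro n
        simp
      mul_mem' := by
        intro a b ha hb n
        rw [map_mul, MulAut.mul_apply, ha, hb]
      inv_mem' := by
        intro a ha n
        have := ha ((MulAut.conjNormal a⁻¹ : MulAut G) n)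
        rw [← MulAut.mul_apply, ← map_mul, mul_inv_cancel, map_one, MulAut.one_apply] at this
        exact this.symm }
  have hGT : G ≤ T := by
    intro g hg n
    have h1 : (MulAut.conjNormal g : MulAut G) n = (⟨g, hg⟩ : G) * n * (⟨g, hg⟩ : G)⁻¹ := by
      apply Subtype.ext
      simp [MulAut.conjNormal_apply]
    rw [h1]
    exact Cfsg.Agent.Lib.Helper83.char_conj_eq hχ _ _
  have hsT : Subgroup.zpowers s ≤ T := by
    rw [Subgroup.zpowers_le]
    exact h
  have hT : γ ∈ T := by
    have : (⊤ : Subgroup Γ) ≤ T := hgen ▸ sup_le hGT hsT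
    exact this (Subgroup.mem_top γ)
  have h2 := hT n
  have h3 : (MulAut.conjNormal γ : MulAut G) n = ⟨γ * n * γ⁻¹, hGn.conj_mem (n : Γ) n.2 γ⟩ := by
    apply Subtype.ext
    simp [MulAut.conjNormal_apply]
  rw [h3] at h2
  exact h2

/-- existence of the canonical extension. -/
theorem exists_canonical (hcop : (Nat.card G).Coprime (orderOf s))
    (hgen : G ⊔ Subgroup.zpowers s = ⊤) (χ : IrrCharacter G) (h : SInv G s (χ : G → ℂ)) :
    ∃ χh : Γ → ℂ, IsIrrCharacter Γ χh ∧ (∀ g : G, χh g = (χ : G → ℂ) g) ∧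
      (detOrder χh).Coprime (orderOf s) := by
  have hidx := index_eq_orderOf hcop hgen
  obtain ⟨d, _, hd1, hd2⟩ := Cfsg.Agent.Lib.Helper05.exists_degree_dvd χ.2
  have hdet : detOrder (χ : G → ℂ) ∣ Nat.card G := detOrder_dvd_card _
  have hc : Nat.Coprime G.index (detOrder (χ : G → ℂ) * d) := by
    rw [hidx]
    exact (Nat.Coprime.mul_left (hcop.coprime_dvd_left hdet) (hcop.coprime_dvd_left hd2)).symm
  obtain ⟨χh, ⟨h1, h2, h3⟩, _⟩ := Cfsg.Agent.Lib.Helper80.exists_canonical_ext G (χ : G → ℂ) χ.2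
    (fun γ n => SInv.all hgen (Cfsg.Agent.Lib.Helper83.IrrCharacter_isCharacter χ) h γ n) d hd1 hc
  refine ⟨χh, h1, h2, ?_⟩
  rw [h3]
  exact hcop.coprime_dvd_left hdet

/-- counting: there are at least as many `s`-invariant irreducible characters of `G` as
irreducible characters of `C`. -/
theorem card_irr_fixC_le (hcop : (Nat.card G).Coprime (orderOf s)) :
    Nat.card (IrrCharacter (fixC G s)) ≤
      Nat.card {χ : IrrCharacter G // SInv G s (χ : G → ℂ)} := by
  classical
  have _ : Fintype (IrrCharacter G) := Fintype.ofFinite _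
  set f : G → G := fun g => (MulAut.conjNormal s : MulAut G) g with hf
  have hB := Cfsg.Agent.Lib.Helper05.card_fixed_irr_eq_card_fixed_classes f
    (fun g h hgh => ((MulAut.conjNormal s : MulAut G).toMonoidHom.map_isConj hgh))
    (fun χ => Cfsg.Agent.Lib.Helper84.isIrrCharacter_comp_mulEquiv
      (MulAut.conjNormal s : MulAut G) χ.2)
  have hE : Nat.card {χ : IrrCharacter G // SInv G s (χ : G → ℂ)} =
      Nat.card {χ : Cfsg.IrrCharacter G // (fun g => (χ : G → ℂ) (f g)) = (χ : G → ℂ)} := by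
    apply Nat.card_congr
    apply Equiv.subtypeEquivRight
    intro χ
    constructor
    · intro h
      funext g
      exact h g
    · intro h g
      exact congrFun h g
  rw [hE, hB, card_irr_eq_card_conjClasses]
  have hfix : ∀ c : fixC G s, f (Subgroup.inclusion (fixC_le G s) c) =
      Subgroup.inclusion (fixC_le G s) c := by
    intro c
    apply Subtype.ext
    have h1 : s * (c : Γ) = (c : Γ) * s := ((mem_fixC G s).mp c.2).2
    simp only [hf, MulAut.conjNormal_apply, Subgroup.coe_inclusion]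
    rw [h1, mul_inv_cancel_right]
  let Φ : ConjClasses (fixC G s) →
      {K : ConjClasses G // ∀ g, ConjClasses.mk g = K → IsConj (f g) g} := fun K =>
    ⟨ConjClasses.map (Subgroup.inclusion (fixC_le G s)) K, by
      obtain ⟨c, rfl⟩ := ConjClasses.exists_rep K
      intro g hg
      have h1 : IsConj g (Subgroup.inclusion (fixC_le G s) c) :=
        ConjClasses.mk_eq_mk_iff_isConj.mp hg
      have h2 : IsConj (f g) (f (Subgroup.inclusion (fixC_le G s) c)) :=
        (MulAut.conjNormal s : MulAut G).toMonoidHom.map_isConj h1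
      rw [hfix] at h2
      exact h2.trans h1.symm⟩
  have hΦ : Function.Injective Φ := by
    intro K K' hKK
    obtain ⟨c, rfl⟩ := ConjClasses.exists_rep K
    obtain ⟨c', rfl⟩ := ConjClasses.exists_rep K'
    have h1 : ConjClasses.mk (Subgroup.inclusion (fixC_le G s) c) =
        ConjClasses.mk (Subgroup.inclusion (fixC_le G s) c') := congrArg Subtype.val hKK
    rw [ConjClasses.mk_eq_mk_iff_isConj, isConj_iff] at h1
    obtain ⟨x, hx⟩ := h1
    have hx' : (x : Γ) * (c : Γ) * (x : Γ)⁻¹ = (c' : Γ) := by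
      have := congrArg Subtype.val hx
      simpa using this
    obtain ⟨δ, hδ, hδc⟩ := exists_fixC_conj hcop c.2 c'.2 x.2 hx'
    rw [ConjClasses.mk_eq_mk_iff_isConj, isConj_iff]
    refine ⟨⟨δ, hδ⟩, ?_⟩
    apply Subtype.ext
    simpa using hδc
  exact Nat.card_le_card_of_injective Φ hΦ

end GlaubCount

end Cfsg.Agent.Lib.Helper04
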