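import Mathlib
import Cfsg.Agent.Lib.Helper04.GlaubCount

set_option autoImplicit false

namespace Cfsg.Agent.Lib.Helper04

open scoped ComplexConjugate
open Cfsg

section GlaubFinal

variable {Γ : Type*} [Group Γ] [Fintype Γ] {G : Subgroup Γ} [hGn : G.Normal] [Fintype G] {s : Γ}
  [Fintype (fixC G s)]

/-- every irreducible character of `C` is the Glauberman correspondent of an invariant
irreducible character of `G`. -/
theorem exists_inv_of_irr (hcop : (Nat.card G).Coprime (orderOf s))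
    (hgen : G ⊔ Subgroup.zpowers s = ⊤) (β : IrrCharacter (fixC G s)) :
    ∃ (χ : IrrCharacter G) (χh : Γ → ℂ) (ε : ℤ), SInv G s (χ : G → ℂ) ∧ IsIrrCharacter Γ χh ∧
      (∀ g : G, χh g = (χ : G → ℂ) g) ∧ (detOrder χh).Coprime (orderOf s) ∧ (ε = 1 ∨ ε = -1) ∧
      ∀ c : fixC G s, χh ((c : Γ) * s) = (ε : ℂ) * (β : fixC G s → ℂ) c := by
  classical
  have hex : ∀ χ : {χ : IrrCharacter G // SInv G s (χ : G → ℂ)},
      ∃ χh : Γ → ℂ, IsIrrCharacter Γ χh ∧ (∀ g : G, χh g = (χ.1 : G → ℂ) g) ∧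
      (detOrder χh).Coprime (orderOf s) := fun χ => exists_canonical hcop hgen χ.1 χ.2
  choose ext hext1 hext2 hext3 using hex
  have hextG : ∀ χ : {χ : IrrCharacter G // SInv G s (χ : G → ℂ)},
      IsIrrCharacter G (fun g : G => ext χ g) := by
    intro χ
    have : (fun g : G => ext χ g) = (χ.1 : G → ℂ) := funext (hext2 χ)
    rw [this]
    exact χ.1.2
  have hex2 := fun χ : {χ : IrrCharacter G // SInv G s (χ : G → ℂ)} =>
    exists_sign_irr hcop hgen (hext1 χ) (hextG χ) (hext3 χ)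
  choose Ψ sg hsg hΨ using hex2
  have hinj : Function.Injective Ψ := by
    intro χ χ' hχχ'
    have h1 := coset_irr_ne hcop hgen (hext1 χ) (hextG χ) (hext1 χ') (Ψ χ) (sg χ) (sg χ')
      (hsg χ) (hsg χ') (hΨ χ) (by rw [hχχ']; exact hΨ χ')
    apply Subtype.ext
    apply Subtype.ext
    funext g
    rw [← hext2 χ g, ← hext2 χ' g]
    exact congrFun h1 g
  have hbij := hinj.bijective_of_nat_card_le (card_irr_fixC_le hcop)
  obtain ⟨χ, rfl⟩ := hbij.2 β
  exact ⟨χ.1, ext χ, sg χ, χ.2, hext1 χ, hext2 χ, hext3 χ, hsg χ, hΨ χ⟩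

omit [Fintype Γ] in
/-- generators of the same cyclic group are coprime powers of each other. -/
theorem eq_pow_of_zpowers_eq [Finite Γ] {s t : Γ}
    (h : Subgroup.zpowers t = Subgroup.zpowers s) :
    ∃ k : ℕ, k.Coprime (orderOf s) ∧ t = s ^ k := by
  have ht : t ∈ Subgroup.zpowers s := h ▸ Subgroup.mem_zpowers t
  rw [← mem_powers_iff_mem_zpowers] at ht
  obtain ⟨k, rfl⟩ := ht
  refine ⟨k, ?_, rfl⟩
  have h1 : orderOf (s ^ k) = orderOf s := by
    rw [← Nat.card_zpowers, ← Nat.card_zpowers, h]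
  rw [orderOf_pow] at h1
  have hpos : 0 < orderOf s := orderOf_pos s
  have h3 : (orderOf s).gcd k = 1 := by
    rcases Nat.div_eq_self.mp h1 with h | h
    · omega
    · exact h
  rw [Nat.coprime_comm]
  exact h3

end GlaubFinal

end Cfsg.Agent.Lib.Helper04
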