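import Mathlib
import Cfsg.Agent.Lib.Helper04.GlaubFinal

set_option autoImplicit false

namespace Cfsg.Agent.Lib.Helper04

open scoped ComplexConjugate
open Cfsg

universe u

section GlaubPrime

variable {Γ : Type u} [Group Γ] [Fintype Γ] (G : Subgroup Γ) [hGn : G.Normal] [Fintype G] (s : Γ)
  [Fintype (fixC G s)]

omit hGn [Fintype G] in
/-- expansion of the coset inner products as sums of powers of roots of unity with natural
weights. -/
theorem exists_coset_expansion {χh : Γ → ℂ} (hχc : IsCharacter Γ χh)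
    (β : IrrCharacter (fixC G s)) (n : ℕ) (hn : s ^ n = 1) :
    ∃ (ι : Type u) (_ : Fintype ι) (w : ι → ℕ) (ω : ι → ℂ), (∀ i, ω i ^ n = 1) ∧
      ∀ k : ℕ, classInner (fun c : fixC G s => χh ((c : Γ) * s ^ k)) (β : fixC G s → ℂ)
        = ∑ i, (w i : ℂ) * ω i ^ k := by
  classical
  set D : Subgroup Γ := Subgroup.centralizer ({s} : Set Γ) with hD
  have hCD : fixC G s ≤ D := inf_le_right
  have hsD : s ∈ D := by
    rw [hD, Subgroup.mem_centralizer_singleton_iff]
  let z : D := ⟨s, hsD⟩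
  have hz : z ∈ Subgroup.center D := by
    rw [Subgroup.mem_center_iff]
    intro d
    apply Subtype.ext
    have h1 : (d : Γ) ∈ Subgroup.centralizer ({s} : Set Γ) := d.2
    rw [Subgroup.mem_centralizer_singleton_iff] at h1
    exact h1
  have hzm : z ^ n = 1 := by
    apply Subtype.ext
    simp [z, hn]
  have _ : Fintype D := Fintype.ofFinite D
  have _ : Fintype (IrrCharacter D) := Fintype.ofFinite _
  set ω : IrrCharacter D → ℂ := fun θ => (θ : D → ℂ) z / (θ : D → ℂ) 1 with hω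
  have hωm : ∀ θ, ω θ ^ n = 1 := fun θ => irr_central_root θ hz _ hzm
  set R : D → ℂ := fun d => χh d with hR
  have hRc : IsCharacter D R := Cfsg.Agent.Lib.Helper83.isCharacter_restrict D hχc
  have hdec := Cfsg.Agent.Lib.Helper83.char_eq_sum_irrMult hRc
  set nθ : IrrCharacter D → ℕ := fun θ => Cfsg.Agent.Lib.Helper83.irrMult R θ with hnθ
  set res : IrrCharacter D → (fixC G s → ℂ) := fun θ c => (θ : D → ℂ) ⟨c, hCD c.2⟩ with hres
  have hresc : ∀ θ, IsCharacter (fixC G s) (res θ) := fun θ =>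
    Cfsg.Agent.Lib.Helper83.isCharacter_comp_hom (Subgroup.inclusion hCD)
      (Cfsg.Agent.Lib.Helper83.IrrCharacter_isCharacter θ)
  have hM : ∀ θ, ∃ M : ℕ, classInner (res θ) (β : fixC G s → ℂ) = M := fun θ =>
    Cfsg.Agent.Lib.Helper83.classInner_char_nat (hresc θ)
      (Cfsg.Agent.Lib.Helper83.IrrCharacter_isCharacter β)
  choose M hM using hM
  have hexp : ∀ (k : ℕ), (fun c : fixC G s => χh ((c : Γ) * s ^ k))
      = ∑ θ : IrrCharacter D, ((nθ θ : ℂ) * ω θ ^ k) • res θ := by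
    intro k
    funext c
    have h1 : χh ((c : Γ) * s ^ k) = R ((⟨c, hCD c.2⟩ : D) * z ^ k) := by
      simp [hR, z]
    rw [h1, hdec, Finset.sum_apply, Finset.sum_apply]
    apply Finset.sum_congr rfl
    intro θ _
    rw [Pi.smul_apply, Pi.smul_apply, irr_mul_central_pow θ hz]
    simp only [smul_eq_mul, hres, hω, hnθ]
    ring
  refine ⟨IrrCharacter D, inferInstance, fun θ => nθ θ * M θ, ω, hωm, ?_⟩
  intro k
  rw [hexp k, classInner_sum_left]
  apply Finset.sum_congr rfl
  intro θ _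
  rw [classInner_smul_left, hM θ]
  push_cast
  ring

/-- sum of the powers of a root of unity. -/
theorem sum_pow_root (ω : ℂ) (n : ℕ) (h : ω ^ n = 1) :
    ∑ k ∈ Finset.range n, ω ^ k = if ω = 1 then (n : ℂ) else 0 := by
  split_ifs with h1
  · rw [h1]; simp
  · rw [geom_sum_eq h1, h, sub_self, zero_div]

variable {G s}

/-- **prime order case: the multiplicities of the restriction to `C` modulo `p`.** -/
theorem prime_congr (p : ℕ) [hp : Fact p.Prime] (hsp : s ^ p = 1)
    (hcop : (Nat.card G).Coprime (orderOf s))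
    (hgen : G ⊔ Subgroup.zpowers s = ⊤) {χh : Γ → ℂ} (hχ : IsIrrCharacter Γ χh)
    (hχG : IsIrrCharacter G (fun g : G => χh g))
    (hcan : (detOrder χh).Coprime (orderOf s))
    (β₀ : IrrCharacter (fixC G s)) (ε : ℤ) (hε : ε = 1 ∨ ε = -1)
    (hβ₀ : ∀ c : fixC G s, χh ((c : Γ) * s) = (ε : ℂ) * (β₀ : fixC G s → ℂ) c)
    (β : IrrCharacter (fixC G s)) :
    ∃ m : ℕ, classInner (fun c : fixC G s => χh (c : Γ)) (β : fixC G s → ℂ) = (m : ℂ) ∧
      (m : ℤ) ≡ (if β = β₀ then ε else 0) [ZMOD p] := by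
  classical
  have hχc : IsCharacter Γ χh := Cfsg.Agent.Lib.Helper83.isCharacter_of_irr hχ
  obtain ⟨ι, _, w, ω, hω, hexp⟩ := exists_coset_expansion G s hχc β p hsp
  have hord : orderOf s ∣ p := orderOf_dvd_of_pow_eq_one hsp
  set f : ℕ → ℂ := fun k =>
    classInner (fun c : fixC G s => χh ((c : Γ) * s ^ k)) (β : fixC G s → ℂ) with hf
  have hf0 : f 0 = ((∑ i, w i : ℕ) : ℂ) := by
    simp only [hf]
    rw [hexp 0]
    push_cast
    apply Finset.sum_congr rfl
    intro i _
    rw [pow_zero, mul_one]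
  have hf0' : f 0 = classInner (fun c : fixC G s => χh (c : Γ)) (β : fixC G s → ℂ) := by
    simp only [hf, pow_zero, mul_one]
  have hδ : classInner (fun c : fixC G s => χh ((c : Γ) * s)) (β : fixC G s → ℂ) =
      (ε : ℂ) * (if β₀ = β then 1 else 0) := by
    have h2 : (fun c : fixC G s => χh ((c : Γ) * s)) = (ε : ℂ) • (β₀ : fixC G s → ℂ) :=
      funext fun c => hβ₀ c
    rw [h2, classInner_smul_left, Cfsg.Agent.Lib.Helper83.irr_orthonormal]
  have hfk : ∀ k : ℕ, k < p - 1 → f (k + 1) = (ε : ℂ) * (if β₀ = β then 1 else 0) := by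
    intro k hk
    rw [← hδ]
    simp only [hf]
    congr 1
    funext c
    have hkp : (k + 1).Coprime p := by
      rw [Nat.coprime_comm, Nat.Prime.coprime_iff_not_dvd hp.out]
      intro hd
      have := Nat.le_of_dvd (Nat.succ_pos k) hd
      omega
    exact canonical_pow_invariant G s hcop hgen hχ hχG hcan (k + 1)
      (hkp.coprime_dvd_right hord) c.2
  have hsum : ∑ k ∈ Finset.range p, f k = ((p * ∑ i ∈ Finset.univ.filter (fun i => ω i = 1), w i : ℕ) : ℂ) := by
    simp only [hf]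
    rw [Finset.sum_congr rfl (fun k _ => hexp k), Finset.sum_comm]
    push_cast
    rw [Finset.mul_sum, Finset.sum_filter]
    apply Finset.sum_congr rfl
    intro i _
    rw [← Finset.mul_sum, sum_pow_root (ω i) p (hω i)]
    split_ifs <;> ring
  have hp1 : p = (p - 1) + 1 := by have := hp.out.pos; omega
  rw [hp1, Finset.sum_range_succ', Finset.sum_congr rfl
    (fun k hk => hfk k (Finset.mem_range.mp hk)), Finset.sum_const, Finset.card_range,
    ← hp1, hf0] at hsum
  refine ⟨∑ i, w i, by rw [← hf0', hf0], ?_⟩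
  set N : ℕ := ∑ i ∈ Finset.univ.filter (fun i => ω i = 1), w i
  set m : ℕ := ∑ i, w i
  by_cases hββ : β = β₀
  · rw [if_pos hββ]
    rw [if_pos hββ.symm] at hsum
    have h3 : ((p - 1 : ℕ) : ℤ) * ε + (m : ℤ) = (p : ℤ) * N := by
      have : (((p - 1 : ℕ) : ℤ) * ε + (m : ℤ) : ℂ) = ((p : ℤ) * N : ℂ) := by
        push_cast
        rw [nsmul_eq_mul] at hsum
        push_cast at hsum
        linear_combination hsum
      exact_mod_cast this
    have h4 : ((p - 1 : ℕ) : ℤ) = (p : ℤ) - 1 := by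
      have := hp.out.pos
      push_cast [Nat.cast_sub this]
      ring
    rw [h4] at h3
    rw [Int.modEq_iff_dvd]
    refine ⟨ε - N, ?_⟩
    linear_combination -h3
  · rw [if_neg hββ]
    rw [if_neg (fun h => hββ h.symm)] at hsum
    have h3 : (m : ℤ) = (p : ℤ) * N := by
      have : ((m : ℤ) : ℂ) = ((p : ℤ) * N : ℂ) := by
        push_cast
        rw [nsmul_eq_mul] at hsum
        push_cast at hsum
        linear_combination hsum
      exact_mod_cast this
    rw [Int.modEq_iff_dvd]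
    refine ⟨-N, ?_⟩
    linear_combination -h3

/-- **Glauberman correspondence for an automorphism of prime order (internal form).** -/
theorem level0_prime (p : ℕ) [hp : Fact p.Prime] (hsp : s ^ p = 1)
    (hcopp : (Nat.card G).Coprime p) (hgen : G ⊔ Subgroup.zpowers s = ⊤) :
    ∃ f : {χ : IrrCharacter G // SInv G s (χ : G → ℂ)} → IrrCharacter (fixC G s),
      Function.Bijective f ∧
      ∀ (χ : {χ : IrrCharacter G // SInv G s (χ : G → ℂ)}) (β : IrrCharacter (fixC G s)),
        ∃ m : ℕ, classInner (fun c : fixC G s => (χ.1 : G → ℂ) ⟨c, fixC_le G s c.2⟩)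
            (β : fixC G s → ℂ) = (m : ℂ) ∧
          ((β = f χ ∧ ((m : ℤ) ≡ 1 [ZMOD p] ∨ (m : ℤ) ≡ -1 [ZMOD p])) ∨
            (β ≠ f χ ∧ p ∣ m)) := by
  classical
  have hord : orderOf s ∣ p := orderOf_dvd_of_pow_eq_one hsp
  have hcop : (Nat.card G).Coprime (orderOf s) := hcopp.coprime_dvd_right hord
  have hex : ∀ χ : {χ : IrrCharacter G // SInv G s (χ : G → ℂ)},
      ∃ χh : Γ → ℂ, IsIrrCharacter Γ χh ∧ (∀ g : G, χh g = (χ.1 : G → ℂ) g) ∧
      (detOrder χh).Coprime (orderOf s) := fun χ => exists_canonical hcop hgen χ.1 χ.2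
  choose ext hext1 hext2 hext3 using hex
  have hextG : ∀ χ : {χ : IrrCharacter G // SInv G s (χ : G → ℂ)},
      IsIrrCharacter G (fun g : G => ext χ g) := by
    intro χ
    have : (fun g : G => ext χ g) = (χ.1 : G → ℂ) := funext (hext2 χ)
    rw [this]
    exact χ.1.2
  have hex2 := fun χ : {χ : IrrCharacter G // SInv G s (χ : G → ℂ)} =>
    exists_sign_irr hcop hgen (hext1 χ) (hextG χ) (hext3 χ)
  choose Ψ sg hsg hΨ using hex2
  have hinj : Function.Injective Ψ := by
    intro χ χ' hχχ'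
    have h1 := coset_irr_ne hcop hgen (hext1 χ) (hextG χ) (hext1 χ') (Ψ χ) (sg χ) (sg χ')
      (hsg χ) (hsg χ') (hΨ χ) (by rw [hχχ']; exact hΨ χ')
    apply Subtype.ext
    apply Subtype.ext
    funext g
    rw [← hext2 χ g, ← hext2 χ' g]
    exact congrFun h1 g
  have hbij := hinj.bijective_of_nat_card_le (card_irr_fixC_le hcop)
  refine ⟨Ψ, hbij, ?_⟩
  intro χ β
  obtain ⟨m, hm1, hm2⟩ := prime_congr p hsp hcop hgen (hext1 χ) (hextG χ) (hext3 χ) (Ψ χ) (sg χ)
    (hsg χ) (hΨ χ) β
  refine ⟨m, ?_, ?_⟩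
  · rw [← hm1]
    congr 1
    funext c
    exact (hext2 χ ⟨c, fixC_le G s c.2⟩).symm
  · by_cases hβ : β = Ψ χ
    · left
      rw [if_pos hβ] at hm2
      refine ⟨hβ, ?_⟩
      rcases hsg χ with h | h
      · left; rw [h] at hm2; exact hm2
      · right; rw [h] at hm2; exact hm2
    · right
      rw [if_neg hβ] at hm2
      refine ⟨hβ, ?_⟩
      have := Int.modEq_zero_iff_dvd.mp hm2
      exact_mod_cast this

end GlaubPrime

end Cfsg.Agent.Lib.Helper04
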