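import Mathlib
import Cfsg.Agent.Lib.Helper04.GlaubPrime
import Cfsg.Agent.Lib.Helper04.CharTransport

set_option autoImplicit false

namespace Cfsg.Agent.Lib.Helper04

open scoped ComplexConjugate
open Cfsg

universe u v

section GlaubAbs

variable {G : Type u} {C : Type v} [Group G] [Fintype G] [Group C] [Fintype C]

/-- **Glauberman correspondence for an automorphism `σ` with `σ ^ p = 1`, abstract form**: `C` is
(a copy of) the fixed point subgroup of `σ`, embedded in `G` by `ι`. -/
theorem level1 (σ : MulAut G) (p : ℕ) [hp : Fact p.Prime] (hσ : σ ^ p = 1)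
    (hcop : (Nat.card G).Coprime p) (ι : C →* G) (hι : Function.Injective ι)
    (hfix : ∀ g, σ g = g ↔ g ∈ Set.range ι) :
    ∃ f : {χ : IrrCharacter G // ∀ g, (χ : G → ℂ) (σ g) = (χ : G → ℂ) g} → IrrCharacter C,
      Function.Bijective f ∧
      ∀ (χ : {χ : IrrCharacter G // ∀ g, (χ : G → ℂ) (σ g) = (χ : G → ℂ) g})
        (β : IrrCharacter C),
        ∃ m : ℕ, classInner (fun c : C => (χ.1 : G → ℂ) (ι c)) (β : C → ℂ) = (m : ℂ) ∧
          ((β = f χ ∧ ((m : ℤ) ≡ 1 [ZMOD p] ∨ (m : ℤ) ≡ -1 [ZMOD p])) ∨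
            (β ≠ f χ ∧ p ∣ m)) := by
  classical
  -- the semidirect product
  let A : Subgroup (MulAut G) := Subgroup.zpowers σ
  let φ : A →* MulAut G := A.subtype
  let Γ := G ⋊[φ] A
  have _ : Finite Γ := Finite.of_equiv _ (SemidirectProduct.equivProd (φ := φ)).symm
  have _ : Fintype Γ := Fintype.ofFinite Γ
  let G₀ : Subgroup Γ := (SemidirectProduct.inl : G →* Γ).range
  have hGn : G₀.Normal := by
    have : G₀ = (SemidirectProduct.rightHom : Γ →* A).ker :=
      SemidirectProduct.range_inl_eq_ker_rightHom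
    rw [this]
    exact MonoidHom.normal_ker _
  have _ : Fintype G₀ := Fintype.ofFinite G₀
  let a : A := ⟨σ, Subgroup.mem_zpowers σ⟩
  let s : Γ := SemidirectProduct.inr a
  have _ : Fintype (fixC G₀ s) := Fintype.ofFinite _
  have hap : a ^ p = 1 := by
    apply Subtype.ext
    simp [a, hσ]
  have hsp : s ^ p = 1 := by
    simp only [s]
    rw [← map_pow, hap, map_one]
  have hconj : ∀ g : G, s * SemidirectProduct.inl g * s⁻¹ = (SemidirectProduct.inl (σ g) : Γ) := by
    intro g
    have h1 := SemidirectProduct.inl_aut (φ := φ) a g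
    rw [map_inv] at h1
    exact h1.symm
  have hgen : G₀ ⊔ Subgroup.zpowers s = ⊤ := by
    rw [eq_top_iff]
    intro x _
    have hx : x = SemidirectProduct.inl x.left * SemidirectProduct.inr x.right :=
      (SemidirectProduct.inl_left_mul_inr_right x).symm
    rw [hx]
    apply Subgroup.mul_mem
    · exact Subgroup.mem_sup_left ⟨x.left, rfl⟩
    · apply Subgroup.mem_sup_right
      obtain ⟨k, hk⟩ := Subgroup.mem_zpowers_iff.mp x.right.2
      rw [Subgroup.mem_zpowers_iff]
      refine ⟨k, ?_⟩
      simp only [s]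
      rw [← map_zpow]
      congr 1
      apply Subtype.ext
      simp [a, hk]
  let eG : G ≃* G₀ := MonoidHom.ofInjective SemidirectProduct.inl_injective
  have heG : ∀ g : G, ((eG g : G₀) : Γ) = SemidirectProduct.inl g := fun g =>
    MonoidHom.ofInjective_apply _
  have hcard : Nat.card G₀ = Nat.card G := (Nat.card_congr eG.toEquiv).symm
  have hcop₀ : (Nat.card G₀).Coprime p := by rw [hcard]; exact hcop
  -- the isomorphism `C ≃ fixC`
  have hmemC : ∀ c : C, (SemidirectProduct.inl (ι c) : Γ) ∈ fixC G₀ s := by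
    intro c
    rw [mem_fixC]
    refine ⟨⟨ι c, rfl⟩, ?_⟩
    have h1 := hconj (ι c)
    rw [(hfix (ι c)).mpr ⟨c, rfl⟩] at h1
    calc s * SemidirectProduct.inl (ι c)
        = (s * SemidirectProduct.inl (ι c) * s⁻¹) * s := by rw [inv_mul_cancel_right]
      _ = SemidirectProduct.inl (ι c) * s := by rw [h1]
  let jC : C →* fixC G₀ s :=
    MonoidHom.codRestrict ((SemidirectProduct.inl : G →* Γ).comp ι) (fixC G₀ s) hmemC
  have hjC : Function.Bijective jC := by
    constructor
    · intro c c' h
      have h1 := congrArg Subtype.val h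
      simp only [jC, MonoidHom.codRestrict_apply, MonoidHom.comp_apply] at h1
      exact hι (SemidirectProduct.inl_injective h1)
    · intro x
      obtain ⟨hx1, hx2⟩ := (mem_fixC G₀ s).mp x.2
      obtain ⟨g, hg⟩ := hx1
      have h1 := hconj g
      rw [hg, hx2, mul_inv_cancel_right, ← hg] at h1
      have h2 : σ g = g := (SemidirectProduct.inl_injective h1).symm
      obtain ⟨c, hc⟩ := (hfix g).mp h2
      refine ⟨c, ?_⟩
      apply Subtype.ext
      simp only [jC, MonoidHom.codRestrict_apply, MonoidHom.comp_apply]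
      rw [hc, hg]
  let eC : C ≃* fixC G₀ s := MulEquiv.ofBijective jC hjC
  have heC : ∀ c : C, ((eC c : fixC G₀ s) : Γ) = SemidirectProduct.inl (ι c) := fun c => rfl
  -- apply the internal theorem
  obtain ⟨f₀, hf₀, hcong⟩ := level0_prime (G := G₀) (s := s) p hsp hcop₀ hgen
  -- transport of invariant characters
  have hinv : ∀ χ : {χ : IrrCharacter G // ∀ g, (χ : G → ℂ) (σ g) = (χ : G → ℂ) g},
      SInv G₀ s (((irrCongr eG).symm χ.1 : IrrCharacter G₀) : G₀ → ℂ) := by
    intro χ x
    rw [irrCongr_symm_apply, irrCongr_symm_apply]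
    have h1 : eG.symm ((MulAut.conjNormal s : MulAut G₀) x) = σ (eG.symm x) := by
      apply eG.injective
      rw [MulEquiv.apply_symm_apply]
      apply Subtype.ext
      rw [MulAut.conjNormal_apply, heG, ← hconj, ← heG, MulEquiv.apply_symm_apply]
    rw [h1]
    exact χ.2 _
  let TG : {χ : IrrCharacter G // ∀ g, (χ : G → ℂ) (σ g) = (χ : G → ℂ) g} →
      {χ : IrrCharacter G₀ // SInv G₀ s (χ : G₀ → ℂ)} := fun χ =>
    ⟨(irrCongr eG).symm χ.1, hinv χ⟩
  have hTG : Function.Bijective TG := by
    constructor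
    · intro χ χ' h
      have h1 := congrArg Subtype.val h
      simp only [TG] at h1
      exact Subtype.ext ((irrCongr eG).symm.injective h1)
    · intro χ₀
      refine ⟨⟨irrCongr eG χ₀.1, ?_⟩, ?_⟩
      · intro g
        rw [irrCongr_apply, irrCongr_apply]
        have h1 := χ₀.2 (eG g)
        have h2 : eG (σ g) = (MulAut.conjNormal s : MulAut G₀) (eG g) := by
          apply Subtype.ext
          rw [MulAut.conjNormal_apply, heG, heG, hconj]
        rw [h2]
        exact h1
      · apply Subtype.ext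
        simp only [TG]
        exact (irrCongr eG).symm_apply_apply χ₀.1
  refine ⟨fun χ => irrCongr eC (f₀ (TG χ)), ?_, ?_⟩
  · exact (irrCongr eC).bijective.comp (hf₀.comp hTG)
  · intro χ β
    obtain ⟨m, hm1, hm2⟩ := hcong (TG χ) ((irrCongr eC).symm β)
    refine ⟨m, ?_, ?_⟩
    · rw [← hm1, ← classInner_comp_mulEquiv eC]
      congr 1
      · funext c
        simp only [TG]
        rw [irrCongr_symm_apply]
        have h2 : eG.symm ⟨((eC c : fixC G₀ s) : Γ), fixC_le G₀ s (eC c).2⟩ = ι c := by
          apply eG.injective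
          rw [MulEquiv.apply_symm_apply]
          apply Subtype.ext
          rw [heG]
          rfl
        rw [h2]
      · funext c
        rw [irrCongr_symm_apply, MulEquiv.symm_apply_apply]
    · have hiff : β = irrCongr eC (f₀ (TG χ)) ↔ (irrCongr eC).symm β = f₀ (TG χ) := by
        constructor
        · intro h; rw [h, Equiv.symm_apply_apply]
        · intro h; rw [← h, Equiv.apply_symm_apply]
      rcases hm2 with ⟨h1, h2⟩ | ⟨h1, h2⟩
      · left; exact ⟨hiff.mpr h1, h2⟩
      · right; exact ⟨fun h => h1 (hiff.mp h), h2⟩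

end GlaubAbs

end Cfsg.Agent.Lib.Helper04
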