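import Mathlib
import Cfsg.Agent.Lib.Helper04.GlaubAbs
import Cfsg.Agent.Lib.Helper04.OrbitSum

set_option autoImplicit false

namespace Cfsg.Agent.Lib.Helper04

open scoped ComplexConjugate
open Cfsg

universe u

section GlaubRel

variable {Γ : Type u} [Group Γ]

/-- `S`-invariance of a function on the subgroup `H`. -/
def SetInv (H S : Subgroup Γ) (χ : H → ℂ) : Prop :=
  ∀ s ∈ S, ∀ g g' : H, (g' : Γ) = s * g * s⁻¹ → χ g' = χ g

/-- invariance under a single element. -/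
def ElInv (H : Subgroup Γ) (x : Γ) (χ : H → ℂ) : Prop :=
  ∀ g g' : H, (g' : Γ) = x * g * x⁻¹ → χ g' = χ g

/-- conjugation by an element normalizing `H`, as an automorphism of `H`. -/
def conjAut (H : Subgroup Γ) (x : Γ) (hx : ∀ h ∈ H, x * h * x⁻¹ ∈ H)
    (hx' : ∀ h ∈ H, x⁻¹ * h * x ∈ H) : MulAut H where
  toFun h := ⟨x * h * x⁻¹, hx h h.2⟩
  invFun h := ⟨x⁻¹ * h * x, hx' h h.2⟩
  left_inv h := by
    apply Subtype.ext
    show x⁻¹ * (x * (h : Γ) * x⁻¹) * x = h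
    group
  right_inv h := by
    apply Subtype.ext
    show x * (x⁻¹ * (h : Γ) * x) * x⁻¹ = h
    group
  map_mul' a b := by
    apply Subtype.ext
    show x * ((a : Γ) * b) * x⁻¹ = (x * a * x⁻¹) * (x * b * x⁻¹)
    group

theorem conjAut_apply (H : Subgroup Γ) (x : Γ) (hx : ∀ h ∈ H, x * h * x⁻¹ ∈ H)
    (hx' : ∀ h ∈ H, x⁻¹ * h * x ∈ H) (h : H) :
    ((conjAut H x hx hx' h : H) : Γ) = x * h * x⁻¹ := rfl

theorem conjAut_pow_apply (H : Subgroup Γ) (x : Γ) (hx : ∀ h ∈ H, x * h * x⁻¹ ∈ H)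
    (hx' : ∀ h ∈ H, x⁻¹ * h * x ∈ H) (n : ℕ) (h : H) :
    ((((conjAut H x hx hx') ^ n) h : H) : Γ) = x ^ n * h * (x ^ n)⁻¹ := by
  induction n generalizing h with
  | zero => simp
  | succ n ih =>
    rw [pow_succ, MulAut.mul_apply, ih, conjAut_apply, pow_succ]
    group

/-- the elements of `S` under which `χ` is invariant form a subgroup. -/
theorem setInv_of_sup {G S T₁ : Subgroup Γ} (hSG : ∀ s ∈ S, ∀ g ∈ G, s * g * s⁻¹ ∈ G)
    {s : Γ} (hs : s ∈ S) (hT₁S : T₁ ≤ S) (hgen : S ≤ T₁ ⊔ Subgroup.zpowers s) {χ : G → ℂ}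
    (h1 : SetInv G T₁ χ) (h2 : ElInv G s χ) : SetInv G S χ := by
  let K : Subgroup Γ :=
    { carrier := {x | x ∈ S ∧ ElInv G x χ}
      one_mem' := by
        refine ⟨S.one_mem, ?_⟩
        intro g g' hg
        have : g' = g := by
          apply Subtype.ext
          rw [hg]; group
        rw [this]
      mul_mem' := by
        rintro x y ⟨hx, hx2⟩ ⟨hy, hy2⟩
        refine ⟨S.mul_mem hx hy, ?_⟩
        intro g g' hg
        have h3 := hy2 g ⟨y * g * y⁻¹, hSG y hy g g.2⟩ rfl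
        have h4 := hx2 ⟨y * g * y⁻¹, hSG y hy g g.2⟩ g' (by rw [hg]; group)
        rw [h4, h3]
      inv_mem' := by
        rintro x ⟨hx, hx2⟩
        refine ⟨S.inv_mem hx, ?_⟩
        intro g g' hg
        have h3 := hx2 g' g (by rw [hg]; group)
        exact h3.symm }
  have hK1 : T₁ ≤ K := fun t ht => ⟨hT₁S ht, h1 t ht⟩
  have hK2 : Subgroup.zpowers s ≤ K := by
    rw [Subgroup.zpowers_le]
    exact ⟨hs, h2⟩
  intro x hx
  exact ((sup_le hK1 hK2) (hgen hx)).2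

theorem sum_mul_modEq_of_fixed {X : Type*} [Fintype X] [DecidableEq X] (p : ℕ) [hp : Fact p.Prime]
    (σ : Equiv.Perm X) (hσ : σ ^ p = 1) (a b : X → ℕ) (ha : ∀ x, a (σ x) = a x)
    (hb : ∀ x, b (σ x) = b x) (x₀ : X) (hx₀ : σ x₀ = x₀)
    (hfix : ∀ x, σ x = x → x ≠ x₀ → p ∣ a x) :
    ∑ x, a x * b x ≡ a x₀ * b x₀ [MOD p] := by
  classical
  let P : Subgroup (Equiv.Perm X) := Subgroup.zpowers σ
  have hP : IsPGroup p P := by
    intro g
    refine ⟨1, ?_⟩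
    obtain ⟨k, hk⟩ := Subgroup.mem_zpowers_iff.mp g.2
    apply Subtype.ext
    rw [pow_one, Subgroup.coe_pow, ← hk, ← zpow_natCast, ← zpow_mul, mul_comm, zpow_mul,
      zpow_natCast, hσ, one_zpow]
    rfl
  let K : Subgroup (Equiv.Perm X) :=
    { carrier := {g | ∀ x, a (g x) * b (g x) = a x * b x}
      one_mem' := fun x => rfl
      mul_mem' := by
        intro g h hg hh x
        rw [Equiv.Perm.mul_apply, hg, hh]
      inv_mem' := by
        intro g hg x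
        have := hg (g⁻¹ x)
        rw [show g (g⁻¹ x) = x from by rw [← Equiv.Perm.mul_apply, mul_inv_cancel, Equiv.Perm.one_apply]] at this
        exact this.symm }
  have hσK : σ ∈ K := fun x => by rw [ha, hb]
  have hPK : P ≤ K := by
    rw [Subgroup.zpowers_le]; exact hσK
  have h1 := sum_modEq_sum_fixed (P := P) (X := X) (fun g x => (g : Equiv.Perm X) x)
    (fun x => a x * b x) hP (fun x => rfl) (fun g h x => rfl) (fun g x => hPK g.2 x)
  refine h1.trans ?_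
  have hfixed : ∀ x, (∀ g : P, (g : Equiv.Perm X) x = x) ↔ σ x = x := by
    intro x
    constructor
    · intro h
      exact h ⟨σ, Subgroup.mem_zpowers σ⟩
    · intro h g
      obtain ⟨k, hk⟩ := Subgroup.mem_zpowers_iff.mp g.2
      rw [← hk]
      exact Equiv.Perm.zpow_apply_eq_self_of_apply_eq_self h k
  rw [← ZMod.natCast_eq_natCast_iff]
  push_cast
  rw [Finset.sum_eq_single x₀]
  · intro x hx hne
    rw [Finset.mem_filter] at hx
    have h2 := hfix x ((hfixed x).mp hx.2) hne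
    have : ((a x : ℕ) : ZMod p) = 0 := (ZMod.natCast_eq_zero_iff _ _).mpr h2
    rw [this, zero_mul]
  · intro h
    exfalso
    apply h
    rw [Finset.mem_filter]
    exact ⟨Finset.mem_univ _, (hfixed x₀).mpr hx₀⟩


theorem not_dvd_of_pm_one {p m : ℕ} [hp : Fact p.Prime]
    (h : (m : ℤ) ≡ 1 [ZMOD p] ∨ (m : ℤ) ≡ -1 [ZMOD p]) : ¬ p ∣ m := by
  intro hd
  have h0 : (m : ℤ) ≡ 0 [ZMOD p] := Int.modEq_zero_iff_dvd.mpr (by exact_mod_cast hd)
  have hp1 : (p : ℤ) ∣ 1 := by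
    rcases h with h | h
    · have := Int.modEq_iff_dvd.mp (h0.symm.trans h)
      simpa using this
    · have := Int.modEq_iff_dvd.mp (h0.symm.trans h)
      have h2 : (p : ℤ) ∣ -1 := by simpa using this
      exact (dvd_neg.mp h2)
  have h3 : (p : ℤ) = 1 := Int.eq_one_of_dvd_one (by positivity) hp1
  have h4 : p = 1 := by exact_mod_cast h3
  exact hp.out.one_lt.ne' h4

section Perm

variable {B : Type*} [Group B] [Finite B]

theorem irrCongr_mul (g h : MulAut B) :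
    (irrCongr (g * h) : Equiv.Perm (IrrCharacter B)) = irrCongr h * irrCongr g := by
  apply Equiv.ext
  intro φ
  apply Subtype.ext
  funext b
  rfl

theorem irrCongr_one : (irrCongr (1 : MulAut B) : Equiv.Perm (IrrCharacter B)) = 1 := by
  apply Equiv.ext
  intro φ
  apply Subtype.ext
  funext b
  rfl

theorem irrCongr_pow (g : MulAut B) (n : ℕ) :
    (irrCongr (g ^ n) : Equiv.Perm (IrrCharacter B)) = (irrCongr g) ^ n := by
  induction n with
  | zero => rw [pow_zero, pow_zero, irrCongr_one]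
  | succ n ih => rw [pow_succ, irrCongr_mul, ih, pow_succ']

end Perm

/-- the correspondence statement. -/
def GlaubCorr (p : ℕ) (G S C : Subgroup Γ) [Fintype C] (hCG : C ≤ G) : Prop :=
  ∃ f : {χ : IrrCharacter G // SetInv G S (χ : G → ℂ)} → IrrCharacter C, Function.Bijective f ∧
    ∀ (χ : {χ : IrrCharacter G // SetInv G S (χ : G → ℂ)}) (β : IrrCharacter C), ∃ m : ℕ,
      classInner (fun c : C => (χ.1 : G → ℂ) ⟨c, hCG c.2⟩) (β : C → ℂ) = (m : ℂ) ∧
      ((β = f χ ∧ ((m : ℤ) ≡ 1 [ZMOD p] ∨ (m : ℤ) ≡ -1 [ZMOD p])) ∨ (β ≠ f χ ∧ p ∣ m))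

variable [Finite Γ]

/-- **the inductive step**: from the correspondence for `T₁` (of index `p` in `S`) to the one
for `S`. -/
theorem glaubCorr_step (p : ℕ) [hp : Fact p.Prime] (G S T₁ B C : Subgroup Γ) [Fintype B]
    [Fintype C] (hBG : B ≤ G) (hCB : C ≤ B) (hCG : C ≤ G)
    (hSG : ∀ s ∈ S, ∀ g ∈ G, s * g * s⁻¹ ∈ G) (s : Γ) (hs : s ∈ S) (hT₁S : T₁ ≤ S)
    (hST₁ : ∀ s ∈ S, ∀ t ∈ T₁, s * t * s⁻¹ ∈ T₁) (hgen : S ≤ T₁ ⊔ Subgroup.zpowers s)
    (hsp : s ^ p ∈ T₁) (hcop : (Nat.card G).Coprime p)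
    (hB : B = G ⊓ Subgroup.centralizer (T₁ : Set Γ))
    (hC : C = G ⊓ Subgroup.centralizer (S : Set Γ))
    (h₁ : GlaubCorr p G T₁ B hBG) : GlaubCorr p G S C hCG := by
  classical
  -- `S` normalizes `B`
  have hSB : ∀ x ∈ S, ∀ b ∈ B, x * b * x⁻¹ ∈ B := by
    intro x hx b hb
    rw [hB] at hb ⊢
    rw [Subgroup.mem_inf] at hb ⊢
    refine ⟨hSG x hx b hb.1, ?_⟩
    rw [Subgroup.mem_centralizer_iff]
    intro t ht
    have h1 : x⁻¹ * t * x ∈ T₁ := by
      have := hST₁ x⁻¹ (S.inv_mem hx) t ht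
      rwa [inv_inv] at this
    have h2 := (Subgroup.mem_centralizer_iff.mp hb.2) (x⁻¹ * t * x) h1
    calc t * (x * b * x⁻¹) = x * ((x⁻¹ * t * x) * b) * x⁻¹ := by group
      _ = x * (b * (x⁻¹ * t * x)) * x⁻¹ := by rw [h2]
      _ = x * b * x⁻¹ * t := by group
  have hsB : ∀ b ∈ B, s * b * s⁻¹ ∈ B := hSB s hs
  have hsB' : ∀ b ∈ B, s⁻¹ * b * s ∈ B := by
    intro b hb
    have := hSB s⁻¹ (S.inv_mem hs) b hb
    rwa [inv_inv] at this
  set σ : MulAut B := conjAut B s hsB hsB' with hσdef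
  have hσp : σ ^ p = 1 := by
    apply MulEquiv.ext
    intro b
    apply Subtype.ext
    rw [conjAut_pow_apply, MulAut.one_apply]
    have hb : (b : Γ) ∈ Subgroup.centralizer (T₁ : Set Γ) := (hB.le b.2).2
    have h2 := (Subgroup.mem_centralizer_iff.mp hb) (s ^ p) hsp
    rw [h2, mul_inv_cancel_right]
  have hfix : ∀ b : B, σ b = b ↔ b ∈ Set.range (Subgroup.inclusion hCB) := by
    intro b
    constructor
    · intro h
      have h1 : s * (b : Γ) * s⁻¹ = b := congrArg Subtype.val h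
      have hbG : (b : Γ) ∈ G := hBG b.2
      have hbT : (b : Γ) ∈ Subgroup.centralizer (T₁ : Set Γ) := (hB.le b.2).2
      have hle : T₁ ⊔ Subgroup.zpowers s ≤ Subgroup.centralizer ({(b : Γ)} : Set Γ) := by
        apply sup_le
        · intro t ht
          rw [Subgroup.mem_centralizer_singleton_iff]
          exact (Subgroup.mem_centralizer_iff.mp hbT) t ht
        · rw [Subgroup.zpowers_le, Subgroup.mem_centralizer_singleton_iff]
          calc s * (b : Γ) = (s * b * s⁻¹) * s := by rw [inv_mul_cancel_right]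
            _ = b * s := by rw [h1]
      have hbC : (b : Γ) ∈ C := by
        rw [hC, Subgroup.mem_inf]
        refine ⟨hbG, ?_⟩
        rw [Subgroup.mem_centralizer_iff]
        intro x hx
        have := hle (hgen hx)
        rw [Subgroup.mem_centralizer_singleton_iff] at this
        exact this
      exact ⟨⟨b, hbC⟩, Subtype.ext rfl⟩
    · rintro ⟨c, rfl⟩
      apply Subtype.ext
      rw [conjAut_apply]
      have hc : (c : Γ) ∈ Subgroup.centralizer (S : Set Γ) := (hC.le c.2).2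
      have h2 := (Subgroup.mem_centralizer_iff.mp hc) s hs
      show s * (c : Γ) * s⁻¹ = c
      rw [h2, mul_inv_cancel_right]
  have hcopB : (Nat.card B).Coprime p :=
    Nat.Coprime.coprime_dvd_left (Subgroup.card_dvd_of_le hBG) hcop
  obtain ⟨f₂, hf₂, hc₂⟩ := level1 σ p hσp hcopB (Subgroup.inclusion hCB)
    (Subgroup.inclusion_injective hCB) hfix
  obtain ⟨f₁, hf₁, hc₁⟩ := h₁
  have hmono : ∀ χ : IrrCharacter G, SetInv G S (χ : G → ℂ) → SetInv G T₁ (χ : G → ℂ) :=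
    fun χ h t ht => h t (hT₁S ht)
  let r : {χ : IrrCharacter G // SetInv G S (χ : G → ℂ)} →
      {χ : IrrCharacter G // SetInv G T₁ (χ : G → ℂ)} := fun χ => ⟨χ.1, hmono χ.1 χ.2⟩
  have hA : ∀ (θ : G → ℂ), ElInv G s θ → ∀ φ : B → ℂ,
      classInner (fun b : B => θ ⟨b, hBG b.2⟩) (fun b => φ (σ b)) =
        classInner (fun b : B => θ ⟨b, hBG b.2⟩) φ := by
    intro θ hθ φ
    rw [← classInner_comp_mulEquiv σ (fun b : B => θ ⟨b, hBG b.2⟩) φ]
    congr 1
    funext b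
    exact (hθ ⟨b, hBG b.2⟩ ⟨σ b, hBG (σ b).2⟩ rfl).symm
  -- the `T₁`-correspondent of an `S`-invariant character is `s`-invariant
  have hB' : ∀ χ : {χ : IrrCharacter G // SetInv G S (χ : G → ℂ)}, ∀ b,
      (f₁ (r χ) : B → ℂ) (σ b) = (f₁ (r χ) : B → ℂ) b := by
    intro χ
    have hχs : ElInv G s (χ.1 : G → ℂ) := χ.2 s hs
    obtain ⟨m, hm1, hm2⟩ := hc₁ (r χ) (f₁ (r χ))
    obtain ⟨m', hm'1, hm'2⟩ := hc₁ (r χ) (irrCongr σ (f₁ (r χ)))
    have hmm : m' = m := by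
      have : (m' : ℂ) = m := by
        rw [← hm'1, ← hm1]
        exact hA (χ.1 : G → ℂ) hχs (f₁ (r χ) : B → ℂ)
      exact_mod_cast this
    have hnd : ¬ p ∣ m := by
      rcases hm2 with ⟨_, h⟩ | ⟨h, _⟩
      · exact not_dvd_of_pm_one h
      · exact absurd rfl h
    rcases hm'2 with ⟨h, _⟩ | ⟨_, h⟩
    · intro b
      have := congrArg (fun θ : IrrCharacter B => (θ : B → ℂ) b) h
      exact this
    · rw [hmm] at h; exact absurd h hnd
  let f : {χ : IrrCharacter G // SetInv G S (χ : G → ℂ)} → IrrCharacter C :=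
    fun χ => f₂ ⟨f₁ (r χ), hB' χ⟩
  have hinj : Function.Injective f := by
    intro χ χ' h
    have h1 := hf₂.1 h
    have h2 : f₁ (r χ) = f₁ (r χ') := congrArg Subtype.val h1
    have h3 : r χ = r χ' := hf₁.1 h2
    have h4 : (r χ).1 = (r χ').1 := congrArg Subtype.val h3
    exact Subtype.ext h4
  have hsurj : Function.Surjective f := by
    intro β
    obtain ⟨⟨ψ, hψ⟩, hψβ⟩ := hf₂.2 β
    obtain ⟨χ₁, hχ₁⟩ := hf₁.2 ψ
    have hsG : ∀ g ∈ G, s * g * s⁻¹ ∈ G := hSG s hs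
    have hsG' : ∀ g ∈ G, s⁻¹ * g * s ∈ G := by
      intro g hg
      have := hSG s⁻¹ (S.inv_mem hs) g hg
      rwa [inv_inv] at this
    set τ : MulAut G := conjAut G s hsG hsG' with hτ
    let χ' : IrrCharacter G := irrCongr τ χ₁.1
    have hχ'inv : SetInv G T₁ (χ' : G → ℂ) := by
      intro t ht g g' hg
      show (χ₁.1 : G → ℂ) (τ g') = (χ₁.1 : G → ℂ) (τ g)
      apply χ₁.2 (s * t * s⁻¹) (hST₁ s hs t ht) (τ g) (τ g')
      rw [conjAut_apply, conjAut_apply, hg]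
      group
    obtain ⟨m, hm1, hm2⟩ := hc₁ χ₁ ψ
    obtain ⟨m', hm'1, hm'2⟩ := hc₁ ⟨χ', hχ'inv⟩ ψ
    have hmm : m' = m := by
      have : (m' : ℂ) = m := by
        rw [← hm'1, ← hm1,
          ← classInner_comp_mulEquiv σ (fun b : B => (χ₁.1 : G → ℂ) ⟨b, hBG b.2⟩) (ψ : B → ℂ)]
        congr 1
        funext b
        exact (hψ b).symm
      exact_mod_cast this
    have hnd : ¬ p ∣ m := by
      rcases hm2 with ⟨_, h⟩ | ⟨h, _⟩
      · exact not_dvd_of_pm_one h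
      · exact absurd hχ₁.symm h
    have h5 : (⟨χ', hχ'inv⟩ : {χ : IrrCharacter G // SetInv G T₁ (χ : G → ℂ)}) = χ₁ := by
      apply hf₁.1
      rw [hχ₁]
      rcases hm'2 with ⟨h, _⟩ | ⟨_, h⟩
      · exact h.symm
      · rw [hmm] at h; exact absurd h hnd
    have h6 : χ' = χ₁.1 := congrArg Subtype.val h5
    have hsinv : ElInv G s (χ₁.1 : G → ℂ) := by
      intro g g' hg
      have h7 : (χ' : G → ℂ) g = (χ₁.1 : G → ℂ) g := by rw [h6]
      rw [← h7]
      show (χ₁.1 : G → ℂ) g' = (χ₁.1 : G → ℂ) (τ g)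
      have h8 : g' = τ g := by
        apply Subtype.ext
        rw [hg, conjAut_apply]
      rw [h8]
    refine ⟨⟨χ₁.1, setInv_of_sup hSG hs hT₁S hgen χ₁.2 hsinv⟩, ?_⟩
    show f₂ ⟨f₁ (r ⟨χ₁.1, _⟩), _⟩ = β
    rw [← hψβ]
    congr 1
    apply Subtype.ext
    show f₁ (r ⟨χ₁.1, _⟩) = ψ
    rw [← hχ₁]
  refine ⟨f, ⟨hinj, hsurj⟩, ?_⟩
  intro χ β
  have _ : Fintype (IrrCharacter B) := Fintype.ofFinite _
  have hχs : ElInv G s (χ.1 : G → ℂ) := χ.2 s hs
  set θB : B → ℂ := fun b => (χ.1 : G → ℂ) ⟨b, hBG b.2⟩ with hθBdef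
  have hθB : IsCharacter B θB :=
    Cfsg.Agent.Lib.Helper83.isCharacter_comp_hom (Subgroup.inclusion hBG)
      (Cfsg.Agent.Lib.Helper83.IrrCharacter_isCharacter χ.1)
  set a : IrrCharacter B → ℕ := fun φ => Cfsg.Agent.Lib.Helper83.irrMult θB φ with hadef
  have ha : ∀ φ : IrrCharacter B, (a φ : ℂ) = classInner θB (φ : B → ℂ) := fun φ =>
    Cfsg.Agent.Lib.Helper83.irrMult_cast hθB φ
  have hbex : ∀ φ : IrrCharacter B, ∃ n : ℕ,
      classInner (fun c : C => (φ : B → ℂ) (Subgroup.inclusion hCB c)) (β : C → ℂ) = n :=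
    fun φ => Cfsg.Agent.Lib.Helper83.classInner_char_nat
      (Cfsg.Agent.Lib.Helper83.isCharacter_comp_hom (Subgroup.inclusion hCB)
        (Cfsg.Agent.Lib.Helper83.IrrCharacter_isCharacter φ))
      (Cfsg.Agent.Lib.Helper83.IrrCharacter_isCharacter β)
  choose b hb using hbex
  have hexp : classInner (fun c : C => (χ.1 : G → ℂ) ⟨c, hCG c.2⟩) (β : C → ℂ) =
      ((∑ φ, a φ * b φ : ℕ) : ℂ) := by
    have hdec := Cfsg.Agent.Lib.Helper83.char_eq_sum_irrMult hθB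
    have h1 : (fun c : C => (χ.1 : G → ℂ) ⟨c, hCG c.2⟩) =
        ∑ φ : IrrCharacter B, (a φ : ℂ) •
          (fun c : C => (φ : B → ℂ) (Subgroup.inclusion hCB c)) := by
      funext c
      have h2 : (χ.1 : G → ℂ) ⟨c, hCG c.2⟩ = θB (Subgroup.inclusion hCB c) := rfl
      rw [h2, hdec, Finset.sum_apply, Finset.sum_apply]
      rfl
    rw [h1, classInner_sum_left]
    push_cast
    apply Finset.sum_congr rfl
    intro φ _
    rw [classInner_smul_left, hb φ]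
  let π : Equiv.Perm (IrrCharacter B) := irrCongr σ
  have hπp : π ^ p = 1 := by
    show (irrCongr σ : Equiv.Perm (IrrCharacter B)) ^ p = 1
    rw [← irrCongr_pow, hσp, irrCongr_one]
  have haπ : ∀ φ, a (π φ) = a φ := by
    intro φ
    have : (a (π φ) : ℂ) = a φ := by
      rw [ha, ha]
      exact hA (χ.1 : G → ℂ) hχs (φ : B → ℂ)
    exact_mod_cast this
  have hbπ : ∀ φ, b (π φ) = b φ := by
    intro φ
    have : (b (π φ) : ℂ) = b φ := by
      rw [← hb, ← hb]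
      congr 1
      funext c
      show (φ : B → ℂ) (σ (Subgroup.inclusion hCB c)) = _
      rw [(hfix _).mpr ⟨c, rfl⟩]
    exact_mod_cast this
  set ψ := f₁ (r χ) with hψdef
  have hπψ : π ψ = ψ := Subtype.ext (funext (hB' χ))
  have hfixdvd : ∀ φ, π φ = φ → φ ≠ ψ → p ∣ a φ := by
    intro φ _ hne
    obtain ⟨m, hm1, hm2⟩ := hc₁ (r χ) φ
    have h3 : a φ = m := by
      have : (a φ : ℂ) = m := by rw [ha, ← hm1]
      exact_mod_cast this
    rcases hm2 with ⟨h, _⟩ | ⟨_, h⟩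
    · exact absurd h hne
    · rw [h3]; exact h
  have hmod := sum_mul_modEq_of_fixed p π hπp a b haπ hbπ ψ hπψ hfixdvd
  obtain ⟨m₁, hm₁1, hm₁2⟩ := hc₁ (r χ) ψ
  have ha₁ : a ψ = m₁ := by
    have : (a ψ : ℂ) = m₁ := by rw [ha, ← hm₁1]
    exact_mod_cast this
  obtain ⟨m₂, hm₂1, hm₂2⟩ := hc₂ ⟨ψ, hB' χ⟩ β
  have hb₂ : b ψ = m₂ := by
    have : (b ψ : ℂ) = m₂ := by rw [← hb, ← hm₂1]
    exact_mod_cast this
  refine ⟨∑ φ, a φ * b φ, hexp, ?_⟩
  have hpm : (a ψ : ℤ) ≡ 1 [ZMOD p] ∨ (a ψ : ℤ) ≡ -1 [ZMOD p] := by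
    rw [ha₁]
    rcases hm₁2 with ⟨_, h⟩ | ⟨h, _⟩
    · exact h
    · exact absurd rfl h
  have hM : ((∑ φ, a φ * b φ : ℕ) : ℤ) ≡ (a ψ : ℤ) * (b ψ : ℤ) [ZMOD p] := by
    have := (Int.natCast_modEq_iff).mpr hmod
    push_cast at this ⊢
    exact this
  rcases hm₂2 with ⟨h, hpm2⟩ | ⟨h, hd⟩
  · left
    refine ⟨h, ?_⟩
    rw [← hb₂] at hpm2
    rcases hpm with h1 | h1 <;> rcases hpm2 with h2 | h2
    · left; simpa using hM.trans (h1.mul h2)
    · right; simpa using hM.trans (h1.mul h2)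
    · right; simpa using hM.trans (h1.mul h2)
    · left; simpa using hM.trans (h1.mul h2)
  · right
    refine ⟨h, ?_⟩
    have h8 : p ∣ a ψ * b ψ := Dvd.dvd.mul_left (hb₂ ▸ hd) _
    exact (Nat.modEq_zero_iff_dvd.mp (hmod.trans (Nat.modEq_zero_iff_dvd.mpr h8)))

end GlaubRel

end Cfsg.Agent.Lib.Helper04
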