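import Mathlib
import Cfsg.Agent.Lib.Helper04.GlaubRel
import Cfsg.Agent.Lib.Helper12.Schmidt

set_option autoImplicit false

namespace Cfsg.Agent.Lib.Helper04

open scoped ComplexConjugate
open Cfsg

universe u

section GlaubInd

variable {Γ : Type u} [Group Γ] [Finite Γ]

/-- a normal subgroup of index `p` above a normal subgroup of `p`-power index. -/
theorem exists_index_p_normal (p : ℕ) [hp : Fact p.Prime] (S T : Subgroup Γ) (hTS : T ≤ S)
    (hnorm : ∀ s ∈ S, ∀ t ∈ T, s * t * s⁻¹ ∈ T) (k : ℕ) (hidx : T.relIndex S = p ^ (k + 1)) :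
    ∃ T₁ : Subgroup Γ, T ≤ T₁ ∧ T₁ ≤ S ∧ (∀ s ∈ S, ∀ t ∈ T₁, s * t * s⁻¹ ∈ T₁) ∧
      T₁.relIndex S = p ∧ T.relIndex T₁ = p ^ k ∧ ∀ s ∈ S, s ^ p ∈ T₁ := by
  classical
  let T' : Subgroup S := T.subgroupOf S
  have hT'n : T'.Normal := by
    constructor
    intro n hn g
    rw [Subgroup.mem_subgroupOf] at hn ⊢
    exact hnorm g g.2 n hn
  let Q := S ⧸ T'
  have hQcard : Nat.card Q = p ^ (k + 1) := by
    rw [← hidx]
    rfl
  have hQp : IsPGroup p Q := IsPGroup.of_card hQcard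
  have hQnt : Nontrivial Q := by
    rw [← Finite.one_lt_card_iff_nontrivial, hQcard]
    exact Nat.one_lt_pow (Nat.succ_ne_zero k) hp.out.one_lt
  have hQnil : Group.IsNilpotent Q := hQp.isNilpotent
  obtain ⟨M, hMn, hMidx⟩ := Cfsg.Agent.Lib.Helper12.exists_normal_prime_index (G := Q)
  have hMp : M.index = p := by
    have h1 : M.index ∣ p ^ (k + 1) := by
      rw [← hQcard]; exact Subgroup.index_dvd_card M
    exact (Nat.prime_dvd_prime_iff_eq hMidx hp.out).mp (hMidx.dvd_of_dvd_pow h1)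
  let T₁' : Subgroup S := M.comap (QuotientGroup.mk' T')
  have hT₁'n : T₁'.Normal := hMn.comap _
  have hT₁'idx : T₁'.index = p := by
    rw [Subgroup.index_comap_of_surjective M (QuotientGroup.mk'_surjective T'), hMp]
  have hT'le : T' ≤ T₁' := by
    intro x hx
    rw [Subgroup.mem_comap]
    have : (QuotientGroup.mk' T') x = 1 := (QuotientGroup.eq_one_iff x).mpr hx
    rw [this]
    exact M.one_mem
  let T₁ : Subgroup Γ := T₁'.map S.subtype
  have hT₁S : T₁ ≤ S := Subgroup.map_subtype_le T₁'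
  have hsub : T₁.subgroupOf S = T₁' :=
    Subgroup.comap_map_eq_self_of_injective (Subgroup.subtype_injective S) T₁'
  have hTT₁ : T ≤ T₁ := by
    intro t ht
    exact ⟨⟨t, hTS ht⟩, hT'le (Subgroup.mem_subgroupOf.mpr ht), rfl⟩
  have hrel : T₁.relIndex S = p := by
    rw [Subgroup.relIndex, hsub, hT₁'idx]
  refine ⟨T₁, hTT₁, hT₁S, ?_, hrel, ?_, ?_⟩
  · intro s hs t ht
    obtain ⟨t', ht', rfl⟩ := ht
    exact ⟨⟨s, hs⟩ * t' * ⟨s, hs⟩⁻¹, hT₁'n.conj_mem t' ht' ⟨s, hs⟩, rfl⟩
  · have h1 := Subgroup.relIndex_mul_relIndex T T₁ S hTT₁ hT₁S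
    rw [hrel, hidx, pow_succ] at h1
    exact Nat.eq_of_mul_eq_mul_right hp.out.pos h1
  · intro s hs
    have h1 := Subgroup.pow_index_mem T₁' (⟨s, hs⟩ : S)
    rw [hT₁'idx] at h1
    exact ⟨⟨s, hs⟩ ^ p, h1, rfl⟩

/-- **the relative Glauberman correspondence for `p`-groups of operators** -/
theorem glaub_rel (p : ℕ) [hp : Fact p.Prime] : ∀ (k : ℕ) (G S T C : Subgroup Γ) [Fintype C]
    (hCG : C ≤ G), (∀ s ∈ S, ∀ g ∈ G, s * g * s⁻¹ ∈ G) → (0 < k → (Nat.card G).Coprime p) →
    T ≤ S → (∀ s ∈ S, ∀ t ∈ T, s * t * s⁻¹ ∈ T) → (∀ t ∈ T, ∀ g ∈ G, t * g = g * t) →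
    T.relIndex S = p ^ k → C = G ⊓ Subgroup.centralizer (S : Set Γ) →
    GlaubCorr p G S C hCG := by
  intro k
  induction k with
  | zero =>
    intro G S T C _ hCG hSG _ hTS _ hcent hidx hC
    classical
    rw [pow_zero, Subgroup.relIndex_eq_one] at hidx
    have hScent : ∀ x ∈ S, ∀ g ∈ G, x * g = g * x := fun x hx g hg => hcent x (hidx hx) g hg
    have hCeq : C = G := by
      rw [hC]
      apply inf_eq_left.mpr
      intro g hg
      rw [Subgroup.mem_centralizer_iff]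
      intro x hx
      exact hScent x hx g hg
    subst hCeq
    refine ⟨fun χ => χ.1, ⟨Subtype.val_injective, ?_⟩, ?_⟩
    · intro χ
      refine ⟨⟨χ, ?_⟩, rfl⟩
      intro x hx g g' hg
      have : g' = g := by
        apply Subtype.ext
        rw [hg, hScent x hx g g.2, mul_inv_cancel_right]
      rw [this]
    · intro χ β
      have h1 : classInner (fun c : C => (χ.1 : C → ℂ) ⟨c, hCG c.2⟩) (β : C → ℂ) =
          if χ.1 = β then 1 else 0 :=
        Cfsg.Agent.Lib.Helper83.irr_orthonormal χ.1 β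
      by_cases h : β = χ.1
      · refine ⟨1, ?_, Or.inl ⟨h, Or.inl ?_⟩⟩
        · rw [h1, if_pos h.symm]; simp
        · simp
      · refine ⟨0, ?_, Or.inr ⟨h, dvd_zero p⟩⟩
        rw [h1, if_neg (fun h' => h h'.symm)]; simp
  | succ k ih =>
    intro G S T C _ hCG hSG hcop hTS hST hcent hidx hC
    classical
    have hcop' : (Nat.card G).Coprime p := hcop (Nat.succ_pos k)
    obtain ⟨T₁, hTT₁, hT₁S, hST₁, hrel, hrel', hpow⟩ := exists_index_p_normal p S T hTS hST k hidx
    -- an element outside `T₁`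
    have hnle : ¬ S ≤ T₁ := by
      rw [← Subgroup.relIndex_eq_one, hrel]
      exact hp.out.one_lt.ne'
    obtain ⟨s, hs, hsT₁⟩ := SetLike.not_le_iff_exists.mp hnle
    have hgen : S ≤ T₁ ⊔ Subgroup.zpowers s := by
      set U : Subgroup Γ := T₁ ⊔ Subgroup.zpowers s with hU
      have hT₁U : T₁ ≤ U := le_sup_left
      have hUS : U ≤ S := sup_le hT₁S (by rw [Subgroup.zpowers_le]; exact hs)
      have h1 := Subgroup.relIndex_mul_relIndex T₁ U S hT₁U hUS
      rw [hrel] at h1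
      have h2 : T₁.relIndex U ∣ p := Dvd.intro _ h1
      rcases (Nat.dvd_prime hp.out).mp h2 with h3 | h3
      · exfalso
        rw [Subgroup.relIndex_eq_one] at h3
        exact hsT₁ (h3 (Subgroup.mem_sup_right (Subgroup.mem_zpowers s)))
      · rw [h3] at h1
        have h4 : U.relIndex S = 1 := by
          have : p * U.relIndex S = p * 1 := by rw [h1, mul_one]
          exact Nat.eq_of_mul_eq_mul_left hp.out.pos this
        rw [Subgroup.relIndex_eq_one] at h4
        exact h4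
    set B : Subgroup Γ := G ⊓ Subgroup.centralizer (T₁ : Set Γ) with hB
    have _ : Fintype B := Fintype.ofFinite B
    have hBG : B ≤ G := inf_le_left
    have hCB : C ≤ B := by
      rw [hC, hB]
      apply inf_le_inf_left
      exact Subgroup.centralizer_le hT₁S
    have h₁ : GlaubCorr p G T₁ B hBG :=
      ih G T₁ T B hBG (fun x hx => hSG x (hT₁S hx)) (fun _ => hcop') hTT₁
        (fun x hx => hST x (hT₁S hx)) hcent hrel' rfl
    exact glaubCorr_step p G S T₁ B C hBG hCB hCG hSG s hs hT₁S hST₁ hgen (hpow s hs) hcop' rfl hC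
      h₁

end GlaubInd

end Cfsg.Agent.Lib.Helper04
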