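import Mathlib
import Cfsg.Agent.Lib.Helper04.GlaubInd

set_option autoImplicit false

namespace Cfsg.Agent.Lib.Helper04

open scoped ComplexConjugate
open Cfsg

universe u

section GlaubEquiv

variable {Γ : Type u} [Group Γ]

/-- `θ'` is the `x`-conjugate of `θ`: `θ' (x h x⁻¹) = θ h`. -/
def ConjRel (H : Subgroup Γ) (x : Γ) (θ θ' : H → ℂ) : Prop :=
  ∀ h h' : H, (h' : Γ) = x * h * x⁻¹ → θ' h' = θ h

theorem ConjRel.unique {H : Subgroup Γ} {x : Γ} (hx' : ∀ h ∈ H, x⁻¹ * h * x ∈ H)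
    {θ θ' θ'' : H → ℂ} (h1 : ConjRel H x θ θ') (h2 : ConjRel H x θ θ'') : θ' = θ'' := by
  funext h'
  have h3 : ((h' : H) : Γ) = x * ((⟨x⁻¹ * h' * x, hx' h' h'.2⟩ : H) : Γ) * x⁻¹ := by
    show (h' : Γ) = x * (x⁻¹ * h' * x) * x⁻¹
    group
  rw [h1 _ h' h3, h2 _ h' h3]

theorem ConjRel.injective {H : Subgroup Γ} {x : Γ} (hx : ∀ h ∈ H, x * h * x⁻¹ ∈ H)
    {θ θ₂ θ' : H → ℂ} (h1 : ConjRel H x θ θ') (h2 : ConjRel H x θ₂ θ') : θ = θ₂ := by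
  funext h
  rw [← h1 h ⟨x * h * x⁻¹, hx h h.2⟩ rfl, ← h2 h ⟨x * h * x⁻¹, hx h h.2⟩ rfl]

theorem ConjRel.restrict {H C : Subgroup Γ} (hCH : C ≤ H) {x : Γ} {θ θ' : H → ℂ}
    (h : ConjRel H x θ θ') :
    ConjRel C x (fun c : C => θ ⟨c, hCH c.2⟩) (fun c : C => θ' ⟨c, hCH c.2⟩) := by
  intro c c' hc
  exact h ⟨c, hCH c.2⟩ ⟨c', hCH c'.2⟩ hc

/-- the conjugate character. -/
theorem exists_conjRel [Finite Γ] (H : Subgroup Γ) (x : Γ) (hx : ∀ h ∈ H, x * h * x⁻¹ ∈ H)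
    (hx' : ∀ h ∈ H, x⁻¹ * h * x ∈ H) (θ : IrrCharacter H) :
    ∃ θ' : IrrCharacter H, ConjRel H x (θ : H → ℂ) (θ' : H → ℂ) := by
  have hx'' : ∀ h ∈ H, x⁻¹⁻¹ * h * x⁻¹ ∈ H := by
    intro h hh; rw [inv_inv]; exact hx h hh
  have hx3 : ∀ h ∈ H, x⁻¹ * h * x⁻¹⁻¹ ∈ H := by
    intro h hh; rw [inv_inv]; exact hx' h hh
  refine ⟨irrCongr (conjAut H x⁻¹ hx3 hx'') θ, ?_⟩
  intro h h' hh
  show (θ : H → ℂ) (conjAut H x⁻¹ hx3 hx'' h') = (θ : H → ℂ) h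
  have h4 : conjAut H x⁻¹ hx3 hx'' h' = h := by
    apply Subtype.ext
    rw [conjAut_apply, hh]
    group
  rw [h4]

theorem ConjRel.classInner_eq {H : Subgroup Γ} [Fintype H] {x : Γ}
    (hx : ∀ h ∈ H, x * h * x⁻¹ ∈ H) (hx' : ∀ h ∈ H, x⁻¹ * h * x ∈ H) {θ θ' φ φ' : H → ℂ}
    (h1 : ConjRel H x θ θ') (h2 : ConjRel H x φ φ') : classInner θ' φ' = classInner θ φ := by
  rw [← classInner_comp_mulEquiv (conjAut H x hx hx') θ' φ']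
  congr 1
  · funext h
    exact h1 h _ rfl
  · funext h
    exact h2 h _ rfl

variable [Finite Γ]

/-- the `p`-group correspondence is equivariant. -/
theorem glaubCorr_equivariant {p : ℕ} [hp : Fact p.Prime] {G S C : Subgroup Γ} [Fintype C]
    {hCG : C ≤ G}
    (f : {χ : IrrCharacter G // SetInv G S (χ : G → ℂ)} → IrrCharacter C)
    (hc : ∀ (χ : {χ : IrrCharacter G // SetInv G S (χ : G → ℂ)}) (β : IrrCharacter C), ∃ m : ℕ,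
      classInner (fun c : C => (χ.1 : G → ℂ) ⟨c, hCG c.2⟩) (β : C → ℂ) = (m : ℂ) ∧
      ((β = f χ ∧ ((m : ℤ) ≡ 1 [ZMOD p] ∨ (m : ℤ) ≡ -1 [ZMOD p])) ∨ (β ≠ f χ ∧ p ∣ m)))
    (x : Γ) (hxC : ∀ c ∈ C, x * c * x⁻¹ ∈ C) (hxC' : ∀ c ∈ C, x⁻¹ * c * x ∈ C)
    (χ χ' : {χ : IrrCharacter G // SetInv G S (χ : G → ℂ)})
    (h : ConjRel G x (χ.1 : G → ℂ) (χ'.1 : G → ℂ)) :
    ConjRel C x (f χ : C → ℂ) (f χ' : C → ℂ) := by
  obtain ⟨β', hβ'⟩ := exists_conjRel C x hxC hxC' (f χ)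
  obtain ⟨m, hm1, hm2⟩ := hc χ (f χ)
  obtain ⟨m', hm'1, hm'2⟩ := hc χ' β'
  have hmm : m' = m := by
    have : (m' : ℂ) = m := by
      rw [← hm'1, ← hm1]
      exact ConjRel.classInner_eq hxC hxC' (h.restrict hCG) hβ'
    exact_mod_cast this
  have hnd : ¬ p ∣ m := by
    rcases hm2 with ⟨_, h⟩ | ⟨h, _⟩
    · exact not_dvd_of_pm_one h
    · exact absurd rfl h
  rcases hm'2 with ⟨h3, _⟩ | ⟨_, h3⟩
  · rw [← h3]; exact hβ'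
  · rw [hmm] at h3; exact absurd h3 hnd

end GlaubEquiv

end Cfsg.Agent.Lib.Helper04
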