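import Mathlib
import Cfsg.Agent.Lib.Helper04.GlaubEquiv

set_option autoImplicit false

namespace Cfsg.Agent.Lib.Helper04

open scoped ComplexConjugate
open Cfsg

universe u

section GlaubSolv

variable {Γ : Type u} [Group Γ]

/-- `O^q(S)` as a subgroup of the ambient group. -/
def OqOf (S : Subgroup Γ) (q : ℕ) : Subgroup Γ :=
  Subgroup.closure {y : Γ | y ∈ S ∧ ¬ q ∣ orderOf y}

theorem OqOf_le (S : Subgroup Γ) (q : ℕ) : OqOf S q ≤ S := by
  rw [OqOf, Subgroup.closure_le]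
  intro y hy
  exact hy.1

theorem OqOf_eq_map (S : Subgroup Γ) (q : ℕ) : OqOf S q = (OpRes S q).map S.subtype := by
  rw [OqOf, OpRes, MonoidHom.map_closure]
  congr 1
  ext y
  constructor
  · rintro ⟨h1, h2⟩
    refine ⟨⟨y, h1⟩, ?_, rfl⟩
    show ¬ q ∣ orderOf (⟨y, h1⟩ : S)
    rw [Subgroup.orderOf_mk]
    exact h2
  · rintro ⟨y', hy', rfl⟩
    refine ⟨y'.2, ?_⟩
    have : ¬ q ∣ orderOf y' := hy'
    rw [← Subgroup.orderOf_coe] at this
    exact this

theorem OqOf_conj_mem (S : Subgroup Γ) (q : ℕ) (x : Γ) (hx : ∀ s ∈ S, x * s * x⁻¹ ∈ S) :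
    ∀ t ∈ OqOf S q, x * t * x⁻¹ ∈ OqOf S q := by
  have h : (OqOf S q).map (MulAut.conj x).toMonoidHom ≤ OqOf S q := by
    rw [OqOf, MonoidHom.map_closure, Subgroup.closure_le]
    rintro _ ⟨y, ⟨hy1, hy2⟩, rfl⟩
    apply Subgroup.subset_closure
    refine ⟨hx y hy1, ?_⟩
    have : orderOf ((MulAut.conj x) y) = orderOf y := MulEquiv.orderOf_eq (MulAut.conj x) y
    show ¬ q ∣ orderOf ((MulAut.conj x) y)
    rw [this]
    exact hy2
  intro t ht
  exact h ⟨t, ht, rfl⟩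

theorem OqOf_relIndex [Finite Γ] (S : Subgroup Γ) (q : ℕ) [Fact q.Prime] :
    ∃ k : ℕ, (OqOf S q).relIndex S = q ^ k := by
  obtain ⟨k, hk⟩ := OpRes_index (G := S) q
  refine ⟨k, ?_⟩
  rw [OqOf_eq_map, Subgroup.relIndex]
  have : ((OpRes S q).map S.subtype).subgroupOf S = OpRes S q :=
    Subgroup.comap_map_eq_self_of_injective (Subgroup.subtype_injective S) _
  rw [this, hk]

/-- a nontrivial solvable group has a proper `O^q`. -/
theorem exists_OqOf_lt [Finite Γ] (S : Subgroup Γ) (hsolv : Group.IsSolvable S) (hne : S ≠ ⊥) :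
    ∃ (q k : ℕ), q.Prime ∧ 0 < k ∧ (OqOf S q).relIndex S = q ^ k := by
  have hnt : Nontrivial S := by
    rw [Subgroup.nontrivial_iff_ne_bot]; exact hne
  obtain ⟨M, hMn, hMidx⟩ := Cfsg.Agent.Lib.Helper12.exists_normal_prime_index (G := S)
  set q := M.index with hq
  have _ : Fact q.Prime := ⟨hMidx⟩
  obtain ⟨k, hk⟩ := OqOf_relIndex S q
  refine ⟨q, k, hMidx, ?_, hk⟩
  by_contra hk0
  have hk0' : k = 0 := by omega
  rw [hk0', pow_zero, Subgroup.relIndex_eq_one] at hk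
  -- then `OpRes S q = ⊤ ≤ M`
  have hle : OpRes S q ≤ M := by
    rw [OpRes, Subgroup.closure_le]
    intro y hy
    have hy' : ¬ q ∣ orderOf y := hy
    have h1 : y ^ q ∈ M := by
      have := Subgroup.pow_index_mem M y
      rwa [← hq] at this
    have hcop : Nat.Coprime q (orderOf y) := (Nat.Prime.coprime_iff_not_dvd hMidx).mpr hy'
    have h2 : y ^ (orderOf y) ∈ M := by rw [pow_orderOf_eq_one]; exact M.one_mem
    have h3 : y ^ (Nat.gcd q (orderOf y)) ∈ M := by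
      rw [← zpow_natCast, Nat.gcd_eq_gcd_ab, zpow_add, zpow_mul, zpow_mul, zpow_natCast,
        zpow_natCast]
      exact M.mul_mem (M.zpow_mem h1 _) (M.zpow_mem h2 _)
    rw [hcop, pow_one] at h3
    exact h3
  have hMtop : M = ⊤ := by
    rw [eq_top_iff]
    intro y _
    apply hle
    have hy : (y : Γ) ∈ OqOf S q := hk y.2
    rw [OqOf_eq_map] at hy
    obtain ⟨y', hy', hyy'⟩ := hy
    have : y' = y := Subtype.ext hyy'
    rw [← this]; exact hy'
  have : q = 1 := by rw [hq, hMtop]; exact Subgroup.index_top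
  rw [this] at hMidx
  exact Nat.not_prime_one hMidx

/-- `x` normalizes `G ⊓ C(T)` if it normalizes `G` and `T`. -/
theorem conj_mem_inf_centralizer {G T : Subgroup Γ} {x : Γ} (hxG : ∀ g ∈ G, x * g * x⁻¹ ∈ G)
    (hxT : ∀ t ∈ T, x⁻¹ * t * x ∈ T) :
    ∀ b ∈ G ⊓ Subgroup.centralizer (T : Set Γ),
      x * b * x⁻¹ ∈ G ⊓ Subgroup.centralizer (T : Set Γ) := by
  intro b hb
  rw [Subgroup.mem_inf] at hb ⊢
  refine ⟨hxG b hb.1, ?_⟩
  rw [Subgroup.mem_centralizer_iff]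
  intro t ht
  have h2 := (Subgroup.mem_centralizer_iff.mp hb.2) (x⁻¹ * t * x) (hxT t ht)
  calc t * (x * b * x⁻¹) = x * ((x⁻¹ * t * x) * b) * x⁻¹ := by group
    _ = x * (b * (x⁻¹ * t * x)) * x⁻¹ := by rw [h2]
    _ = x * b * x⁻¹ * t := by group

/-- an equivariant bijective correspondence. -/
def EqCorr (G S C : Subgroup Γ) : Prop :=
  ∃ f : {χ : IrrCharacter G // SetInv G S (χ : G → ℂ)} → IrrCharacter C, Function.Bijective f ∧
    ∀ x : Γ, (∀ g ∈ G, x * g * x⁻¹ ∈ G) → (∀ g ∈ G, x⁻¹ * g * x ∈ G) →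
      (∀ s ∈ S, x * s * x⁻¹ ∈ S) → (∀ s ∈ S, x⁻¹ * s * x ∈ S) →
      ∀ χ χ' : {χ : IrrCharacter G // SetInv G S (χ : G → ℂ)},
        ConjRel G x (χ.1 : G → ℂ) (χ'.1 : G → ℂ) → ConjRel C x (f χ : C → ℂ) (f χ' : C → ℂ)

theorem conj_mem_inf_centralizer' {G T : Subgroup Γ} {x : Γ} (hxG : ∀ g ∈ G, x⁻¹ * g * x ∈ G)
    (hxT : ∀ t ∈ T, x * t * x⁻¹ ∈ T) :
    ∀ b ∈ G ⊓ Subgroup.centralizer (T : Set Γ),
      x⁻¹ * b * x ∈ G ⊓ Subgroup.centralizer (T : Set Γ) := by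
  have h := conj_mem_inf_centralizer (G := G) (T := T) (x := x⁻¹)
    (by intro g hg; rw [inv_inv]; exact hxG g hg) (by intro t ht; rw [inv_inv]; exact hxT t ht)
  intro b hb
  have := h b hb
  rwa [inv_inv] at this

variable [Finite Γ]

theorem eqCorr_of_bot (G C : Subgroup Γ)
    (hC : C = G ⊓ Subgroup.centralizer ((⊥ : Subgroup Γ) : Set Γ)) : EqCorr G ⊥ C := by
  have hCeq : C = G := by
    rw [hC]
    apply inf_eq_left.mpr
    intro g _
    rw [Subgroup.mem_centralizer_iff]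
    intro x hx
    have hx1 : x = 1 := Subgroup.mem_bot.mp hx
    rw [hx1, one_mul, mul_one]
  subst hCeq
  refine ⟨fun χ => χ.1, ⟨Subtype.val_injective, ?_⟩, ?_⟩
  · intro χ
    refine ⟨⟨χ, ?_⟩, rfl⟩
    intro x hx g g' hg
    have hx1 : x = 1 := Subgroup.mem_bot.mp hx
    have : g' = g := by
      apply Subtype.ext
      rw [hg, hx1]; group
    rw [this]
  · intro x _ _ _ _ χ χ' h
    exact h

/-- **the Glauberman correspondence for solvable groups of operators, as an equivariant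
bijection.** -/
theorem eqCorr_solvable : ∀ (n : ℕ) (G S C : Subgroup Γ), Nat.card S ≤ n →
    (∀ s ∈ S, ∀ g ∈ G, s * g * s⁻¹ ∈ G) → (Nat.card G).Coprime (Nat.card S) →
    Group.IsSolvable S → C = G ⊓ Subgroup.centralizer (S : Set Γ) → EqCorr G S C := by
  intro n
  induction n with
  | zero =>
    intro G S C hn
    exfalso
    have := Nat.card_pos (α := S)
    omega
  | succ n ih =>
    intro G S C hn hSG hcop hsolv hC
    classical
    by_cases hS : S = ⊥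
    · subst hS; exact eqCorr_of_bot G C hC
    obtain ⟨q, k, hq, hk0, hrel⟩ := exists_OqOf_lt S hsolv hS
    have _ : Fact q.Prime := ⟨hq⟩
    set T := OqOf S q with hT
    have hTS : T ≤ S := OqOf_le S q
    have hcardT : Nat.card T * q ^ k = Nat.card S := by
      have h1 := Subgroup.relIndex_mul_relIndex ⊥ T S bot_le hTS
      rw [Subgroup.relIndex_bot_left, Subgroup.relIndex_bot_left, hrel] at h1
      exact h1
    have hTn : Nat.card T ≤ n := by
      have hpos : 0 < Nat.card T := Nat.card_pos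
      have h2 : 2 ≤ q ^ k := by
        calc 2 ≤ q := hq.two_le
          _ = q ^ 1 := (pow_one q).symm
          _ ≤ q ^ k := Nat.pow_le_pow_right hq.pos hk0
      nlinarith
    have hqS : q ∣ Nat.card S := by
      rw [← hcardT]
      exact Dvd.dvd.mul_left (dvd_pow_self q (by omega)) _
    have hcopq : (Nat.card G).Coprime q := Nat.Coprime.coprime_dvd_right hqS hcop
    have hcopT : (Nat.card G).Coprime (Nat.card T) :=
      Nat.Coprime.coprime_dvd_right (Dvd.intro _ hcardT) hcop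
    have hsolvT : Group.IsSolvable T :=
      Group.isSolvable_of_isSolvable_injective (f := Subgroup.inclusion hTS)
        (Subgroup.inclusion_injective hTS)
    have hST : ∀ s ∈ S, ∀ t ∈ T, s * t * s⁻¹ ∈ T := fun s hs =>
      OqOf_conj_mem S q s (fun y hy => S.mul_mem (S.mul_mem hs hy) (S.inv_mem hs))
    set B : Subgroup Γ := G ⊓ Subgroup.centralizer (T : Set Γ) with hB
    obtain ⟨f₁, hf₁, he₁⟩ := ih G T B hTn (fun t ht => hSG t (hTS ht)) hcopT hsolvT rfl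
    have _ : Fintype C := Fintype.ofFinite C
    have hBG : B ≤ G := inf_le_left
    have hCB : C ≤ B := by
      rw [hC]
      exact inf_le_inf_left _ (Subgroup.centralizer_le hTS)
    have hSB : ∀ s ∈ S, ∀ b ∈ B, s * b * s⁻¹ ∈ B := fun s hs =>
      conj_mem_inf_centralizer (hSG s hs) (fun t ht => by
        have := hST s⁻¹ (S.inv_mem hs) t ht
        rwa [inv_inv] at this)
    have hTB : ∀ t ∈ T, ∀ b ∈ B, t * b = b * t := fun t ht b hb =>
      (Subgroup.mem_centralizer_iff.mp (Subgroup.mem_inf.mp hb).2) t ht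
    have hC' : C = B ⊓ Subgroup.centralizer (S : Set Γ) := by
      rw [hC, hB, inf_assoc, inf_eq_right.mpr (Subgroup.centralizer_le hTS)]
    have hcopB : 0 < k → (Nat.card B).Coprime q := fun _ =>
      Nat.Coprime.coprime_dvd_left (Subgroup.card_dvd_of_le hBG) hcopq
    obtain ⟨f₂, hf₂, hc₂⟩ := glaub_rel q k B S T C hCB hSB hcopB hTS hST hTB hrel hC'
    have hmono : ∀ χ : IrrCharacter G, SetInv G S (χ : G → ℂ) → SetInv G T (χ : G → ℂ) :=
      fun χ h t ht => h t (hTS ht)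
    let r : {χ : IrrCharacter G // SetInv G S (χ : G → ℂ)} →
        {χ : IrrCharacter G // SetInv G T (χ : G → ℂ)} := fun χ => ⟨χ.1, hmono χ.1 χ.2⟩
    have hxS : ∀ x ∈ S, (∀ g ∈ G, x * g * x⁻¹ ∈ G) ∧ (∀ g ∈ G, x⁻¹ * g * x ∈ G) ∧
        (∀ t ∈ T, x * t * x⁻¹ ∈ T) ∧ (∀ t ∈ T, x⁻¹ * t * x ∈ T) := by
      intro x hx
      refine ⟨hSG x hx, ?_, hST x hx, ?_⟩
      · intro g hg
        have := hSG x⁻¹ (S.inv_mem hx) g hg
        rwa [inv_inv] at this
      · intro t ht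
        have := hST x⁻¹ (S.inv_mem hx) t ht
        rwa [inv_inv] at this
    have hinvB : ∀ χ : {χ : IrrCharacter G // SetInv G S (χ : G → ℂ)},
        SetInv B S (f₁ (r χ) : B → ℂ) := by
      intro χ x hx
      obtain ⟨h1, h2, h3, h4⟩ := hxS x hx
      exact he₁ x h1 h2 h3 h4 (r χ) (r χ) (χ.2 x hx)
    let f : {χ : IrrCharacter G // SetInv G S (χ : G → ℂ)} → IrrCharacter C :=
      fun χ => f₂ ⟨f₁ (r χ), hinvB χ⟩
    have hinj : Function.Injective f := by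
      intro χ χ' h
      have h1 := hf₂.1 h
      have h2 : f₁ (r χ) = f₁ (r χ') := congrArg Subtype.val h1
      have h3 : r χ = r χ' := hf₁.1 h2
      have h4 : (r χ).1 = (r χ').1 := congrArg Subtype.val h3
      exact Subtype.ext h4
    have hsurj : Function.Surjective f := by
      intro β
      obtain ⟨⟨ψ, hψ⟩, hψβ⟩ := hf₂.2 β
      obtain ⟨χ₁, hχ₁⟩ := hf₁.2 ψ
      have hχ₁S : SetInv G S (χ₁.1 : G → ℂ) := by
        intro x hx
        obtain ⟨h1, h2, h3, h4⟩ := hxS x hx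
        obtain ⟨χ', hχ'⟩ := exists_conjRel G x h1 h2 χ₁.1
        have hχ'T : SetInv G T (χ' : G → ℂ) := by
          intro t ht g g' hg
          have hg₀ : x⁻¹ * (g : Γ) * x ∈ G := h2 g g.2
          have hg₀' : x⁻¹ * (g' : Γ) * x ∈ G := h2 g' g'.2
          have e1 : (χ' : G → ℂ) g = (χ₁.1 : G → ℂ) ⟨x⁻¹ * g * x, hg₀⟩ :=
            hχ' ⟨_, hg₀⟩ g (by show (g : Γ) = x * (x⁻¹ * g * x) * x⁻¹; group)
          have e2 : (χ' : G → ℂ) g' = (χ₁.1 : G → ℂ) ⟨x⁻¹ * g' * x, hg₀'⟩ :=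
            hχ' ⟨_, hg₀'⟩ g' (by show (g' : Γ) = x * (x⁻¹ * g' * x) * x⁻¹; group)
          rw [e1, e2]
          apply χ₁.2 (x⁻¹ * t * x) (h4 t ht) ⟨_, hg₀⟩ ⟨_, hg₀'⟩
          show x⁻¹ * (g' : Γ) * x = (x⁻¹ * t * x) * (x⁻¹ * g * x) * (x⁻¹ * t * x)⁻¹
          rw [hg]
          group
        have h5 := he₁ x h1 h2 h3 h4 χ₁ ⟨χ', hχ'T⟩ hχ'
        have h6 : ConjRel B x (f₁ χ₁ : B → ℂ) (f₁ χ₁ : B → ℂ) := by
          rw [hχ₁]; exact hψ x hx
        have hxB' : ∀ b ∈ B, x⁻¹ * b * x ∈ B := by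
          intro b hb
          have := hSB x⁻¹ (S.inv_mem hx) b hb
          rwa [inv_inv] at this
        have h7 : (f₁ ⟨χ', hχ'T⟩ : B → ℂ) = (f₁ χ₁ : B → ℂ) := ConjRel.unique hxB' h5 h6
        have h8 : (⟨χ', hχ'T⟩ : {χ : IrrCharacter G // SetInv G T (χ : G → ℂ)}) = χ₁ :=
          hf₁.1 (Subtype.ext h7)
        have h9 : χ' = χ₁.1 := congrArg Subtype.val h8
        rw [h9] at hχ'
        exact hχ'
      refine ⟨⟨χ₁.1, hχ₁S⟩, ?_⟩
      show f₂ ⟨f₁ (r ⟨χ₁.1, _⟩), _⟩ = β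
      rw [← hψβ]
      congr 1
      apply Subtype.ext
      show f₁ (r ⟨χ₁.1, _⟩) = ψ
      rw [← hχ₁]
    refine ⟨f, ⟨hinj, hsurj⟩, ?_⟩
    intro x hxG hxG' hxS1 hxS2 χ χ' hχχ'
    have hxT : ∀ t ∈ T, x * t * x⁻¹ ∈ T := OqOf_conj_mem S q x hxS1
    have hxT' : ∀ t ∈ T, x⁻¹ * t * x ∈ T := by
      have := OqOf_conj_mem S q x⁻¹ (by intro y hy; rw [inv_inv]; exact hxS2 y hy)
      intro t ht
      have h2 := this t ht
      rwa [inv_inv] at h2
    have h1 : ConjRel B x (f₁ (r χ) : B → ℂ) (f₁ (r χ') : B → ℂ) :=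
      he₁ x hxG hxG' hxT hxT' (r χ) (r χ') hχχ'
    have hxC : ∀ c ∈ C, x * c * x⁻¹ ∈ C := by
      intro c hc
      have h2 := conj_mem_inf_centralizer (G := G) (T := S) (x := x) hxG hxS2 c (hC.le hc)
      exact hC.ge h2
    have hxC' : ∀ c ∈ C, x⁻¹ * c * x ∈ C := by
      intro c hc
      have h2 := conj_mem_inf_centralizer' (G := G) (T := S) (x := x) hxG' hxS1 c (hC.le hc)
      exact hC.ge h2
    show ConjRel C x (f₂ ⟨f₁ (r χ), hinvB χ⟩ : C → ℂ) (f₂ ⟨f₁ (r χ'), hinvB χ'⟩ : C → ℂ)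
    exact glaubCorr_equivariant (p := q) (G := B) (S := S) (C := C) (hCG := hCB) f₂ hc₂ x hxC hxC'
      ⟨f₁ (r χ), hinvB χ⟩ ⟨f₁ (r χ'), hinvB χ'⟩ h1

/-- the number of invariant irreducible characters. -/
theorem card_setInv_eq_card_irr (G S C : Subgroup Γ)
    (hSG : ∀ s ∈ S, ∀ g ∈ G, s * g * s⁻¹ ∈ G) (hcop : (Nat.card G).Coprime (Nat.card S))
    (hsolv : Group.IsSolvable S) (hC : C = G ⊓ Subgroup.centralizer (S : Set Γ)) :
    Nat.card {χ : IrrCharacter G // SetInv G S (χ : G → ℂ)} = Nat.card (IrrCharacter C) := by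
  obtain ⟨f, hf, _⟩ := eqCorr_solvable (Nat.card S) G S C le_rfl hSG hcop hsolv hC
  exact Nat.card_congr (Equiv.ofBijective f hf)

end GlaubSolv

end Cfsg.Agent.Lib.Helper04
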