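import Mathlib
import Cfsg.Agent.Lib.Helper04.GlaubSolv
import Cfsg.Agent.Lib.Helper85.Gallagher
import Cfsg.Agent.Lib.Helper85.CliffordCorr
import Cfsg.Agent.Lib.Helper80.DetCoprime
import Cfsg.Agent.Lib.Helper83.Constituent
import Cfsg.Agent.Lib.Helper05.CharDegree

/-!
# Counting irreducible characters of degree coprime to the index of a normal subgroup

If `M` is a normal subgroup of the finite group `X` with `(|M|, |X : M|) = 1`, the irreducible
characters of `X` of degree coprime to `|X : M|` are the products of an extension of an invariant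
irreducible character of `M` with a linear character of `X ⧸ M`.
-/

set_option autoImplicit false

namespace Cfsg.Agent.Lib.Helper04

open Cfsg

section CoprimeDegree

universe u

variable {X : Type u} [Group X] [Finite X]

/-- the degree of a function whose value at `1` is a natural number. -/
theorem charDegree_eq_of_apply_one {G : Type*} [Group G] {χ : G → ℂ} {d : ℕ} (h : χ 1 = d) :
    charDegree χ = d := by
  unfold charDegree
  rw [h, Complex.natCast_re, Nat.floor_natCast]

/-- invariance under the whole group of a function on a normal subgroup. -/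
def FullInv (M : Subgroup X) [hM : M.Normal] (θ : M → ℂ) : Prop :=
  ∀ (g : X) (n : M), θ ⟨g * n * g⁻¹, hM.conj_mem (n : X) n.2 g⟩ = θ n

/-- a chosen extension of an invariant irreducible character in the coprime situation. -/
theorem exists_ext_fullInv (M : Subgroup X) [hM : M.Normal]
    (hcop : (Nat.card M).Coprime M.index) (θ : IrrCharacter M) (hθ : FullInv M (θ : M → ℂ)) :
    ∃ χ : X → ℂ, IsIrrCharacter X χ ∧ ∀ n : M, χ n = (θ : M → ℂ) n :=
  Cfsg.Agent.Lib.Helper80.exists_ext_of_coprime M (θ : M → ℂ) θ.2 hθ hcop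

/-- the chosen extension. -/
noncomputable def chosenExt (M : Subgroup X) [hM : M.Normal]
    (hcop : (Nat.card M).Coprime M.index) (θ : IrrCharacter M) (hθ : FullInv M (θ : M → ℂ)) :
    X → ℂ :=
  Classical.choose (exists_ext_fullInv M hcop θ hθ)

theorem chosenExt_irr (M : Subgroup X) [hM : M.Normal]
    (hcop : (Nat.card M).Coprime M.index) (θ : IrrCharacter M) (hθ : FullInv M (θ : M → ℂ)) :
    IsIrrCharacter X (chosenExt M hcop θ hθ) :=
  (Classical.choose_spec (exists_ext_fullInv M hcop θ hθ)).1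

theorem chosenExt_apply (M : Subgroup X) [hM : M.Normal]
    (hcop : (Nat.card M).Coprime M.index) (θ : IrrCharacter M) (hθ : FullInv M (θ : M → ℂ))
    (n : M) : chosenExt M hcop θ hθ n = (θ : M → ℂ) n :=
  (Classical.choose_spec (exists_ext_fullInv M hcop θ hθ)).2 n

theorem chosenExt_restrict (M : Subgroup X) [hM : M.Normal]
    (hcop : (Nat.card M).Coprime M.index) (θ : IrrCharacter M) (hθ : FullInv M (θ : M → ℂ)) :
    (fun n : M => chosenExt M hcop θ hθ n) = (θ : M → ℂ) :=
  funext (chosenExt_apply M hcop θ hθ)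

/-- the product of a character of the quotient with the chosen extension. -/
noncomputable def gallProd (M : Subgroup X) [hM : M.Normal]
    (hcop : (Nat.card M).Coprime M.index) (θ : IrrCharacter M) (hθ : FullInv M (θ : M → ℂ))
    (β : IrrCharacter (X ⧸ M)) : X → ℂ :=
  fun g => (β : X ⧸ M → ℂ) (QuotientGroup.mk g) * chosenExt M hcop θ hθ g

theorem gallProd_irr (M : Subgroup X) [hM : M.Normal]
    (hcop : (Nat.card M).Coprime M.index) (θ : IrrCharacter M) (hθ : FullInv M (θ : M → ℂ))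
    (β : IrrCharacter (X ⧸ M)) : IsIrrCharacter X (gallProd M hcop θ hθ β) := by
  classical
  have : Fintype X := Fintype.ofFinite X
  have : Fintype M := Fintype.ofFinite M
  have h := (Cfsg.Agent.Lib.Helper85.gallagher M (chosenExt_irr M hcop θ hθ)
    (by rw [chosenExt_restrict]; exact θ.2)).1 β
  exact h

theorem gallProd_apply_mem (M : Subgroup X) [hM : M.Normal]
    (hcop : (Nat.card M).Coprime M.index) (θ : IrrCharacter M) (hθ : FullInv M (θ : M → ℂ))
    (β : IrrCharacter (X ⧸ M)) (n : M) :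
    gallProd M hcop θ hθ β n = (β : X ⧸ M → ℂ) 1 * (θ : M → ℂ) n := by
  unfold gallProd
  rw [chosenExt_apply, (QuotientGroup.eq_one_iff (n : X)).mpr n.2]

theorem gallProd_apply_one (M : Subgroup X) [hM : M.Normal]
    (hcop : (Nat.card M).Coprime M.index) (θ : IrrCharacter M) (hθ : FullInv M (θ : M → ℂ))
    (β : IrrCharacter (X ⧸ M)) :
    gallProd M hcop θ hθ β 1 = (β : X ⧸ M → ℂ) 1 * (θ : M → ℂ) 1 :=
  gallProd_apply_mem M hcop θ hθ β 1

/-- degree of an irreducible character as a positive divisor of the group order. -/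
theorem exists_nat_degree {G : Type u} [Group G] [Finite G] (θ : IrrCharacter G) :
    ∃ d : ℕ, 0 < d ∧ (θ : G → ℂ) 1 = d ∧ d ∣ Nat.card G ∧ charDegree (θ : G → ℂ) = d := by
  obtain ⟨d, hd0, hd1, hd2⟩ := Cfsg.Agent.Lib.Helper05.exists_degree_dvd θ.2
  exact ⟨d, hd0, hd1, hd2, charDegree_eq_of_apply_one hd1⟩

theorem gallProd_coprime (M : Subgroup X) [hM : M.Normal]
    (hcop : (Nat.card M).Coprime M.index) (θ : IrrCharacter M) (hθ : FullInv M (θ : M → ℂ))
    (β : IrrCharacter (X ⧸ M)) (hβ : (β : X ⧸ M → ℂ) 1 = 1) :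
    (charDegree (gallProd M hcop θ hθ β)).Coprime M.index := by
  obtain ⟨d, _, hd1, hd2, _⟩ := exists_nat_degree θ
  have h1 : gallProd M hcop θ hθ β 1 = d := by
    rw [gallProd_apply_one, hβ, one_mul, hd1]
  rw [charDegree_eq_of_apply_one h1]
  exact Nat.Coprime.coprime_dvd_left hd2 hcop

/-- the map giving the bijection. -/
noncomputable def gallMap (M : Subgroup X) [hM : M.Normal]
    (hcop : (Nat.card M).Coprime M.index) :
    {θ : IrrCharacter M // FullInv M (θ : M → ℂ)} ×
      {β : IrrCharacter (X ⧸ M) // (β : X ⧸ M → ℂ) 1 = 1} →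
    {χ : IrrCharacter X // (charDegree (χ : X → ℂ)).Coprime M.index} :=
  fun p => ⟨⟨gallProd M hcop p.1.1 p.1.2 p.2.1, gallProd_irr M hcop p.1.1 p.1.2 p.2.1⟩,
    gallProd_coprime M hcop p.1.1 p.1.2 p.2.1 p.2.2⟩

theorem gallMap_injective (M : Subgroup X) [hM : M.Normal]
    (hcop : (Nat.card M).Coprime M.index) : Function.Injective (gallMap M hcop) := by
  classical
  have : Fintype X := Fintype.ofFinite X
  have : Fintype M := Fintype.ofFinite M
  rintro ⟨⟨θ, hθ⟩, ⟨β, hβ⟩⟩ ⟨⟨θ', hθ'⟩, ⟨β', hβ'⟩⟩ h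
  have h1 : gallProd M hcop θ hθ β = gallProd M hcop θ' hθ' β' := by
    have := congrArg (fun z => ((z.1 : IrrCharacter X) : X → ℂ)) h
    exact this
  have h2 : θ = θ' := by
    apply Subtype.ext
    funext n
    have := congrFun h1 (n : X)
    rw [gallProd_apply_mem, gallProd_apply_mem, hβ, hβ', one_mul, one_mul] at this
    exact this
  subst h2
  have h3 : β = β' := by
    by_contra hne
    have h4 := Cfsg.Agent.Lib.Helper85.gallagher_inner M (chosenExt_irr M hcop θ hθ)
      (by rw [chosenExt_restrict]; exact θ.2) β β'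
    rw [if_neg hne] at h4
    have h5 : classInner (gallProd M hcop θ hθ β) (gallProd M hcop θ hθ' β') = 0 := h4
    rw [← h1] at h5
    have h6 := Cfsg.Agent.Lib.Helper83.irr_inner_self
      (⟨gallProd M hcop θ hθ β, gallProd_irr M hcop θ hθ β⟩ : IrrCharacter X)
    rw [h5] at h6
    exact zero_ne_one h6
  subst h3
  rfl

theorem gallMap_surjective (M : Subgroup X) [hM : M.Normal]
    (hcop : (Nat.card M).Coprime M.index) : Function.Surjective (gallMap M hcop) := by
  classical
  have : Fintype X := Fintype.ofFinite X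
  have : Fintype M := Fintype.ofFinite M
  rintro ⟨χ, hχcop⟩
  have hχc : IsCharacter X (χ : X → ℂ) := Cfsg.Agent.Lib.Helper83.IrrCharacter_isCharacter χ
  obtain ⟨dχ, hdχ0, hdχ1, _, hdχ3⟩ := exists_nat_degree χ
  rw [hdχ3] at hχcop
  have hres : IsCharacter M (fun n : M => (χ : X → ℂ) n) :=
    Cfsg.Agent.Lib.Helper83.isCharacter_restrict M hχc
  have hres1 : (fun n : M => (χ : X → ℂ) n) 1 ≠ 0 := by
    show (χ : X → ℂ) ((1 : M) : X) ≠ 0
    rw [Subgroup.coe_one, hdχ1]
    exact_mod_cast hdχ0.ne'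
  obtain ⟨θ, hθ⟩ := Cfsg.Agent.Lib.Helper83.exists_constituent hres hres1
  obtain ⟨ψ, hψ, _, hind⟩ := Cfsg.Agent.Lib.Helper85.exists_irr_conjStab hM χ.2 θ.2 hθ
  have hMT : M ≤ Cfsg.Agent.Lib.Helper85.conjStab hM (θ : M → ℂ) := Cfsg.Agent.Lib.Helper85.le_conjStab hM
    (Cfsg.Agent.Lib.Helper83.char_isClassFunction
      (Cfsg.Agent.Lib.Helper83.IrrCharacter_isCharacter θ))
  obtain ⟨dψ, _, hdψ1, _⟩ := Cfsg.Agent.Lib.Helper05.exists_degree_dvd hψ
  have h1 : (χ : X → ℂ) 1 =
      ((Cfsg.Agent.Lib.Helper85.conjStab hM (θ : M → ℂ)).index : ℂ) * ψ 1 := by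
    rw [hind]
    exact Cfsg.Agent.Lib.Helper85.indFun_apply_one _ ψ
  rw [hdχ1, hdψ1] at h1
  have h2 : dχ = (Cfsg.Agent.Lib.Helper85.conjStab hM (θ : M → ℂ)).index * dψ := by
    exact_mod_cast h1
  have h3 : (Cfsg.Agent.Lib.Helper85.conjStab hM (θ : M → ℂ)).index ∣ dχ := ⟨dψ, h2⟩
  have h4 : (Cfsg.Agent.Lib.Helper85.conjStab hM (θ : M → ℂ)).index ∣ M.index :=
    Subgroup.index_dvd_of_le hMT
  have h5 : (Cfsg.Agent.Lib.Helper85.conjStab hM (θ : M → ℂ)).index = 1 :=
    Nat.dvd_one.mp (hχcop ▸ Nat.dvd_gcd h3 h4)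
  have h6 : Cfsg.Agent.Lib.Helper85.conjStab hM (θ : M → ℂ) = ⊤ := Subgroup.index_eq_one.mp h5
  have hinv : FullInv M (θ : M → ℂ) := by
    intro g n
    have hg : g ∈ Cfsg.Agent.Lib.Helper85.conjStab hM (θ : M → ℂ) := by
      rw [h6]; exact Subgroup.mem_top g
    have := (Cfsg.Agent.Lib.Helper85.mem_conjStab hM (θ : M → ℂ) g).mp hg
    have := congrFun this n
    rw [Cfsg.Agent.Lib.Helper85.conjFun_apply] at this
    exact this
  obtain ⟨β, hβ⟩ := (Cfsg.Agent.Lib.Helper85.gallagher M (chosenExt_irr M hcop θ hinv)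
    (by rw [chosenExt_restrict]; exact θ.2)).2 (χ : X → ℂ) χ.2
    (by rw [chosenExt_restrict]; exact hθ)
  have hβ' : (χ : X → ℂ) = gallProd M hcop θ hinv β := hβ
  obtain ⟨b, hb0, hb1, hb2, _⟩ := exists_nat_degree β
  obtain ⟨dθ, _, hdθ1, _, _⟩ := exists_nat_degree θ
  have h7 : (χ : X → ℂ) 1 = (b : ℂ) * dθ := by
    rw [hβ', gallProd_apply_one, hb1, hdθ1]
  rw [hdχ1] at h7
  have h8 : dχ = b * dθ := by exact_mod_cast h7
  have h9 : b ∣ dχ := ⟨dθ, h8⟩
  have h10 : b ∣ M.index := by
    rw [Subgroup.index_eq_card]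
    exact hb2
  have h11 : b = 1 := Nat.dvd_one.mp (hχcop ▸ Nat.dvd_gcd h9 h10)
  have h12 : (β : X ⧸ M → ℂ) 1 = 1 := by rw [hb1, h11, Nat.cast_one]
  refine ⟨(⟨θ, hinv⟩, ⟨β, h12⟩), ?_⟩
  apply Subtype.ext
  apply Subtype.ext
  exact hβ'.symm

/-- **Counting characters of coprime degree**, in terms of the quotient. -/
theorem card_coprime_degree_quot (M : Subgroup X) [hM : M.Normal]
    (hcop : (Nat.card M).Coprime M.index) :
    Nat.card {χ : IrrCharacter X // (charDegree (χ : X → ℂ)).Coprime M.index} =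
      Nat.card {θ : IrrCharacter M // FullInv M (θ : M → ℂ)} *
        Nat.card {β : IrrCharacter (X ⧸ M) // (β : X ⧸ M → ℂ) 1 = 1} := by
  rw [← Nat.card_prod]
  exact (Nat.card_congr (Equiv.ofBijective (gallMap M hcop)
    ⟨gallMap_injective M hcop, gallMap_surjective M hcop⟩)).symm

end CoprimeDegree

section Complement

universe u

variable {X : Type u} [Group X]

/-- elements of a product with a normal factor. -/
theorem exists_mul_of_sup_eq_top (M H : Subgroup X) [M.Normal] (hMH : M ⊔ H = ⊤) (x : X) :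
    ∃ m ∈ M, ∃ h ∈ H, x = m * h := by
  have : x ∈ ((M ⊔ H : Subgroup X) : Set X) := by rw [hMH]; exact Subgroup.mem_top x
  rw [Subgroup.normal_mul] at this
  obtain ⟨m, hm, h, hh, rfl⟩ := this
  exact ⟨m, hm, h, hh, rfl⟩

/-- subgroups of coprime orders meet trivially. -/
theorem inf_eq_bot_of_coprime' [Finite X] (M H : Subgroup X)
    (hcop : (Nat.card M).Coprime (Nat.card H)) : M ⊓ H = ⊥ :=
  Subgroup.inf_eq_bot_of_coprime hcop

/-- the isomorphism of a complement with the quotient. -/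
noncomputable def complEquiv (M H : Subgroup X) [M.Normal] (hMH : M ⊔ H = ⊤)
    (hdisj : M ⊓ H = ⊥) : H ≃* X ⧸ M :=
  MulEquiv.ofBijective ((QuotientGroup.mk' M).comp H.subtype) (by
    constructor
    · rw [injective_iff_map_eq_one]
      intro h hh
      have h1 : (h : X) ∈ M := (QuotientGroup.eq_one_iff (h : X)).mp hh
      have h2 : (h : X) ∈ M ⊓ H := ⟨h1, h.2⟩
      rw [hdisj, Subgroup.mem_bot] at h2
      exact Subtype.ext h2
    · intro q
      obtain ⟨x, rfl⟩ := QuotientGroup.mk_surjective q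
      obtain ⟨m, hm, h, hh, rfl⟩ := exists_mul_of_sup_eq_top M H hMH x
      refine ⟨⟨h, hh⟩, ?_⟩
      show (QuotientGroup.mk h : X ⧸ M) = QuotientGroup.mk (m * h)
      rw [QuotientGroup.mk_mul, (QuotientGroup.eq_one_iff m).mpr hm, one_mul])

theorem index_eq_card_of_compl [Finite X] (M H : Subgroup X) [M.Normal] (hMH : M ⊔ H = ⊤)
    (hdisj : M ⊓ H = ⊥) : M.index = Nat.card H := by
  rw [Subgroup.index_eq_card]
  exact (Nat.card_congr (complEquiv M H hMH hdisj).toEquiv).symm

/-- invariance under a complement gives invariance under the whole group. -/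
theorem fullInv_iff_setInv (M H : Subgroup X) [hM : M.Normal] (hMH : M ⊔ H = ⊤)
    (θ : M → ℂ) (hθ : IsClassFunction M θ) : FullInv M θ ↔ SetInv M H θ := by
  constructor
  · intro h s _ g g' hgg'
    have := h s g
    rw [← this]
    congr 1
    exact Subtype.ext hgg'
  · intro h g n
    obtain ⟨m, hm, s, hs, rfl⟩ := exists_mul_of_sup_eq_top M H hMH g
    have h1 := h s hs n ⟨s * n * s⁻¹, hM.conj_mem (n : X) n.2 s⟩ rfl
    have h2 := hθ ⟨s * n * s⁻¹, hM.conj_mem (n : X) n.2 s⟩ ⟨m, hm⟩
    rw [← h1, ← h2]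
    congr 1
    apply Subtype.ext
    simp only [Subgroup.coe_mul, Subgroup.coe_inv, mul_inv_rev]
    group

/-- **Counting characters of coprime degree**, for a normal subgroup with a complement of
coprime order. -/
theorem card_coprime_degree_compl [Finite X] (M H : Subgroup X) [hM : M.Normal]
    (hMH : M ⊔ H = ⊤) (hcop : (Nat.card M).Coprime (Nat.card H)) :
    Nat.card {χ : IrrCharacter X // (charDegree (χ : X → ℂ)).Coprime (Nat.card H)} =
      Nat.card {θ : IrrCharacter M // SetInv M H (θ : M → ℂ)} *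
        Nat.card {μ : IrrCharacter H // (μ : H → ℂ) 1 = 1} := by
  have hdisj : M ⊓ H = ⊥ := Subgroup.inf_eq_bot_of_coprime hcop
  have hidx : M.index = Nat.card H := index_eq_card_of_compl M H hMH hdisj
  have hcop' : (Nat.card M).Coprime M.index := by rw [hidx]; exact hcop
  have h1 := card_coprime_degree_quot M hcop'
  rw [hidx] at h1
  rw [h1]
  congr 1
  · apply Nat.card_congr
    apply Equiv.subtypeEquivRight
    intro θ
    exact fullInv_iff_setInv M H hMH (θ : M → ℂ)
      (Cfsg.Agent.Lib.Helper83.char_isClassFunction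
        (Cfsg.Agent.Lib.Helper83.IrrCharacter_isCharacter θ))
  · apply Nat.card_congr
    refine (irrCongr (complEquiv M H hMH hdisj)).subtypeEquiv ?_
    intro β
    rw [irrCongr_apply, map_one]

end Complement

end Cfsg.Agent.Lib.Helper04
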