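import Mathlib
import Cfsg.Agent.Lib.Helper04.CharScalar

set_option autoImplicit false

namespace Cfsg.Agent.Lib.Helper04

open IntermediateField


theorem avg_roots_of_unity (s : Finset ℂ) (m : ℂ → ℕ) (N : ℕ) (hN : N ≠ 0)
    (hs : ∀ μ ∈ s, μ ^ N = 1) (n : ℕ) (hn : n ≠ 0) (hsum : ∑ μ ∈ s, m μ = n)
    (hint : IsIntegral ℤ ((∑ μ ∈ s, (m μ : ℂ) * μ) / n)) :
    (∑ μ ∈ s, (m μ : ℂ) * μ) / n = 0 ∨ ‖(∑ μ ∈ s, (m μ : ℂ) * μ) / n‖ = 1 := by
  classical
  set α : ℂ := (∑ μ ∈ s, (m μ : ℂ) * μ) / n with hα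
  by_cases hα0 : α = 0
  · left; exact hα0
  right
  -- the field
  let K : IntermediateField ℚ ℂ := IntermediateField.adjoin ℚ (s : Set ℂ)
  have hfin : FiniteDimensional ℚ K := by
    apply IntermediateField.finiteDimensional_adjoin
    intro μ hμ
    have h1 : IsIntegral ℤ μ := by
      refine IsIntegral.of_pow (n := N) (Nat.pos_of_ne_zero hN) ?_
      rw [hs μ hμ]; exact isIntegral_one
    exact h1.tower_top
  have hmem : ∀ μ ∈ s, μ ∈ K := fun μ hμ => IntermediateField.subset_adjoin ℚ _ hμ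
  have hαK : α ∈ K := by
    rw [hα]
    apply div_mem
    · apply sum_mem
      intro μ hμ
      exact mul_mem (IntermediateField.natCast_mem K _) (hmem μ hμ)
    · exact IntermediateField.natCast_mem K _
  -- bound for embeddings
  have hbound : ∀ σ : K →ₐ[ℚ] ℂ, ‖σ ⟨α, hαK⟩‖ ≤ 1 := by
    intro σ
    have h1 : (⟨α, hαK⟩ : K) = (∑ μ ∈ s.attach, (m μ.1 : K) * ⟨μ.1, hmem μ.1 μ.2⟩) / (n : K) := by
      apply Subtype.ext
      simp only [hα]
      push_cast
      rw [← Finset.sum_attach]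
    rw [h1, map_div₀, map_sum, map_natCast, norm_div, Complex.norm_natCast]
    rw [div_le_one (by exact_mod_cast Nat.pos_of_ne_zero hn)]
    refine (norm_sum_le _ _).trans ?_
    have h2 : ∀ μ ∈ s.attach, ‖σ ((m μ.1 : K) * ⟨μ.1, hmem μ.1 μ.2⟩)‖ ≤ (m μ.1 : ℝ) := by
      intro μ _
      rw [map_mul, map_natCast, norm_mul, Complex.norm_natCast]
      have : ‖σ ⟨μ.1, hmem μ.1 μ.2⟩‖ = 1 := by
        apply Complex.norm_eq_one_of_pow_eq_one _ hN
        rw [← map_pow]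
        have : (⟨μ.1, hmem μ.1 μ.2⟩ : K) ^ N = 1 := by
          apply Subtype.ext
          simp [hs μ.1 μ.2]
        rw [this, map_one]
      rw [this, mul_one]
    refine (Finset.sum_le_sum h2).trans ?_
    rw [Finset.sum_attach s (fun μ => (m μ : ℝ))]
    exact_mod_cast hsum.le
  -- the norm
  have hintK : IsIntegral ℤ (⟨α, hαK⟩ : K) := by
    have := (isIntegral_algebraMap_iff (R := ℤ) (A := K) (B := ℂ)
      (algebraMap K ℂ).injective (x := ⟨α, hαK⟩)).1
    exact this hint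
  have hnormint : IsIntegral ℤ (Algebra.norm ℚ (⟨α, hαK⟩ : K)) := Algebra.isIntegral_norm ℚ hintK
  obtain ⟨k, hk⟩ := IsIntegrallyClosed.isIntegral_iff.1 hnormint
  have hne : Algebra.norm ℚ (⟨α, hαK⟩ : K) ≠ 0 := by
    rw [Algebra.norm_ne_zero_iff]
    intro h
    exact hα0 (congrArg Subtype.val h)
  have hk0 : k ≠ 0 := by
    intro h
    rw [h] at hk
    exact hne (by rw [← hk]; simp)
  have hprod := Algebra.norm_eq_prod_embeddings ℚ ℂ (⟨α, hαK⟩ : K)
  have habs : (1 : ℝ) ≤ ‖∏ σ : K →ₐ[ℚ] ℂ, σ ⟨α, hαK⟩‖ := by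
    rw [← hprod, ← hk]
    simp only [algebraMap_int_eq, eq_intCast, map_intCast, Complex.norm_intCast]
    exact_mod_cast Int.one_le_abs hk0
  rw [norm_prod] at habs
  let σ₀ : K →ₐ[ℚ] ℂ := (algebraMap K ℂ).toRatAlgHom
  have h1 : ‖σ₀ ⟨α, hαK⟩‖ = ‖α‖ := rfl
  have hle : ∏ σ : K →ₐ[ℚ] ℂ, ‖σ ⟨α, hαK⟩‖ ≤ ‖α‖ := by
    rw [← Finset.mul_prod_erase Finset.univ (fun σ : K →ₐ[ℚ] ℂ => ‖σ ⟨α, hαK⟩‖) (Finset.mem_univ σ₀)]
    rw [h1]
    have h2 : ∏ σ ∈ Finset.univ.erase σ₀, ‖σ ⟨α, hαK⟩‖ ≤ 1 :=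
      Finset.prod_le_one (fun σ _ => norm_nonneg _) (fun σ _ => hbound σ)
    calc ‖α‖ * ∏ σ ∈ Finset.univ.erase σ₀, ‖σ ⟨α, hαK⟩‖ ≤ ‖α‖ * 1 :=
          mul_le_mul_of_nonneg_left h2 (norm_nonneg _)
      _ = ‖α‖ := mul_one _
  have hle1 : ‖α‖ ≤ 1 := by
    have := hbound σ₀
    rwa [h1] at this
  linarith [habs.trans hle]

section

open Module

variable {G : Type*} [Group G] [Finite G] {V : Type*} [AddCommGroup V] [Module ℂ V]
  [FiniteDimensional ℂ V] (ρ : Representation ℂ G V)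

omit [Finite G] [FiniteDimensional ℂ V] in
theorem nontrivial_of_irreducible [ρ.IsIrreducible] : Nontrivial V := by
  by_contra h
  rw [not_nontrivial_iff_subsingleton] at h
  have h1 : (⊥ : Subrepresentation ρ) = ⊤ := by
    apply Subrepresentation.ext
    exact Subsingleton.elim _ _
  exact bot_ne_top h1

omit [Finite G] in
theorem finrank_ne_zero_of_irreducible [ρ.IsIrreducible] : finrank ℂ V ≠ 0 := by
  have := nontrivial_of_irreducible ρ
  exact (Module.finrank_pos (R := ℂ) (M := V)).ne'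

/-- Burnside's lemma on character values: if `χ(g)/χ(1)` is an algebraic integer then
`χ(g) = 0` or `|χ(g)| = χ(1)`. -/
theorem char_eq_zero_or_norm_eq_of_isIntegral_div (g : G) (hn : finrank ℂ V ≠ 0)
    (hint : IsIntegral ℤ (ρ.character g / (finrank ℂ V : ℂ))) :
    ρ.character g = 0 ∨ ‖ρ.character g‖ = (finrank ℂ V : ℝ) := by
  have hsum : ∑ μ ∈ eigFinset (ρ g), finrank ℂ (End.eigenspace (ρ g) μ) = finrank ℂ V := by
    have := sum_finrank_eigenspace (ρ g) (Nat.card G) card_ne_zero' (rho_pow_card ρ g)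
    exact_mod_cast this
  have hchar : ρ.character g =
      ∑ μ ∈ eigFinset (ρ g), (finrank ℂ (End.eigenspace (ρ g) μ) : ℂ) * μ := by
    rw [char_eq_sum_eig]
    apply Finset.sum_congr rfl
    intro μ _
    ring
  rw [hchar] at hint
  have hn' : (finrank ℂ V : ℂ) ≠ 0 := by exact_mod_cast hn
  rcases avg_roots_of_unity (eigFinset (ρ g)) (fun μ => finrank ℂ (End.eigenspace (ρ g) μ))
    (Nat.card G) card_ne_zero'
    (fun μ hμ => eig_pow_eq_one (ρ g) (Nat.card G) (rho_pow_card ρ g) hμ)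
    (finrank ℂ V) hn hsum hint with h | h
  · left
    rw [hchar]
    rcases div_eq_zero_iff.mp h with h | h
    · exact h
    · exact absurd h hn'
  · right
    rw [← hchar, norm_div, Complex.norm_natCast] at h
    have hpos : (0 : ℝ) < finrank ℂ V := by exact_mod_cast Nat.pos_of_ne_zero hn
    rw [div_eq_one_iff_eq hpos.ne'] at h
    exact h

end

end Cfsg.Agent.Lib.Helper04
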