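import Mathlib
import Cfsg.Agent.Lib.Helper04.Basis
import Cfsg.Agent.Lib.Helper04.CharScalar
import Cfsg.Agent.Lib.Helper05.CharBasic
import Cfsg.Agent.S0142

set_option autoImplicit false

namespace Cfsg.Agent.Lib.Helper04

open scoped ComplexConjugate
open Module

section

variable {G : Type*} [Group G] [Finite G] [IsSimpleGroup G]

omit [Finite G] in
theorem prime_card_of_comm (h : ∀ x y : G, x * y = y * x) : (Nat.card G).Prime := by
  let _ : CommGroup G := { ‹Group G› with mul_comm := h }
  exact IsSimpleGroup.prime_card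

omit [Finite G] in
/-- in a simple group, a nontrivial central element forces commutativity -/
theorem comm_of_central_ne_one (g : G) (hg : g ≠ 1) (hc : ∀ y : G, y * g = g * y) :
    ∀ x y : G, x * y = y * x := by
  have hmem : g ∈ Subgroup.center G := by
    rw [Subgroup.mem_center_iff]
    exact hc
  have htop : Subgroup.center G = ⊤ := by
    rcases IsSimpleGroup.eq_bot_or_eq_top_of_normal (Subgroup.center G) inferInstance with h | h
    · rw [h, Subgroup.mem_bot] at hmem
      exact absurd hmem hg
    · exact h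
  intro x y
  have hy : y ∈ Subgroup.center G := by rw [htop]; trivial
  exact (Subgroup.mem_center_iff.mp hy x)

omit [Finite G] in
/-- in a simple group not of prime order, an irreducible representation in which some
nontrivial element acts as a scalar is trivial -/
theorem rep_trivial_of_scalar (hnp : ¬ (Nat.card G).Prime)
    {V : Type*} [AddCommGroup V] [Module ℂ V]
    (ρ : Representation ℂ G V) (g : G) (hg : g ≠ 1) (ω : ℂ)
    (hω : ρ g = ω • (LinearMap.id : V →ₗ[ℂ] V)) : ∀ x : G, ρ x = 1 := by
  have hker : ρ.ker = ⊤ := by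
    rcases IsSimpleGroup.eq_bot_or_eq_top_of_normal ρ.ker inferInstance with h | h
    · exfalso
      apply hnp
      apply prime_card_of_comm
      apply comm_of_central_ne_one g hg
      intro y
      have hmem : y * g * y⁻¹ * g⁻¹ ∈ ρ.ker := by
        rw [MonoidHom.mem_ker, map_mul, map_mul, map_mul, hω]
        have : ρ y * ω • (LinearMap.id : V →ₗ[ℂ] V) * ρ y⁻¹ = ω • (LinearMap.id : V →ₗ[ℂ] V) := by
          rw [mul_smul_comm, smul_mul_assoc]
          have : ρ y * LinearMap.id * ρ y⁻¹ = LinearMap.id := by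
            change ρ y * 1 * ρ y⁻¹ = 1
            rw [mul_one, ← map_mul, mul_inv_cancel, map_one]
          rw [this]
        rw [this, ← hω, ← map_mul, mul_inv_cancel, map_one]
      rw [h, Subgroup.mem_bot] at hmem
      have : y * g = (y * g * y⁻¹ * g⁻¹) * (g * y) := by group
      rw [this, hmem, one_mul]
    · exact h
  intro x
  have : x ∈ ρ.ker := by rw [hker]; trivial
  exact MonoidHom.mem_ker.mp this

omit [Finite G] [IsSimpleGroup G] in
/-- an irreducible trivial representation is one-dimensional -/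
theorem finrank_eq_one_of_trivial {V : Type*} [AddCommGroup V] [Module ℂ V]
    [FiniteDimensional ℂ V] (ρ : Representation ℂ G V) [ρ.IsIrreducible]
    (h : ∀ x : G, ρ x = 1) : finrank ℂ V = 1 := by
  have hnt := nontrivial_of_irreducible ρ
  obtain ⟨v, hv⟩ := exists_ne (0 : V)
  let τ : Subrepresentation ρ := ⟨Submodule.span ℂ {v}, by
    intro x w hw
    rw [h x]
    exact hw⟩
  have hτ : τ = ⊤ := by
    rcases eq_bot_or_eq_top τ with h1 | h1
    · exfalso
      have : v ∈ τ := Submodule.mem_span_singleton_self v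
      rw [h1] at this
      exact hv this
    · exact h1
  have h2 : Submodule.span ℂ {v} = ⊤ := by
    have := congrArg Subrepresentation.toSubmodule hτ
    exact this
  have h3 := finrank_span_singleton (K := ℂ) hv
  rw [h2, finrank_top] at h3
  exact h3


/-- key step of Burnside's theorem -/
theorem irr_mul_eq_prime_mul (hnp : ¬ (Nat.card G).Prime) (p k : ℕ) (hp : p.Prime) (g : G)
    (hg : g ≠ 1) (hclass : (Subgroup.centralizer ({g} : Set G)).index = p ^ k)
    (χ : Cfsg.IrrCharacter G) (hχ : (χ : G → ℂ) ≠ fun _ => 1) :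
    ∃ β : ℂ, IsIntegral ℤ β ∧ (χ : G → ℂ) g * conj ((χ : G → ℂ) 1) = p * β := by
  obtain ⟨n, ρ, hirr, hρ⟩ := χ.2
  have h1 : (χ : G → ℂ) 1 = n := by
    rw [← hρ, Representation.char_one, Module.finrank_fin_fun]
  rw [h1, Complex.conj_natCast]
  by_cases hpn : p ∣ n
  · obtain ⟨m, rfl⟩ := hpn
    refine ⟨m * (χ : G → ℂ) g, ?_, ?_⟩
    · rw [← hρ]
      exact IsIntegral.mul (isIntegral_natCast m) (isIntegral_char ρ g)
    · push_cast
      ring
  · have hcop : Nat.Coprime (finrank ℂ (Fin n → ℂ))
        (Subgroup.centralizer ({g} : Set G)).index := by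
      rw [Module.finrank_fin_fun, hclass]
      exact (((Nat.Prime.coprime_iff_not_dvd hp).mpr hpn).symm).pow_right k
    rcases Cfsg.Agent.S0142.result ρ g hcop with h0 | hnorm
    · refine ⟨0, isIntegral_zero, ?_⟩
      rw [← hρ, h0]
      simp
    · exfalso
      obtain ⟨ω, hω⟩ := (norm_char_eq_iff ρ g).mp hnorm
      have htriv := rep_trivial_of_scalar hnp ρ g hg ω hω
      have hdim := finrank_eq_one_of_trivial ρ htriv
      apply hχ
      rw [← hρ]
      funext x
      simp only [Representation.character]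
      rw [htriv x, LinearMap.trace_one, hdim]
      simp

theorem prime_card_of_prime_power_class (p k : ℕ) (hp : p.Prime) (g : G)
    (hg : g ≠ 1) (hclass : (Subgroup.centralizer ({g} : Set G)).index = p ^ k) :
    (Nat.card G).Prime := by
  classical
  by_contra hnp
  have _ : Fintype G := Fintype.ofFinite G
  have _ : Fintype (Cfsg.IrrCharacter G) := Fintype.ofFinite _
  have hcol := (column_orthogonality g 1).2 (by
    intro h
    exact hg (isConj_one_left.mp h))
  rw [finsum_eq_sum_of_fintype] at hcol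
  let χ₀ : Cfsg.IrrCharacter G := ⟨fun _ => 1, Cfsg.Agent.Lib.Helper05.isIrrCharacter_one⟩
  choose! β hβint hβ using irr_mul_eq_prime_mul hnp p k hp g hg hclass
  rw [← Finset.add_sum_erase Finset.univ _ (Finset.mem_univ χ₀)] at hcol
  have h2 : ∑ χ ∈ Finset.univ.erase χ₀, (χ : G → ℂ) g * conj ((χ : G → ℂ) 1) =
      p * ∑ χ ∈ Finset.univ.erase χ₀, β χ := by
    rw [Finset.mul_sum]
    apply Finset.sum_congr rfl
    intro χ hχ
    apply hβ
    intro h
    apply (Finset.mem_erase.mp hχ).1
    exact Subtype.ext h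
  rw [h2] at hcol
  have h3 : ((χ₀ : G → ℂ) g) * conj ((χ₀ : G → ℂ) 1) = 1 := by simp [χ₀]
  rw [h3] at hcol
  set B := ∑ χ ∈ Finset.univ.erase χ₀, β χ with hB
  have hBint : IsIntegral ℤ B := IsIntegral.sum _ (fun χ hχ => hβint χ (by
    intro h
    apply (Finset.mem_erase.mp hχ).1
    exact Subtype.ext h))
  have hp0 : (p : ℂ) ≠ 0 := by exact_mod_cast hp.ne_zero
  have hBq : B = ((-1 / p : ℚ) : ℂ) := by
    push_cast
    field_simp
    linear_combination hcol
  rw [hBq] at hBint
  have h4 : IsIntegral ℤ (-1 / p : ℚ) := by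
    have := (isIntegral_algebraMap_iff (R := ℤ) (A := ℚ) (B := ℂ)
      (algebraMap ℚ ℂ).injective (x := (-1 / p : ℚ))).1
    exact this (by simpa using hBint)
  obtain ⟨m, hm⟩ := IsIntegrallyClosed.isIntegral_iff.1 h4
  have hpq : (p : ℚ) ≠ 0 := by exact_mod_cast hp.ne_zero
  have h5 : (m : ℚ) * p = -1 := by
    have : (algebraMap ℤ ℚ) m = (m : ℚ) := rfl
    rw [this] at hm
    rw [hm]
    field_simp
  have h6 : (m * p : ℤ) = -1 := by exact_mod_cast h5
  have h7 : (p : ℤ) ∣ 1 := by
    refine ⟨-m, ?_⟩
    linarith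
  have h8 : p ∣ 1 := by exact_mod_cast h7
  exact hp.one_lt.ne' (Nat.dvd_one.mp h8)

end

end Cfsg.Agent.Lib.Helper04
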