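import Mathlib
import Cfsg.Agent.Lib.Helper04.BurnsideSimple

set_option autoImplicit false

namespace Cfsg.Agent.Lib.Helper04

universe u

theorem exists_pow_mul_pow_of_dvd {p q a b d : ℕ} (hp : p.Prime) (hq : q.Prime)
    (hd : d ∣ p ^ a * q ^ b) : ∃ a' b', d = p ^ a' * q ^ b' := by
  obtain ⟨d1, d2, h1, h2, rfl⟩ := (Nat.dvd_mul).mp hd
  obtain ⟨a', _, rfl⟩ := (Nat.dvd_prime_pow hp).mp h1
  obtain ⟨b', _, rfl⟩ := (Nat.dvd_prime_pow hq).mp h2
  exact ⟨a', b', rfl⟩

theorem burnside_aux (p q : ℕ) (hp : p.Prime) (hq : q.Prime) :
    ∀ n : ℕ, ∀ (G : Type u) [Group G] [Finite G], Nat.card G = n →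
      (∃ a b, n = p ^ a * q ^ b) → Group.IsSolvable G := by
  intro n
  induction n using Nat.strong_induction_on with
  | _ n ih =>
    intro G _ _ hn hform
    obtain ⟨a, b, hab⟩ := hform
    by_cases htriv : Subsingleton G
    · infer_instance
    rw [not_subsingleton_iff_nontrivial] at htriv
    by_cases hsimple : ∀ H : Subgroup G, H.Normal → H = ⊥ ∨ H = ⊤
    · -- simple case
      have hS : IsSimpleGroup G := ⟨hsimple⟩
      have _ : Fact q.Prime := ⟨hq⟩
      let Q : Sylow q G := default
      by_cases hQ : (Q : Subgroup G) = ⊥
      · -- G is a p-group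
        have h1 : ¬ q ∣ (Q : Subgroup G).index := Q.not_dvd_index
        rw [hQ, Subgroup.index_bot, hn, hab] at h1
        have hb : b = 0 := by
          by_contra hb
          apply h1
          exact Dvd.dvd.mul_left (dvd_pow_self q hb) _
        rw [hb, pow_zero, mul_one] at hab
        have _ : Fact p.Prime := ⟨hp⟩
        have hpg : IsPGroup p G := IsPGroup.of_card (n := a) (by rw [hn, hab])
        have := hpg.isNilpotent
        infer_instance
      · -- a central element of Q
        have hQnt : Nontrivial (Q : Subgroup G) := (Subgroup.nontrivial_iff_ne_bot _).mpr hQ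
        have hcent := Q.2.center_nontrivial
        obtain ⟨z, hz⟩ := exists_ne (1 : Subgroup.center (Q : Subgroup G))
        have hz1 : ((z : (Q : Subgroup G)) : G) ≠ 1 := by
          intro h
          apply hz
          apply Subtype.ext
          apply Subtype.ext
          exact h
        have hle : (Q : Subgroup G) ≤ Subgroup.centralizer ({((z : (Q : Subgroup G)) : G)} : Set G) := by
          intro x hx
          rw [Subgroup.mem_centralizer_singleton_iff]
          have := Subgroup.mem_center_iff.mp z.2 ⟨x, hx⟩
          have := congrArg Subtype.val this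
          simpa using this
        have hdvd := Subgroup.index_dvd_of_le hle
        have hidx : (Q : Subgroup G).index ∣ p ^ a := by
          have h1 : (Q : Subgroup G).index ∣ p ^ a * q ^ b := by
            rw [← hab, ← hn]
            exact Subgroup.index_dvd_card _
          have h2 : Nat.Coprime (Q : Subgroup G).index (q ^ b) := by
            apply Nat.Coprime.pow_right
            exact ((Nat.Prime.coprime_iff_not_dvd hq).mpr Q.not_dvd_index).symm
          exact h2.dvd_of_dvd_mul_right h1
        obtain ⟨k, _, hk⟩ := (Nat.dvd_prime_pow hp).mp (hdvd.trans hidx)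
        have hprime := prime_card_of_prime_power_class p k hp _ hz1 hk
        have _ : Fact (Nat.card G).Prime := ⟨hprime⟩
        have hpg : IsPGroup (Nat.card G) G := IsPGroup.of_card (n := 1) (by rw [pow_one])
        have := hpg.isNilpotent
        infer_instance
    · -- non-simple case
      push Not at hsimple
      obtain ⟨N, hN, hbot, htop⟩ := hsimple
      have hNcard : Nat.card N ∣ n := by rw [← hn]; exact Subgroup.card_subgroup_dvd_card N
      have hQcard : Nat.card (G ⧸ N) ∣ n := by
        rw [← hn, ← Subgroup.index_eq_card]; exact Subgroup.index_dvd_card N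
      have hn0 : 0 < n := by rw [← hn]; exact Nat.card_pos
      have hNlt : Nat.card N < n := by
        apply lt_of_le_of_ne (Nat.le_of_dvd hn0 hNcard)
        intro h
        apply htop
        exact Subgroup.eq_top_of_card_eq N (by rw [h, hn])
      have hQlt : Nat.card (G ⧸ N) < n := by
        apply lt_of_le_of_ne (Nat.le_of_dvd hn0 hQcard)
        intro h
        apply hbot
        have h1 := Subgroup.card_mul_index N
        rw [Subgroup.index_eq_card, h, hn] at h1
        have h2 : Nat.card N = 1 := by
          have : Nat.card N * n = 1 * n := by rw [h1, one_mul]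
          exact Nat.eq_of_mul_eq_mul_right hn0 this
        exact Subgroup.card_eq_one.mp h2
      have hNsol : Group.IsSolvable N := ih _ hNlt N rfl
        (exists_pow_mul_pow_of_dvd hp hq (hab ▸ hNcard))
      have hQsol : Group.IsSolvable (G ⧸ N) := ih _ hQlt (G ⧸ N) rfl
        (exists_pow_mul_pow_of_dvd hp hq (hab ▸ hQcard))
      exact Group.isSolvable_of_ker_le_range N.subtype (QuotientGroup.mk' N) (by simp)

theorem burnside_paqb {G : Type u} [Group G] [Finite G] (p q a b : ℕ) (hp : p.Prime)
    (hq : q.Prime) (hcard : Nat.card G = p ^ a * q ^ b) : Group.IsSolvable G :=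
  burnside_aux p q hp hq _ G rfl ⟨a, b, hcard⟩

end Cfsg.Agent.Lib.Helper04
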