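import Mathlib
import Cfsg.Agent.Lib.Helper73.RUDefs

/-!
# K-RU-B (keystone 228002, pack K-RU of S2280): the two closure properties of `M`
-/

set_option autoImplicit false

namespace Cfsg.Agent.Lib.Helper04.RU

open Matrix Cfsg.Agent.Lib.Helper73.RU

/-- `A (1 + v e_lastᵀ) = (1 + (A v) e_lastᵀ) A` since `e_lastᵀ A = e_lastᵀ` -/
theorem mset_mulVec {n : ℕ} {F : Type*} [Field F] {G : Subgroup (SpecialLinearGroup (Fin n) F)}
    (e : Fin n → F) {A : Matrix (Fin n) (Fin n) F} (hA : InG G A) (hAl : e ᵥ* A = e)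
    (v : Fin n → F) (hv : InG G (tvm v e)) : InG G (tvm (A *ᵥ v) e) := by
  have h1 := mul_tvm A v e
  rw [hAl] at h1
  have h2 : InG G (tvm (A *ᵥ v) e * A) := h1 ▸ inG_mul hA hv
  exact inG_of_mul_right hA h2

/-- `z' = C (1 + v eᵀ) C⁻¹ = 1 + (C v) φ` (`mul_tvm`, `φ C = e`), then `tvm_comm` with `x`, `χ = e`, `w = C v` -/
theorem mset_step {n : ℕ} {F : Type*} [Field F] {G : Subgroup (SpecialLinearGroup (Fin n) F)}
    (e φ x : Fin n → F) {C : Matrix (Fin n) (Fin n) F} (hC : InG G C) (hφC : φ ᵥ* C = e)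
    (hex : e ⬝ᵥ x = 0) (hz : InG G (tvm x e))
    (v : Fin n → F) (hv0 : e ⬝ᵥ v = 0) (hv : InG G (tvm v e)) (hCv : e ⬝ᵥ (C *ᵥ v) = 0) :
    InG G (tvm ((-(φ ⬝ᵥ x)) • (C *ᵥ v)) e) := by
  have h1 := mul_tvm C v φ
  rw [hφC] at h1
  have h2 : InG G (tvm (C *ᵥ v) φ * C) := h1 ▸ inG_mul hC hv
  have hz' : InG G (tvm (C *ᵥ v) φ) := inG_of_mul_right hC h2
  have hφw : φ ⬝ᵥ (C *ᵥ v) = 0 := by
    rw [dotProduct_mulVec, hφC, hv0]
  have h3 := tvm_comm x e (C *ᵥ v) φ hex hφw hCv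
  rw [← h3]
  exact inG_mul (inG_mul (inG_mul hz hz') (inG_tvm_neg hex hz)) (inG_tvm_neg hφw hz')

end Cfsg.Agent.Lib.Helper04.RU
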