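import Mathlib
import Cfsg.Agent.Lib.Helper73.RUDefs

/-!
# K-RU-J (keystone 228010, pack K-RU of S2280): the conjugator `h = w₀ diag(δ,1,…,1)`
(parallel hand by helper4): `h a = c h`, `det h = 1`.
-/

set_option autoImplicit false

namespace Cfsg.Agent.Lib.Helper04.RU

open Matrix Cfsg.Agent.Lib.Helper73.RU

theorem ruj_hMat_apply (m : ℕ) (F : Type*) [Field F] (i j : Fin (m + 3)) :
    hMat m F i j = if Fin.rev i = j then (if j = 0 then dlt m F else 1) else 0 := by
  unfold hMat
  rw [Matrix.mul_diagonal]
  simp only [Equiv.Perm.permMatrix, PEquiv.toMatrix_apply, Equiv.toPEquiv_apply, Option.mem_def,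
    Option.some.injEq, Fin.revPerm_apply]
  split_ifs <;> simp

theorem dlt_eq (m : ℕ) (F : Type*) [Field F] : dlt m F = 1 ∨ dlt m F = -1 := by
  unfold dlt
  rcases Int.units_eq_one_or (Equiv.Perm.sign (Fin.revPerm : Equiv.Perm (Fin (m + 3)))) with h | h
  · left
    rw [h]
    simp
  · right
    rw [h]
    simp

theorem det_hMat (m : ℕ) (F : Type*) [Field F] : (hMat m F).det = 1 := by
  unfold hMat
  rw [Matrix.det_mul, Matrix.det_permutation, Matrix.det_diagonal]
  have hprod : ∏ i : Fin (m + 3), (if i = 0 then dlt m F else 1) = dlt m F := by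
    rw [Finset.prod_eq_single (0 : Fin (m + 3))]
    · simp
    · intro b _ hb
      rw [if_neg hb]
    · intro h
      exact absurd (Finset.mem_univ _) h
  rw [hprod]
  show dlt m F * dlt m F = 1
  rcases dlt_eq m F with h | h <;> rw [h] <;> ring

theorem hMat_mul_aMat (m : ℕ) (F : Type*) [Field F] :
    hMat m F * aMat m F = cMat m F (dlt m F) * hMat m F := by
  ext i j
  have hL : (hMat m F * aMat m F) i j =
      (if Fin.rev i = 0 then dlt m F else 1) * aMat m F (Fin.rev i) j := by
    rw [Matrix.mul_apply, Finset.sum_eq_single (Fin.rev i)]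
    · rw [ruj_hMat_apply, if_pos rfl]
    · intro k _ hk
      rw [ruj_hMat_apply, if_neg (Ne.symm hk), zero_mul]
    · intro h
      exact absurd (Finset.mem_univ _) h
  have hR : (cMat m F (dlt m F) * hMat m F) i j =
      cMat m F (dlt m F) i (Fin.rev j) * (if j = 0 then dlt m F else 1) := by
    rw [Matrix.mul_apply, Finset.sum_eq_single (Fin.rev j)]
    · rw [ruj_hMat_apply, Fin.rev_rev, if_pos rfl]
    · intro k _ hk
      have hne : Fin.rev k ≠ j := fun h => hk (by rw [← h, Fin.rev_rev])
      rw [ruj_hMat_apply, if_neg hne, mul_zero]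
    · intro h
      exact absurd (Finset.mem_univ _) h
  rw [hL, hR]
  unfold aMat cMat
  simp only [Matrix.of_apply]
  have hi := i.2
  have hj := j.2
  by_cases h1 : Fin.rev i = j
  · -- diagonal case
    have h2 : i = Fin.rev j := by rw [← h1, Fin.rev_rev]
    rw [if_pos (Or.inl h1), if_pos h2, h1, mul_one, one_mul]
  · have h2 : i ≠ Fin.rev j := fun h => h1 (by rw [h, Fin.rev_rev])
    rw [if_neg h2]
    by_cases h3 : (Fin.rev i).val + 1 = j.val
    · have h4 : i.val = (Fin.rev j).val + 1 := by
        rw [Fin.val_rev] at h3 ⊢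
        omega
      have hj0 : j ≠ 0 := by
        intro h
        rw [h] at h3
        simp at h3
      rw [if_pos (Or.inr h3), if_pos h4, if_neg hj0, mul_one, mul_one]
      by_cases h5 : i = Fin.last (m + 2)
      · rw [if_pos h5, if_pos]
        rw [h5]
        simp
      · rw [if_neg h5, if_neg]
        intro h6
        apply h5
        have : Fin.rev (Fin.rev i) = Fin.rev 0 := by rw [h6]
        rw [Fin.rev_rev] at this
        rw [this]
        simp
    · have h4 : ¬ i.val = (Fin.rev j).val + 1 := by
        rw [Fin.val_rev] at h3 ⊢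
        omega
      have h5 : ¬ (Fin.rev i = j ∨ (Fin.rev i).val + 1 = j.val) := by
        rintro (h | h)
        · exact h1 h
        · exact h3 h
      rw [if_neg h5, if_neg h4, mul_zero, zero_mul]

end Cfsg.Agent.Lib.Helper04.RU
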