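import Mathlib
import Cfsg.Agent.Lib.Helper32.Class2

set_option autoImplicit false

namespace Cfsg.Agent.Lib.Helper04

open scoped commutatorElement

section

variable {G : Type*} [Group G]

/-- elements of `A ⊔ zpowers x` for normal `A` -/
theorem mem_sup_zpowers_iff (A : Subgroup G) [A.Normal] (x r : G) :
    r ∈ A ⊔ Subgroup.zpowers x ↔ ∃ a ∈ A, ∃ j : ℤ, r = a * x ^ j := by
  constructor
  · intro hr
    have : r ∈ ((A ⊔ Subgroup.zpowers x : Subgroup G) : Set G) := hr
    rw [Subgroup.normal_mul] at this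
    obtain ⟨a, ha, z, hz, rfl⟩ := this
    obtain ⟨j, rfl⟩ := Subgroup.mem_zpowers_iff.mp hz
    exact ⟨a, ha, j, rfl⟩
  · rintro ⟨a, ha, j, rfl⟩
    exact Subgroup.mul_mem _ (Subgroup.mem_sup_left ha)
      (Subgroup.mem_sup_right (Subgroup.zpow_mem_zpowers x j))

/-- in a finite group, `g R g⁻¹ ≤ R` forces `g ∈ N(R)` -/
theorem mem_normalizer_of_conj_le [Finite G] (R : Subgroup G) (g : G)
    (h : ∀ r ∈ R, g * r * g⁻¹ ∈ R) : g ∈ Subgroup.normalizer (R : Set G) := by
  rw [Subgroup.mem_normalizer_iff]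
  intro r
  constructor
  · exact h r
  · intro hr
    let f : R → R := fun s => ⟨g * s * g⁻¹, h s s.2⟩
    have hf : Function.Injective f := by
      intro s t hst
      have := congrArg Subtype.val hst
      simp only [f] at this
      apply Subtype.ext
      simpa using this
    have hsurj := Finite.surjective_of_injective hf
    obtain ⟨s, hs⟩ := hsurj ⟨g * r * g⁻¹, hr⟩
    have := congrArg Subtype.val hs
    simp only [f] at this
    have : (s : G) = r := by simpa using this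
    rw [← this]
    exact s.2

theorem prime_dvd_choose_two (p n : ℕ) (hp : p.Prime) (hn : n ≠ 0) (hq : p ^ n ≠ 2) :
    p ∣ p ^ n * (p ^ n - 1) / 2 := by
  rcases hp.eq_two_or_odd' with rfl | hodd
  · -- p = 2, n ≥ 2
    have hn2 : 2 ≤ n := by
      rcases Nat.lt_or_ge n 2 with h | h
      · interval_cases n
        · exact absurd rfl hn
        · exact absurd rfl hq
      · exact h
    obtain ⟨m, rfl⟩ : ∃ m, n = m + 2 := ⟨n - 2, by omega⟩
    have : 2 ^ (m + 2) * (2 ^ (m + 2) - 1) / 2 = 2 * (2 ^ m * (2 ^ (m + 2) - 1)) := by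
      have : 2 ^ (m + 2) = 2 * (2 * 2 ^ m) := by ring
      rw [this]
      rw [Nat.mul_assoc, Nat.mul_div_cancel_left _ (by norm_num : 0 < 2)]
      ring
    rw [this]
    exact dvd_mul_right _ _
  · obtain ⟨k, hk⟩ := hodd
    have hodd' : Odd (p ^ n) := (Odd.pow ⟨k, hk⟩)
    obtain ⟨m, hm⟩ := hodd'
    have : p ^ n * (p ^ n - 1) / 2 = p ^ n * m := by
      rw [hm]
      have : 2 * m + 1 - 1 = 2 * m := by omega
      rw [this, ← Nat.mul_assoc, Nat.mul_comm _ 2, Nat.mul_assoc,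
        Nat.mul_div_cancel_left _ (by norm_num : 0 < 2)]
    rw [this]
    exact Dvd.dvd.mul_right (dvd_pow_self p hn) _

end

section Alperin

variable {G : Type*} [Group G] [Finite G] {p : ℕ} [Fact p.Prime]

theorem alperin_core (hG : IsPGroup p G) (n : ℕ) (hn : p ^ n ≠ 2)
    (A : Subgroup G) [A.Normal] (hA : IsMulCommutative A) (hAe : ∀ a ∈ A, a ^ p ^ n = 1)
    (hmax : ∀ B : Subgroup G, B.Normal → IsMulCommutative B → (∀ b ∈ B, b ^ p ^ n = 1) →
      A ≤ B → B = A) (j : ℕ)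
    (ih : ∀ x ∈ Subgroup.upperCentralSeries G j, x ∈ Subgroup.centralizer (A : Set G) →
      x ^ p ^ n = 1 → x ∈ A)
    (x : G) (hxZ : x ∈ Subgroup.upperCentralSeries G (j + 1))
    (hxC : x ∈ Subgroup.centralizer (A : Set G)) (hxq : x ^ p ^ n = 1) (hxA : x ∉ A)
    (hxp : x ^ p ∈ A) : False := by
  have hp : p.Prime := Fact.out
  have hn0 : n ≠ 0 := by
    rintro rfl
    rw [pow_zero, pow_one] at hxq
    exact hxA (hxq ▸ A.one_mem)
  -- x commutes with A
  have hxcomm : ∀ a ∈ A, a * x = x * a := fun a ha => Subgroup.mem_centralizer_iff.mp hxC a ha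
  have hAcomm : ∀ a ∈ A, ∀ b ∈ A, a * b = b * a := by
    intro a ha b hb
    have := hA.is_comm.comm (⟨a, ha⟩ : A) ⟨b, hb⟩
    exact congrArg Subtype.val this
  set R := A ⊔ Subgroup.zpowers x with hR
  have hAR : A ≤ R := le_sup_left
  have hxR : x ∈ R := Subgroup.mem_sup_right (Subgroup.mem_zpowers x)
  have hRmem := mem_sup_zpowers_iff A x
  -- R is commutative
  have hxzcomm : ∀ a ∈ A, ∀ i : ℤ, a * x ^ i = x ^ i * a := by
    intro a ha i
    exact ((Commute.zpow_right (hxcomm a ha) i)).eq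
  have hRcomm : ∀ r ∈ R, ∀ s ∈ R, r * s = s * r := by
    intro r hr s hs
    obtain ⟨a, ha, i, rfl⟩ := (hRmem r).mp hr
    obtain ⟨b, hb, l, rfl⟩ := (hRmem s).mp hs
    have h1 : Commute a b := hAcomm a ha b hb
    have h2 : Commute a (x ^ l) := hxzcomm a ha l
    have h3 : Commute (x ^ i) b := (hxzcomm b hb i).symm
    have h4 : Commute (x ^ i) (x ^ l) := (Commute.refl x).zpow_zpow i l
    exact ((h1.mul_right h2).mul_left (h3.mul_right h4)).eq
  have hRexp : ∀ r ∈ R, r ^ p ^ n = 1 := by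
    intro r hr
    obtain ⟨a, ha, i, rfl⟩ := (hRmem r).mp hr
    have h2 : Commute a (x ^ i) := hxzcomm a ha i
    rw [h2.mul_pow, hAe a ha, one_mul, ← zpow_natCast, ← zpow_mul, mul_comm, zpow_mul,
      zpow_natCast, hxq, one_zpow]
  -- N = N(R) is proper
  have hNtop : Subgroup.normalizer (R : Set G) ≠ ⊤ := by
    intro htop
    have hRn : R.Normal := Subgroup.normalizer_eq_top_iff.mp htop
    have hRc : IsMulCommutative R :=
      ⟨⟨fun r s => Subtype.ext (hRcomm r r.2 s s.2)⟩⟩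
    have := hmax R hRn hRc hRexp hAR
    exact hxA (this ▸ hxR)
  have hnil : Group.IsNilpotent G := hG.isNilpotent
  have hNC := Group.normalizerCondition_of_isNilpotent (G := G)
  obtain ⟨g, hgNN, hgN⟩ := SetLike.exists_of_lt (hNC _ (lt_top_iff_ne_top.mpr hNtop))
  have hxN : x ∈ Subgroup.normalizer (R : Set G) := Subgroup.le_normalizer hxR
  have hginv : g⁻¹ ∈ Subgroup.normalizer ((Subgroup.normalizer (R : Set G) : Subgroup G) : Set G) :=
    Subgroup.inv_mem _ hgNN
  set y := g⁻¹ * x * g with hy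
  set y' := g * x * g⁻¹ with hy'
  have hyN : y ∈ Subgroup.normalizer (R : Set G) := by
    have := (Subgroup.mem_normalizer_iff.mp hginv x).mp hxN
    simpa [hy] using this
  have hy'N : y' ∈ Subgroup.normalizer (R : Set G) :=
    (Subgroup.mem_normalizer_iff.mp hgNN x).mp hxN
  -- conjugation preserves A
  have hAconj : ∀ a ∈ A, g * a * g⁻¹ ∈ A := fun a ha => Subgroup.Normal.conj_mem inferInstance a ha g
  have hAconj' : ∀ a ∈ A, g⁻¹ * a * g ∈ A := by
    intro a ha
    have := Subgroup.Normal.conj_mem (inferInstance : A.Normal) a ha g⁻¹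
    simpa using this
  have hyC : y ∈ Subgroup.centralizer (A : Set G) := by
    rw [Subgroup.mem_centralizer_iff]
    intro a ha
    have h1 := hxcomm _ (hAconj a ha)
    -- g a g⁻¹ * x = x * g a g⁻¹
    calc a * y = g⁻¹ * ((g * a * g⁻¹) * x) * g := by rw [hy]; group
      _ = g⁻¹ * (x * (g * a * g⁻¹)) * g := by rw [h1]
      _ = y * a := by rw [hy]; group
  have hycomm : ∀ a ∈ A, a * y = y * a := fun a ha => Subgroup.mem_centralizer_iff.mp hyC a ha
  -- the commutator c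
  set c := x⁻¹ * y⁻¹ * x * y with hc
  have hcR : c ∈ R := by
    have h1 : y⁻¹ * x * y⁻¹⁻¹ ∈ R :=
      (Subgroup.mem_normalizer_iff.mp (Subgroup.inv_mem _ hyN) x).mp hxR
    rw [inv_inv] at h1
    have : c = x⁻¹ * (y⁻¹ * x * y) := by rw [hc]; group
    rw [this]
    exact R.mul_mem (R.inv_mem hxR) h1
  have hgcR : g * c * g⁻¹ ∈ R := by
    have h1 : y'⁻¹ * x⁻¹ * y'⁻¹⁻¹ ∈ R :=
      (Subgroup.mem_normalizer_iff.mp (Subgroup.inv_mem _ hy'N) x⁻¹).mp (R.inv_mem hxR)
    rw [inv_inv] at h1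
    have : g * c * g⁻¹ = (y'⁻¹ * x⁻¹ * y') * x := by rw [hc, hy, hy']; group
    rw [this]
    exact R.mul_mem h1 hxR
  -- if g x g⁻¹ ∈ R then g ∈ N(R)
  have hy'R : y' ∉ R := by
    intro h
    apply hgN
    apply mem_normalizer_of_conj_le
    intro r hr
    obtain ⟨a, ha, i, rfl⟩ := (hRmem r).mp hr
    have : g * (a * x ^ i) * g⁻¹ = (g * a * g⁻¹) * (g * x * g⁻¹) ^ i := by
      rw [conj_zpow]; group
    rw [this]
    exact R.mul_mem (hAR (hAconj a ha)) (R.zpow_mem h i)
  have hy'p : y' ^ p ∈ A := by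
    have : y' ^ p = g * x ^ p * g⁻¹ := by rw [hy', conj_pow]
    rw [this]
    exact hAconj _ hxp
  -- c ∈ A
  have hcA : c ∈ A := by
    obtain ⟨a, ha, i, hci⟩ := (hRmem c).mp hcR
    by_cases hpi : (p : ℤ) ∣ i
    · obtain ⟨l, rfl⟩ := hpi
      rw [hci, zpow_mul, zpow_natCast]
      exact A.mul_mem ha (A.zpow_mem hxp l)
    · exfalso
      apply hy'R
      -- y'^i ∈ R
      have h1 : y' ^ i ∈ R := by
        have : g * c * g⁻¹ = (g * a * g⁻¹) * y' ^ i := by
          rw [hci, hy', conj_zpow]; group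
        rw [this] at hgcR
        have h2 := R.mul_mem (R.inv_mem (hAR (hAconj a ha))) hgcR
        rwa [inv_mul_cancel_left] at h2
      have hcop : IsCoprime i (p : ℤ) := by
        rw [isCoprime_comm, Prime.coprime_iff_not_dvd (Nat.prime_iff_prime_int.mp hp)]
        exact hpi
      obtain ⟨s, t, hst⟩ := hcop
      have : y' = (y' ^ i) ^ s * (y' ^ p) ^ t := by
        rw [← zpow_mul, ← zpow_natCast y' p, ← zpow_mul, ← zpow_add]
        have : i * s + (p : ℤ) * t = 1 := by linarith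
        rw [this, zpow_one]
      rw [this]
      exact R.mul_mem (R.zpow_mem h1 s) (R.zpow_mem (hAR hy'p) t)
  -- c commutes with x and y
  have hcx : Commute c x := hxcomm c hcA
  have hcy : Commute c y := hycomm c hcA
  -- c ^ p = 1
  have hcp : c ^ p = 1 := by
    have hc' : c = ⁅x⁻¹, y⁻¹⁆ := by rw [hc, commutatorElement_def, inv_inv, inv_inv]
    have h1 : Commute ⁅x⁻¹, y⁻¹⁆ x⁻¹ := by rw [← hc']; exact hcx.inv_right
    have h2 := Helper32.commutator_pow_left_of_central y⁻¹ x⁻¹ h1 p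
    rw [← hc'] at h2
    rw [← h2, inv_pow, commutatorElement_def]
    have h3 : (x ^ p)⁻¹ * y⁻¹ = y⁻¹ * (x ^ p)⁻¹ :=
      ((Commute.inv_right (hycomm _ (A.inv_mem hxp)))).eq
    rw [h3]; group
  -- k
  set k := x⁻¹ * y with hk
  have hkZ : k ∈ Subgroup.upperCentralSeries G j := by
    have h1 : x⁻¹ ∈ Subgroup.upperCentralSeries G (j + 1) := Subgroup.inv_mem _ hxZ
    have h2 := (Subgroup.mem_upperCentralSeries_succ_iff.mp h1) g⁻¹
    have : k = x⁻¹ * g⁻¹ * x⁻¹⁻¹ * g⁻¹⁻¹ := by rw [hk, hy]; group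
    rw [this]; exact h2
  have hkC : k ∈ Subgroup.centralizer (A : Set G) :=
    Subgroup.mul_mem _ (Subgroup.inv_mem _ hxC) hyC
  have hyq : y ^ p ^ n = 1 := by
    have : y ^ p ^ n = g⁻¹ * x ^ p ^ n * g := by
      rw [hy]
      have := conj_pow (a := g⁻¹) (b := x) (i := p ^ n)
      rw [inv_inv] at this
      exact this
    rw [this, hxq]; group
  have hkq : k ^ p ^ n = 1 := by
    have hd : ⁅y, x⁻¹⁆ = c := by
      have : ⁅y, x⁻¹⁆ = y * c * y⁻¹ := by rw [hc, commutatorElement_def]; group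
      rw [this, ← hcy.eq, mul_inv_cancel_right]
    have h1 : Commute ⁅y, x⁻¹⁆ x⁻¹ := by rw [hd]; exact hcx.inv_right
    have h2 : Commute ⁅y, x⁻¹⁆ y := by rw [hd]; exact hcy
    rw [hk, Helper32.mul_pow_of_central x⁻¹ y h1 h2, inv_pow, hxq, hyq, hd]
    obtain ⟨m, hm⟩ := prime_dvd_choose_two p n hp hn0 hn
    rw [hm, pow_mul, hcp]; simp
  have hkA : k ∈ A := ih k hkZ hkC hkq
  have hyR : y ∈ R := by
    have : y = x * k := by rw [hk]; group
    rw [this]
    exact R.mul_mem hxR (hAR hkA)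
  apply hgN
  have : g⁻¹ ∈ Subgroup.normalizer (R : Set G) := by
    apply mem_normalizer_of_conj_le
    intro r hr
    obtain ⟨a, ha, i, rfl⟩ := (hRmem r).mp hr
    have : g⁻¹ * (a * x ^ i) * g⁻¹⁻¹ = (g⁻¹ * a * g) * (g⁻¹ * x * g) ^ i := by
      have := conj_zpow (a := g⁻¹) (b := x) (i := i)
      rw [inv_inv] at this
      rw [inv_inv, this]; group
    rw [this]
    exact R.mul_mem (hAR (hAconj' a ha)) (R.zpow_mem hyR i)
  have := Subgroup.inv_mem _ this
  rwa [inv_inv] at this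

theorem alperin_aux (hG : IsPGroup p G) (n : ℕ) (hn : p ^ n ≠ 2)
    (A : Subgroup G) [A.Normal] (hA : IsMulCommutative A) (hAe : ∀ a ∈ A, a ^ p ^ n = 1)
    (hmax : ∀ B : Subgroup G, B.Normal → IsMulCommutative B → (∀ b ∈ B, b ^ p ^ n = 1) →
      A ≤ B → B = A) (j : ℕ) :
    ∀ x ∈ Subgroup.upperCentralSeries G j, x ∈ Subgroup.centralizer (A : Set G) →
      x ^ p ^ n = 1 → x ∈ A := by
  induction j with
  | zero =>
    intro x hx _ _
    rw [Subgroup.upperCentralSeries_zero, Subgroup.mem_bot] at hx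
    rw [hx]; exact A.one_mem
  | succ j ih =>
    intro x hxZ hxC hxq
    by_contra hxA
    have hex : ∃ i : ℕ, x ^ p ^ i ∈ A := ⟨n, hxq ▸ A.one_mem⟩
    classical
    set i := Nat.find hex with hi
    have hi1 : x ^ p ^ i ∈ A := Nat.find_spec hex
    have hi0 : i ≠ 0 := by
      intro h0
      rw [h0, pow_zero, pow_one] at hi1
      exact hxA hi1
    obtain ⟨m, hm⟩ : ∃ m, i = m + 1 := ⟨i - 1, by omega⟩
    have hmin : x ^ p ^ m ∉ A := Nat.find_min hex (by omega)
    refine alperin_core hG n hn A hA hAe hmax j ih (x ^ p ^ m) (Subgroup.pow_mem _ hxZ _)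
      (Subgroup.pow_mem _ hxC _) ?_ hmin ?_
    · rw [← pow_mul, mul_comm, pow_mul, hxq, one_pow]
    · rw [← pow_mul, ← pow_succ, ← hm]; exact hi1

theorem alperin (hG : IsPGroup p G) (n : ℕ) (hn : p ^ n ≠ 2)
    (A : Subgroup G) [A.Normal] (hA : IsMulCommutative A) (hAe : ∀ a ∈ A, a ^ p ^ n = 1)
    (hmax : ∀ B : Subgroup G, B.Normal → IsMulCommutative B → (∀ b ∈ B, b ^ p ^ n = 1) →
      A ≤ B → B = A) (x : G) (hx : x ∈ Subgroup.centralizer (A : Set G))
    (hxn : x ^ p ^ n = 1) : x ∈ A := by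
  have : Group.IsNilpotent G := hG.isNilpotent
  refine alperin_aux hG n hn A hA hAe hmax (Group.nilpotencyClass G) x ?_ hx hxn
  rw [Subgroup.upperCentralSeries_nilpotencyClass]
  exact Subgroup.mem_top x

end Alperin

end Cfsg.Agent.Lib.Helper04
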