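import Mathlib
import Cfsg.Agent.Lib.Helper70.AGDefs

/-!
# Pack K-4188 (S4188), leaf A5 (keystone 418805): geometry of a normal four-group in an irreducible
`2`-group of automorphisms of an abelian group of odd order.
-/

set_option autoImplicit false

namespace Cfsg.Agent.Lib.Helper04.AG

open Cfsg.Agent.Lib.Helper70.AG

theorem caseB_geometry {V : Type*} [CommGroup V] [Finite V] (hodd : Odd (Nat.card V))
    (Q : Subgroup (MulAut V))
    (hirr : ∀ W : Subgroup V, IsInv Q W → W = ⊥ ∨ W = ⊤)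
    (z u : ↥Q) (hz1 : z ≠ 1) (hz2 : z ^ 2 = 1) (hzc : z ∈ Subgroup.center ↥Q)
    (hu1 : u ≠ 1) (hu2 : u ^ 2 = 1) (huz : u ≠ z)
    (hconj : ∀ s : ↥Q, s * u * s⁻¹ = u ∨ s * u * s⁻¹ = u * z) :
    (Subgroup.centralizer ({u} : Set ↥Q)).index = 2 ∧
    fixedSub (u : MulAut V) ⊓ fixedSub ((u * z : ↥Q) : MulAut V) = ⊥ ∧
    fixedSub (u : MulAut V) ⊔ fixedSub ((u * z : ↥Q) : MulAut V) = ⊤ ∧
    (∀ m ∈ Subgroup.centralizer ({u} : Set ↥Q), ∀ v ∈ fixedSub (u : MulAut V),
      (m : MulAut V) v ∈ fixedSub (u : MulAut V)) ∧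
    (∀ m ∈ Subgroup.centralizer ({u} : Set ↥Q), ∀ v ∈ fixedSub ((u * z : ↥Q) : MulAut V),
      (m : MulAut V) v ∈ fixedSub ((u * z : ↥Q) : MulAut V)) ∧
    Nat.card ↥(fixedSub (u : MulAut V)) = Nat.card ↥(fixedSub ((u * z : ↥Q) : MulAut V)) ∧
    fixedSub (u : MulAut V) ≠ ⊥ := by
  classical
  -- coercion of products
  have hmulc : ∀ (a b : ↥Q) (v : V), ((a * b : ↥Q) : MulAut V) v = (a : MulAut V) ((b : MulAut V) v) :=
    fun a b v => rfl
  have hinvc : ∀ (a : ↥Q) (v : V), (a : MulAut V) (((a⁻¹ : ↥Q) : MulAut V) v) = v := by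
    intro a v
    rw [← hmulc, mul_inv_cancel]; rfl
  have hinvc' : ∀ (a : ↥Q) (v : V), ((a⁻¹ : ↥Q) : MulAut V) ((a : MulAut V) v) = v := by
    intro a v
    rw [← hmulc, inv_mul_cancel]; rfl
  -- involutions
  have hzz : ∀ v : V, (z : MulAut V) ((z : MulAut V) v) = v := by
    intro v
    rw [← hmulc, ← pow_two, hz2]; rfl
  have huu : ∀ v : V, (u : MulAut V) ((u : MulAut V) v) = v := by
    intro v
    rw [← hmulc, ← pow_two, hu2]; rfl
  have hzcomm : ∀ q : ↥Q, q * z = z * q := fun q => (Subgroup.mem_center_iff.1 hzc q)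
  -- odd order
  have hcop : (Nat.card V).Coprime 2 := Nat.coprime_two_right.2 hodd
  have sq_inj : ∀ v w : V, v ^ 2 = w ^ 2 → v = w := fun v w h => (powCoprime hcop).injective h
  have sq_surj : ∀ v : V, ∃ w : V, w ^ 2 = v := fun v => (powCoprime hcop).surjective v
  -- invariance of fixed points of a central element
  have inv_of_comm : ∀ a : ↥Q, (∀ q : ↥Q, q * a = a * q) → IsInv Q (fixedSub (a : MulAut V)) := by
    intro a ha q hq w hw
    rw [mem_fixedSub] at hw ⊢
    have h1 := hmulc ⟨q, hq⟩ a w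
    have h2 := hmulc a ⟨q, hq⟩ w
    rw [ha ⟨q, hq⟩] at h1
    rw [h1] at h2
    rw [← h2, hw]
  have one_of_top : ∀ a : ↥Q, fixedSub (a : MulAut V) = ⊤ → a = 1 := by
    intro a h
    apply Subtype.ext
    apply MulEquiv.ext
    intro v
    have hv : v ∈ fixedSub (a : MulAut V) := by rw [h]; exact Subgroup.mem_top v
    exact hv
  -- (1) z inverts V
  have hzbot : fixedSub (z : MulAut V) = ⊥ := by
    rcases hirr _ (inv_of_comm z hzcomm) with h | h
    · exact h
    · exact absurd (one_of_top z h) hz1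
  have hzinv : ∀ v : V, (z : MulAut V) v = v⁻¹ := by
    intro v
    have hmem : v * (z : MulAut V) v ∈ fixedSub (z : MulAut V) := by
      rw [mem_fixedSub, map_mul, hzz, mul_comm]
    rw [hzbot, Subgroup.mem_bot] at hmem
    exact (eq_inv_of_mul_eq_one_right hmem)
  -- (2) description of the fixed points of u z
  have huz_apply : ∀ v : V, ((u * z : ↥Q) : MulAut V) v = ((u : MulAut V) v)⁻¹ := by
    intro v
    rw [hmulc, hzinv, map_inv]
  have hminus : ∀ v : V, v ∈ fixedSub ((u * z : ↥Q) : MulAut V) ↔ ((u : MulAut V) v)⁻¹ = v := by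
    intro v
    rw [mem_fixedSub, huz_apply]
  have h_inf : fixedSub (u : MulAut V) ⊓ fixedSub ((u * z : ↥Q) : MulAut V) = ⊥ := by
    rw [eq_bot_iff]
    intro v hv
    rw [Subgroup.mem_inf] at hv
    obtain ⟨h1, h2⟩ := hv
    rw [mem_fixedSub] at h1
    rw [hminus, h1] at h2
    rw [Subgroup.mem_bot]
    apply sq_inj
    rw [one_pow, pow_two]
    nth_rewrite 1 [← h2]
    exact inv_mul_cancel v
  have h_sup : fixedSub (u : MulAut V) ⊔ fixedSub ((u * z : ↥Q) : MulAut V) = ⊤ := by
    rw [eq_top_iff]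
    intro v _
    obtain ⟨w, rfl⟩ := sq_surj v
    rw [Subgroup.mem_sup]
    refine ⟨w * (u : MulAut V) w, ?_, w * ((u : MulAut V) w)⁻¹, ?_, ?_⟩
    · rw [mem_fixedSub, map_mul, huu, mul_comm]
    · rw [hminus, map_mul, map_inv, huu, mul_inv, inv_inv, mul_comm]
    · rw [pow_two]
      calc w * (u : MulAut V) w * (w * ((u : MulAut V) w)⁻¹)
          = w * w * ((u : MulAut V) w * ((u : MulAut V) w)⁻¹) := by
            rw [mul_mul_mul_comm]
        _ = w * w := by rw [mul_inv_cancel, mul_one]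
  -- centralizer membership
  have hC : ∀ m : ↥Q, m ∈ Subgroup.centralizer ({u} : Set ↥Q) ↔ m * u * m⁻¹ = u := by
    intro m
    rw [Subgroup.mem_centralizer_iff]
    constructor
    · intro h
      have := h u (Set.mem_singleton u)
      rw [mul_inv_eq_iff_eq_mul, this]
    · intro h x hx
      rw [Set.mem_singleton_iff] at hx
      subst hx
      rw [mul_inv_eq_iff_eq_mul] at h
      exact h.symm
  -- conjugation action on fixed points
  have conj_fix : ∀ (s a b : ↥Q), s * a * s⁻¹ = b → ∀ v ∈ fixedSub (a : MulAut V),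
      (s : MulAut V) v ∈ fixedSub (b : MulAut V) := by
    intro s a b h v hv
    rw [mem_fixedSub] at hv ⊢
    rw [← h, hmulc, hmulc, hinvc', hv]
  have hzconj : ∀ s : ↥Q, s * z * s⁻¹ = z := by
    intro s
    rw [hzcomm s, mul_assoc, mul_inv_cancel, mul_one]
  have hzsq : z * z = 1 := by rw [← pow_two, hz2]
  have huz_conj : ∀ s : ↥Q, s * u * s⁻¹ = u * z → s * (u * z) * s⁻¹ = u := by
    intro s h
    have : s * (u * z) * s⁻¹ = (s * u * s⁻¹) * (s * z * s⁻¹) := by group
    rw [this, h, hzconj, mul_assoc, hzsq, mul_one]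
  have huz_conj' : ∀ s : ↥Q, s * u * s⁻¹ = u → s * (u * z) * s⁻¹ = u * z := by
    intro s h
    have : s * (u * z) * s⁻¹ = (s * u * s⁻¹) * (s * z * s⁻¹) := by group
    rw [this, h, hzconj]
  have huz_ne : u * z ≠ u := by
    intro h
    exact hz1 (mul_left_cancel (h.trans (mul_one u).symm))
  -- V₊ ≠ ⊥
  have h_ne : fixedSub (u : MulAut V) ≠ ⊥ := by
    intro hbot
    rw [hbot, bot_sup_eq] at h_sup
    apply huz
    apply Subtype.ext
    apply MulEquiv.ext
    intro v
    have hv : v ∈ fixedSub ((u * z : ↥Q) : MulAut V) := by rw [h_sup]; exact Subgroup.mem_top v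
    rw [hminus] at hv
    rw [hzinv]
    exact inv_eq_iff_eq_inv.1 hv
  -- existence of s
  have hs : ∃ s : ↥Q, s * u * s⁻¹ = u * z := by
    by_contra hno
    have hall : ∀ q : ↥Q, q * u = u * q := by
      intro q
      rcases hconj q with h | h
      · rw [mul_inv_eq_iff_eq_mul] at h
        exact h
      · exact absurd ⟨q, h⟩ hno
    rcases hirr _ (inv_of_comm u hall) with h | h
    · exact h_ne h
    · exact hu1 (one_of_top u h)
  obtain ⟨s, hs⟩ := hs
  -- cards
  have h_card : Nat.card ↥(fixedSub (u : MulAut V)) =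
      Nat.card ↥(fixedSub ((u * z : ↥Q) : MulAut V)) := by
    apply le_antisymm
    · apply Nat.card_le_card_of_injective
        (fun v : ↥(fixedSub (u : MulAut V)) =>
          (⟨(s : MulAut V) v.1, conj_fix s u (u * z) hs v.1 v.2⟩ :
            ↥(fixedSub ((u * z : ↥Q) : MulAut V))))
      intro a b hab
      apply Subtype.ext
      have := congrArg Subtype.val hab
      exact (s : MulAut V).injective this
    · apply Nat.card_le_card_of_injective
        (fun v : ↥(fixedSub ((u * z : ↥Q) : MulAut V)) =>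
          (⟨(s : MulAut V) v.1, conj_fix s (u * z) u (huz_conj s hs) v.1 v.2⟩ :
            ↥(fixedSub (u : MulAut V))))
      intro a b hab
      apply Subtype.ext
      have := congrArg Subtype.val hab
      exact (s : MulAut V).injective this
  -- index two
  have h_idx : (Subgroup.centralizer ({u} : Set ↥Q)).index = 2 := by
    rw [Subgroup.index_eq_two_iff]
    refine ⟨s, fun b => ?_⟩
    have hbs : ∀ c : ↥Q, b * s * u * (b * s)⁻¹ = c ↔ b * (u * z) * b⁻¹ = c := by
      intro c
      have : b * s * u * (b * s)⁻¹ = b * (s * u * s⁻¹) * b⁻¹ := by group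
      rw [this, hs]
    rcases hconj b with h | h
    · right
      refine ⟨(hC b).2 h, ?_⟩
      rw [hC, hbs, huz_conj' b h]
      exact huz_ne
    · left
      refine ⟨?_, ?_⟩
      · rw [hC, hbs, huz_conj b h]
      · rw [hC, h]
        exact huz_ne
  refine ⟨h_idx, h_inf, h_sup, ?_, ?_, h_card, h_ne⟩
  · intro m hm v hv
    exact conj_fix m u u ((hC m).1 hm) v hv
  · intro m hm v hv
    exact conj_fix m (u * z) (u * z) (huz_conj' m ((hC m).1 hm)) v hv

end Cfsg.Agent.Lib.Helper04.AG
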