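import Mathlib
import Cfsg.Prelude.Def_GeometricClasses
import Cfsg.Agent.Lib.Helper61.AschDefs
import Cfsg.Agent.Lib.Helper61.AschUDefs
import Cfsg.Agent.Lib.Helper50.TensorAct2
import Cfsg.Agent.Lib.Helper63.AschB6

/-!
# K-S5663-B6e : shared vocabulary (the pair homomorphism `(A, B) ↦ P (A ⊗ B) P⁻¹`)
-/

set_option autoImplicit false

namespace Cfsg.Agent.Lib.Helper04.AschU

open Cfsg Cfsg.Geo Cfsg.Agent.Lib.Helper61.Asch Cfsg.Agent.Lib.Helper61.AschU
open scoped Matrix Kronecker MatrixGroups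

variable {F : Type*} [Field F] {a b : ℕ}

/-- `(A, B) ↦ A ⊗ B` as a group homomorphism. -/
def kronHom (a b : ℕ) (F : Type*) [Field F] : GL (Fin a) F × GL (Fin b) F →* GL (Fin a × Fin b) F where
  toFun p := Cfsg.Agent.Lib.Helper50.kronGL p.1 p.2
  map_one' := by
    apply Units.ext
    simp [Cfsg.Agent.Lib.Helper50.kronGL_val]
  map_mul' p r := by
    apply Units.ext
    simp [Cfsg.Agent.Lib.Helper50.kronGL_val, Matrix.mul_kronecker_mul]

theorem kronHom_val (A : GL (Fin a) F) (B : GL (Fin b) F) :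
    ((kronHom a b F (A, B) : GL (Fin a × Fin b) F) : Matrix (Fin a × Fin b) (Fin a × Fin b) F) =
      (A : Matrix (Fin a) (Fin a) F) ⊗ₖ (B : Matrix (Fin b) (Fin b) F) := rfl

variable {ι : Type} [Fintype ι] [DecidableEq ι]

/-- `(A, B) ↦ P (A ⊗ B) P⁻¹`, the Kronecker product being read on `ι` through `e`. -/
def tensPair (e : ι ≃ Fin a × Fin b) (P : GL ι F) : GL (Fin a) F × GL (Fin b) F →* GL ι F :=
  (Cfsg.Agent.Lib.Helper50.tensorHom e P).comp (kronHom a b F)

theorem tensPair_val (e : ι ≃ Fin a × Fin b) (P : GL ι F) (A : GL (Fin a) F) (B : GL (Fin b) F) :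
    ((tensPair e P (A, B) : GL ι F) : Matrix ι ι F) =
      (P : Matrix ι ι F) *
        ((A : Matrix (Fin a) (Fin a) F) ⊗ₖ (B : Matrix (Fin b) (Fin b) F)).submatrix e e *
        ((P⁻¹ : GL ι F) : Matrix ι ι F) := by
  unfold tensPair
  rw [MonoidHom.comp_apply, Cfsg.Agent.Lib.Helper50.tensorHom_val, kronHom_val]

theorem mem_tensorProductSubgroup_iff (e : ι ≃ Fin a × Fin b) (P g : GL ι F) :
    g ∈ tensorProductSubgroup a b e P ↔ ∃ (A : GL (Fin a) F) (B : GL (Fin b) F), g = tensPair e P (A, B) := by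
  rw [Cfsg.Agent.Lib.Helper50.tensorProductSubgroup_eq_map]
  constructor
  · rintro ⟨k, ⟨A, B, hk⟩, rfl⟩
    refine ⟨A, B, ?_⟩
    unfold tensPair
    rw [MonoidHom.comp_apply]
    congr 1
    apply Units.ext
    rw [hk, kronHom_val]
  · rintro ⟨A, B, rfl⟩
    exact ⟨kronHom a b F (A, B), Cfsg.Agent.Lib.Helper50.kronGL_mem A B, rfl⟩

end Cfsg.Agent.Lib.Helper04.AschU
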