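import Mathlib
import Cfsg.Prelude.Def_GeometricClasses
import Cfsg.Agent.Lib.Helper50.GraphSplit4
import Cfsg.Agent.Lib.Helper04.AschUB6eDefs

/-!
# K-S5663-B6e : group theory of the image `R = P (R₁ ⊗ R₂) P⁻¹` (symplectic type), given the kernel facts as hypotheses
-/

set_option autoImplicit false

namespace Cfsg.Agent.Lib.Helper04.AschU

open Cfsg Cfsg.Geo
open scoped Matrix Kronecker MatrixGroups

section conj

variable {G : Type*} [Group G]

/-- conjugation by an element normalising `R`, as an automorphism of `R`. -/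
def conjAut (R : Subgroup G) (k : G) (h1 : ∀ x ∈ R, k * x * k⁻¹ ∈ R) (h2 : ∀ x ∈ R, k⁻¹ * x * k ∈ R) :
    R ≃* R where
  toFun x := ⟨k * x * k⁻¹, h1 x x.2⟩
  invFun x := ⟨k⁻¹ * x * k, h2 x x.2⟩
  left_inv x := by
    apply Subtype.ext
    simp [mul_assoc]
  right_inv x := by
    apply Subtype.ext
    simp [mul_assoc]
  map_mul' x y := by
    apply Subtype.ext
    simp [mul_assoc]

theorem conjAut_apply (R : Subgroup G) (k : G) (h1 : ∀ x ∈ R, k * x * k⁻¹ ∈ R)
    (h2 : ∀ x ∈ R, k⁻¹ * x * k ∈ R) (x : R) : ((conjAut R k h1 h2 x : R) : G) = k * x * k⁻¹ := rfl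

/-- a characteristic subgroup is stable under conjugation by normalising elements. -/
theorem conj_mem_of_characteristic (R : Subgroup G) (A : Subgroup R) (hA : A.Characteristic) (k : G)
    (h1 : ∀ x ∈ R, k * x * k⁻¹ ∈ R) (h2 : ∀ x ∈ R, k⁻¹ * x * k ∈ R) (x : R) (hx : x ∈ A) :
    (⟨k * x * k⁻¹, h1 x x.2⟩ : R) ∈ A := by
  have h := Subgroup.characteristic_iff_le_comap.mp hA (conjAut R k h1 h2) hx
  exact h

end conj

end Cfsg.Agent.Lib.Helper04.AschU
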