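import Mathlib
import Cfsg.Agent.Lib.Helper36.F4

/-!
# K-S5663-B6e, leaf 1 : the Heisenberg group `3^{1+2}` over the computable field of order four (finite checks)
-/

set_option autoImplicit false

namespace Cfsg.Agent.Lib.Helper04.AschU.HeisC

open Cfsg.Agent.Lib.Helper36

/-- `3 × 3` matrices over the computable field of order four. -/
abbrev M3 := Matrix (Fin 3) (Fin 3) F4

/-- the cyclic permutation matrix. -/
def Xm : M3 := !![0,0,1; 1,0,0; 0,1,0]
/-- `diag(1, ω, ω²)`. -/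
def Zm : M3 := !![1,0,0; 0,F4.w,0; 0,0,F4.v]
/-- the Fourier matrix. -/
def Fou : M3 := !![1,1,1; 1,F4.w,F4.v; 1,F4.v,F4.w]

/-- explicit multiplication -/
def mul3 (a b : M3) : M3 := fun i j => a i 0 * b 0 j + a i 1 * b 1 j + a i 2 * b 2 j

theorem mul3_eq (a b : M3) : mul3 a b = a * b := by
  ext i j
  simp [mul3, Matrix.mul_apply, Fin.sum_univ_three]

/-- conjugate transpose (`x ↦ x²` is the Frobenius). -/
def ctr (a : M3) : M3 := fun i j => a j i * a j i

/-- powers with exponent in `Fin 3`. -/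
def pw (a : M3) : Fin 3 → M3
  | 0 => 1
  | 1 => a
  | 2 => mul3 a a

/-- the three nonzero scalars. -/
def sc : Fin 3 → F4
  | 0 => 1
  | 1 => F4.w
  | 2 => F4.v

/-- `ω^a X^b Z^c`. -/
def hmat (a b c : Fin 3) : M3 := fun i j => sc a * mul3 (pw Xm b) (pw Zm c) i j

/-- a matrix from its nine entries. -/
def mk9 (g00 g01 g02 g10 g11 g12 g20 g21 g22 : F4) : M3 := !![g00,g01,g02; g10,g11,g12; g20,g21,g22]

theorem hmat_zero : hmat 0 0 0 = 1 := by decide +kernel

theorem hmat_closed : ∀ a b c a' b' c' : Fin 3, ∃ a'' b'' c'' : Fin 3,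
    mul3 (hmat a b c) (hmat a' b' c') = hmat a'' b'' c'' := by
  decide +kernel

theorem hmat_cube : ∀ a b c : Fin 3, mul3 (hmat a b c) (mul3 (hmat a b c) (hmat a b c)) = 1 := by
  decide +kernel

theorem hmat_inj : ∀ a b c a' b' c' : Fin 3, hmat a b c = hmat a' b' c' → a = a' ∧ b = b' ∧ c = c' := by
  decide +kernel

theorem hmat_center : ∀ a b c : Fin 3,
    mul3 (hmat a b c) (hmat 0 1 0) = mul3 (hmat 0 1 0) (hmat a b c) →
    mul3 (hmat a b c) (hmat 0 0 1) = mul3 (hmat 0 0 1) (hmat a b c) → b = 0 ∧ c = 0 := by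
  decide +kernel

theorem hmat_unitary : ∀ a b c : Fin 3, mul3 (ctr (hmat a b c)) (hmat a b c) = 1 := by
  decide +kernel

theorem hmat_scalar : ∀ a : Fin 3, hmat a 0 0 = Matrix.diagonal (fun _ => sc a) := by
  decide +kernel

theorem sc_cases : ∀ x : F4, x ≠ 0 → ∃ a : Fin 3, x = sc a := by decide +kernel

theorem Fou_unitary : mul3 (ctr Fou) Fou = 1 := by decide +kernel

theorem Fou_noncomm : ∀ a b c : Fin 3,
    mul3 (hmat a b c) (mul3 (mul3 Fou (hmat a b c)) (ctr Fou)) =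
      mul3 (mul3 (mul3 Fou (hmat a b c)) (ctr Fou)) (hmat a b c) → b = 0 ∧ c = 0 := by
  decide +kernel

/-- matrix units in terms of the Heisenberg matrices. -/
theorem single_eq : ∀ i j : Fin 3, ∃ b : Fin 3, ∃ s : Fin 3 → Fin 3,
    (fun k l => if k = i ∧ l = j then (1 : F4) else 0) =
      fun k l => hmat (s 0) b 0 k l + hmat (s 1) b 1 k l + hmat (s 2) b 2 k l := by
  decide +kernel

/-- every unitary matrix conjugates the generators `X`, `Z` into the Heisenberg group. -/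
theorem normalizes : ∀ g00 g10 g20 : F4, g00 * g00 * g00 + g10 * g10 * g10 + g20 * g20 * g20 = 1 →
    ∀ g01 g11 g21 : F4, g01 * g01 * g01 + g11 * g11 * g11 + g21 * g21 * g21 = 1 →
    g00 * g00 * g01 + g10 * g10 * g11 + g20 * g20 * g21 = 0 →
    ∀ g02 g12 g22 : F4, g02 * g02 * g02 + g12 * g12 * g12 + g22 * g22 * g22 = 1 →
    g00 * g00 * g02 + g10 * g10 * g12 + g20 * g20 * g22 = 0 →
    g01 * g01 * g02 + g11 * g11 * g12 + g21 * g21 * g22 = 0 →
    (∃ a b c : Fin 3, mul3 (mul3 (mk9 g00 g01 g02 g10 g11 g12 g20 g21 g22) Xm)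
        (ctr (mk9 g00 g01 g02 g10 g11 g12 g20 g21 g22)) = hmat a b c) ∧
    (∃ a b c : Fin 3, mul3 (mul3 (mk9 g00 g01 g02 g10 g11 g12 g20 g21 g22) Zm)
        (ctr (mk9 g00 g01 g02 g10 g11 g12 g20 g21 g22)) = hmat a b c) := by
  decide +kernel

theorem hmat_X : hmat 0 1 0 = Xm := by decide +kernel
theorem hmat_Z : hmat 0 0 1 = Zm := by decide +kernel

/-- every Heisenberg matrix is a product of powers of the three generators. -/
theorem hmat_gen : ∀ a b c : Fin 3,
    hmat a b c = mul3 (pw (hmat 1 0 0) a) (mul3 (pw (hmat 0 1 0) b) (pw (hmat 0 0 1) c)) := by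
  decide +kernel

end Cfsg.Agent.Lib.Helper04.AschU.HeisC
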