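import Mathlib
import Cfsg.Prelude.Def_GeometricClasses
import Cfsg.Agent.Lib.Helper36.F4
import Cfsg.Agent.Lib.Helper40.GUConj
import Cfsg.Agent.Lib.Helper04.AschUB6eHeisC

/-!
# K-S5663-B6e, leaf 1 : the concrete Heisenberg subgroup of `GL₃(F₄)` and its normalisation by `GU₃(2)`
-/

set_option autoImplicit false

namespace Cfsg.Agent.Lib.Helper04.AschU

open Cfsg Cfsg.Geo Cfsg.Agent.Lib.Helper36 Cfsg.Agent.Lib.Helper04.AschU.HeisC
open scoped Matrix MatrixGroups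

theorem mul3_assoc (a b c : M3) : mul3 a (mul3 b c) = mul3 (mul3 a b) c := by
  rw [mul3_eq, mul3_eq, mul3_eq, mul3_eq, Matrix.mul_assoc]

/-- the Heisenberg matrices as units. -/
def hunit (a b c : Fin 3) : GL (Fin 3) F4 where
  val := hmat a b c
  inv := mul3 (hmat a b c) (hmat a b c)
  val_inv := by rw [← mul3_eq, hmat_cube]
  inv_val := by rw [← mul3_eq, ← mul3_assoc, hmat_cube]

theorem hunit_val (a b c : Fin 3) : ((hunit a b c : GL (Fin 3) F4) : M3) = hmat a b c := rfl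

/-- the concrete Heisenberg subgroup. -/
def heisC : Subgroup (GL (Fin 3) F4) where
  carrier := {g | ∃ a b c : Fin 3, (g : M3) = hmat a b c}
  mul_mem' := by
    rintro g h ⟨a, b, c, hg⟩ ⟨a', b', c', hh⟩
    obtain ⟨a'', b'', c'', h3⟩ := hmat_closed a b c a' b' c'
    exact ⟨a'', b'', c'', by rw [Units.val_mul, hg, hh, ← mul3_eq, h3]⟩
  one_mem' := ⟨0, 0, 0, by rw [Units.val_one, hmat_zero]⟩
  inv_mem' := by
    rintro g ⟨a, b, c, hg⟩
    have hgu : g = hunit a b c := Units.ext hg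
    obtain ⟨a'', b'', c'', h3⟩ := hmat_closed a b c a b c
    refine ⟨a'', b'', c'', ?_⟩
    rw [hgu, ← h3]
    rfl

theorem mem_heisC {g : GL (Fin 3) F4} : g ∈ heisC ↔ ∃ a b c : Fin 3, g = hunit a b c := by
  constructor
  · rintro ⟨a, b, c, hg⟩
    exact ⟨a, b, c, Units.ext hg⟩
  · rintro ⟨a, b, c, rfl⟩
    exact ⟨a, b, c, rfl⟩

theorem hunit_mem (a b c : Fin 3) : hunit a b c ∈ heisC := mem_heisC.mpr ⟨a, b, c, rfl⟩

theorem card_heisC : Nat.card heisC = 27 := by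
  have hbij : Function.Bijective (fun t : Fin 3 × Fin 3 × Fin 3 =>
      (⟨hunit t.1 t.2.1 t.2.2, hunit_mem _ _ _⟩ : heisC)) := by
    constructor
    · rintro ⟨a, b, c⟩ ⟨a', b', c'⟩ h
      have h1 := congrArg (fun x : heisC => ((x : GL (Fin 3) F4) : M3)) h
      obtain ⟨h1, h2, h3⟩ := hmat_inj a b c a' b' c' h1
      rw [h1, h2, h3]
    · rintro ⟨g, hg⟩
      obtain ⟨a, b, c, rfl⟩ := mem_heisC.mp hg
      exact ⟨(a, b, c), rfl⟩
  rw [← Nat.card_eq_of_bijective _ hbij]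
  simp

theorem hunit_cube (a b c : Fin 3) : hunit a b c ^ 3 = 1 := by
  apply Units.ext
  rw [pow_succ, pow_two, Units.val_mul, Units.val_mul, hunit_val, Units.val_one, ← mul3_eq, ← mul3_eq,
    ← mul3_assoc, hmat_cube]

theorem hunit_scalar (a : Fin 3) : ((hunit a 0 0 : GL (Fin 3) F4) : M3) = sc a • (1 : M3) := by
  rw [hunit_val, hmat_scalar, Matrix.smul_one_eq_diagonal]

/-- commuting with `X` and `Z` forces scalar. -/
theorem hunit_central (a b c : Fin 3) (hX : hunit a b c * hunit 0 1 0 = hunit 0 1 0 * hunit a b c)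
    (hZ : hunit a b c * hunit 0 0 1 = hunit 0 0 1 * hunit a b c) : b = 0 ∧ c = 0 := by
  apply hmat_center a b c
  · have := congrArg (fun x : GL (Fin 3) F4 => (x : M3)) hX
    simpa only [Units.val_mul, hunit_val, ← mul3_eq] using this
  · have := congrArg (fun x : GL (Fin 3) F4 => (x : M3)) hZ
    simpa only [Units.val_mul, hunit_val, ← mul3_eq] using this


theorem frob_eq_sq : ∀ x : F4, F4.frob x = x ^ 2 := by decide

theorem adj_eq_ctr (M : M3) :
    Cfsg.Agent.Lib.Helper40.GUConj.adj (F4.frob : F4 →+* F4) M = ctr M := by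
  ext i j
  simp only [Cfsg.Agent.Lib.Helper40.GUConj.adj, RingHom.mapMatrix_apply, Matrix.transpose_apply,
    Matrix.map_apply, ctr]
  rw [RingEquiv.coe_toRingHom, frob_eq_sq, pow_two]

theorem mem_GU_C (g : GL (Fin 3) F4) : g ∈ GU 3 F4 2 ↔ mul3 (ctr (g : M3)) (g : M3) = 1 := by
  rw [Cfsg.Agent.Lib.Helper40.GUConj.mem_GU_iff_adj (F4.frob : F4 →+* F4)
    (fun x => by rw [RingEquiv.coe_toRingHom, frob_eq_sq]) g, adj_eq_ctr, mul3_eq]

theorem inv_eq_ctr (g : GL (Fin 3) F4) (hg : g ∈ GU 3 F4 2) : ((g⁻¹ : GL (Fin 3) F4) : M3) = ctr (g : M3) := by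
  have h := (mem_GU_C g).mp hg
  rw [mul3_eq] at h
  calc ((g⁻¹ : GL (Fin 3) F4) : M3) = (ctr (g : M3) * (g : M3)) * ((g⁻¹ : GL (Fin 3) F4) : M3) := by
        rw [h, Matrix.one_mul]
    _ = ctr (g : M3) := by
        rw [Matrix.mul_assoc, ← Units.val_mul, mul_inv_cancel, Units.val_one, Matrix.mul_one]

theorem eq_mk9 (M : M3) : M = mk9 (M 0 0) (M 0 1) (M 0 2) (M 1 0) (M 1 1) (M 1 2) (M 2 0) (M 2 1) (M 2 2) := by
  ext i j
  fin_cases i <;> fin_cases j <;> rfl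

/-- a unitary matrix conjugates `X` and `Z` into the Heisenberg group. -/
theorem conj_gen_mem (g : GL (Fin 3) F4) (hg : g ∈ GU 3 F4 2) :
    g * hunit 0 1 0 * g⁻¹ ∈ heisC ∧ g * hunit 0 0 1 * g⁻¹ ∈ heisC := by
  have h := (mem_GU_C g).mp hg
  have e := fun i j => congrFun (congrFun h i) j
  have h00 := e 0 0
  have h11 := e 1 1
  have h22 := e 2 2
  have h01 := e 0 1
  have h02 := e 0 2
  have h12 := e 1 2
  simp only [mul3, ctr] at h00 h11 h22 h01 h02 h12
  have key := normalizes ((g : M3) 0 0) ((g : M3) 1 0) ((g : M3) 2 0) h00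
    ((g : M3) 0 1) ((g : M3) 1 1) ((g : M3) 2 1) h11 h01
    ((g : M3) 0 2) ((g : M3) 1 2) ((g : M3) 2 2) h22 h02 h12
  rw [← eq_mk9] at key
  obtain ⟨⟨a, b, c, hX⟩, ⟨a', b', c', hZ⟩⟩ := key
  constructor
  · refine ⟨a, b, c, ?_⟩
    rw [Units.val_mul, Units.val_mul, inv_eq_ctr g hg, hunit_val, hmat_X, ← mul3_eq, ← mul3_eq, hX]
  · refine ⟨a', b', c', ?_⟩
    rw [Units.val_mul, Units.val_mul, inv_eq_ctr g hg, hunit_val, hmat_Z, ← mul3_eq, ← mul3_eq, hZ]

theorem pw_eq_pow (u : GL (Fin 3) F4) (k : Fin 3) : pw (u : M3) k = ((u ^ (k : ℕ) : GL (Fin 3) F4) : M3) := by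
  fin_cases k
  · simp [pw]
  · simp [pw]
  · simp [pw, mul3_eq, pow_two]

theorem hunit_gen (a b c : Fin 3) :
    hunit a b c = hunit 1 0 0 ^ (a : ℕ) * (hunit 0 1 0 ^ (b : ℕ) * hunit 0 0 1 ^ (c : ℕ)) := by
  apply Units.ext
  rw [Units.val_mul, Units.val_mul, ← pw_eq_pow, ← pw_eq_pow, ← pw_eq_pow, hunit_val, hunit_val, hunit_val,
    hunit_val, ← mul3_eq, ← mul3_eq]
  exact hmat_gen a b c

/-- scalars of the concrete field commute with everything. -/
theorem hunit_scalar_comm (a : Fin 3) (g : GL (Fin 3) F4) : g * hunit a 0 0 * g⁻¹ = hunit a 0 0 := by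
  have : g * hunit a 0 0 = hunit a 0 0 * g := by
    apply Units.ext
    rw [Units.val_mul, Units.val_mul, hunit_scalar, Matrix.mul_smul, Matrix.smul_mul, Matrix.mul_one,
      Matrix.one_mul]
  rw [this, mul_assoc, mul_inv_cancel, mul_one]

/-- `GU₃(2)` normalises the concrete Heisenberg group. -/
theorem conj_mem_heisC (g : GL (Fin 3) F4) (hg : g ∈ GU 3 F4 2) (h : GL (Fin 3) F4) (hh : h ∈ heisC) :
    g * h * g⁻¹ ∈ heisC := by
  obtain ⟨a, b, c, rfl⟩ := mem_heisC.mp hh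
  obtain ⟨hX, hZ⟩ := conj_gen_mem g hg
  have hS : g * hunit 1 0 0 * g⁻¹ ∈ heisC := by
    rw [hunit_scalar_comm]
    exact hunit_mem _ _ _
  have hconj : ∀ x y : GL (Fin 3) F4, g * (x * y) * g⁻¹ = (g * x * g⁻¹) * (g * y * g⁻¹) := by
    intro x y; group
  have hpow : ∀ (x : GL (Fin 3) F4) (k : ℕ), g * x ^ k * g⁻¹ = (g * x * g⁻¹) ^ k := by
    intro x k
    exact (conj_pow (a := g) (b := x) (i := k)).symm
  rw [hunit_gen a b c, hconj, hconj, hpow, hpow, hpow]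
  exact heisC.mul_mem (heisC.pow_mem hS _) (heisC.mul_mem (heisC.pow_mem hX _) (heisC.pow_mem hZ _))

/-- the Fourier matrix as a unit. -/
def fouC : GL (Fin 3) F4 where
  val := Fou
  inv := ctr Fou
  val_inv := by
    have h : mul3 Fou (ctr Fou) = 1 := by decide +kernel
    rw [← mul3_eq, h]
  inv_val := by rw [← mul3_eq, Fou_unitary]

theorem fouC_mem : fouC ∈ GU 3 F4 2 := (mem_GU_C fouC).mpr Fou_unitary

theorem fouC_noncomm (a b c : Fin 3)
    (h : hunit a b c * (fouC * hunit a b c * fouC⁻¹) = fouC * hunit a b c * fouC⁻¹ * hunit a b c) :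
    b = 0 ∧ c = 0 := by
  apply Fou_noncomm a b c
  have := congrArg (fun x : GL (Fin 3) F4 => (x : M3)) h
  simp only [Units.val_mul, hunit_val, inv_eq_ctr fouC fouC_mem] at this
  simp only [mul3_eq]
  exact this

theorem hunit_unitary (a b c : Fin 3) : hunit a b c ∈ GU 3 F4 2 :=
  (mem_GU_C _).mpr (hmat_unitary a b c)

end Cfsg.Agent.Lib.Helper04.AschU
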