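import Mathlib
import Cfsg.Prelude.Def_GeometricClasses
import Cfsg.Agent.Lib.Helper36.F4
import Cfsg.Agent.Lib.Helper40.GUConj
import Cfsg.Agent.Lib.Helper04.AschUB6eHeisC
import Cfsg.Agent.Lib.Helper04.AschUB6eHeisG

/-!
# K-S5663-B6e, leaf 1 (keystone 26901) : the Heisenberg group `3^{1+2}` in `GU₃(2)` over an abstract field of order four
-/

set_option autoImplicit false

namespace Cfsg.Agent.Lib.Helper04.AschU

open Cfsg Cfsg.Geo Cfsg.Agent.Lib.Helper36 Cfsg.Agent.Lib.Helper04.AschU.HeisC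
open scoped Matrix MatrixGroups

section transfer

variable {K K' : Type*} [Field K] [Field K'] {n : ℕ}

/-- the isomorphism of general linear groups induced by a field isomorphism. -/
def glMap (ψ : K ≃+* K') : GL (Fin n) K ≃* GL (Fin n) K' :=
  Units.mapEquiv (RingEquiv.mapMatrix ψ).toMulEquiv

theorem glMap_val (ψ : K ≃+* K') (g : GL (Fin n) K) :
    ((glMap ψ g : GL (Fin n) K') : Matrix (Fin n) (Fin n) K') = (g : Matrix (Fin n) (Fin n) K).map ψ := by
  unfold glMap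
  rw [Units.coe_mapEquiv]
  rfl

theorem glMap_symm_apply (ψ : K ≃+* K') (g : GL (Fin n) K') : glMap ψ (glMap ψ.symm g) = g := by
  apply Units.ext
  rw [glMap_val, glMap_val]
  ext i j
  simp

theorem glMap_mem_GU [Fintype K] [Fintype K'] {q : ℕ} (hK : Fintype.card K = q ^ 2)
    (hK' : Fintype.card K' = q ^ 2) (ψ : K ≃+* K') (g : GL (Fin n) K) (hg : g ∈ GU n K q) :
    glMap ψ g ∈ GU n K' q := by
  obtain ⟨φ, hφ, -, -⟩ := Cfsg.Agent.Lib.Helper40.GUConj.exists_frob hK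
  obtain ⟨φ', hφ', -, -⟩ := Cfsg.Agent.Lib.Helper40.GUConj.exists_frob hK'
  rw [Cfsg.Agent.Lib.Helper40.GUConj.mem_GU_iff_adj φ hφ] at hg
  rw [Cfsg.Agent.Lib.Helper40.GUConj.mem_GU_iff_adj φ' hφ', glMap_val]
  have h1 : Cfsg.Agent.Lib.Helper40.GUConj.adj φ' ((g : Matrix (Fin n) (Fin n) K).map ψ) =
      (Cfsg.Agent.Lib.Helper40.GUConj.adj φ (g : Matrix (Fin n) (Fin n) K)).map ψ := by
    ext i j
    simp only [Cfsg.Agent.Lib.Helper40.GUConj.adj, RingHom.mapMatrix_apply, Matrix.transpose_apply,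
      Matrix.map_apply]
    rw [hφ', hφ, map_pow]
  rw [h1, ← Matrix.map_mul, hg]
  exact Matrix.map_one ψ (map_zero ψ) (map_one ψ)

end transfer

variable {F : Type*} [Field F] [Fintype F]

theorem map_smul_one (ψ : F4 ≃+* F) (s : F4) :
    (s • (1 : Matrix (Fin 3) (Fin 3) F4)).map ψ = ψ s • (1 : Matrix (Fin 3) (Fin 3) F) := by
  rw [Matrix.smul_one_eq_diagonal, Matrix.smul_one_eq_diagonal, Matrix.diagonal_map (map_zero ψ)]

theorem sc_ne_zero : ∀ a : Fin 3, sc a ≠ 0 := by decide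

theorem glMap_hunit_scalar (ψ : F4 ≃+* F) (a : Fin 3) : glMap ψ (hunit a 0 0) ∈ scalars (Fin 3) F := by
  rw [mem_scalars_iff]
  refine ⟨Units.mk0 (ψ (sc a)) ?_, ?_⟩
  · rw [Ne, map_eq_zero_iff ψ ψ.injective]
    exact sc_ne_zero a
  · rw [glMap_val, hunit_scalar, map_smul_one]
    rfl

/-- **K-B6e-1** (keystone 26901). -/
theorem exists_heis3 (hF : Fintype.card F = 2 ^ 2) :
    ∃ R₁ : Subgroup (GL (Fin 3) F),
      scalars (Fin 3) F ≤ R₁ ∧ Nat.card R₁ = 27 ∧ (∀ A ∈ R₁, A ^ 3 = 1) ∧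
      (∀ A ∈ R₁, (∀ B ∈ R₁, A * B = B * A) → A ∈ scalars (Fin 3) F) ∧
      Submodule.span F (matrixSet R₁) = ⊤ ∧
      R₁ ≤ GU 3 F 2 ∧
      (∀ g ∈ GU 3 F 2, ∀ A ∈ R₁, g * A * g⁻¹ ∈ R₁) ∧
      ∃ g ∈ GU 3 F 2, ∀ A ∈ R₁, A * (g * A * g⁻¹) = g * A * g⁻¹ * A → A ∈ scalars (Fin 3) F := by
  classical
  have hF4 : Fintype.card F4 = 2 ^ 2 := F4.card_eq
  let ψ : F4 ≃+* F := FiniteField.ringEquivOfCardEq (hF4.trans hF.symm)
  have hmem : ∀ A : GL (Fin 3) F, A ∈ heisC.map (glMap (n := 3) ψ).toMonoidHom ↔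
      ∃ a b c : Fin 3, A = glMap ψ (hunit a b c) := by
    intro A
    constructor
    · rintro ⟨h, hh, rfl⟩
      obtain ⟨a, b, c, rfl⟩ := mem_heisC.mp hh
      exact ⟨a, b, c, rfl⟩
    · rintro ⟨a, b, c, rfl⟩
      exact ⟨hunit a b c, hunit_mem a b c, rfl⟩
  have hinj : Function.Injective (glMap (n := 3) ψ) := (glMap ψ).injective
  refine ⟨heisC.map (glMap (n := 3) ψ).toMonoidHom, ?_, ?_, ?_, ?_, ?_, ?_, ?_, ?_⟩
  · -- scalars
    intro z hz
    obtain ⟨c, hc⟩ := (mem_scalars_iff z).mp hz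
    have hx : ψ.symm (c : F) ≠ 0 := by
      rw [Ne, map_eq_zero_iff ψ.symm ψ.symm.injective]
      exact c.ne_zero
    obtain ⟨a, ha⟩ := sc_cases _ hx
    rw [hmem]
    refine ⟨a, 0, 0, ?_⟩
    apply Units.ext
    rw [hc, glMap_val, hunit_scalar, map_smul_one, ← ha, RingEquiv.apply_symm_apply]
  · -- card
    have hinj' : Function.Injective ((glMap (n := 3) ψ).toMonoidHom : GL (Fin 3) F4 →* GL (Fin 3) F) := hinj
    rw [Subgroup.card_map_of_injective hinj', card_heisC]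
  · -- cube
    intro A hA
    obtain ⟨a, b, c, rfl⟩ := (hmem A).mp hA
    rw [← map_pow, hunit_cube, map_one]
  · -- centre
    intro A hA hcomm
    obtain ⟨a, b, c, rfl⟩ := (hmem A).mp hA
    have hX := hcomm _ ((hmem _).mpr ⟨0, 1, 0, rfl⟩)
    have hZ := hcomm _ ((hmem _).mpr ⟨0, 0, 1, rfl⟩)
    rw [← map_mul, ← map_mul] at hX hZ
    obtain ⟨rfl, rfl⟩ := hunit_central a b c (hinj hX) (hinj hZ)
    exact glMap_hunit_scalar ψ a
  · -- span
    rw [eq_top_iff]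
    intro M _
    rw [Matrix.matrix_eq_sum_single M]
    refine Submodule.sum_mem _ (fun i _ => Submodule.sum_mem _ (fun j _ => ?_))
    have h1 : Matrix.single i j (M i j) = M i j • Matrix.single i j (1 : F) := by
      rw [Matrix.smul_single, smul_eq_mul, mul_one]
    rw [h1]
    refine Submodule.smul_mem _ _ ?_
    obtain ⟨b, s, hs⟩ := single_eq i j
    have h2 : Matrix.single i j (1 : F) =
        ((glMap ψ (hunit (s 0) b 0) : GL (Fin 3) F) : Matrix (Fin 3) (Fin 3) F) +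
        ((glMap ψ (hunit (s 1) b 1) : GL (Fin 3) F) : Matrix (Fin 3) (Fin 3) F) +
        ((glMap ψ (hunit (s 2) b 2) : GL (Fin 3) F) : Matrix (Fin 3) (Fin 3) F) := by
      ext k l
      have h3 := congrArg ψ (congrFun (congrFun hs k) l)
      rw [glMap_val, glMap_val, glMap_val]
      simp only [Matrix.add_apply, Matrix.map_apply, hunit_val]
      rw [map_add, map_add] at h3
      rw [← h3, Matrix.single_apply]
      by_cases hkl : i = k ∧ j = l
      · rw [if_pos hkl, if_pos ⟨hkl.1.symm, hkl.2.symm⟩, map_one]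
      · rw [if_neg hkl, if_neg (fun h => hkl ⟨h.1.symm, h.2.symm⟩), map_zero]
    rw [h2]
    have hin : ∀ a b c : Fin 3, ((glMap ψ (hunit a b c) : GL (Fin 3) F) : Matrix (Fin 3) (Fin 3) F) ∈
        Submodule.span F (matrixSet (heisC.map (glMap (n := 3) ψ).toMonoidHom)) := by
      intro a b c
      apply Submodule.subset_span
      exact ⟨_, (hmem _).mpr ⟨a, b, c, rfl⟩, rfl⟩
    exact Submodule.add_mem _ (Submodule.add_mem _ (hin _ _ _) (hin _ _ _)) (hin _ _ _)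
  · -- unitary
    intro A hA
    obtain ⟨a, b, c, rfl⟩ := (hmem A).mp hA
    exact glMap_mem_GU hF4 hF ψ _ (hunit_unitary a b c)
  · -- normalised
    intro g hg A hA
    obtain ⟨a, b, c, rfl⟩ := (hmem A).mp hA
    have hg' : glMap ψ.symm g ∈ GU 3 F4 2 := glMap_mem_GU hF hF4 ψ.symm g hg
    have h1 := conj_mem_heisC _ hg' _ (hunit_mem a b c)
    have h2 : g * glMap ψ (hunit a b c) * g⁻¹ =
        glMap ψ (glMap ψ.symm g * hunit a b c * (glMap ψ.symm g)⁻¹) := by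
      rw [map_mul, map_mul, map_inv, glMap_symm_apply]
    rw [h2]
    exact ⟨_, h1, rfl⟩
  · -- Fourier
    refine ⟨glMap ψ fouC, glMap_mem_GU hF4 hF ψ _ fouC_mem, ?_⟩
    intro A hA hcomm
    obtain ⟨a, b, c, rfl⟩ := (hmem A).mp hA
    rw [← map_inv, ← map_mul, ← map_mul, ← map_mul, ← map_mul] at hcomm
    obtain ⟨rfl, rfl⟩ := fouC_noncomm a b c (hinj hcomm)
    exact glMap_hunit_scalar ψ a

end Cfsg.Agent.Lib.Helper04.AschU
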