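import Mathlib
import Cfsg.Prelude.Def_GeometricClasses
import Cfsg.Agent.Lib.Helper50.GraphSplit4
import Cfsg.Agent.Lib.Helper04.AschUB6eDefs
import Cfsg.Agent.Lib.Helper04.AschUB6eGrp
import Cfsg.Agent.Lib.Helper94.AschUB6e2

/-!
# K-S5663-B6e : the image `R = P (R₁ ⊗ R₂) P⁻¹` : centre, characteristic abelian subgroups
-/

set_option autoImplicit false

namespace Cfsg.Agent.Lib.Helper04.AschU

open Cfsg Cfsg.Geo Cfsg.Agent.Lib.Helper94.AschU
open scoped Matrix Kronecker MatrixGroups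

variable {F : Type*} [Field F] [Fintype F] {ι : Type} [Fintype ι] [DecidableEq ι] {a b : ℕ}

/-- the image of `R₁ × R₂` under `tensPair`. -/
def imgR (e : ι ≃ Fin a × Fin b) (P : GL ι F) (R₁ : Subgroup (GL (Fin a) F)) (R₂ : Subgroup (GL (Fin b) F)) :
    Subgroup (GL ι F) :=
  (R₁.prod R₂).map (tensPair e P)

theorem mem_imgR (e : ι ≃ Fin a × Fin b) (P : GL ι F) (R₁ : Subgroup (GL (Fin a) F))
    (R₂ : Subgroup (GL (Fin b) F)) {x : GL ι F} :
    x ∈ imgR e P R₁ R₂ ↔ ∃ A ∈ R₁, ∃ B ∈ R₂, x = tensPair e P (A, B) := by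
  unfold imgR
  constructor
  · rintro ⟨⟨A, B⟩, ⟨hA, hB⟩, rfl⟩
    exact ⟨A, hA, B, hB, rfl⟩
  · rintro ⟨A, hA, B, hB, rfl⟩
    exact ⟨(A, B), ⟨hA, hB⟩, rfl⟩

theorem tensPair_mul (e : ι ≃ Fin a × Fin b) (P : GL ι F) (A A' : GL (Fin a) F) (B B' : GL (Fin b) F) :
    tensPair e P (A, B) * tensPair e P (A', B') = tensPair e P (A * A', B * B') := by
  rw [← map_mul]; rfl

theorem tensPair_inv (e : ι ≃ Fin a × Fin b) (P : GL ι F) (A : GL (Fin a) F) (B : GL (Fin b) F) :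
    (tensPair e P (A, B))⁻¹ = tensPair e P (A⁻¹, B⁻¹) := by
  rw [← map_inv]; rfl

theorem tensPair_left_eq_one (ha : 0 < a) (hb : 0 < b) (e : ι ≃ Fin a × Fin b) (P : GL ι F)
    (A : GL (Fin a) F) (h : tensPair e P (A, 1) = 1) : A = 1 := by
  obtain ⟨c, hA, hB⟩ := (tensPair_eq_one_iff ha hb e P A 1).mp h
  have h1 := congrFun (congrFun hB ⟨0, hb⟩) ⟨0, hb⟩
  rw [Units.val_one, Matrix.smul_apply, Matrix.one_apply_eq, smul_eq_mul, mul_one] at h1
  apply Units.ext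
  rw [hA, Units.val_one]
  have hc : (c : F) = 1 := by
    have h2 : ((c⁻¹ : Fˣ) : F) = 1 := h1.symm
    have h3 : c⁻¹ = 1 := Units.ext h2
    rw [inv_eq_one] at h3
    rw [h3, Units.val_one]
  rw [hc, one_smul]

theorem tensPair_right_eq_one (ha : 0 < a) (hb : 0 < b) (e : ι ≃ Fin a × Fin b) (P : GL ι F)
    (B : GL (Fin b) F) (h : tensPair e P (1, B) = 1) : B = 1 := by
  obtain ⟨c, hA, hB⟩ := (tensPair_eq_one_iff ha hb e P 1 B).mp h
  have h1 := congrFun (congrFun hA ⟨0, ha⟩) ⟨0, ha⟩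
  rw [Units.val_one, Matrix.smul_apply, Matrix.one_apply_eq, smul_eq_mul, mul_one] at h1
  apply Units.ext
  rw [hB, Units.val_one]
  have hc : c = 1 := Units.ext h1.symm
  rw [hc, inv_one, Units.val_one, one_smul]

/-- commuting images with commuting second components have commuting first components. -/
theorem comm_left_of_comm (ha : 0 < a) (hb : 0 < b) (e : ι ≃ Fin a × Fin b) (P : GL ι F)
    (A A' : GL (Fin a) F) (B B' : GL (Fin b) F)
    (h : tensPair e P (A, B) * tensPair e P (A', B') = tensPair e P (A', B') * tensPair e P (A, B))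
    (hB : B * B' = B' * B) : A * A' = A' * A := by
  rw [tensPair_mul, tensPair_mul, hB] at h
  have h2 : tensPair e P (A * A' * (A' * A)⁻¹, 1) = 1 := by
    have : tensPair e P (A * A' * (A' * A)⁻¹, 1) =
        tensPair e P (A * A', B' * B) * (tensPair e P (A' * A, B' * B))⁻¹ := by
      rw [tensPair_inv, tensPair_mul, mul_inv_cancel]
    rw [this, h, mul_inv_cancel]
  have h3 := tensPair_left_eq_one ha hb e P _ h2
  exact mul_inv_eq_one.mp h3

theorem comm_right_of_comm (ha : 0 < a) (hb : 0 < b) (e : ι ≃ Fin a × Fin b) (P : GL ι F)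
    (A A' : GL (Fin a) F) (B B' : GL (Fin b) F)
    (h : tensPair e P (A, B) * tensPair e P (A', B') = tensPair e P (A', B') * tensPair e P (A, B))
    (hA : A * A' = A' * A) : B * B' = B' * B := by
  rw [tensPair_mul, tensPair_mul, hA] at h
  have h2 : tensPair e P (1, B * B' * (B' * B)⁻¹) = 1 := by
    have : tensPair e P (1, B * B' * (B' * B)⁻¹) =
        tensPair e P (A' * A, B * B') * (tensPair e P (A' * A, B' * B))⁻¹ := by
      rw [tensPair_inv, tensPair_mul, mul_inv_cancel]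
    rw [this, h, mul_inv_cancel]
  have h3 := tensPair_right_eq_one ha hb e P _ h2
  exact mul_inv_eq_one.mp h3


/-- a scalar of `GL ι F` is the image of a scalar pair. -/
theorem scalar_eq_tensPair (e : ι ≃ Fin a × Fin b) (P : GL ι F) (z : GL ι F) (hz : z ∈ scalars ι F) :
    ∃ A ∈ scalars (Fin a) F, z = tensPair e P (A, 1) := by
  obtain ⟨c, hc⟩ := (mem_scalars_iff z).mp hz
  refine ⟨Units.map (Matrix.scalar (Fin a) : F →+* Matrix (Fin a) (Fin a) F).toMonoidHom c, ⟨c, rfl⟩, ?_⟩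
  apply Units.ext
  rw [tensPair_val, hc]
  have h1 : ((Units.map (Matrix.scalar (Fin a) : F →+* Matrix (Fin a) (Fin a) F).toMonoidHom c :
      GL (Fin a) F) : Matrix (Fin a) (Fin a) F) = (c : F) • (1 : Matrix (Fin a) (Fin a) F) := by
    simp [Matrix.smul_one_eq_diagonal]
  rw [h1, Units.val_one, Matrix.smul_kronecker, Matrix.one_kronecker_one]
  have h2 : ((c : F) • (1 : Matrix (Fin a × Fin b) (Fin a × Fin b) F)).submatrix e e =
      (c : F) • (1 : Matrix ι ι F) := by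
    ext i j
    simp [Matrix.one_apply]
  rw [h2, Matrix.mul_smul, Matrix.smul_mul, Matrix.mul_one, ← Units.val_mul, mul_inv_cancel, Units.val_one]

theorem scalars_le_imgR (e : ι ≃ Fin a × Fin b) (P : GL ι F) (R₁ : Subgroup (GL (Fin a) F))
    (R₂ : Subgroup (GL (Fin b) F)) (h₁ : scalars (Fin a) F ≤ R₁) : scalars ι F ≤ imgR e P R₁ R₂ := by
  intro z hz
  obtain ⟨A, hA, rfl⟩ := scalar_eq_tensPair e P z hz
  exact (mem_imgR e P R₁ R₂).mpr ⟨A, h₁ hA, 1, R₂.one_mem, rfl⟩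

/-- scalars commute with everything. -/
theorem scalar_comm (z : GL ι F) (hz : z ∈ scalars ι F) (x : GL ι F) : z * x = x * z := by
  obtain ⟨c, hc⟩ := (mem_scalars_iff z).mp hz
  apply Units.ext
  rw [Units.val_mul, Units.val_mul, hc, Matrix.smul_mul, Matrix.mul_smul, Matrix.one_mul, Matrix.mul_one]

/-- central elements of the image are scalars. -/
theorem mem_scalars_of_central (ha : 0 < a) (hb : 0 < b) (e : ι ≃ Fin a × Fin b) (P : GL ι F)
    (R₁ : Subgroup (GL (Fin a) F)) (R₂ : Subgroup (GL (Fin b) F))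
    (hc₁ : ∀ A ∈ R₁, (∀ B ∈ R₁, A * B = B * A) → A ∈ scalars (Fin a) F)
    (hc₂ : ∀ A ∈ R₂, (∀ B ∈ R₂, A * B = B * A) → A ∈ scalars (Fin b) F)
    (x : GL ι F) (hx : x ∈ imgR e P R₁ R₂) (hcomm : ∀ y ∈ imgR e P R₁ R₂, x * y = y * x) :
    x ∈ scalars ι F := by
  obtain ⟨A, hA, B, hB, rfl⟩ := (mem_imgR e P R₁ R₂).mp hx
  rw [tensPair_mem_scalars_iff ha hb]
  constructor
  · apply hc₁ A hA
    intro A' hA'
    have h := hcomm (tensPair e P (A', 1)) ((mem_imgR e P R₁ R₂).mpr ⟨A', hA', 1, R₂.one_mem, rfl⟩)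
    exact comm_left_of_comm ha hb e P A A' B 1 h (by rw [mul_one, one_mul])
  · apply hc₂ B hB
    intro B' hB'
    have h := hcomm (tensPair e P (1, B')) ((mem_imgR e P R₁ R₂).mpr ⟨1, R₁.one_mem, B', hB', rfl⟩)
    exact comm_right_of_comm ha hb e P A 1 B B' h (by rw [mul_one, one_mul])

/-- the centre of the image has the order of the scalar group. -/
theorem card_center_imgR [Nonempty ι] (ha : 0 < a) (hb : 0 < b) (e : ι ≃ Fin a × Fin b) (P : GL ι F)
    (R₁ : Subgroup (GL (Fin a) F)) (R₂ : Subgroup (GL (Fin b) F)) (h₁ : scalars (Fin a) F ≤ R₁)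
    (hc₁ : ∀ A ∈ R₁, (∀ B ∈ R₁, A * B = B * A) → A ∈ scalars (Fin a) F)
    (hc₂ : ∀ A ∈ R₂, (∀ B ∈ R₂, A * B = B * A) → A ∈ scalars (Fin b) F) :
    Nat.card (Subgroup.center (imgR e P R₁ R₂)) = Fintype.card F - 1 := by
  rw [← Cfsg.Agent.Lib.Helper50.card_scalars (ι := ι) (F := F)]
  refine Nat.card_congr ⟨fun x => ⟨x.1.1, ?_⟩, fun z => ⟨⟨z.1, scalars_le_imgR e P R₁ R₂ h₁ z.2⟩, ?_⟩, ?_, ?_⟩
  · apply mem_scalars_of_central ha hb e P R₁ R₂ hc₁ hc₂ x.1.1 x.1.2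
    intro y hy
    have h := (Subgroup.mem_center_iff.mp x.2) ⟨y, hy⟩
    have h2 := congrArg Subtype.val h
    exact h2.symm
  · rw [Subgroup.mem_center_iff]
    intro y
    apply Subtype.ext
    exact (scalar_comm z.1 z.2 y.1).symm
  · intro x; rfl
  · intro z; rfl


theorem tensPair_conj (e : ι ≃ Fin a × Fin b) (P : GL ι F) (A A' : GL (Fin a) F) (B B' : GL (Fin b) F) :
    tensPair e P (A, B) * tensPair e P (A', B') * (tensPair e P (A, B))⁻¹ =
      tensPair e P (A * A' * A⁻¹, B * B' * B⁻¹) := by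
  rw [tensPair_inv, tensPair_mul, tensPair_mul]

theorem conj_mem_imgR (e : ι ≃ Fin a × Fin b) (P : GL ι F) (R₁ : Subgroup (GL (Fin a) F))
    (R₂ : Subgroup (GL (Fin b) F)) (A : GL (Fin a) F) (B : GL (Fin b) F)
    (hA : ∀ A' ∈ R₁, A * A' * A⁻¹ ∈ R₁) (hB : ∀ B' ∈ R₂, B * B' * B⁻¹ ∈ R₂) :
    ∀ x ∈ imgR e P R₁ R₂, tensPair e P (A, B) * x * (tensPair e P (A, B))⁻¹ ∈ imgR e P R₁ R₂ := by
  intro x hx
  obtain ⟨A', hA', B', hB', rfl⟩ := (mem_imgR e P R₁ R₂).mp hx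
  rw [tensPair_conj]
  exact (mem_imgR e P R₁ R₂).mpr ⟨_, hA A' hA', _, hB B' hB', rfl⟩

theorem conj_mem_imgR' (e : ι ≃ Fin a × Fin b) (P : GL ι F) (R₁ : Subgroup (GL (Fin a) F))
    (R₂ : Subgroup (GL (Fin b) F)) (A : GL (Fin a) F) (B : GL (Fin b) F)
    (hA : ∀ A' ∈ R₁, A⁻¹ * A' * A ∈ R₁) (hB : ∀ B' ∈ R₂, B⁻¹ * B' * B ∈ R₂) :
    ∀ x ∈ imgR e P R₁ R₂, (tensPair e P (A, B))⁻¹ * x * tensPair e P (A, B) ∈ imgR e P R₁ R₂ := by
  intro x hx
  have h := conj_mem_imgR e P R₁ R₂ A⁻¹ B⁻¹ (fun A' h' => by rw [inv_inv]; exact hA A' h')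
    (fun B' h' => by rw [inv_inv]; exact hB B' h') x hx
  rw [← tensPair_inv, inv_inv] at h
  exact h

/-- the elements of a characteristic abelian subgroup of the image are scalars. -/
theorem characteristic_le_scalars (ha : 0 < a) (hb : 0 < b) (e : ι ≃ Fin a × Fin b) (P : GL ι F)
    (R₁ : Subgroup (GL (Fin a) F)) (R₂ : Subgroup (GL (Fin b) F))
    (g₁ : GL (Fin a) F) (hg₁ : ∀ A ∈ R₁, g₁ * A * g₁⁻¹ ∈ R₁) (hg₁' : ∀ A ∈ R₁, g₁⁻¹ * A * g₁ ∈ R₁)
    (hn₁ : ∀ A ∈ R₁, A * (g₁ * A * g₁⁻¹) = g₁ * A * g₁⁻¹ * A → A ∈ scalars (Fin a) F)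
    (g₂ : GL (Fin b) F) (hg₂ : ∀ A ∈ R₂, g₂ * A * g₂⁻¹ ∈ R₂) (hg₂' : ∀ A ∈ R₂, g₂⁻¹ * A * g₂ ∈ R₂)
    (hn₂ : ∀ A ∈ R₂, A * (g₂ * A * g₂⁻¹) = g₂ * A * g₂⁻¹ * A → A ∈ scalars (Fin b) F)
    (S : Subgroup (imgR e P R₁ R₂)) (hS : S.Characteristic) (hab : IsMulCommutative S) :
    ∀ x ∈ S, ((x : imgR e P R₁ R₂) : GL ι F) ∈ scalars ι F := by
  intro x hx
  obtain ⟨A, hA, B, hB, hxAB⟩ := (mem_imgR e P R₁ R₂).mp x.2
  have hcomm : ∀ y : imgR e P R₁ R₂, y ∈ S → (x : GL ι F) * (y : GL ι F) = (y : GL ι F) * (x : GL ι F) := by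
    intro y hy
    have h := hab.is_comm.comm (⟨x, hx⟩ : S) ⟨y, hy⟩
    have h2 := congrArg (fun t : S => ((t : imgR e P R₁ R₂) : GL ι F)) h
    exact h2
  rw [hxAB, tensPair_mem_scalars_iff ha hb]
  constructor
  · -- conjugate by `g₁ ⊗ 1`
    have hk1 := conj_mem_imgR e P R₁ R₂ g₁ 1 hg₁ (fun B' h' => by simpa using h')
    have hk2 := conj_mem_imgR' e P R₁ R₂ g₁ 1 hg₁' (fun B' h' => by simpa using h')
    have hy := conj_mem_of_characteristic (imgR e P R₁ R₂) S hS (tensPair e P (g₁, 1)) hk1 hk2 x hx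
    have h := hcomm _ hy
    simp only [] at h
    rw [hxAB, tensPair_conj] at h
    apply hn₁ A hA
    have := comm_left_of_comm ha hb e P A (g₁ * A * g₁⁻¹) B (1 * B * 1⁻¹) h (by simp)
    exact this
  · have hk1 := conj_mem_imgR e P R₁ R₂ 1 g₂ (fun A' h' => by simpa using h') hg₂
    have hk2 := conj_mem_imgR' e P R₁ R₂ 1 g₂ (fun A' h' => by simpa using h') hg₂'
    have hy := conj_mem_of_characteristic (imgR e P R₁ R₂) S hS (tensPair e P (1, g₂)) hk1 hk2 x hx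
    have h := hcomm _ hy
    simp only [] at h
    rw [hxAB, tensPair_conj] at h
    apply hn₂ B hB
    have := comm_right_of_comm ha hb e P A (1 * A * 1⁻¹) B (g₂ * B * g₂⁻¹) h (by simp)
    exact this

/-- the scalar group is cyclic. -/
theorem isCyclic_scalars : IsCyclic (scalars ι F) := by
  unfold scalars
  exact isCyclic_of_surjective (Units.map (Matrix.scalar ι : F →+* Matrix ι ι F).toMonoidHom).rangeRestrict
    (MonoidHom.rangeRestrict_surjective _)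

/-- a subgroup all of whose elements are scalars is cyclic. -/
theorem isCyclic_of_le_scalars (R : Subgroup (GL ι F)) (S : Subgroup R)
    (h : ∀ x ∈ S, ((x : R) : GL ι F) ∈ scalars ι F) : IsCyclic S := by
  haveI := isCyclic_scalars (ι := ι) (F := F)
  let f : S →* scalars ι F := MonoidHom.codRestrict (R.subtype.comp S.subtype) (scalars ι F)
    (fun x => h x.1 x.2)
  apply isCyclic_of_injective f
  intro x y hxy
  have h2 := congrArg (fun t : scalars ι F => (t : GL ι F)) hxy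
  exact Subtype.ext (Subtype.ext h2)

end Cfsg.Agent.Lib.Helper04.AschU
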