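import Mathlib
import Cfsg.Prelude.Def_GeometricClasses
import Cfsg.Agent.Lib.Helper61.AschDefs
import Cfsg.Agent.Lib.Helper61.AschUDefs
import Cfsg.Agent.Lib.Helper61.AschGlueA
import Cfsg.Agent.Lib.Helper19.UnitaryDet
import Cfsg.Agent.Lib.Helper50.GraphSplit4
import Cfsg.Agent.Lib.Helper04.AschUB6eDefs
import Cfsg.Agent.Lib.Helper04.AschUB6eGrp
import Cfsg.Agent.Lib.Helper04.AschUB6eImg
import Cfsg.Agent.Lib.Helper04.AschUB6eHeis
import Cfsg.Agent.Lib.Helper14.AschUB6e5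
import Cfsg.Agent.Lib.Helper32.AschUB6e0
import Cfsg.Agent.Lib.Helper60.AschUB6eSpan
import Cfsg.Agent.Lib.Helper68.AschUB6e4
import Cfsg.Agent.Lib.Helper94.AschUB6e2

/-!
# K-S5663-B6e : `q = 2`, `n = 9`, `K ≤ P (GL₃ ⊗ GL₃) P⁻¹` with the form a tensor product ⟹ class 6 (`R = 3^{1+4}`)
-/

set_option autoImplicit false

namespace Cfsg.Agent.Lib.Helper04.AschU

open Cfsg Cfsg.Geo Cfsg.Agent.Lib.Helper61.Asch Cfsg.Agent.Lib.Helper61.AschU
open scoped Matrix Kronecker MatrixGroups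

variable {F : Type*} [Field F] [Fintype F] {n : ℕ}

theorem charP_two_of_card (hF : Fintype.card F = 2 ^ 2) : CharP F 2 := by
  obtain ⟨p, hp⟩ := CharP.exists F
  obtain ⟨k, hpk, hk⟩ := FiniteField.card F p
  have h2 : p = 2 := by
    have h : p ∣ 2 ^ 2 := by
      rw [← hF, hk]
      exact dvd_pow_self p k.ne_zero
    exact (Nat.prime_dvd_prime_iff_eq hpk Nat.prime_two).mp (hpk.dvd_of_dvd_pow h)
  exact h2 ▸ hp

theorem GU_le_similarityGroup (q : ℕ) : GU n F q ≤ similarityGroup (hermForm n F q) := by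
  intro g hg
  rw [Cfsg.Agent.Lib.Helper19.mem_GU_iff] at hg
  refine ⟨1, fun u v => ?_⟩
  rw [hg, Units.val_one, one_mul]

theorem ugeom_of_tensor_three_three (hF : Fintype.card F = 2 ^ 2) (K : Subgroup (GL (Fin n) F))
    (hKΔ : K ≤ similarityGroup (hermForm n F 2)) (e : Fin n ≃ Fin 3 × Fin 3) (P : GL (Fin n) F)
    (hK : K ≤ tensorProductSubgroup 3 3 e P)
    (f₁ f₂ : (Fin 3 → F) → (Fin 3 → F) → F) (h₁ : IsUnitaryFormPow 2 f₁) (h₂ : IsUnitaryFormPow 2 f₂)
    (hT : IsTensorFormStructure (fun x : F => x ^ 2) (hermForm n F 2) f₁ f₂ e P) : UGeom n 2 K := by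
  obtain ⟨P', hT', hK'⟩ := Cfsg.Agent.Lib.Helper32.AschU.exists_std_tensorForm hF K e P hK f₁ f₂ h₁ h₂ hT
  obtain ⟨R₁, hsc, hcard, hcube, hcen, hspan, hGU, hnorm, g₀, hg₀, hg₀n⟩ := exists_heis3 hF
  have h3 : (0 : ℕ) < 3 := by norm_num
  have hne : Nonempty (Fin n) := ⟨e.symm (0, 0)⟩
  have hcardF : Fintype.card F - 1 = 3 := by rw [hF]; norm_num
  -- the group `R`
  have hRcube : ∀ x ∈ imgR e P' R₁ R₁, x ^ 3 = 1 := by
    intro x hx
    obtain ⟨A, hA, B, hB, rfl⟩ := (mem_imgR e P' R₁ R₁).mp hx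
    rw [← map_pow, Prod.pow_mk, hcube A hA, hcube B hB]
    exact map_one _
  have hRGU : imgR e P' R₁ R₁ ≤ GU n F 2 := by
    intro x hx
    obtain ⟨A, hA, B, hB, rfl⟩ := (mem_imgR e P' R₁ R₁).mp hx
    exact Cfsg.Agent.Lib.Helper68.AschU.tensPair_mem_GU hF e P' hT' A B (hGU hA) (hGU hB)
  have hcenter : Nat.card (Subgroup.center (imgR e P' R₁ R₁)) = 3 := by
    rw [card_center_imgR h3 h3 e P' R₁ R₁ hsc hcen hcen, hcardF]
  have hcardR : Nat.card (imgR e P' R₁ R₁) = 3 ^ (1 + 2 * 2) := by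
    have h := Cfsg.Agent.Lib.Helper94.AschU.card_map_tensPair h3 h3 e P' R₁ R₁ hsc hsc
    rw [hcardF, hcard] at h
    have h' : Nat.card (imgR e P' R₁ R₁) * 3 = 243 * 3 := by
      rw [show 243 * 3 = 27 * 27 by norm_num]
      exact h
    have := Nat.eq_of_mul_eq_mul_right (by norm_num : 0 < 3) h'
    rw [this]
    norm_num
  have hg₀inv : g₀⁻¹ ∈ GU 3 F 2 := inv_mem hg₀
  have hnorm' : ∀ A ∈ R₁, g₀⁻¹ * A * g₀ ∈ R₁ := by
    intro A hA
    have := hnorm g₀⁻¹ hg₀inv A hA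
    rwa [inv_inv] at this
  have hsymp : IsSymplecticTypeGroup 3 (imgR e P' R₁ R₁) := by
    refine ⟨Nat.prime_three, ?_, ?_, ?_⟩
    · intro x
      refine ⟨1, ?_⟩
      apply Subtype.ext
      rw [pow_one, Subgroup.coe_pow, hRcube x.1 x.2]
      rfl
    · intro S hS hab
      exact isCyclic_of_le_scalars _ S
        (characteristic_le_scalars h3 h3 e P' R₁ R₁ g₀ (hnorm g₀ hg₀) hnorm' hg₀n g₀ (hnorm g₀ hg₀) hnorm'
          hg₀n S hS hab)
    · have hdvd : Monoid.exponent (imgR e P' R₁ R₁) ∣ 3 := by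
        apply Monoid.exponent_dvd_of_forall_pow_eq_one
        intro x
        apply Subtype.ext
        rw [Subgroup.coe_pow, hRcube x.1 x.2]
        rfl
      have hne1 : Monoid.exponent (imgR e P' R₁ R₁) ≠ 1 := by
        intro h1
        have hsub : Subsingleton (imgR e P' R₁ R₁) := Monoid.exp_eq_one_iff.mp h1
        have : Nat.card (imgR e P' R₁ R₁) = 1 := Nat.card_unique
        rw [hcardR] at this
        norm_num at this
      rcases (Nat.dvd_prime Nat.prime_three).mp hdvd with h | h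
      · exact absurd h hne1
      · rw [h]
        norm_num
  have habs : ActsAbsolutelyIrreducibly (matrixSet (imgR e P' R₁ R₁)) :=
    actsAbsolutelyIrreducibly_of_spanAlg_eq_top (Cfsg.Agent.Lib.Helper60.AschU.spanAlg_map_tensPair e P' R₁ R₁ hspan hspan)
  have hmin : IsMinimalFieldFor (Nat.card (Subgroup.center (imgR e P' R₁ R₁))) 2 2 F := by
    rw [hcenter]
    refine ⟨Nat.prime_two, charP_two_of_card hF, hF, by norm_num, ?_⟩
    intro d hd0 hd2
    have : d = 1 := by omega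
    rw [this]
    norm_num
  refine ⟨subgroupNormalizer (imgR e P' R₁ R₁) ⊓ GU n F 2, Or.inl ?_, ?_⟩
  · right; right; right; right; right; right; right
    exact ⟨3, imgR e P' R₁ R₁, 2, 2, 2, hsymp, habs, hRGU.trans (GU_le_similarityGroup 2), by norm_num, hmin,
      Or.inl ⟨by decide, hcenter, by norm_num, hcardR⟩, rfl⟩
  · intro k hk
    refine Subgroup.mem_inf.mpr ⟨?_, hk.2⟩
    have key : ∀ k ∈ K ⊓ GU n F 2, ∀ x ∈ imgR e P' R₁ R₁, k * x * k⁻¹ ∈ imgR e P' R₁ R₁ := by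
      intro k hk x hx
      obtain ⟨A, B, rfl⟩ := (mem_tensorProductSubgroup_iff e P' k).mp (hK' hk.1)
      obtain ⟨hA, hB⟩ := Cfsg.Agent.Lib.Helper14.AschU.mem_GU_of_tensPair_mem_GU hF h3 h3 e P' hT' A B hk.2
      exact conj_mem_imgR e P' R₁ R₁ A B (hnorm A hA) (hnorm B hB) x hx
    show k ∈ Subgroup.normalizer ((imgR e P' R₁ R₁ : Subgroup (GL (Fin n) F)) : Set (GL (Fin n) F))
    refine Subgroup.mem_normalizer_iff.mpr (fun x => ?_)
    constructor
    · exact key k hk x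
    · intro hx
      have := key k⁻¹ (inv_mem hk) _ hx
      rw [inv_inv] at this
      have h2 : k⁻¹ * (k * x * k⁻¹) * k = x := by group
      rwa [h2] at this

end Cfsg.Agent.Lib.Helper04.AschU
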