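import Mathlib
import Cfsg.Agent.S0093
import Cfsg.Agent.S0121
import Cfsg.Agent.Lib.Helper03.PGroupFrattini

/-!
# K-S3117-B123: reduction of a 2-group with exactly three involutions to a class-two group with
central involutions
-/

set_option autoImplicit false

namespace Cfsg.Agent.Lib.Helper04.Aut3

universe u

open scoped commutatorElement

/-- restriction of automorphisms to an invariant subgroup -/
def resHom {R : Type*} [Group R] (D : Subgroup R) (hD : ∀ α : MulAut R, ∀ d ∈ D, α d ∈ D) :
    MulAut R →* MulAut D where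
  toFun α :=
    { toFun := fun d => ⟨α d, hD α d d.2⟩
      invFun := fun d => ⟨α⁻¹ d, hD α⁻¹ d d.2⟩
      left_inv := fun d => Subtype.ext (by simp)
      right_inv := fun d => Subtype.ext (by simp)
      map_mul' := fun a b => Subtype.ext (by simp) }
  map_one' := by ext d; rfl
  map_mul' := fun α β => by ext d; rfl

theorem resHom_apply {R : Type*} [Group R] (D : Subgroup R)
    (hD : ∀ α : MulAut R, ∀ d ∈ D, α d ∈ D) (α : MulAut R) (d : D) :
    ((resHom D hD α d : D) : R) = α d := rfl

theorem solvable_of_res {R : Type*} [Group R] [Finite R] (D : Subgroup R)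
    (hD : ∀ α : MulAut R, ∀ d ∈ D, α d ∈ D)
    (hker : ∀ α : MulAut R, (∀ d ∈ D, α d = d) → ∃ k : ℕ, α ^ (2 ^ k) = 1)
    (hs : Group.IsSolvable (MulAut D)) : Group.IsSolvable (MulAut R) := by
  haveI : Finite (MulAut R) := Finite.of_injective (fun e : MulAut R => (e : R → R))
    DFunLike.coe_injective
  haveI : Fact (Nat.Prime 2) := ⟨Nat.prime_two⟩
  have hP : IsPGroup 2 (resHom D hD).ker := by
    intro g
    obtain ⟨g, hg⟩ := g
    have h1 : ∀ d ∈ D, g d = d := by
      intro d hd
      have h2 : resHom D hD g = 1 := hg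
      have h3 := congrArg (fun e : MulAut D => ((e ⟨d, hd⟩ : D) : R)) h2
      simpa [resHom_apply] using h3
    obtain ⟨k, hk⟩ := hker g h1
    exact ⟨k, Subtype.ext hk⟩
  haveI : Group.IsNilpotent (resHom D hD).ker := hP.isNilpotent
  haveI : Group.IsSolvable (resHom D hD).ker := inferInstance
  haveI := hs
  exact solvable_of_ker_le_range (resHom D hD).ker.subtype (resHom D hD)
    (by rw [Subgroup.range_subtype])

section step1

variable {X : Type u} [Group X] [Finite X]

theorem exists_invs (h2 : IsPGroup 2 X) (h3 : Nat.card {x : X // orderOf x = 2} = 3) :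
    ∃ z t : X, (∀ g, g * z = z * g) ∧ z ≠ 1 ∧ t ≠ 1 ∧ t ≠ z ∧ z * z = 1 ∧ t * t = 1 ∧
      ∀ x : X, x * x = 1 → x = 1 ∨ x = z ∨ x = t ∨ x = t * z := by
  classical
  haveI : Fact (Nat.Prime 2) := ⟨Nat.prime_two⟩
  haveI : Fintype {x : X // orderOf x = 2} := Fintype.ofFinite _
  have hne : Nonempty {x : X // orderOf x = 2} := by
    rw [← Nat.card_pos_iff.trans (and_iff_left inferInstance)]
    omega
  obtain ⟨⟨x0, hx0⟩⟩ := hne
  haveI : Nontrivial X := ⟨⟨x0, 1, by rintro rfl; simp at hx0⟩⟩
  haveI := h2.center_nontrivial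
  have hc2 : 2 ∣ Nat.card (Subgroup.center X) := by
    rcases (h2.to_subgroup (Subgroup.center X)).card_eq_or_dvd with h | h
    · have : 1 < Nat.card (Subgroup.center X) := Finite.one_lt_card
      omega
    · exact h
  obtain ⟨z', hz'⟩ := exists_prime_orderOf_dvd_card' 2 hc2
  have hzo : orderOf (z' : X) = 2 := by rw [Subgroup.orderOf_coe]; exact hz'
  have hzc : ∀ g, g * (z' : X) = z' * g := fun g => Subgroup.mem_center_iff.mp z'.2 g
  set z : X := (z' : X) with hzdef
  have hcard : 1 < Nat.card {x : X // orderOf x = 2} := by omega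
  haveI : Nontrivial {x : X // orderOf x = 2} := Finite.one_lt_card_iff_nontrivial.mp hcard
  obtain ⟨⟨t, hto⟩, htz⟩ := exists_ne (⟨z, hzo⟩ : {x : X // orderOf x = 2})
  have htz' : t ≠ z := fun h => htz (Subtype.ext h)
  have hz1 : z ≠ 1 := by rintro h; rw [h] at hzo; simp at hzo
  have ht1 : t ≠ 1 := by rintro h; rw [h] at hto; simp at hto
  have hzz : z * z = 1 := by rw [← sq, ← hzo]; exact pow_orderOf_eq_one z
  have htt : t * t = 1 := by rw [← sq, ← hto]; exact pow_orderOf_eq_one t
  have htz1 : t * z ≠ 1 := by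
    intro h
    apply htz'
    have : t = z⁻¹ := eq_inv_of_mul_eq_one_left h
    rw [this]
    exact (eq_inv_of_mul_eq_one_left hzz).symm
  have htzo : orderOf (t * z) = 2 := by
    apply orderOf_eq_prime _ htz1
    rw [sq]
    calc t * z * (t * z) = t * (z * t) * z := by group
      _ = t * (t * z) * z := by rw [hzc t]
      _ = (t * t) * (z * z) := by group
      _ = 1 := by rw [htt, hzz, one_mul]
  have hne1 : t * z ≠ t := by
    intro h
    apply hz1
    have := mul_left_cancel (h.trans (mul_one t).symm)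
    exact this
  have hne2 : t * z ≠ z := by
    intro h
    apply ht1
    have := mul_right_cancel (h.trans (one_mul z).symm)
    exact this
  refine ⟨z, t, hzc, hz1, ht1, htz', hzz, htt, ?_⟩
  intro x hx
  by_cases hx1 : x = 1
  · exact Or.inl hx1
  right
  have hxo : orderOf x = 2 := orderOf_eq_prime (by rw [sq]; exact hx) hx1
  by_contra hcon
  push Not at hcon
  obtain ⟨c1, c2, c3⟩ := hcon
  let a1 : {x : X // orderOf x = 2} := ⟨z, hzo⟩
  let a2 : {x : X // orderOf x = 2} := ⟨t, hto⟩
  let a3 : {x : X // orderOf x = 2} := ⟨t * z, htzo⟩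
  let a4 : {x : X // orderOf x = 2} := ⟨x, hxo⟩
  have hcard4 : ({a1, a2, a3, a4} : Finset {x : X // orderOf x = 2}).card = 4 := by
    rw [Finset.card_insert_of_notMem, Finset.card_insert_of_notMem, Finset.card_insert_of_notMem,
      Finset.card_singleton]
    · simp only [Finset.mem_singleton, a3, a4, Subtype.mk.injEq]
      exact fun h => c3 h.symm
    · simp only [Finset.mem_insert, Finset.mem_singleton, a2, a3, a4, Subtype.mk.injEq]
      rintro (h | h)
      · exact hne1 h.symm
      · exact c2 h.symm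
    · simp only [Finset.mem_insert, Finset.mem_singleton, a1, a2, a3, a4, Subtype.mk.injEq]
      rintro (h | h | h)
      · exact htz' h.symm
      · exact hne2 h.symm
      · exact c1 h.symm
  have hle := Finset.card_le_univ ({a1, a2, a3, a4} : Finset {x : X // orderOf x = 2})
  rw [hcard4, ← Nat.card_eq_fintype_card, h3] at hle
  omega

/-- the hypotheses on the involutions, bundled -/
structure InvData (z t : X) : Prop where
  hzc : ∀ g, g * z = z * g
  hz1 : z ≠ 1
  ht1 : t ≠ 1
  htz : t ≠ z
  hzz : z * z = 1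
  htt : t * t = 1
  hA : ∀ x : X, x * x = 1 → x = 1 ∨ x = z ∨ x = t ∨ x = t * z

omit [Finite X] in
theorem InvData.comm {z t : X} (h : InvData z t) (x y : X) (hx : x * x = 1) (hy : y * y = 1) :
    x * y = y * x := by
  have hcomm : ∀ a ∈ ({z, t} : Set X), ∀ b ∈ ({z, t} : Set X), a * b = b * a := by
    intro a ha b hb
    rcases ha with rfl | rfl <;> rcases hb with rfl | rfl
    · rfl
    · exact (h.hzc _).symm
    · exact h.hzc _
    · rfl
  have hmem : ∀ x : X, x * x = 1 → x ∈ Subgroup.closure ({z, t} : Set X) := by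
    intro x hx
    have hz : z ∈ Subgroup.closure ({z, t} : Set X) := Subgroup.subset_closure (by simp)
    have ht : t ∈ Subgroup.closure ({z, t} : Set X) := Subgroup.subset_closure (by simp)
    rcases h.hA x hx with rfl | rfl | rfl | rfl
    · exact one_mem _
    · exact hz
    · exact ht
    · exact mul_mem ht hz
  have hc := Subgroup.isMulCommutative_closure hcomm
  have := hc.is_comm.comm ⟨x, hmem x hx⟩ ⟨y, hmem y hy⟩
  exact congrArg Subtype.val this

/-- the subgroup of elements of order at most two -/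
def VV {z t : X} (h : InvData z t) : Subgroup X where
  carrier := {x | x * x = 1}
  mul_mem' := by
    intro a b ha hb
    have hab := h.comm a b ha hb
    change a * b * (a * b) = 1
    calc a * b * (a * b) = a * (b * a) * b := by group
      _ = a * (a * b) * b := by rw [hab]
      _ = (a * a) * (b * b) := by group
      _ = 1 := by rw [ha, hb, one_mul]
  one_mem' := by simp
  inv_mem' := by
    intro a ha
    change a⁻¹ * a⁻¹ = 1
    rw [← mul_inv_rev, ha, inv_one]

omit [Finite X] in
theorem mem_VV {z t : X} (h : InvData z t) (x : X) : x ∈ VV h ↔ x * x = 1 := Iff.rfl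

/-- the centralizer of `VV` -/
def PP {z t : X} (h : InvData z t) : Subgroup X := Subgroup.centralizer (VV h : Set X)

omit [Finite X] in
theorem PP_invariant {z t : X} (h : InvData z t) (α : MulAut X) (d : X) (hd : d ∈ PP h) :
    α d ∈ PP h := by
  unfold PP at *
  rw [Subgroup.mem_centralizer_iff] at *
  intro v hv
  have hv' : α⁻¹ v ∈ VV h := by
    rw [SetLike.mem_coe, mem_VV] at *
    rw [← map_mul, hv, map_one]
  have := hd _ hv'
  have h2 := congrArg α this
  rw [map_mul, map_mul] at h2
  simpa using h2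

omit [Finite X] in
theorem mem_PP_of_comm {z t : X} (h : InvData z t) (x : X) (hx : t * x = x * t) : x ∈ PP h := by
  unfold PP
  rw [Subgroup.mem_centralizer_iff]
  intro v hv
  rw [SetLike.mem_coe, mem_VV] at hv
  rcases h.hA v hv with rfl | rfl | rfl | rfl
  · simp
  · exact (h.hzc x).symm
  · exact hx
  · calc t * z * x = t * (z * x) := by group
      _ = t * (x * z) := by rw [h.hzc x]
      _ = (t * x) * z := by group
      _ = (x * t) * z := by rw [hx]
      _ = x * (t * z) := by group

omit [Finite X] in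
theorem conj_eq_of_not_mem {z t : X} (h : InvData z t) (x : X) (hx : x ∉ PP h) :
    x * t * x⁻¹ = t * z := by
  have hne : t * x ≠ x * t := fun hc => hx (mem_PP_of_comm h x hc)
  have hsq : (x * t * x⁻¹) * (x * t * x⁻¹) = 1 := by
    calc (x * t * x⁻¹) * (x * t * x⁻¹) = x * (t * t) * x⁻¹ := by group
      _ = 1 := by rw [h.htt]; group
  rcases h.hA _ hsq with h1 | h1 | h1 | h1
  · exfalso
    apply h.ht1
    have : t = x⁻¹ * (x * t * x⁻¹) * x := by group
    rw [this, h1]; group
  · exfalso
    apply h.htz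
    have : t = x⁻¹ * (x * t * x⁻¹) * x := by group
    rw [this, h1, mul_assoc, ← h.hzc x, ← mul_assoc, inv_mul_cancel, one_mul]
  · exfalso
    apply hne
    have : x * t = (x * t * x⁻¹) * x := by group
    rw [this, h1]
  · exact h1

omit [Finite X] in
theorem inv_mul_mem_PP {z t : X} (h : InvData z t) (x y : X) (hx : x ∉ PP h) (hy : y ∉ PP h) :
    y⁻¹ * x ∈ PP h := by
  apply mem_PP_of_comm
  have h1 := conj_eq_of_not_mem h x hx
  have h2 := conj_eq_of_not_mem h y hy
  have h3 : x * t = t * z * x := by rw [← h1]; group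
  have h4 : y⁻¹ * (t * z) = t * y⁻¹ := by rw [← h2]; group
  calc t * (y⁻¹ * x) = (t * y⁻¹) * x := by group
    _ = y⁻¹ * (t * z) * x := by rw [h4]
    _ = y⁻¹ * (t * z * x) := by group
    _ = y⁻¹ * (x * t) := by rw [h3]
    _ = y⁻¹ * x * t := by group

theorem ker_PP {z t : X} (h : InvData z t) (h2 : IsPGroup 2 X) (α : MulAut X)
    (hα : ∀ d ∈ PP h, α d = d) : ∃ k : ℕ, α ^ (2 ^ k) = 1 := by
  obtain ⟨n, hn⟩ := IsPGroup.iff_card.mp h2
  refine ⟨n, ?_⟩
  have hc : ∀ x : X, x⁻¹ * α x ∈ PP h := by
    intro x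
    by_cases hx : x ∈ PP h
    · rw [hα x hx, inv_mul_cancel]; exact one_mem _
    · have hx' : α x ∉ PP h := by
        intro hc
        apply hx
        have := PP_invariant h α⁻¹ _ hc
        simpa using this
      exact inv_mul_mem_PP h (α x) x hx' hx
  have hpow : ∀ (k : ℕ) (x : X), (α ^ k) x = x * (x⁻¹ * α x) ^ k := by
    intro k
    induction k with
    | zero => intro x; simp
    | succ k ih =>
      intro x
      rw [pow_succ', MulAut.mul_apply, ih, map_mul, map_pow, hα _ (hc x), pow_succ', ← mul_assoc,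
        mul_inv_cancel_left]
  ext x
  rw [hpow, ← hn, pow_card_eq_one', mul_one]
  rfl

end step1

section step2

variable {P : Type u} [Group P] [Finite P]

theorem ker_critical (hP : IsPGroup 2 P) (H : Subgroup P) (hH : H.Characteristic)
    (h1 : (frattini H).map H.subtype ≤ Subgroup.centralizer (H : Set P))
    (h2 : ⁅H, (⊤ : Subgroup P)⁆ ≤ H ⊓ Subgroup.centralizer (H : Set P))
    (h3 : Subgroup.centralizer (H : Set P) ≤ H) (α : MulAut P) (hα : ∀ d ∈ H, α d = d) :
    ∃ k : ℕ, α ^ (2 ^ k) = 1 := by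
  haveI : Fact (Nat.Prime 2) := ⟨Nat.prime_two⟩
  haveI : Finite (MulAut P) := Finite.of_injective (fun e : MulAut P => (e : P → P))
    DFunLike.coe_injective
  have hpos : orderOf α ≠ 0 := (orderOf_pos α).ne'
  obtain ⟨k, m, hm, hkm⟩ := Nat.exists_eq_two_pow_mul_odd hpos
  refine ⟨k, ?_⟩
  have hβm : (α ^ (2 ^ k)) ^ m = 1 := by
    rw [← pow_mul, ← hkm, pow_orderOf_eq_one]
  have hdvd : orderOf (α ^ (2 ^ k)) ∣ m := orderOf_dvd_of_pow_eq_one hβm
  have hcop : Nat.Coprime (orderOf (α ^ (2 ^ k))) 2 :=
    Nat.Coprime.coprime_dvd_left hdvd (Nat.coprime_two_right.mpr hm)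
  have hfix : ∀ (j : ℕ), ∀ d ∈ H, (α ^ j) d = d := by
    intro j
    induction j with
    | zero => intro d _; simp
    | succ j ih =>
      intro d hd
      rw [pow_succ', MulAut.mul_apply, ih d hd, hα d hd]
  exact Cfsg.Agent.S0121.result hP H hH h1 h2 h3 (α ^ (2 ^ k)) hcop (hfix _)

end step2

theorem exists_reduction {X : Type u} [Group X] [Finite X] (h2 : IsPGroup 2 X)
    (h3 : Nat.card {x : X // orderOf x = 2} = 3) :
    ∃ (K : Type u) (_ : Group K) (_ : Finite K), IsPGroup 2 K ∧
      (Group.IsSolvable (MulAut K) → Group.IsSolvable (MulAut X)) ∧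
      (∀ x y : K, x * y * x⁻¹ * y⁻¹ ∈ Subgroup.center K) ∧
      (∀ x : K, x * x ∈ Subgroup.center K) ∧
      (∀ x : K, x * x = 1 → x ∈ Subgroup.center K) ∧
      Nat.card {x : K // x * x = 1} ≤ 4 := by
  classical
  haveI : Fact (Nat.Prime 2) := ⟨Nat.prime_two⟩
  obtain ⟨z, t, hzc, hz1, ht1, htz, hzz, htt, hA⟩ := exists_invs h2 h3
  have hd : InvData z t := ⟨hzc, hz1, ht1, htz, hzz, htt, hA⟩
  have hP2 : IsPGroup 2 (PP hd) := h2.to_subgroup _
  obtain ⟨H, hHc, hH1, hH2, hH3⟩ := Cfsg.Agent.S0093.result (P := PP hd) hP2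
  have hHinv : ∀ α : MulAut (PP hd), ∀ d ∈ H, α d ∈ H := fun α d hd' =>
    Subgroup.characteristic_iff_le_comap.mp hHc α hd'
  refine ⟨H, inferInstance, inferInstance, hP2.to_subgroup _, ?_, ?_, ?_, ?_, ?_⟩
  · intro hs
    have hsP : Group.IsSolvable (MulAut (PP hd)) :=
      solvable_of_res H hHinv (fun α hα => ker_critical hP2 H hHc hH1 hH2 hH3 α hα) hs
    exact solvable_of_res (PP hd) (PP_invariant hd) (fun α hα => ker_PP hd h2 α hα) hsP
  · intro x y
    rw [Subgroup.mem_center_iff]
    intro g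
    have hc : ⁅(x : PP hd), (y : PP hd)⁆ ∈ ⁅H, (⊤ : Subgroup (PP hd))⁆ :=
      Subgroup.commutator_mem_commutator x.2 (Subgroup.mem_top _)
    have hc2 : ⁅(x : PP hd), (y : PP hd)⁆ ∈ Subgroup.centralizer (H : Set (PP hd)) := (hH2 hc).2
    rw [Subgroup.mem_centralizer_iff] at hc2
    have := hc2 (g : PP hd) g.2
    apply Subtype.ext
    simpa [commutatorElement_def] using this
  · intro x
    rw [Subgroup.mem_center_iff]
    intro g
    have hf := Cfsg.Agent.Lib.Helper03.pow_mem_frattini_of_isPGroup
      (hP2.to_subgroup H) x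
    have hf2 : ((x ^ 2 : H) : PP hd) ∈ (frattini H).map H.subtype :=
      Subgroup.mem_map.mpr ⟨x ^ 2, hf, rfl⟩
    have hc2 := hH1 hf2
    rw [Subgroup.mem_centralizer_iff] at hc2
    have := hc2 (g : PP hd) g.2
    apply Subtype.ext
    simpa [sq] using this
  · intro x hx
    rw [Subgroup.mem_center_iff]
    intro g
    have hxV : ((x : PP hd) : X) ∈ VV hd := by
      rw [mem_VV]
      have := congrArg (fun y : H => ((y : PP hd) : X)) hx
      simpa using this
    have hgP : ((g : PP hd) : X) ∈ Subgroup.centralizer (VV hd : Set X) := (g : PP hd).2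
    rw [Subgroup.mem_centralizer_iff] at hgP
    have := hgP _ hxV
    apply Subtype.ext
    apply Subtype.ext
    simpa using this.symm
  · haveI : Fintype X := Fintype.ofFinite X
    have hcardX : Nat.card {x : X // x * x = 1} ≤ 4 := by
      rw [Nat.card_eq_fintype_card, Fintype.card_subtype]
      refine le_trans (Finset.card_le_card ?_) (Finset.card_le_four (a := (1 : X)) (b := z)
        (c := t) (d := t * z))
      intro x hx
      rw [Finset.mem_filter] at hx
      rcases hA x hx.2 with rfl | rfl | rfl | rfl <;> simp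
    refine le_trans (Nat.card_le_card_of_injective
      (fun x : {x : H // x * x = 1} => (⟨((x.1 : PP hd) : X), by
        have := congrArg (fun y : H => ((y : PP hd) : X)) x.2
        simpa using this⟩ : {x : X // x * x = 1})) ?_) hcardX
    intro a b hab
    have := congrArg Subtype.val hab
    exact Subtype.ext (Subtype.ext (Subtype.ext this))

end Cfsg.Agent.Lib.Helper04.Aut3
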