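import Mathlib
import Cfsg.Agent.Lib.Helper36.BG1363I
import Cfsg.Agent.Lib.Helper36.BG1363A
import Cfsg.Agent.Lib.Helper77.BG1363B

/-!
# Pack K-1435 (S1435), keystone 143511 K-1435-P7 `NU.primes_in_sigma`
(parallel hand by helper4; spec `notes/S1435_keystones.lean.txt`).
Every prime divisor of `|U|` lies in `σ(H)`.
-/

set_option autoImplicit false
set_option linter.style.haveILetI false
set_option linter.unusedVariables false

namespace Cfsg.Agent.Lib.Helper04.BG1435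

open Cfsg Subgroup Cfsg.Agent.Lib.Helper55 Cfsg.Agent.Lib.Helper11.BG14D Cfsg.Agent.Lib.Helper16.BG1363

variable {G : Type*} [Group G] [Finite G]

/-- KEYSTONE 143511  K-1435-P7. -/
theorem NU.primes_in_sigma (hG : IsMinSimpleOddOrder G) {M K U R H : Subgroup G} {r : ℕ}
    (c : NU M K U R H r) (hUKH : U ⊔ K ≤ H)
    (hcent : ∀ u ∈ U, (orderOf u).Coprime (Nat.card (sigmaCore H)) → u ∈ centralizer (sigmaCore H : Set G))
    (hstar : ∀ (s : ℕ) (Rs : Subgroup G), NU M K U Rs H s → s ∈ sigma H) :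
    ∀ s : ℕ, s.Prime → s ∣ Nat.card U → s ∈ sigma H := by
  classical
  intro s hs hsU
  by_contra hsH
  haveI : Fact s.Prime := ⟨hs⟩
  have h30 : H1430 G := fun M hM K hK hK1 => Cfsg.Agent.S1430.result hG M hM K hK hK1
  obtain ⟨hab, hfree⟩ := Cfsg.Agent.Lib.Helper90.BG14D.free_action hG h30 M c.hM K U c.hKU c.hK1
  have hUc : ∀ a ∈ U, ∀ b ∈ U, a * b = b * a := by
    intro a ha b hb
    have := hab.is_comm.comm (⟨a, ha⟩ : U) ⟨b, hb⟩
    exact congrArg Subtype.val this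
  have hUM : U ≤ M := c.hKU.compl.1
  have hUH : U ≤ H := le_sup_left.trans hUKH
  have hKH : K ≤ H := le_sup_right.trans hUKH
  -- `s ∉ σ(M)`, `s ∉ κ(M)`
  obtain ⟨hsσ, hsκ⟩ :=
    Cfsg.Agent.Lib.Helper36.BG14.not_mem_of_dvd_card_U hG c.hM c.hKU.hall c.hKU.compl hs hsU
  -- `s` does not divide the index of `U` in `M`
  have hidx : ¬ s ∣ U.relIndex M := by
    rw [Cfsg.Agent.Lib.Helper57.BG139.relIndex_eq_card_of_complIn' c.hKU.compl]
    intro hd
    have hKn : K ≤ normalizer (sigmaCore M : Set G) :=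
      c.hKU.hall.1.trans (Cfsg.Agent.Lib.Helper71.BG11.le_normalizer_sigmaCore M)
    have hdvd : Nat.card ↥(K ⊔ sigmaCore M) ∣ Nat.card (sigmaCore M) * Nat.card K := by
      rw [sup_comm]
      exact Cfsg.Agent.Lib.Helper29.card_sup_dvd_of_le_normalizer (sigmaCore M) K hKn
    rcases (Nat.Prime.dvd_mul hs).mp (hd.trans hdvd) with h | h
    · exact hsσ (Cfsg.Agent.Lib.Helper71.BG11.sigmaCore_pi hG c.hM hs h)
    · exact hsκ (c.hKU.hall.2.1 s hs h)
  obtain ⟨S, hS⟩ := Cfsg.Agent.Lib.Helper78.BG15.exists_sylow_map_le hUM hidx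
  set Rs : Subgroup G := (S : Subgroup M).map M.subtype with hRs
  have hRsM : Rs ≤ M := Subgroup.map_subtype_le _
  have hsM : s ∣ Nat.card M := hsU.trans (Subgroup.card_dvd_of_le hUM)
  have hRs1 : Rs ≠ ⊥ := by
    intro h
    have h1 : (S : Subgroup M) = ⊥ :=
      (Subgroup.map_eq_bot_iff_of_injective _ M.subtype_injective).mp h
    exact S.ne_bot_of_dvd_card hsM h1
  have hRsp : IsPGroup s Rs := S.isPGroup'.map M.subtype
  have hRsyl : ∀ Q : Subgroup G, Q ≤ M → IsPGroup s Q → Rs ≤ Q → Q = Rs := by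
    intro Q hQM hQp hRQ
    have h1 : IsPGroup s (Q.subgroupOf M) := hQp.comap_subtype
    have h2 : (S : Subgroup M) ≤ Q.subgroupOf M := by
      intro x hx
      rw [Subgroup.mem_subgroupOf]
      exact hRQ ⟨x, hx, rfl⟩
    have h3 : Q.subgroupOf M = (S : Subgroup M) := S.is_maximal' h1 h2
    rw [hRs, ← h3, Subgroup.subgroupOf_map_subtype, inf_eq_left.mpr hQM]
  have hRstop : Rs ≠ ⊤ := by
    intro h
    have : (⊤ : Subgroup G) ≤ M := h ▸ hRsM
    exact c.hM.1 (top_le_iff.mp this)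
  -- `U` normalizes every subgroup of `U`
  have hUnorm : ∀ T : Subgroup G, T ≤ U → U ≤ normalizer (T : Set G) := by
    intro T hT u hu
    rw [Subgroup.mem_normalizer_iff]
    intro x
    constructor
    · intro hx
      have : u * x * u⁻¹ = x := by rw [hUc u hu x (hT hx)]; group
      rw [this]; exact hx
    · intro hx
      have h1 := hUc u⁻¹ (U.inv_mem hu) (u * x * u⁻¹) (hT hx)
      have h2 : x = u⁻¹ * (u * x * u⁻¹) * u := by group
      rw [h2, h1]
      have : u * x * u⁻¹ * u⁻¹ * u = u * x * u⁻¹ := by group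
      rw [this]; exact hx
  -- `K` normalizes `Rs`
  have hKN : K ≤ normalizer (Rs : Set G) := by
    intro k hk
    rw [← cj_eq_self_iff]
    have h1 : cj k Rs ≤ U := by
      intro y hy
      rw [mem_cj] at hy
      have hkU := c.hKU.normal hk
      have h0 := (Subgroup.mem_normalizer_iff.mp hkU (k⁻¹ * y * k)).mp (hS hy)
      have e : k * (k⁻¹ * y * k) * k⁻¹ = y := by group
      rwa [e] at h0
    have hQp : IsPGroup s (Rs ⊔ cj k Rs : Subgroup G) :=
      IsPGroup.to_sup_of_normal_right' hRsp (isPGroup_cj hRsp) (le_trans hS (hUnorm _ h1))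
    have hQ := hRsyl (Rs ⊔ cj k Rs) (sup_le hRsM (le_trans h1 hUM)) hQp le_sup_left
    have h2 : cj k Rs ≤ Rs := le_of_le_of_eq le_sup_right hQ
    exact Subgroup.eq_of_le_of_card_ge h2 (by rw [card_cj])
  -- `s` does not divide `|H_σ|`
  have hsHσ : ¬ s ∣ Nat.card (sigmaCore H) := fun h =>
    hsH (Cfsg.Agent.Lib.Helper71.BG11.sigmaCore_pi hG c.hH hs h)
  -- `Rs` centralizes `H_σ`
  have hRscent : ∀ x ∈ Rs, x ∈ centralizer (sigmaCore H : Set G) := by
    intro x hx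
    refine hcent x (hS hx) ?_
    obtain ⟨j, hj⟩ := hRsp ⟨x, hx⟩
    have hj' : x ^ (s ^ j) = 1 := by
      have := congrArg Subtype.val hj
      simpa using this
    have hdvd : orderOf x ∣ s ^ j := orderOf_dvd_of_pow_eq_one hj'
    have hcop : (s ^ j).Coprime (Nat.card (sigmaCore H)) :=
      Nat.Coprime.pow_left j ((Nat.Prime.coprime_iff_not_dvd hs).mpr hsHσ)
    exact Nat.Coprime.coprime_dvd_left hdvd hcop
  -- a non-identity element of K
  obtain ⟨⟨k, hkK⟩, hk1⟩ := (Subgroup.ne_bot_iff_exists_ne_one).mp c.hK1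
  have hk1' : k ≠ 1 := fun h => hk1 (Subtype.ext h)
  have hkU : ∀ u ∈ U, k * u * k⁻¹ ∈ U := by
    intro u hu
    have := c.hKU.normal hkK
    rw [Subgroup.mem_normalizer_iff] at this
    exact (this u).mp hu
  have hcommform := Cfsg.Agent.Lib.Helper36.BG1363.exists_comm_eq hkU (hfree k hkK hk1')
  -- the subgroup Y
  set π : Set ℕ := {q | q.Prime ∧ q ∉ sigma H} with hπ
  set F : Subgroup G := fittingOf H with hF
  set Y : Subgroup G := piCoreOf π F with hY
  obtain ⟨hYc, _, hFeq⟩ := Cfsg.Agent.S1439.result hG H c.hH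
  have hFH : F ≤ H := Cfsg.Agent.Lib.Helper31.BenderFit.fittingOf_le' H
  have hYF : Y ≤ F := Cfsg.Agent.Lib.Helper31.piCoreOf_le π F
  have hYH : Y ≤ H := hYF.trans hFH
  have hHY : H ≤ normalizer (Y : Set G) :=
    (Cfsg.Agent.Lib.Helper31.BenderFit.le_normalizer_fittingOf H).trans
      (Cfsg.Agent.Lib.Helper31.BenderFit.normalizer_le_normalizer_piCoreOf π F)
  -- a generator of Y
  obtain ⟨⟨y₀, hy₀Y⟩, hgen⟩ := hYc.exists_generator
  have hgen' : ∀ y ∈ Y, ∃ j : ℤ, y = y₀ ^ j := by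
    intro y hy
    obtain ⟨j, hj⟩ := Subgroup.mem_zpowers_iff.mp (hgen ⟨y, hy⟩)
    refine ⟨j, ?_⟩
    have := congrArg Subtype.val hj
    simpa using this.symm
  have hact : ∀ h ∈ H, ∃ m : ℤ, h * y₀ * h⁻¹ = y₀ ^ m := by
    intro h hh
    have := hHY hh
    rw [Subgroup.mem_normalizer_iff] at this
    exact hgen' _ ((this y₀).mp hy₀Y)
  have hactY : ∀ h ∈ H, ∀ y ∈ Y, ∃ m : ℤ, h * y * h⁻¹ = y ^ m := by
    intro h hh y hy
    obtain ⟨j, rfl⟩ := hgen' y hy
    obtain ⟨m, hm⟩ := hact h hh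
    refine ⟨m, ?_⟩
    rw [← conj_zpow, hm, ← zpow_mul, ← zpow_mul, mul_comm]
  -- U centralizes Y
  have hUY : ∀ u ∈ U, ∀ y ∈ Y, u * y = y * u := by
    intro u hu y hy
    obtain ⟨u', hu', rfl⟩ := hcommform u hu
    obtain ⟨j, rfl⟩ := hgen' y hy
    obtain ⟨m, hm⟩ := hact k⁻¹ (H.inv_mem (hKH hkK))
    obtain ⟨n, hn⟩ := hact u'⁻¹ (H.inv_mem (hUH hu'))
    have h1 := Cfsg.Agent.Lib.Helper36.BG1363.comm_commutes hm hn
    simp only [inv_inv] at h1
    have h2 : Commute (k * u' * k⁻¹ * u'⁻¹) y₀ := h1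
    exact (h2.zpow_right j).eq
  -- `Rs` centralizes `F`
  have hA : fittingOf (sigmaCore H) ≤ sigmaCore H :=
    Cfsg.Agent.Lib.Helper31.BenderFit.fittingOf_le' (sigmaCore H)
  have hFcent : F ≤ centralizer (Rs : Set G) := by
    rw [hF, hFeq]
    refine sup_le ?_ ?_
    · intro a ha
      rw [Subgroup.mem_centralizer_iff]
      intro x hx
      have := hRscent x hx
      rw [Subgroup.mem_centralizer_iff] at this
      exact (this a (hA ha)).symm
    · intro y hy
      rw [Subgroup.mem_centralizer_iff]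
      intro x hx
      exact hUY x (hS hx) y hy
  have hRsF : Rs ≤ F := by
    have hsol : Group.IsSolvable ↥H := Cfsg.Agent.Lib.Helper55.ms_solvable hG c.hH.1
    refine le_trans ?_ (Cfsg.Agent.Lib.Helper31.FitUniq.inf_centralizer_fittingOf_le H hsol)
    refine le_inf (hS.trans hUH) ?_
    exact (Subgroup.le_centralizer_iff).mp hFcent
  -- `Rs ≤ Y`: the Sylow `s`-subgroup of the nilpotent `F` is a normal `π`-subgroup
  have hRsY : Rs ≤ Y := by
    have hFnil : Group.IsNilpotent ↥F := Cfsg.Agent.Lib.Helper31.BenderFit.fittingOf_isNilpotent H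
    obtain ⟨Q, hQ⟩ := (hRsp.comap_subtype (K := F)).exists_le_sylow
    have hQn : (Q : Subgroup ↥F).Normal := by
      have h1 := (Group.isNilpotent_of_finite_tfae (G := ↥F)).out 0 3
      exact (h1.mp hFnil) s inferInstance Q
    have hQle : (Q : Subgroup ↥F) ≤ piCore π ↥F := by
      apply le_sSup
      refine ⟨hQn, ?_⟩
      intro p hp hpd
      obtain ⟨n, hn⟩ := IsPGroup.iff_card.mp Q.isPGroup'
      rw [hn] at hpd
      have hps : p = s := (Nat.prime_dvd_prime_iff_eq hp hs).mp (hp.dvd_of_dvd_pow hpd)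
      rw [hps]
      exact ⟨hs, hsH⟩
    intro x hx
    have hxF : x ∈ F := hRsF hx
    refine ⟨⟨x, hxF⟩, hQle (hQ ?_), rfl⟩
    exact hx
  -- `H` normalizes `Rs`
  have hHRs : H ≤ normalizer (Rs : Set G) := by
    have hconj : ∀ h ∈ H, ∀ x ∈ Rs, h * x * h⁻¹ ∈ Rs := by
      intro h hh x hx
      obtain ⟨m, hm⟩ := hactY h hh x (hRsY hx)
      rw [hm]
      exact Rs.zpow_mem hx m
    intro h hh
    rw [Subgroup.mem_normalizer_iff]
    intro u
    constructor
    · intro hu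
      exact hconj h hh u hu
    · intro hu
      have := hconj h⁻¹ (H.inv_mem hh) _ hu
      have h2 : h⁻¹ * (h * u * h⁻¹) * h⁻¹⁻¹ = u := by group
      rwa [h2] at this
  -- `N_G(Rs) ≤ H`
  obtain ⟨L, hL, hNL⟩ := Cfsg.Agent.Lib.Helper12.CNMaxSub.exists_coatom_normalizer_le hG hRs1 hRstop
  have hHL : H ≤ L := hHRs.trans hNL
  have hHeqL : H = L := by
    by_contra hne
    exact hL.1 (c.hH.2 L (lt_of_le_of_ne hHL hne))
  have hNH : normalizer (Rs : Set G) ≤ H := by rw [hHeqL]; exact hNL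
  exact hsH (hstar s Rs ⟨c.hM, c.hKU, c.hK1, c.hU1, hs, hS, hRs1, hRsp, hRsyl, c.hH, hNH⟩)

end Cfsg.Agent.Lib.Helper04.BG1435
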