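import Mathlib
import Cfsg.Agent.S1432

/-!
# KEYSTONE 143802 K-153-B `mem_tau2_of_centralizes` (architect helper32, S1438 pack)
-/

set_option autoImplicit false

namespace Cfsg.Agent.Lib.Helper04.BG153

open Cfsg

variable {G : Type*} [Group G] [Finite G]

/-- 143802 K-153-B -/
theorem mem_tau2_of_centralizes (hG : IsMinSimpleOddOrder G) {M H : Subgroup G}
    (hM : IsCoatom M) (hH : H ≤ sigmaCore M) (hH1 : H ≠ ⊥)
    {a : G} (haM : a ∈ M) (haH : a ∈ Subgroup.centralizer (H : Set G)) {p : ℕ} (hp : p.Prime)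
    (hap : orderOf a = p) (hσ : p ∉ sigma M) (hκ : p ∉ kappa M) : p ∈ tau2 M := by
  obtain ⟨x, hxH, hx1⟩ : ∃ x ∈ H, x ≠ 1 := by
    by_contra hne
    push Not at hne
    exact hH1 ((Subgroup.eq_bot_iff_forall H).mpr hne)
  have ha1 : a ≠ 1 := by
    intro h
    rw [h, orderOf_one] at hap
    exact hp.one_lt.ne hap
  have hax : a ∈ M ⊓ Subgroup.centralizer ({x} : Set G) := by
    refine Subgroup.mem_inf.mpr ⟨haM, ?_⟩
    rw [Subgroup.mem_centralizer_iff]
    intro z hz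
    rw [Set.mem_singleton_iff] at hz
    rw [hz]
    exact (Subgroup.mem_centralizer_iff.mp haH) x hxH
  have hprimes : ∀ r : ℕ, r.Prime → r ∣ orderOf a → r = p := by
    intro r hr hrd
    rw [hap] at hrd
    exact (Nat.prime_dvd_prime_iff_eq hr hp).mp hrd
  have hσ' : ∀ r : ℕ, r.Prime → r ∣ orderOf a → r ∉ sigma M := by
    intro r hr hrd
    rw [hprimes r hr hrd]
    exact hσ
  have hpd : p ∣ orderOf a := by rw [hap]
  rcases Cfsg.Agent.S1432.result hG M hM x (hH hxH) hx1 a hax ha1 hσ' with ⟨h1, -⟩ | ⟨h2, -⟩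
  · exact absurd (h1 p hp hpd) hκ
  · exact h2 p hp hpd

end Cfsg.Agent.Lib.Helper04.BG153
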