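import Mathlib
import Cfsg.Prelude.Def_Transfer
import Cfsg.Agent.Lib.Helper65.BQL2
import Cfsg.Agent.Lib.Helper26.BQL3

/-!
Pack K-BQ (S3911), leaf L5 (keystone 391105): the order of a minimal supplement.
-/

set_option autoImplicit false
open Cfsg

namespace Cfsg.Agent.Lib.Helper04.BQ

/-- the order of the abelian lift (copy of the spec's definition) -/
def liftCard (m n : ℕ) : ℕ := n * ∏ p ∈ n.primeFactors ∩ m.primeFactors, p ^ m.factorization p

/-- in a cyclic group, a subgroup whose order divides the order of another one lies in it -/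
theorem le_of_card_dvd_of_isCyclic {G : Type*} [Group G] [Finite G] (P : Subgroup G)
    (hc : IsCyclic ↥P) (K1 K2 : Subgroup G) (h1 : K1 ≤ P) (h2 : K2 ≤ P)
    (hd : Nat.card ↥K1 ∣ Nat.card ↥K2) : K1 ≤ K2 := by
  classical
  have : Fintype ↥P := Fintype.ofFinite _
  intro x hx
  have hn0 : 0 < Nat.card ↥K2 := Nat.card_pos
  have hxn : x ^ Nat.card ↥K2 = 1 := by
    obtain ⟨c, hc'⟩ := hd
    have : (⟨x, hx⟩ : ↥K1) ^ Nat.card ↥K1 = 1 := pow_card_eq_one'
    have h' : x ^ Nat.card ↥K1 = 1 := by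
      have e := congrArg Subtype.val this
      rw [Subgroup.coe_pow, Subgroup.coe_one] at e
      exact e
    rw [hc', pow_mul, h', one_pow]
  set T : Finset ↥P := Finset.univ.filter (fun a : ↥P => a ^ Nat.card ↥K2 = 1) with hT
  set K2' : Finset ↥P := Finset.univ.filter (fun a : ↥P => (a : G) ∈ K2) with hK2'
  have hTle : T.card ≤ Nat.card ↥K2 := IsCyclic.card_pow_eq_one_le hn0
  have hK2card : K2'.card = Nat.card ↥K2 := by
    rw [← Nat.card_congr (Subgroup.subgroupOfEquivOfLe h2).toEquiv, Nat.card_eq_fintype_card,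
      Fintype.card_subtype]
    congr 1
  have hsub : K2' ⊆ T := by
    intro a ha
    rw [hK2', Finset.mem_filter] at ha
    rw [hT, Finset.mem_filter]
    refine ⟨Finset.mem_univ _, ?_⟩
    have : (⟨(a : G), ha.2⟩ : ↥K2) ^ Nat.card ↥K2 = 1 := pow_card_eq_one'
    have h' : (a : G) ^ Nat.card ↥K2 = 1 := by
      have e := congrArg Subtype.val this
      rw [Subgroup.coe_pow, Subgroup.coe_one] at e
      exact e
    apply Subtype.ext
    simpa using h'
  have heq : K2' = T := Finset.eq_of_subset_of_card_le hsub (by rw [hK2card]; exact hTle)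
  have hxT : (⟨x, h1 hx⟩ : ↥P) ∈ T := by
    rw [hT, Finset.mem_filter]
    refine ⟨Finset.mem_univ _, ?_⟩
    apply Subtype.ext
    simpa using hxn
  rw [← heq, hK2', Finset.mem_filter] at hxT
  exact hxT.2

/-- the subgroups of a cyclic `p`-group form a chain -/
theorem le_or_le_of_isCyclic_isPGroup {G : Type*} [Group G] [Finite G] {p : ℕ} [Fact p.Prime]
    (P : Subgroup G) (hc : IsCyclic ↥P) (hP : IsPGroup p ↥P) (K1 K2 : Subgroup G)
    (h1 : K1 ≤ P) (h2 : K2 ≤ P) : K1 ≤ K2 ∨ K2 ≤ K1 := by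
  obtain ⟨i, hi⟩ := (hP.to_le h1).exists_card_eq
  obtain ⟨j, hj⟩ := (hP.to_le h2).exists_card_eq
  rcases le_total i j with hij | hij
  · left
    exact le_of_card_dvd_of_isCyclic P hc K1 K2 h1 h2 (by rw [hi, hj]; exact pow_dvd_pow p hij)
  · right
    exact le_of_card_dvd_of_isCyclic P hc K2 K1 h2 h1 (by rw [hi, hj]; exact pow_dvd_pow p hij)

/-- a Sylow subgroup meets a normal subgroup in a Sylow subgroup of it (valuation form) -/
theorem factorization_card_sylow_inf_normal {G : Type*} [Group G] [Finite G] {p : ℕ}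
    [Fact p.Prime] (P : Sylow p G) (M : Subgroup G) [M.Normal] :
    (Nat.card ↥((P : Subgroup G) ⊓ M)).factorization p = (Nat.card ↥M).factorization p := by
  have hp : p.Prime := Fact.out
  set a := M.relIndex (P : Subgroup G) with ha
  have ha0 : a ≠ 0 := fun h0 => by
    have := Subgroup.relIndex_dvd_card M (P : Subgroup G)
    rw [← ha, h0] at this
    exact Nat.card_pos.ne' (Nat.eq_zero_of_zero_dvd this)
  have h1 : Nat.card ↥((P : Subgroup G) ⊓ M) * a = Nat.card ↥(P : Subgroup G) := by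
    have := Subgroup.relIndex_mul_relIndex (⊥ : Subgroup G) ((P : Subgroup G) ⊓ M) (P : Subgroup G)
      bot_le inf_le_left
    rwa [Subgroup.relIndex_bot_left, Subgroup.relIndex_bot_left, Subgroup.inf_relIndex_left] at this
  have h2 : Nat.card ↥M * a = Nat.card ↥((P : Subgroup G) ⊔ M) := by
    have := Subgroup.relIndex_mul_relIndex (⊥ : Subgroup G) M ((P : Subgroup G) ⊔ M)
      bot_le le_sup_right
    rwa [Subgroup.relIndex_bot_left, Subgroup.relIndex_bot_left, Subgroup.relIndex_sup_right] at this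
  have hI0 : Nat.card ↥((P : Subgroup G) ⊓ M) ≠ 0 := Nat.card_pos.ne'
  have hM0 : Nat.card ↥M ≠ 0 := Nat.card_pos.ne'
  have hG0 : Nat.card G ≠ 0 := Nat.card_pos.ne'
  have h3 : Nat.card ↥M * a ∣ Nat.card G := by
    rw [h2]; exact Subgroup.card_subgroup_dvd_card _
  have h4 : (Nat.card ↥M * a).factorization p ≤ (Nat.card G).factorization p :=
    (Nat.factorization_le_iff_dvd (Nat.mul_ne_zero hM0 ha0) hG0).2 h3 p
  have h5 : (Nat.card ↥(P : Subgroup G)).factorization p = (Nat.card G).factorization p := by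
    rw [P.card_eq_multiplicity, Nat.factorization_pow, Finsupp.smul_apply, hp.factorization_self,
      smul_eq_mul, mul_one]
  rw [Nat.factorization_mul hM0 ha0, Finsupp.add_apply] at h4
  have h6 : (Nat.card ↥((P : Subgroup G) ⊓ M) * a).factorization p =
      (Nat.card ↥(P : Subgroup G)).factorization p := by rw [h1]
  rw [Nat.factorization_mul hI0 ha0, Finsupp.add_apply, h5] at h6
  have h7 : (Nat.card ↥((P : Subgroup G) ⊓ M)).factorization p ≤ (Nat.card ↥M).factorization p :=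
    (Nat.factorization_le_iff_dvd hI0 hM0).2 (Subgroup.card_dvd_of_le inf_le_right) p
  omega

/-- a trivial Sylow `p`-subgroup means `p` does not divide the order -/
theorem not_dvd_card_of_sylow_eq_bot {A : Type*} [Group A] [Finite A] {p : ℕ} [Fact p.Prime]
    (Q : Sylow p A) (hQ : (Q : Subgroup A) = ⊥) : ¬ p ∣ Nat.card A := by
  have hp : p.Prime := Fact.out
  intro hd
  have h1 := Q.card_eq_multiplicity
  rw [hQ, Subgroup.card_bot] at h1
  have hpos : 0 < (Nat.card A).factorization p :=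
    hp.factorization_pos_of_dvd Nat.card_pos.ne' hd
  have : 1 < p ^ (Nat.card A).factorization p := Nat.one_lt_pow hpos.ne' hp.one_lt
  omega

/-- L5 with L2 (nilpotency) and L3 (a normal Sylow inside `M` is trivial) as hypotheses -/
theorem card_min_supplement_aux {G : Type*} [Group G] [Finite G]
    (s3908 : ∀ (p : ℕ) [Fact p.Prime], p ≠ 2 → ∀ P : Sylow p G,
      IsCyclic ↥(P : Subgroup G) ∨ ∀ x ∈ (P : Subgroup G), x ^ p = 1)
    (M H A0 : Subgroup G) [M.Normal]
    (s3909 : ∀ a : G, (∃ m ∈ M, orderOf m = orderOf a) → a ∈ M)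
    (hM : Odd (Nat.card ↥M))
    (hsup : A0 ⊔ M = H)
    (hnil : Group.IsNilpotent ↥A0)
    (hL3 : ∀ (p : ℕ) [Fact p.Prime] (Q : Sylow p ↥A0), (Q : Subgroup ↥A0).Normal →
      (Q : Subgroup ↥A0).map A0.subtype ≤ M → (Q : Subgroup ↥A0) = ⊥) :
    Nat.card ↥A0 = liftCard (Nat.card ↥M) (M.relIndex H) := by
  classical
  have hnormal : ∀ (p : ℕ) (_hp : Fact p.Prime) (P : Sylow p ↥A0), (↑P : Subgroup ↥A0).Normal :=
    ((Group.isNilpotent_of_finite_tfae (G := ↥A0)).out 0 3).1 hnil
  have hr : M.relIndex H = M.relIndex A0 := by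
    rw [← hsup, Subgroup.relIndex_sup_right]
  set r := M.relIndex H with hrdef
  set m := Nat.card ↥M with hmdef
  have hr0 : r ≠ 0 := fun h0 => by
    have := Subgroup.relIndex_dvd_card M H
    rw [← hrdef, h0] at this
    exact Nat.card_pos.ne' (Nat.eq_zero_of_zero_dvd this)
  have hm0 : m ≠ 0 := Nat.card_pos.ne'
  have hA0H : A0 ≤ H := hsup ▸ le_sup_left
  -- `card A0 = card (A0 ⊓ M) * r`
  have hcard : Nat.card ↥(A0 ⊓ M) * r = Nat.card ↥A0 := by
    have := Subgroup.relIndex_mul_relIndex (⊥ : Subgroup G) (A0 ⊓ M) A0 bot_le inf_le_left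
    rwa [Subgroup.relIndex_bot_left, Subgroup.relIndex_bot_left, Subgroup.inf_relIndex_left,
      ← hr] at this
  have hI0 : Nat.card ↥(A0 ⊓ M) ≠ 0 := Nat.card_pos.ne'
  have hIM : Nat.card ↥(A0 ⊓ M) ∣ m := Subgroup.card_dvd_of_le inf_le_right
  have hIA : Nat.card ↥(A0 ⊓ M) ∣ Nat.card ↥A0 := Subgroup.card_dvd_of_le inf_le_left
  have hrA : r ∣ Nat.card ↥A0 := Dvd.intro_left _ hcard
  -- the basic tool: a Sylow of `A0` inside `M` kills `p`
  have tool : ∀ (p : ℕ) [Fact p.Prime] (Q : Sylow p ↥A0),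
      (Q : Subgroup ↥A0).map A0.subtype ≤ M → ¬ p ∣ Nat.card ↥A0 := by
    intro p _ Q hQM
    exact not_dvd_card_of_sylow_eq_bot Q (hL3 p Q (hnormal p inferInstance Q) hQM)
  -- case (ii)
  have case2 : ∀ p : ℕ, p.Prime → ¬ p ∣ r → ¬ p ∣ Nat.card ↥A0 := by
    intro p hp hpr
    have := Fact.mk hp
    obtain ⟨Q⟩ : Nonempty (Sylow p ↥A0) := inferInstance
    apply tool p Q
    rintro y ⟨x, hx, rfl⟩
    have hxH : (x : G) ∈ H := hA0H x.2
    have h1 : (x : G) ^ r ∈ M := Subgroup.pow_relIndex_mem M hxH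
    obtain ⟨k, hk⟩ := Q.2 ⟨x, hx⟩
    have hk' : (x : G) ^ p ^ k = 1 := by
      have := congrArg (fun y : ↥(Q : Subgroup ↥A0) => ((y : ↥A0) : G)) hk
      simpa using this
    have hcop : r.Coprime (orderOf (x : G)) := by
      have hd : orderOf (x : G) ∣ p ^ k := orderOf_dvd_of_pow_eq_one hk'
      have : (p ^ k).Coprime r := Nat.Coprime.pow_left k ((Nat.Prime.coprime_iff_not_dvd hp).2 hpr)
      exact (Nat.Coprime.coprime_dvd_left hd this).symm
    obtain ⟨n, hn⟩ := exists_pow_eq_self_of_coprime hcop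
    show (x : G) ∈ M
    rw [← hn]
    exact Subgroup.pow_mem M h1 n
  -- case (iii)
  have case3 : ∀ p : ℕ, p.Prime → p ∣ m → p ∣ r →
      (Nat.card ↥(A0 ⊓ M)).factorization p = m.factorization p := by
    intro p hp hpm hpr
    have := Fact.mk hp
    have hp2 : p ≠ 2 := by
      rintro rfl
      exact (Nat.not_even_iff_odd.2 hM) (even_iff_two_dvd.2 hpm)
    obtain ⟨Q⟩ : Nonempty (Sylow p ↥A0) := inferInstance
    have hpA : p ∣ Nat.card ↥A0 := hpr.trans hrA
    have hQM : ¬ (Q : Subgroup ↥A0).map A0.subtype ≤ M := fun h => tool p Q h hpA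
    have hQp : IsPGroup p ↥((Q : Subgroup ↥A0).map A0.subtype) :=
      Q.2.map A0.subtype
    obtain ⟨P, hQP⟩ := hQp.exists_le_sylow
    have hQA0 : (Q : Subgroup ↥A0).map A0.subtype ≤ A0 := by
      rintro y ⟨x, _, rfl⟩
      exact x.2
    rcases s3908 p hp2 P with hcyc | hexp
    · -- cyclic
      have hPM : (P : Subgroup G) ⊓ M ≤ (Q : Subgroup ↥A0).map A0.subtype := by
        rcases le_or_le_of_isCyclic_isPGroup (P : Subgroup G) hcyc P.2
          ((Q : Subgroup ↥A0).map A0.subtype) ((P : Subgroup G) ⊓ M) hQP inf_le_left with h | h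
        · exact absurd (h.trans inf_le_right) hQM
        · exact h
      have hle : (P : Subgroup G) ⊓ M ≤ A0 ⊓ M := le_inf (hPM.trans hQA0) inf_le_right
      have h1 : (Nat.card ↥((P : Subgroup G) ⊓ M)).factorization p ≤
          (Nat.card ↥(A0 ⊓ M)).factorization p :=
        (Nat.factorization_le_iff_dvd Nat.card_pos.ne' hI0).2 (Subgroup.card_dvd_of_le hle) p
      have h2 : (Nat.card ↥(A0 ⊓ M)).factorization p ≤ m.factorization p :=
        (Nat.factorization_le_iff_dvd hI0 hm0).2 hIM p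
      have h1' : m.factorization p ≤ (Nat.card ↥(A0 ⊓ M)).factorization p := by
        rw [hmdef, ← factorization_card_sylow_inf_normal P M]
        exact h1
      omega
    · -- exponent `p`: then `P ≤ M`, impossible
      exfalso
      obtain ⟨m0, hm0'⟩ := exists_prime_orderOf_dvd_card' (G := ↥M) p hpm
      have hPleM : (P : Subgroup G) ≤ M := by
        intro a ha
        by_cases ha1 : a = 1
        · rw [ha1]; exact M.one_mem
        · have hoa : orderOf a = p := orderOf_eq_prime (hexp a ha) ha1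
          exact s3909 a ⟨(m0 : G), m0.2, by rw [Subgroup.orderOf_coe, hm0', hoa]⟩
      exact hQM (hQP.trans hPleM)
  -- assemble
  have hprime : (Nat.card ↥(A0 ⊓ M)).primeFactors = r.primeFactors ∩ m.primeFactors := by
    ext p
    simp only [Finset.mem_inter, Nat.mem_primeFactors]
    constructor
    · rintro ⟨hp, hpI, _⟩
      refine ⟨⟨hp, ?_, hr0⟩, ⟨hp, hpI.trans hIM, hm0⟩⟩
      by_contra hpr
      exact case2 p hp hpr (hpI.trans hIA)
    · rintro ⟨⟨hp, hpr, _⟩, ⟨_, hpm, _⟩⟩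
      refine ⟨hp, ?_, hI0⟩
      have h := case3 p hp hpm hpr
      have hpos : 0 < m.factorization p := hp.factorization_pos_of_dvd hm0 hpm
      rw [← h] at hpos
      exact Nat.dvd_of_factorization_pos hpos.ne'
  have hI : Nat.card ↥(A0 ⊓ M) =
      ∏ p ∈ r.primeFactors ∩ m.primeFactors, p ^ m.factorization p := by
    conv_lhs => rw [Nat.prod_primeFactors_pow_factorization hI0]
    rw [hprime]
    apply Finset.prod_congr rfl
    intro p hp
    simp only [Finset.mem_inter, Nat.mem_primeFactors] at hp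
    rw [case3 p hp.1.1 hp.2.2.1 hp.1.2.1]
  unfold liftCard
  rw [← hI, ← hcard, mul_comm]

/-- **LEAF L5** (keystone 391105). -/
theorem card_min_supplement {G : Type*} [Group G] [Finite G]
    (s3908 : ∀ (p : ℕ) [Fact p.Prime], p ≠ 2 → ∀ P : Sylow p G,
      IsCyclic ↥(P : Subgroup G) ∨ ∀ x ∈ (P : Subgroup G), x ^ p = 1)
    (M H A0 : Subgroup G) [M.Normal]
    (s3909 : ∀ a : G, (∃ m ∈ M, orderOf m = orderOf a) → a ∈ M)
    (hM : Odd (Nat.card ↥M)) (hMH : M ≤ H)
    (hsup : A0 ⊔ M = H) (hmin : ∀ X : Subgroup G, X ≤ A0 → X ⊔ M = H → X = A0)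
    (hab : ∀ x ∈ H, ∀ y ∈ H, x * y * x⁻¹ * y⁻¹ ∈ M) :
    Nat.card ↥A0 = liftCard (Nat.card ↥M) (M.relIndex H) :=
  card_min_supplement_aux s3908 M H A0 s3909 hM hsup
    (Cfsg.Agent.Lib.Helper65.BQ.nilpotent_of_min_supplement M H A0 hsup hmin hab)
    (fun p _ Q hn hQ => Cfsg.Agent.Lib.Helper26.BQ.sylow_eq_bot_of_le M H A0 hsup hmin p Q hn hQ)

end Cfsg.Agent.Lib.Helper04.BQ
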