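import Mathlib
import Cfsg.Agent.Lib.Helper73.CT4Basic
import Cfsg.Agent.S4035
import Cfsg.Agent.S4127

/-!
# S4146, keystone KD3: the case where every element of class size `m` centralizes `T`
-/

set_option autoImplicit false

namespace Cfsg.Agent.Lib.Helper04.CT4

open Cfsg.Agent.Lib.Helper73 Cfsg.Agent.Lib.Helper73.CT4

variable {G : Type*} [Group G] {n m : ℕ}

local notation "Cz(" x ")" => Subgroup.centralizer ({x} : Set G)

/-- without good elements for `n`, the index of `T ∩ Z(G)` in `T` is prime to `n` -/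
theorem TN_coprime [Finite G] (H : Hyp G n m) (hN : ¬ Good G n) (T : Subgroup G)
    (hT : ∀ g : G, g ∈ T ↔ ((Cz(g)).index = 1 ∨ (Cz(g)).index = n)) :
    ((Subgroup.center G).relIndex T).Coprime n := by
  apply Nat.coprime_of_dvd
  intro r hr hrd hrn
  haveI : Fact r.Prime := ⟨hr⟩
  obtain R : Sylow r T := default
  have hRZ : (R : Subgroup T).map T.subtype ≤ Subgroup.center G := by
    rintro _ ⟨x', hx', rfl⟩
    obtain ⟨j, hj⟩ := (IsPGroup.iff_orderOf.mp R.2) ⟨x', hx'⟩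
    have ho : orderOf (x' : G) = r ^ j := by
      rw [← hj, Subgroup.orderOf_mk, Subgroup.orderOf_coe]
    rcases (hT (x' : G)).1 x'.2 with h | h
    · exact (index_Cz_eq_one_iff _).1 h
    · exact absurd ⟨(x' : G), r, j, hr, hrn, ho, h⟩ hN
  have h1 : (Subgroup.center G).relIndex T ∣ ((R : Subgroup T).map T.subtype).relIndex T :=
    Subgroup.relIndex_dvd_of_le_left T hRZ
  have h2 : ((R : Subgroup T).map T.subtype).relIndex T = (R : Subgroup T).index := by
    unfold Subgroup.relIndex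
    rw [Subgroup.subgroupOf, Subgroup.comap_map_eq_self_of_injective (Subgroup.subtype_injective _)]
  rw [h2] at h1
  exact R.not_dvd_index (hrd.trans h1)

/-- without good elements for `n`, `T` is abelian -/
theorem TN_le_Cz [Finite G] (H : Hyp G n m) (hN : ¬ Good G n) (T : Subgroup G) [T.Normal]
    (hT : ∀ g : G, g ∈ T ↔ ((Cz(g)).index = 1 ∨ (Cz(g)).index = n)) {b : G} (hb : b ∈ T) :
    T ≤ Cz(b) := by
  have h1 : (Cz(b)).relIndex T ∣ (Cz(b)).index := relIndex_dvd_index_of_normal_right _ T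
  have h2 : (Cz(b)).relIndex T ∣ (Subgroup.center G).relIndex T :=
    Subgroup.relIndex_dvd_of_le_left T (center_le_Cz b)
  have h3 : (Cz(b)).index ∣ n := by
    rcases (hT b).1 hb with h | h
    · rw [h]; exact one_dvd _
    · rw [h]
  have h4 : (Cz(b)).relIndex T = 1 :=
    Nat.eq_one_of_dvd_coprimes (TN_coprime H hN T hT) h2 (h1.trans h3)
  exact Subgroup.relIndex_eq_one.1 h4

/-- **KD3** -/
theorem bb2_false [Finite G] (H : Hyp G n m) (hlt : n < m) (hN : ¬ Good G n)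
    (T : Subgroup G) [T.Normal]
    (hT : ∀ g : G, g ∈ T ↔
      ((Subgroup.centralizer ({g} : Set G)).index = 1 ∨ (Subgroup.centralizer ({g} : Set G)).index = n))
    (hall : ∀ y : G, (Subgroup.centralizer ({y} : Set G)).index = m → ∀ x ∈ T, Commute x y) : False := by
  have hcop := TN_coprime H hN T hT
  obtain ⟨x, hx⟩ := H.exists_n
  have hxT : x ∈ T := (hT x).2 (Or.inr hx)
  obtain ⟨s, hs, hsn⟩ := Nat.exists_prime_and_dvd (H.hn.ne')
  haveI : Fact s.Prime := ⟨hs⟩
  have hsm : ¬ s ∣ m := fun h => hs.one_lt.ne' (Nat.eq_one_of_dvd_coprimes H.cop hsn h)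
  obtain S : Sylow s G := default
  have hSL : ¬ (S : Subgroup G) ≤ Cz(x) := by
    intro h
    have h1 := Subgroup.index_dvd_of_le h
    rw [hx] at h1
    exact S.not_dvd_index (hsn.trans h1)
  obtain ⟨u, huS, huL⟩ := SetLike.not_le_iff_exists.1 hSL
  obtain ⟨j, huo⟩ := (IsPGroup.iff_orderOf.mp S.2) ⟨u, huS⟩
  have huo' : orderOf u = s ^ j := by
    rw [← huo, Subgroup.orderOf_mk]
  have hunm : (Cz(u)).index = n * m := by
    rcases H.idx_cases u with h | h | h | h
    · exfalso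
      apply huL
      exact center_le_Cz x ((index_Cz_eq_one_iff u).1 h)
    · exact absurd ⟨u, s, j, hs, hsn, huo', h⟩ hN
    · exfalso
      apply huL
      exact mem_Cz.2 (hall u h x hxT).symm.eq
    · exact h
  set Cu : Subgroup G := Cz(u) with hCu
  have hD : ∀ w ∈ Cu, (orderOf w).Coprime s → Cu ≤ Cz(w) := by
    intro w hw hwo
    apply H.le_of_max hunm hw
    rw [huo']
    exact (hwo.symm.pow_left j)
  obtain Su : Sylow s Cu := default
  obtain ⟨hSun, _⟩ := Cfsg.Agent.S4035.result (G := Cu) (p := s) (by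
    intro w hw
    rw [Cfsg.Agent.Lib.Helper72.ncard_carrier_eq_index_centralizer]
    have htop : Subgroup.centralizer ({w} : Set Cu) = ⊤ := by
      rw [eq_top_iff]
      intro c _
      rw [Subgroup.mem_centralizer_singleton_iff]
      have := hD (w : G) w.2 (by rwa [Subgroup.orderOf_coe]) c.2
      apply Subtype.ext
      simpa using mem_Cz.1 this
    rw [htop, Subgroup.index_top]
    exact fun h1 => hs.one_lt.ne' (Nat.dvd_one.1 h1)) Su
  haveI := hSun
  have hSu_all : ∀ c : Cu, (∃ k : ℕ, c ^ (s ^ k) = 1) → c ∈ (Su : Subgroup Cu) := by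
    rintro c ⟨k, hk⟩
    have hd : orderOf c ∣ s ^ k := orderOf_dvd_of_pow_eq_one hk
    obtain ⟨i, _, hi⟩ := (Nat.dvd_prime_pow hs).1 hd
    have hz : IsPGroup s (Subgroup.zpowers c) :=
      IsPGroup.of_card (n := i) (by rw [Nat.card_zpowers, hi])
    obtain ⟨Q, hQ⟩ := hz.exists_le_sylow
    obtain ⟨g, hg⟩ := MulAction.exists_smul_eq Cu Su Q
    have hQS : Q = Su := by
      rw [← hg]
      exact Sylow.smul_eq_of_normal
    rw [← hQS]
    exact hQ (Subgroup.mem_zpowers c)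
  have hSuG : IsPGroup s ((Su : Subgroup Cu).map Cu.subtype) := Su.2.map _
  obtain ⟨S2, hS2⟩ := hSuG.exists_le_sylow
  obtain ⟨y, hy⟩ := H.exists_m
  obtain ⟨S1, hS1⟩ := Cfsg.Agent.S4127.exists_sylow_le (p := s) (Cz(y)) (by rw [hy]; exact hsm)
  obtain ⟨g, hg⟩ := MulAction.exists_smul_eq G S1 S2
  have hy'm : (Cz(g * y * g⁻¹)).index = m := by rw [index_Cz_conj, hy]
  have hS2y' : (S2 : Subgroup G) ≤ Cz(g * y * g⁻¹) := by
    intro v hv
    rw [← hg, Cfsg.Agent.S4127.mem_smul_sylow] at hv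
    have h1 := mem_Cz.1 (hS1 hv)
    rw [mem_Cz]
    calc v * (g * y * g⁻¹) = g * ((g⁻¹ * v * g) * y) * g⁻¹ := by group
      _ = g * (y * (g⁻¹ * v * g)) * g⁻¹ := by rw [h1]
      _ = g * y * g⁻¹ * v := by group
  have huCu : u ∈ Cu := self_mem_Cz u
  have huSu : (⟨u, huCu⟩ : Cu) ∈ (Su : Subgroup Cu) := by
    apply hSu_all
    refine ⟨j, ?_⟩
    apply Subtype.ext
    rw [Subgroup.coe_pow, Subgroup.coe_one]
    show u ^ s ^ j = 1
    rw [← huo']
    exact pow_orderOf_eq_one u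
  have huS2 : u ∈ (S2 : Subgroup G) := hS2 ⟨⟨u, huCu⟩, huSu, rfl⟩
  have hy'Cu : g * y * g⁻¹ ∈ Cu := mem_Cz.2 (mem_Cz.1 (hS2y' huS2)).symm
  have hCuy' : Cu ≤ Cz(g * y * g⁻¹) := by
    intro c hc
    obtain ⟨a, b, hcab, _, _, hao, k, hbk⟩ :=
      Cfsg.Agent.Lib.Helper72.exists_coprime_part_decomp s (⟨c, hc⟩ : Cu)
    have hb' : b ∈ (Su : Subgroup Cu) := hSu_all b ⟨k, hbk⟩
    have hbG : (b : G) ∈ Cz(g * y * g⁻¹) := hS2y' (hS2 ⟨b, hb', rfl⟩)
    have haG : (a : G) ∈ Cz(g * y * g⁻¹) := by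
      have := hD (a : G) a.2 (by rwa [Subgroup.orderOf_coe]) hy'Cu
      exact mem_Cz.2 (mem_Cz.1 this).symm
    have hc' : c = (a : G) * (b : G) := by
      have := congrArg Subtype.val hcab
      simpa using this
    rw [hc']
    exact Subgroup.mul_mem _ haG hbG
  have hTK : T ≤ Cz(g * y * g⁻¹) := fun v hv => mem_Cz.2 (hall _ hy'm v hv).eq
  have hrel : Cu.relIndex (Cz(g * y * g⁻¹)) = n := by
    have := Subgroup.relIndex_mul_index hCuy'
    rw [hy'm, hunm] at this
    exact Nat.eq_of_mul_eq_mul_right H.m_pos this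
  have h1 : Cu.relIndex T ∣ n := by
    rw [← hrel]
    have := relIndex_dvd_index_of_normal_right (G := Cz(g * y * g⁻¹))
      (Cu.subgroupOf (Cz(g * y * g⁻¹))) (T.subgroupOf (Cz(g * y * g⁻¹)))
    rw [Subgroup.relIndex_subgroupOf hTK] at this
    exact this
  have h2 : Cu.relIndex T ∣ (Subgroup.center G).relIndex T :=
    Subgroup.relIndex_dvd_of_le_left T (center_le_Cz u)
  have h3 : Cu.relIndex T = 1 := Nat.eq_one_of_dvd_coprimes hcop h2 h1
  have hTCu : T ≤ Cu := Subgroup.relIndex_eq_one.1 h3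
  apply huL
  exact mem_Cz.2 (mem_Cz.1 (hTCu hxT)).symm

end Cfsg.Agent.Lib.Helper04.CT4
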