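import Mathlib
import Cfsg.Agent.Lib.Helper73.CT4Basic
import Cfsg.Agent.S4035
import Cfsg.Agent.S4127
import Cfsg.Agent.Lib.Helper01.OrderAux

/-!
# S4146, keystone KB: good elements of both kinds force the conclusion
-/

set_option autoImplicit false

namespace Cfsg.Agent.Lib.Helper04.CT4

open Cfsg.Agent.Lib.Helper73 Cfsg.Agent.Lib.Helper73.CT4

/-- class sizes inside a subgroup -/
theorem index_centralizer_subtype {G : Type*} [Group G] (K : Subgroup G) (v : K) :
    (Subgroup.centralizer ({v} : Set K)).index =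
      (Subgroup.centralizer ({(v : G)} : Set G)).relIndex K := by
  have h : Subgroup.centralizer ({v} : Set K) =
      (Subgroup.centralizer ({(v : G)} : Set G)).subgroupOf K := by
    ext g
    rw [Subgroup.mem_centralizer_singleton_iff, Subgroup.mem_subgroupOf,
      Subgroup.mem_centralizer_singleton_iff]
    constructor
    · intro h
      have := congrArg Subtype.val h
      simpa using this
    · intro h
      apply Subtype.ext
      simpa using h
  rw [h]
  rfl

variable {G : Type*} [Group G] {n m : ℕ}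

local notation "Cz(" x ")" => Subgroup.centralizer ({x} : Set G)

/-- for `y0` of class size `m` and `s`-power order, the `s'`-elements of `C(y0)` have class sizes
`1` or `n` inside `C(y0)` -/
theorem relIndex_cases [Finite G] (H : Hyp G n m) {y0 : G} {s l : ℕ}
    (hy0o : orderOf y0 = s ^ l) (hy0 : (Cz(y0)).index = m) {v : G} (hv : v ∈ Cz(y0))
    (hvo : (orderOf v).Coprime s) :
    (Cz(v)).relIndex (Cz(y0)) = 1 ∨ (Cz(v)).relIndex (Cz(y0)) = n := by
  have hcomm : Commute y0 v := (show Commute v y0 from mem_Cz.1 hv).symm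
  have hcop : (orderOf y0).Coprime (orderOf v) := by
    rw [hy0o]; exact (hvo.symm.pow_left l)
  have h1 : Cz(y0 * v) = Cz(y0) ⊓ Cz(v) := Cz_mul_of_coprime hcomm hcop
  have h2 : (Cz(v)).relIndex (Cz(y0)) * (Cz(y0)).index = (Cz(y0 * v)).index := by
    rw [h1, inf_comm, ← Subgroup.inf_relIndex_right]
    exact Subgroup.relIndex_mul_index inf_le_right
  rw [hy0] at h2
  have hmpos := H.m_pos
  rcases H.idx_cases (y0 * v) with h | h | h | h
  · rw [h] at h2
    have : m = 1 := Nat.eq_one_of_mul_eq_one_left h2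
    have := H.hm
    omega
  · rw [h] at h2
    exact absurd (Dvd.intro_left _ h2) H.not_m_dvd_n
  · rw [h] at h2
    left
    have : (Cz(v)).relIndex (Cz(y0)) * m = 1 * m := by rw [h2, one_mul]
    exact Nat.eq_of_mul_eq_mul_right hmpos this
  · rw [h] at h2
    right
    exact Nat.eq_of_mul_eq_mul_right hmpos h2

/-- one half of the arithmetic conclusion -/
theorem eq_prime_pow_of_good [Finite G] (H : Hyp G n m) {x0 y0 : G} {t k s l : ℕ}
    (ht : t.Prime) (htn : t ∣ n) (hx0o : orderOf x0 = t ^ k) (hx0 : (Cz(x0)).index = n)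
    (hs : s.Prime) (hsm : s ∣ m) (hy0o : orderOf y0 = s ^ l) (hy0 : (Cz(y0)).index = m) :
    ∃ a : ℕ, n = t ^ a := by
  have hsn : ¬ s ∣ n := by
    intro h
    exact hs.one_lt.ne' (Nat.eq_one_of_dvd_coprimes H.cop h hsm)
  have hst : s ≠ t := by
    rintro rfl
    exact hsn htn
  haveI : Fact s.Prime := ⟨hs⟩
  have hcomm : Commute x0 y0 := H.good_commute ht htn hx0o hx0 hy0
  set K : Subgroup G := Cz(y0) with hK
  have hx0K : x0 ∈ K := mem_Cz.2 hcomm.eq
  have hKcls : ∀ v : K, (orderOf v).Coprime s →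
      (Subgroup.centralizer ({v} : Set K)).index = 1 ∨
        (Subgroup.centralizer ({v} : Set K)).index = n := by
    intro v hv
    rw [index_centralizer_subtype]
    refine relIndex_cases H hy0o hy0 v.2 ?_
    rwa [Subgroup.orderOf_coe]
  obtain SK : Sylow s K := default
  obtain ⟨_, HK, hHKn, hHKs, hinf, hsup⟩ := Cfsg.Agent.S4035.result (G := K) (p := s) (by
    intro x hx
    rw [Cfsg.Agent.Lib.Helper72.ncard_carrier_eq_index_centralizer]
    rcases hKcls x hx with h | h
    · rw [h]; exact fun h1 => hs.one_lt.ne' (Nat.dvd_one.1 h1)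
    · rw [h]; exact hsn) SK
  haveI := hHKn
  -- the index of `HK` is a power of `s`
  have hidx : ∃ e : ℕ, HK.index = s ^ e := by
    obtain ⟨e, he⟩ := IsPGroup.exists_card_eq SK.2
    refine ⟨e, ?_⟩
    have h1 := Cfsg.Agent.Lib.Helper01.card_sup_mul_card_inf HK (SK : Subgroup K)
    rw [hsup, inf_comm, hinf, Subgroup.card_bot, mul_one, Subgroup.card_top] at h1
    have h2 := HK.index_mul_card
    rw [h1] at h2
    have hpos : 0 < Nat.card HK := Nat.card_pos
    have h3 : HK.index = Nat.card (SK : Subgroup K) := by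
      have : HK.index * Nat.card HK = Nat.card (SK : Subgroup K) * Nat.card HK := by
        rw [h2, mul_comm]
      exact Nat.eq_of_mul_eq_mul_right hpos this
    rw [h3]
    exact he
  obtain ⟨e, he⟩ := hidx
  -- `x0 ∈ HK`
  have hx0HK : (⟨x0, hx0K⟩ : K) ∈ HK := by
    have h1 : (⟨x0, hx0K⟩ : K) ^ HK.index ∈ HK := Subgroup.pow_index_mem HK _
    have ho : orderOf (⟨x0, hx0K⟩ : K) = t ^ k := by
      rw [← hx0o, ← Subgroup.orderOf_coe]
    have hc : (HK.index).Coprime (orderOf (⟨x0, hx0K⟩ : K)) := by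
      rw [he, ho]
      exact Nat.Coprime.pow _ _ ((Nat.coprime_primes hs ht).2 hst)
    obtain ⟨j, hj⟩ := exists_pow_eq_self_of_coprime hc
    rw [← hj]
    exact Subgroup.pow_mem _ h1 j
  -- two class sizes in `HK`
  have hHKord : ∀ x : HK, (orderOf (x : K)).Coprime s := by
    intro x
    have h1 : orderOf (x : K) ∣ Nat.card HK := by
      rw [Subgroup.orderOf_coe]
      exact orderOf_dvd_natCard x
    have h2 : (Nat.card HK).Coprime s := ((Nat.Prime.coprime_iff_not_dvd hs).2 hHKs).symm
    exact Nat.Coprime.coprime_dvd_left h1 h2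
  have hcls : ∀ x : HK, (Subgroup.centralizer ({x} : Set HK)).index =
      (Subgroup.centralizer ({(x : K)} : Set K)).index := by
    intro x
    rw [index_centralizer_subtype]
    apply relIndex_eq_index_of_coprime
    rw [he]
    apply Nat.Coprime.pow_right
    rcases hKcls (x : K) (hHKord x) with h | h
    · rw [h]; exact Nat.coprime_one_left _
    · rw [h]
      exact ((Nat.Prime.coprime_iff_not_dvd hs).2 hsn).symm
  have hTwo : TwoSizes HK n := by
    intro x
    rw [hcls]
    exact hKcls (x : K) (hHKord x)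
  -- `x0` is not central in `HK`
  have hx0n : (Subgroup.centralizer ({(⟨⟨x0, hx0K⟩, hx0HK⟩ : HK)} : Set HK)).index = n := by
    rw [hcls, index_centralizer_subtype]
    show (Cz(x0)).relIndex K = n
    have hx0v : (orderOf x0).Coprime s := by
      rw [hx0o]
      exact Nat.Coprime.pow_left _ ((Nat.coprime_primes ht hs).2 (Ne.symm hst))
    rcases relIndex_cases H hy0o hy0 hx0K hx0v with h | h
    · exfalso
      rw [Subgroup.relIndex_eq_one] at h
      have := Subgroup.index_dvd_of_le h
      rw [hx0, hy0] at this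
      exact H.not_n_dvd_m this
    · exact h
  have hx0z : (⟨⟨x0, hx0K⟩, hx0HK⟩ : HK) ∉ Subgroup.center HK := by
    intro hc
    rw [← index_Cz_eq_one_iff, hx0n] at hc
    have := H.hn
    omega
  obtain ⟨p, hp, ⟨a, ha⟩, hcent, _⟩ := ito_structure hTwo hx0z
  have hpt : p = t := by
    by_contra hne
    apply hx0z
    apply hcent
    have ho : orderOf (⟨⟨x0, hx0K⟩, hx0HK⟩ : HK) = t ^ k := by
      rw [← hx0o, ← Subgroup.orderOf_coe, ← Subgroup.orderOf_coe]
    rw [ho]
    exact Nat.Coprime.pow_left _ ((Nat.coprime_primes ht hp).2 (Ne.symm hne))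
  rw [hpt] at ha
  exact ⟨a, ha⟩

/-- elements of order prime to `n * m` are central -/
theorem central_of_coprime_nm [Finite G] (H : Hyp G n m) {x : G}
    (hx : (orderOf x).Coprime (n * m)) : x ∈ Subgroup.center G := by
  by_contra hxZ
  obtain ⟨q, hq, hqd, u, _, huZ, a, ha⟩ :=
    NTS.exists_primary_not_mem (Subgroup.center G) _ x rfl hxZ
  apply huZ
  apply H.central_of_not_dvd hq ha
  intro hdvd
  exact hq.one_lt.ne' (Nat.eq_one_of_dvd_coprimes hx hqd hdvd)

/-- with normal complements for both primes, the Sylow `t`-subgroups are normal -/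
theorem sylow_normal_of_complements [Finite G] (H : Hyp G n m) {t s a b : ℕ} [ht : Fact t.Prime]
    [hs : Fact s.Prime] (hn : n = t ^ a) (hm : m = s ^ b)
    (hct : Cfsg.HasNormalPComplement t G) (hcs : Cfsg.HasNormalPComplement s G) (T : Sylow t G) :
    (T : Subgroup G).Normal := by
  have hts : t ≠ s := by
    rintro rfl
    have h1 : t ∣ n := by
      rw [hn]
      apply dvd_pow_self
      rintro rfl
      rw [pow_zero] at hn
      have := H.hn
      omega
    have h2 : t ∣ m := by
      rw [hm]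
      apply dvd_pow_self
      rintro rfl
      rw [pow_zero] at hm
      have := H.hm
      omega
    exact ht.out.one_lt.ne' (Nat.eq_one_of_dvd_coprimes H.cop h1 h2)
  obtain ⟨P, N, hNn, hNc⟩ := hct
  obtain ⟨Q, M, hMn, hMc⟩ := hcs
  haveI := hNn
  haveI := hMn
  have hMidx : M.index = Nat.card (Q : Subgroup G) := hMc.symm.index_eq_card
  have hNidx : N.index = Nat.card (P : Subgroup G) := hNc.symm.index_eq_card
  have hMcard : Nat.card M = (Q : Subgroup G).index := hMc.index_eq_card.symm
  have hNcard : Nat.card N = (P : Subgroup G).index := hNc.index_eq_card.symm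
  obtain ⟨eQ, heQ⟩ := IsPGroup.exists_card_eq Q.2
  obtain ⟨eP, heP⟩ := IsPGroup.exists_card_eq P.2
  -- `T ≤ M`
  have hTM : (T : Subgroup G) ≤ M := by
    intro x hx
    have h1 : x ^ M.index ∈ M := Subgroup.pow_index_mem M x
    obtain ⟨j, hj⟩ := T.2 ⟨x, hx⟩
    have hd : orderOf x ∣ t ^ j :=
      orderOf_dvd_of_pow_eq_one (by simpa using congrArg Subtype.val hj)
    have hc : (M.index).Coprime (orderOf x) := by
      rw [hMidx, heQ]
      apply Nat.Coprime.coprime_dvd_right hd
      exact Nat.Coprime.pow _ _ ((Nat.coprime_primes hs.out ht.out).2 (Ne.symm hts))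
    obtain ⟨i, hi⟩ := exists_pow_eq_self_of_coprime hc
    rw [← hi]
    exact Subgroup.pow_mem _ h1 i
  -- `M ⊓ N` is central
  have hA : M ⊓ N ≤ Subgroup.center G := by
    intro x hx
    apply central_of_coprime_nm H
    have h1 : orderOf x ∣ Nat.card M := by
      have := orderOf_dvd_natCard (⟨x, hx.1⟩ : M)
      rwa [Subgroup.orderOf_mk] at this
    have h2 : orderOf x ∣ Nat.card N := by
      have := orderOf_dvd_natCard (⟨x, hx.2⟩ : N)
      rwa [Subgroup.orderOf_mk] at this
    have h3 : ¬ s ∣ orderOf x := fun h => Q.not_dvd_index (hMcard ▸ (h.trans h1))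
    have h4 : ¬ t ∣ orderOf x := fun h => P.not_dvd_index (hNcard ▸ (h.trans h2))
    rw [hn, hm]
    apply Nat.Coprime.mul_right
    · exact (Nat.Coprime.pow_left _ ((Nat.Prime.coprime_iff_not_dvd ht.out).2 h4)).symm
    · exact (Nat.Coprime.pow_left _ ((Nat.Prime.coprime_iff_not_dvd hs.out).2 h3)).symm
  -- `M` is nilpotent
  have hMnil : Group.IsNilpotent M := by
    have hp : IsPGroup t (M ⧸ (M ⊓ N).subgroupOf M) := by
      intro q
      obtain ⟨g, rfl⟩ := QuotientGroup.mk_surjective q
      refine ⟨eP, ?_⟩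
      rw [← QuotientGroup.mk_pow, QuotientGroup.eq_one_iff, Subgroup.mem_subgroupOf]
      refine ⟨?_, ?_⟩
      · exact (g ^ t ^ eP).2
      · have := Subgroup.pow_index_mem N (g : G)
        rw [hNidx, heP] at this
        simpa using this
    haveI : Group.IsNilpotent (M ⧸ (M ⊓ N).subgroupOf M) := hp.isNilpotent
    apply isNilpotent_of_ker_le_center (QuotientGroup.mk' ((M ⊓ N).subgroupOf M))
    rw [QuotientGroup.ker_mk']
    intro x hx
    rw [Subgroup.mem_subgroupOf] at hx
    have hc := Subgroup.mem_center_iff.1 (hA hx)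
    rw [Subgroup.mem_center_iff]
    intro g
    apply Subtype.ext
    simpa using hc (g : G)
  exact Cfsg.Agent.Lib.Helper01.sylow_normal_of_le_nilpotent_normal T M hMnil hTM

theorem not_pow_succ_dvd_idx [Finite G] (H : Hyp G n m) {t s a b : ℕ} (ht : t.Prime) (hs : s.Prime)
    (hts : t ≠ s) (hn : n = t ^ a) (hm : m = s ^ b) (y : G) :
    ¬ t ^ (a + 1) ∣ (Cz(y)).index := by
  have h0 : ¬ t ^ (a + 1) ∣ t ^ a := by
    intro h
    have := (Nat.pow_dvd_pow_iff_le_right ht.one_lt).1 h
    omega
  have hcop : (t ^ (a + 1)).Coprime (s ^ b) :=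
    Nat.Coprime.pow _ _ ((Nat.coprime_primes ht hs).2 hts)
  rcases H.idx_cases y with h | h | h | h
  · rw [h]
    intro h1
    have := Nat.dvd_one.1 h1
    have h2 : 1 < t ^ (a + 1) := Nat.one_lt_pow (by omega) ht.one_lt
    omega
  · rw [h, hn]; exact h0
  · rw [h, hm]
    intro h1
    have h2 : t ^ (a + 1) = 1 := Nat.Coprime.eq_one_of_dvd hcop h1
    have h3 : 1 < t ^ (a + 1) := Nat.one_lt_pow (by omega) ht.one_lt
    omega
  · rw [h, hn, hm]
    intro h1
    exact h0 (hcop.dvd_of_dvd_mul_right h1)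

/-- **KB** -/
theorem concl_of_good [Finite G] (H : Hyp G n m) (hN : Good G n) (hM : Good G m) :
    Group.IsNilpotent G ∧ IsPrimePow n ∧ IsPrimePow m := by
  obtain ⟨x0, t, k, ht, htn, hx0o, hx0⟩ := hN
  obtain ⟨y0, s, l, hs, hsm, hy0o, hy0⟩ := hM
  obtain ⟨a, ha⟩ := eq_prime_pow_of_good H ht htn hx0o hx0 hs hsm hy0o hy0
  obtain ⟨b, hb⟩ := eq_prime_pow_of_good H.symm hs hsm hy0o hy0 ht htn hx0o hx0
  have ha0 : 0 < a := by
    rcases Nat.eq_zero_or_pos a with h | h
    · rw [h, pow_zero] at ha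
      have := H.hn
      omega
    · exact h
  have hb0 : 0 < b := by
    rcases Nat.eq_zero_or_pos b with h | h
    · rw [h, pow_zero] at hb
      have := H.hm
      omega
    · exact h
  have hts : t ≠ s := by
    rintro rfl
    exact ht.one_lt.ne' (Nat.eq_one_of_dvd_coprimes H.cop htn hsm)
  refine ⟨?_, ⟨t, a, ht.prime, ha0, ha.symm⟩, ⟨s, b, hs.prime, hb0, hb.symm⟩⟩
  have : Fact t.Prime := ⟨ht⟩
  have : Fact s.Prime := ⟨hs⟩
  have hct : Cfsg.HasNormalPComplement t G :=
    Cfsg.Agent.S4127.result t a (not_pow_succ_dvd_idx H ht hs hts ha hb)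
      ⟨x0, ⟨k, hx0o⟩, by rw [hx0, ha]⟩
  have hcs : Cfsg.HasNormalPComplement s G :=
    Cfsg.Agent.S4127.result s b (not_pow_succ_dvd_idx H.symm hs ht (Ne.symm hts) hb ha)
      ⟨y0, ⟨l, hy0o⟩, by rw [hy0, hb]⟩
  apply ((Group.isNilpotent_of_finite_tfae (G := G)).out 3 0).1
  intro p hp P
  by_cases hpt : p = t
  · subst hpt
    exact sylow_normal_of_complements H ha hb hct hcs P
  by_cases hps : p = s
  · subst hps
    exact sylow_normal_of_complements H.symm hb ha hcs hct P
  · have hcen : (P : Subgroup G) ≤ Subgroup.center G := by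
      intro x hx
      obtain ⟨j, hj⟩ := P.2 ⟨x, hx⟩
      have hd : orderOf x ∣ p ^ j :=
        orderOf_dvd_of_pow_eq_one (by simpa using congrArg Subtype.val hj)
      apply central_of_coprime_nm H
      apply Nat.Coprime.coprime_dvd_left hd
      rw [ha, hb]
      apply Nat.Coprime.mul_right
      · exact Nat.Coprime.pow _ _ ((Nat.coprime_primes hp.out ht).2 hpt)
      · exact Nat.Coprime.pow _ _ ((Nat.coprime_primes hp.out hs).2 hps)
    constructor
    intro x hx g
    have := Subgroup.mem_center_iff.1 (hcen hx) g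
    have e : g * x * g⁻¹ = x := by
      rw [this, mul_inv_cancel_right]
    rw [e]
    exact hx

end Cfsg.Agent.Lib.Helper04.CT4
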