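import Mathlib
import Cfsg.Agent.Lib.Helper32.Class2

set_option autoImplicit false

namespace Cfsg.Agent.Lib.Helper04

open scoped commutatorElement

/-- `k^p ≡ 1 mod p^m` with `p` odd, `m ≥ 1` forces `p ∣ k - 1` and `p^m ∣ p (k-1)`. -/
theorem dvd_sub_one_of_pow_prime (p : ℕ) (hp : p.Prime) (hodd : Odd p) (m : ℕ) (hm : m ≠ 0) (k : ℤ)
    (h : (p : ℤ) ^ m ∣ k ^ p - 1) : (p : ℤ) ∣ k - 1 ∧ (p : ℤ) ^ m ∣ p * (k - 1) := by
  have : Fact p.Prime := ⟨hp⟩
  have h1 : (p : ℤ) ∣ k ^ p - 1 := (dvd_pow_self (p : ℤ) hm).trans h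
  have h2 : (p : ℤ) ∣ k - 1 := by
    rw [← ZMod.intCast_zmod_eq_zero_iff_dvd] at h1 ⊢
    push_cast at h1 ⊢
    rwa [ZMod.pow_card] at h1
  refine ⟨h2, ?_⟩
  have hk : ¬ (p : ℤ) ∣ k := by
    intro hk
    have : (p : ℤ) ∣ 1 := by
      have := dvd_sub hk h2
      simpa using this
    have := Int.natAbs_dvd_natAbs.mpr this
    simp at this
    exact hp.one_lt.ne' this
  have hlte := Int.emultiplicity_pow_sub_pow hp hodd (x := k) (y := 1) (by simpa using h2) hk p
  rw [one_pow] at hlte
  have hpp : emultiplicity p p = 1 := by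
    have := emultiplicity_pow_self_of_prime (Nat.prime_iff.mp hp) 1
    simpa using this
  rw [hpp] at hlte
  have hprime : Prime (p : ℤ) := Nat.prime_iff_prime_int.mp hp
  rw [pow_dvd_iff_le_emultiplicity] at h ⊢
  rw [emultiplicity_mul hprime]
  have hpp' : emultiplicity (p : ℤ) (p : ℤ) = 1 := by
    have := emultiplicity_pow_self_of_prime hprime 1
    simpa using this
  rw [hpp', add_comm, ← hlte]
  exact h


section gen
variable {G : Type*} [Group G]

/-- if a generating set commutes pairwise modulo a normal subgroup `N` then `G' ≤ N` -/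
theorem commutator_le_of_closure_eq_top (S : Set G) (hS : Subgroup.closure S = ⊤)
    (N : Subgroup G) [N.Normal] (h : ∀ s ∈ S, ∀ t ∈ S, ⁅s, t⁆ ∈ N) : commutator G ≤ N := by
  apply Subgroup.Normal.quotient_commutative_iff_commutator_le.mp
  have htop : Subgroup.closure ((QuotientGroup.mk' N) '' S) = ⊤ := by
    rw [← MonoidHom.map_closure, hS, ← MonoidHom.range_eq_map, MonoidHom.range_eq_top]
    exact QuotientGroup.mk'_surjective N
  have hcomm : ∀ a ∈ (QuotientGroup.mk' N) '' S, ∀ b ∈ (QuotientGroup.mk' N) '' S, a * b = b * a := by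
    rintro _ ⟨s, hs, rfl⟩ _ ⟨t, ht, rfl⟩
    rw [← commutatorElement_eq_one_iff_mul_comm, ← map_commutatorElement, QuotientGroup.mk'_apply,
      QuotientGroup.eq_one_iff]
    exact h s hs t ht
  have hcen : ∀ a ∈ (QuotientGroup.mk' N) '' S, a ∈ Subgroup.center (G ⧸ N) := by
    intro a ha
    rw [Subgroup.mem_center_iff]
    intro b
    have hb : b ∈ Subgroup.closure ((QuotientGroup.mk' N) '' S) := by rw [htop]; trivial
    have hle : Subgroup.closure ((QuotientGroup.mk' N) '' S) ≤ Subgroup.centralizer {a} := by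
      rw [Subgroup.closure_le]
      intro t ht
      rw [SetLike.mem_coe, Subgroup.mem_centralizer_iff]
      intro a' ha'
      rw [Set.mem_singleton_iff] at ha'
      subst ha'
      exact hcomm _ ha _ ht
    have := hle hb
    rw [Subgroup.mem_centralizer_iff] at this
    exact (this a rfl).symm
  have hcen' : Subgroup.center (G ⧸ N) = ⊤ := by
    rw [eq_top_iff, ← htop, Subgroup.closure_le]
    exact hcen
  refine ⟨⟨fun a b => ?_⟩⟩
  have : a ∈ Subgroup.center (G ⧸ N) := by rw [hcen']; trivial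
  exact (Subgroup.mem_center_iff.mp this b).symm

/-- a subgroup properly containing a subgroup of prime index is everything -/
theorem eq_top_of_lt_of_index_prime (C H : Subgroup G) (q : ℕ) (hq : q.Prime) (hC : C.index = q)
    (hlt : C < H) : H = ⊤ := by
  have h1 := Subgroup.relIndex_mul_index hlt.le
  rw [hC] at h1
  have h2 : C.relIndex H ≠ 1 := by
    rw [Ne, Subgroup.relIndex_eq_one]
    exact not_le_of_gt hlt
  have h3 : C.relIndex H ∣ q := ⟨_, h1.symm⟩
  rcases (Nat.dvd_prime hq).mp h3 with h | h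
  · exact absurd h h2
  · rw [h] at h1
    have : H.index = 1 := by
      have hq0 := hq.pos
      nlinarith
    exact Subgroup.index_eq_one.mp this

end gen

section main
variable {R : Type*} [Group R] {p : ℕ} [Fact p.Prime]

theorem cyclic_index_p_structure (hp : p ≠ 2) (hR : IsPGroup p R)
    (C : Subgroup R) [C.Normal] (c : R) (hc : C = Subgroup.zpowers c) (hCi : C.index = p)
    (hc1 : c ≠ 1) :
    ∃ z : R, z ∈ Subgroup.center R ∧ z ^ p = 1 ∧ commutator R ≤ Subgroup.zpowers z := by
  have hpp : p.Prime := Fact.out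
  have hodd : Odd p := hpp.odd_of_ne_two hp
  have hcC : c ∈ C := by rw [hc]; exact Subgroup.mem_zpowers c
  -- pick g outside C
  have hCtop : C ≠ ⊤ := by
    intro h
    rw [h, Subgroup.index_top] at hCi
    exact hpp.one_lt.ne hCi
  obtain ⟨g, hgC⟩ : ∃ g, g ∉ C := by
    by_contra hcon
    push Not at hcon
    exact hCtop (eq_top_iff.mpr fun x _ => hcon x)
  -- closure {c, g} = ⊤
  have hgen : Subgroup.closure ({c, g} : Set R) = ⊤ := by
    apply eq_top_of_lt_of_index_prime C _ p hpp hCi
    refine lt_of_le_of_ne ?_ ?_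
    · rw [hc, Subgroup.zpowers_le]
      exact Subgroup.subset_closure (by simp)
    · intro h
      apply hgC
      rw [h]
      exact Subgroup.subset_closure (by simp)
  -- conjugation exponent
  have hconjC : g * c * g⁻¹ ∈ C := Subgroup.Normal.conj_mem inferInstance c hcC g
  rw [hc] at hconjC
  obtain ⟨k, hk⟩ := Subgroup.mem_zpowers_iff.mp hconjC
  -- order of c
  obtain ⟨m, hm⟩ := (IsPGroup.iff_orderOf.mp hR) c
  have hm0 : m ≠ 0 := by
    rintro rfl
    rw [pow_zero, orderOf_eq_one_iff] at hm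
    exact hc1 hm
  have hiter : ∀ n : ℕ, g ^ n * c * (g ^ n)⁻¹ = c ^ (k ^ n) := by
    intro n
    induction n with
    | zero => simp
    | succ n ih =>
      calc g ^ (n + 1) * c * (g ^ (n + 1))⁻¹ = g * (g ^ n * c * (g ^ n)⁻¹) * g⁻¹ := by
            rw [pow_succ']; group
        _ = g * c ^ (k ^ n) * g⁻¹ := by rw [ih]
        _ = (g * c * g⁻¹) ^ (k ^ n) := by rw [conj_zpow]
        _ = c ^ (k ^ (n + 1)) := by rw [← hk, ← zpow_mul, pow_succ']
  have hgp : g ^ p ∈ C := by
    have := Subgroup.pow_index_mem C g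
    rwa [hCi] at this
  rw [hc] at hgp
  obtain ⟨i, hi⟩ := Subgroup.mem_zpowers_iff.mp hgp
  have hkp : c ^ (k ^ p - 1) = 1 := by
    have h1 := hiter p
    rw [← hi] at h1
    have h2 : c ^ i * c * (c ^ i)⁻¹ = c := by
      rw [← zpow_add_one, ← zpow_neg, ← zpow_add]; simp
    rw [h2] at h1
    rw [zpow_sub, zpow_one, ← h1, mul_inv_cancel]
  have hdvd : ((p : ℤ)) ^ m ∣ k ^ p - 1 := by
    have := orderOf_dvd_iff_zpow_eq_one.mpr hkp
    rw [hm] at this
    exact_mod_cast this
  obtain ⟨hk1, hk2⟩ := dvd_sub_one_of_pow_prime p hpp hodd m hm0 k hdvd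
  set z := c ^ (k - 1) with hz
  have hzp : z ^ p = 1 := by
    rw [hz, ← zpow_natCast, ← zpow_mul, mul_comm]
    apply orderOf_dvd_iff_zpow_eq_one.mp
    rw [hm]
    exact_mod_cast hk2
  have hzcomm : ⁅g, c⁆ = z := by
    rw [commutatorElement_def, ← hk, hz, zpow_sub, zpow_one]
  have hzc : Commute z c := by
    rw [hz]; exact (Commute.refl c).zpow_left _
  have hzg : Commute z g := by
    have h1 : g * z * g⁻¹ = z := by
      rw [hz, ← conj_zpow, ← hk, ← zpow_mul, mul_comm, zpow_mul, ← hz]
      obtain ⟨t, ht⟩ := hk1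
      have : k = p * t + 1 := by linarith
      rw [this, zpow_add_one, zpow_mul, zpow_natCast, hzp, one_zpow, one_mul]
    have : g * z = z * g := by
      calc g * z = (g * z * g⁻¹) * g := by group
        _ = z * g := by rw [h1]
    exact this.symm
  have hzcen : z ∈ Subgroup.center R := by
    have hle : Subgroup.closure ({c, g} : Set R) ≤ Subgroup.centralizer {z} := by
      rw [Subgroup.closure_le]
      intro t ht
      rw [SetLike.mem_coe, Subgroup.mem_centralizer_iff]
      intro a ha
      rw [Set.mem_singleton_iff] at ha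
      subst ha
      rcases ht with rfl | rfl
      · exact hzc.eq
      · exact hzg.eq
    rw [hgen] at hle
    rw [Subgroup.mem_center_iff]
    intro b
    have := hle (Subgroup.mem_top b)
    rw [Subgroup.mem_centralizer_iff] at this
    exact (this z rfl).symm
  refine ⟨z, hzcen, hzp, ?_⟩
  have : (Subgroup.zpowers z).Normal := by
    constructor
    intro n hn x
    obtain ⟨j, rfl⟩ := Subgroup.mem_zpowers_iff.mp hn
    have : x * z ^ j * x⁻¹ = z ^ j := by
      have h1 : z ^ j ∈ Subgroup.center R := Subgroup.zpow_mem _ hzcen j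
      rw [Subgroup.mem_center_iff] at h1
      rw [h1 x]; group
    rw [this]
    exact Subgroup.zpow_mem_zpowers z j
  apply commutator_le_of_closure_eq_top {c, g} hgen
  intro s hs t ht
  rcases hs with rfl | rfl <;> rcases ht with rfl | rfl
  · rw [commutatorElement_self]; exact Subgroup.one_mem _
  · rw [← commutatorElement_inv, hzcomm]
    exact Subgroup.inv_mem _ (Subgroup.mem_zpowers z)
  · rw [hzcomm]; exact Subgroup.mem_zpowers z
  · rw [commutatorElement_self]; exact Subgroup.one_mem _

theorem omega_one_of_cyclic_index_p [Finite R] (hp : p ≠ 2) (hR : IsPGroup p R) (hnc : ¬ IsCyclic R)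
    (C : Subgroup R) (hC : IsCyclic C) (hCi : C.index = p) :
    IsMulCommutative (Subgroup.closure {x : R | x ^ p = 1}) ∧
    (∀ a ∈ Subgroup.closure {x : R | x ^ p = 1}, a ^ p = 1) ∧
    Nat.card (Subgroup.closure {x : R | x ^ p = 1}) = p ^ 2 := by
  have hpp : p.Prime := Fact.out
  have hodd : Odd p := hpp.odd_of_ne_two hp
  -- C is normal
  have hCn : C.Normal := by
    apply Subgroup.normal_of_index_eq_minFac_card
    obtain ⟨n, hn⟩ := IsPGroup.exists_card_eq hR
    have hn0 : n ≠ 0 := by
      rintro rfl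
      rw [pow_zero] at hn
      have : C.index ∣ 1 := hn ▸ Subgroup.index_dvd_card C
      rw [hCi] at this
      exact hpp.one_lt.ne' (Nat.dvd_one.mp this)
    rw [hn, hpp.pow_minFac hn0, hCi]
  -- generator
  obtain ⟨⟨c, hcC⟩, hgenC⟩ := hC.exists_generator
  have hc : C = Subgroup.zpowers c := by
    ext x
    constructor
    · intro hx
      obtain ⟨i, hi⟩ := Subgroup.mem_zpowers_iff.mp (hgenC ⟨x, hx⟩)
      have := congrArg Subtype.val hi
      simp only [Subgroup.coe_zpow] at this
      exact Subgroup.mem_zpowers_iff.mpr ⟨i, this⟩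
    · intro hx
      obtain ⟨i, rfl⟩ := Subgroup.mem_zpowers_iff.mp hx
      exact C.zpow_mem hcC i
  have hc1 : c ≠ 1 := by
    rintro rfl
    apply hnc
    have hCbot : C = ⊥ := by rw [hc]; simp
    have : Nat.card R = p := by
      rw [← Subgroup.card_mul_index C, hCi, hCbot]; simp
    exact isCyclic_of_prime_card this
  obtain ⟨z, hzcen, hzp, hcomm⟩ := cyclic_index_p_structure hp hR C c hc hCi hc1
  -- p-th power is multiplicative
  have hF1 : ∀ x y : R, (x * y) ^ p = x ^ p * y ^ p := by
    intro x y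
    have hmem : ⁅y, x⁆ ∈ Subgroup.zpowers z := hcomm (Subgroup.commutator_mem_commutator
      (Subgroup.mem_top y) (Subgroup.mem_top x))
    obtain ⟨t, ht⟩ := Subgroup.mem_zpowers_iff.mp hmem
    have hcen : ⁅y, x⁆ ∈ Subgroup.center R := by rw [← ht]; exact Subgroup.zpow_mem _ hzcen t
    rw [Subgroup.mem_center_iff] at hcen
    apply Helper32.mul_pow_prime_of_central x y p hodd
    · exact (hcen x).symm
    · exact (hcen y).symm
    · rw [← ht, ← zpow_natCast, ← zpow_mul, mul_comm, zpow_mul, zpow_natCast, hzp, one_zpow]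
  let φ : R →* R := MonoidHom.mk' (fun x => x ^ p) hF1
  set K := φ.ker with hK
  have hKmem : ∀ x, x ∈ K ↔ x ^ p = 1 := fun x => MonoidHom.mem_ker
  have hclo : Subgroup.closure {x : R | x ^ p = 1} = K := by
    have : {x : R | x ^ p = 1} = (K : Set R) := by
      ext x; exact (hKmem x).symm
    rw [this, Subgroup.closure_eq]
  rw [hclo]
  -- order of c
  obtain ⟨m, hm⟩ := (IsPGroup.iff_orderOf.mp hR) c
  have hm0 : m ≠ 0 := by
    rintro rfl
    rw [pow_zero, orderOf_eq_one_iff] at hm
    exact hc1 hm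
  have hcpm : c ^ p ^ m = 1 := by rw [← hm]; exact pow_orderOf_eq_one c
  -- an element of K outside C
  have hF3 : ∃ x ∈ K, x ∉ C := by
    have hCtop : C ≠ ⊤ := by
      intro h
      rw [h, Subgroup.index_top] at hCi
      exact hpp.one_lt.ne hCi
    obtain ⟨g, hgC⟩ : ∃ g, g ∉ C := by
      by_contra hcon
      push Not at hcon
      exact hCtop (eq_top_iff.mpr fun x _ => hcon x)
    have hgp : g ^ p ∈ C := by
      have := Subgroup.pow_index_mem C g
      rwa [hCi] at this
    rw [hc] at hgp
    obtain ⟨i, hi⟩ := Subgroup.mem_zpowers_iff.mp hgp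
    by_cases hpi : (p : ℤ) ∣ i
    · obtain ⟨l, rfl⟩ := hpi
      refine ⟨g * (c ^ l)⁻¹, ?_, ?_⟩
      · rw [hKmem, hF1, ← hi, inv_pow, ← zpow_natCast (c ^ l), ← zpow_mul, mul_comm l,
          mul_inv_cancel]
      · intro h
        apply hgC
        have : g = g * (c ^ l)⁻¹ * c ^ l := by group
        rw [this]
        exact C.mul_mem h (C.zpow_mem hcC l)
    · exfalso
      apply hnc
      have hprime : Prime (p : ℤ) := Nat.prime_iff_prime_int.mp hpp
      have hcop : IsCoprime ((p : ℤ) ^ m) i :=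
        ((Prime.coprime_iff_not_dvd hprime).mpr hpi).pow_left
      obtain ⟨s, t, hst⟩ := hcop
      have hcg : c ∈ Subgroup.zpowers g := by
        have : c = (g ^ p) ^ t := by
          rw [← hi, ← zpow_mul]
          have h1 : c ^ (s * (p : ℤ) ^ m + t * i) = c := by rw [hst, zpow_one]
          rw [zpow_add, mul_comm s, zpow_mul] at h1
          have h2 : c ^ ((p : ℤ) ^ m) = 1 := by
            have : ((p : ℤ) ^ m) = ((p ^ m : ℕ) : ℤ) := by push_cast; rfl
            rw [this, zpow_natCast, hcpm]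
          rw [h2, one_zpow, one_mul, mul_comm t] at h1
          exact h1.symm
        rw [this]
        exact Subgroup.zpow_mem _ (Subgroup.pow_mem _ (Subgroup.mem_zpowers g) p) t
      have hlt : C < Subgroup.zpowers g := by
        refine lt_of_le_of_ne ?_ ?_
        · rw [hc, Subgroup.zpowers_le]; exact hcg
        · intro h
          apply hgC
          rw [h]; exact Subgroup.mem_zpowers g
      have htop := eq_top_of_lt_of_index_prime C _ p hpp hCi hlt
      exact isCyclic_iff_exists_zpowers_eq_top.mpr ⟨g, htop⟩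
  -- relIndex
  have hrel : C.relIndex K = p := by
    have h1 : C.relIndex K ∣ p := hCi ▸ Subgroup.relIndex_dvd_index_of_normal C K
    rcases (Nat.dvd_prime hpp).mp h1 with h | h
    · exfalso
      rw [Subgroup.relIndex_eq_one] at h
      obtain ⟨x, hxK, hxC⟩ := hF3
      exact hxC (h hxK)
    · exact h
  -- C ⊓ K has order p
  have hinf : Nat.card (C ⊓ K : Subgroup R) = p := by
    have hcyc : IsCyclic (C ⊓ K : Subgroup R) :=
      isCyclic_of_injective (Subgroup.inclusion (inf_le_left : C ⊓ K ≤ C))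
        (Subgroup.inclusion_injective _)
    obtain ⟨d, hd⟩ := hcyc.exists_generator
    have hcard : orderOf d = Nat.card (C ⊓ K : Subgroup R) :=
      orderOf_eq_card_of_forall_mem_zpowers hd
    have hdp : d ^ p = 1 := by
      apply Subtype.ext
      rw [Subgroup.coe_pow, Subgroup.coe_one]
      exact (hKmem _).mp d.2.2
    have h1 : orderOf d ∣ p := orderOf_dvd_of_pow_eq_one hdp
    rcases (Nat.dvd_prime hpp).mp h1 with h | h
    · exfalso
      rw [hcard] at h
      -- nontrivial element
      obtain ⟨m', rfl⟩ : ∃ m', m = m' + 1 := ⟨m - 1, by omega⟩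
      have hd0 : c ^ p ^ m' ∈ C ⊓ K := by
        refine ⟨C.pow_mem hcC _, ?_⟩
        show c ^ p ^ m' ∈ K
        rw [hKmem, ← pow_mul, ← pow_succ, hcpm]
      have hne : c ^ p ^ m' ≠ 1 := by
        apply pow_ne_one_of_lt_orderOf (pow_pos hpp.pos m').ne'
        rw [hm]
        exact Nat.pow_lt_pow_right hpp.one_lt (Nat.lt_succ_self m')
      have hsub : Subsingleton (C ⊓ K : Subgroup R) := (Nat.card_eq_one_iff_unique.mp h).1
      have := congrArg Subtype.val (hsub.elim ⟨_, hd0⟩ 1)
      exact hne this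
    · rw [← hcard, h]
  have hcardK : Nat.card K = p ^ 2 := by
    have h1 := Subgroup.relIndex_mul_relIndex ⊥ (C ⊓ K) K (bot_le : (⊥ : Subgroup R) ≤ C ⊓ K)
      (inf_le_right : C ⊓ K ≤ K)
    rw [Subgroup.relIndex_bot_left, Subgroup.relIndex_bot_left, Subgroup.inf_relIndex_right,
      hrel, hinf] at h1
    rw [← h1, sq]
  refine ⟨?_, fun a ha => (hKmem a).mp ha, hcardK⟩
  exact IsPGroup.isMulCommutative_of_card_eq_prime_sq hcardK

end main

end Cfsg.Agent.Lib.Helper04
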