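import Mathlib

set_option autoImplicit false

namespace Cfsg.Agent.Lib.Helper04

open scoped commutatorElement

section

variable {G : Type*} [Group G] [Finite G] {p : ℕ} [Fact p.Prime]

/-- every `p`-element lies in a normal subgroup containing a Sylow `p`-subgroup -/
theorem mem_of_pow_prime_pow_eq_one (P : Sylow p G) (M : Subgroup G) [M.Normal]
    (hPM : (P : Subgroup G) ≤ M) (x : G) (k : ℕ) (hx : x ^ p ^ k = 1) : x ∈ M := by
  have hpg : IsPGroup p (Subgroup.zpowers x) := by
    rw [IsPGroup.iff_orderOf]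
    intro y
    obtain ⟨j, hj⟩ := (Nat.dvd_prime_pow (Fact.out : p.Prime)).mp
      ((orderOf_dvd_of_pow_eq_one (by
        obtain ⟨n, hn⟩ := y.2
        apply Subtype.ext
        simp only [SubgroupClass.coe_pow, Subgroup.coe_one]
        rw [← hn, ← zpow_natCast, ← zpow_mul, mul_comm, zpow_mul, zpow_natCast, hx, one_zpow]) :
        orderOf y ∣ p ^ k))
    exact ⟨j, hj.2⟩
  obtain ⟨Q, hQ⟩ := hpg.exists_le_sylow
  obtain ⟨c, hc⟩ := MulAction.exists_smul_eq G P Q
  have hxQ : x ∈ (Q : Subgroup G) := hQ (Subgroup.mem_zpowers x)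
  rw [← hc, Sylow.coe_subgroup_smul, Subgroup.mem_pointwise_smul_iff_inv_smul_mem] at hxQ
  have h1 : c⁻¹ * x * c ∈ M := by
    have := hPM hxQ
    simpa [MulAut.smul_def, MulAut.conj_apply] using this
  have h2 : x = c * (c⁻¹ * x * c) * c⁻¹ := by group
  rw [h2]
  exact Subgroup.Normal.conj_mem inferInstance _ h1 c


theorem focal_iff (P : Sylow p G) :
    (∃ N : Subgroup G, N.Normal ∧ N ⊓ (P : Subgroup G) = ⁅(P : Subgroup G), (P : Subgroup G)⁆ ∧
      N ⊔ (P : Subgroup G) = ⊤) ↔
    commutator G ⊓ (P : Subgroup G) = ⁅(P : Subgroup G), (P : Subgroup G)⁆ := by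
  have hPP : ⁅(P : Subgroup G), (P : Subgroup G)⁆ ≤ commutator G ⊓ (P : Subgroup G) := by
    apply le_inf
    · exact Subgroup.commutator_mono le_top le_top
    · rw [Subgroup.commutator_le]
      intro g₁ h₁ g₂ h₂
      rw [commutatorElement_def]
      exact Subgroup.mul_mem _ (Subgroup.mul_mem _ (Subgroup.mul_mem _ h₁ h₂)
        (Subgroup.inv_mem _ h₁)) (Subgroup.inv_mem _ h₂)
  constructor
  · rintro ⟨N, hN, hNP, hsup⟩
    apply le_antisymm _ hPP
    have hcomm : commutator G ≤ N := by
      rw [commutator_def, Subgroup.commutator_le]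
      intro g₁ _ g₂ _
      have hg₁ : g₁ ∈ ((N ⊔ (P : Subgroup G) : Subgroup G) : Set G) := by rw [hsup]; trivial
      have hg₂ : g₂ ∈ ((N ⊔ (P : Subgroup G) : Subgroup G) : Set G) := by rw [hsup]; trivial
      rw [Subgroup.normal_mul] at hg₁ hg₂
      obtain ⟨n₁, hn₁, u₁, hu₁, rfl⟩ := hg₁
      obtain ⟨n₂, hn₂, u₂, hu₂, rfl⟩ := hg₂
      rw [← QuotientGroup.eq_one_iff, commutatorElement_def]
      simp only [QuotientGroup.mk_mul, QuotientGroup.mk_inv]
      rw [(QuotientGroup.eq_one_iff n₁).mpr hn₁, (QuotientGroup.eq_one_iff n₂).mpr hn₂]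
      simp only [one_mul]
      have : ⁅u₁, u₂⁆ ∈ N := by
        have h1 : ⁅u₁, u₂⁆ ∈ ⁅(P : Subgroup G), (P : Subgroup G)⁆ :=
          Subgroup.commutator_mem_commutator hu₁ hu₂
        rw [← hNP] at h1
        exact h1.1
      rw [← QuotientGroup.eq_one_iff, commutatorElement_def] at this
      simpa using this
    rw [← hNP]
    exact inf_le_inf_right _ hcomm
  · intro hfocal
    -- the index of P
    set m := (P : Subgroup G).index with hm
    obtain ⟨k, hk⟩ : ∃ k, Nat.card (P : Subgroup G) = p ^ k := by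
      exact (IsPGroup.iff_card.mp P.2)
    have hcop : Nat.Coprime m (p ^ k) := by
      apply Nat.Coprime.pow_right
      exact ((Nat.Prime.coprime_iff_not_dvd Fact.out).mpr P.not_dvd_index).symm
    have hcard : p ^ k * m = Nat.card G := by
      rw [← hk, hm]; exact Subgroup.card_mul_index _
    -- Bezout
    have hbez : ∃ s t : ℤ, s * m + t * (p ^ k : ℕ) = 1 := by
      have := Nat.isCoprime_iff_coprime.mpr hcop
      obtain ⟨a, b, hab⟩ := this
      exact ⟨a, b, by exact_mod_cast hab⟩
    obtain ⟨s, t, hst⟩ := hbez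
    let N : Subgroup G := Subgroup.comap (Abelianization.of : G →* Abelianization G)
      (MonoidHom.ker (powMonoidHom m : Abelianization G →* Abelianization G))
    have hmemN : ∀ g : G, g ∈ N ↔ g ^ m ∈ commutator G := by
      intro g
      simp only [N, Subgroup.mem_comap, MonoidHom.mem_ker, powMonoidHom_apply]
      rw [← map_pow, ← MonoidHom.mem_ker, Abelianization.ker_of]
    have hNn : N.Normal := Subgroup.Normal.comap inferInstance _
    have hcommN : commutator G ≤ N := by
      intro g hg
      rw [hmemN]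
      exact Subgroup.pow_mem _ hg m
    refine ⟨N, hNn, ?_, ?_⟩
    · apply le_antisymm
      · rintro x ⟨hxN, hxP⟩
        rw [← hfocal]
        refine ⟨?_, hxP⟩
        have hxm := (hmemN x).mp hxN
        have hxpk : x ^ p ^ k = 1 := by
          have := pow_card_eq_one' (G := (P : Subgroup G)) (x := ⟨x, hxP⟩)
          rw [hk] at this
          exact congrArg Subtype.val this
        have hx : x = (x ^ m) ^ s * (x ^ (p ^ k)) ^ t := by
          rw [← zpow_natCast x m, ← zpow_mul, ← zpow_natCast x (p ^ k), ← zpow_mul, ← zpow_add]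
          have : (m : ℤ) * s + ((p ^ k : ℕ) : ℤ) * t = 1 := by linarith
          rw [this, zpow_one]
        rw [hx, hxpk, one_zpow, mul_one]
        exact Subgroup.zpow_mem _ hxm s
      · exact hPP.trans (inf_le_inf_right _ hcommN)
    · rw [eq_top_iff]
      intro g _
      have hMn : (N ⊔ (P : Subgroup G)).Normal := by
        constructor
        intro x hx c
        have : c * x * c⁻¹ = ⁅c, x⁆ * x := by rw [commutatorElement_def]; group
        rw [this]
        apply Subgroup.mul_mem _ _ hx
        apply Subgroup.mem_sup_left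
        apply hcommN
        exact Subgroup.commutator_mem_commutator (Subgroup.mem_top c) (Subgroup.mem_top x)
      have hg : g = (g ^ (p ^ k)) ^ t * (g ^ m) ^ s := by
        rw [← zpow_natCast g m, ← zpow_mul, ← zpow_natCast g (p ^ k), ← zpow_mul, ← zpow_add]
        have : ((p ^ k : ℕ) : ℤ) * t + (m : ℤ) * s = 1 := by linarith
        rw [this, zpow_one]
      rw [hg]
      apply Subgroup.mul_mem
      · apply Subgroup.mem_sup_left
        rw [hmemN, ← zpow_natCast g (p ^ k), ← zpow_mul, ← zpow_natCast _ m, ← zpow_mul]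
        have : ((p ^ k : ℕ) : ℤ) * t * (m : ℤ) = (Nat.card G : ℤ) * t := by
          rw [← hcard]; push_cast; ring
        rw [this, zpow_mul, zpow_natCast, pow_card_eq_one', one_zpow]
        exact Subgroup.one_mem _
      · apply Subgroup.zpow_mem
        apply mem_of_pow_prime_pow_eq_one P (N ⊔ (P : Subgroup G)) le_sup_right (g ^ m) k
        rw [← pow_mul, mul_comm, hcard, pow_card_eq_one']

end

end Cfsg.Agent.Lib.Helper04
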