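import Mathlib
import Cfsg.Agent.Lib.Helper04.GlaubSolv
import Cfsg.Agent.Lib.Helper04.Basis
import Cfsg.Agent.Lib.Helper80.GlaubermanAction

set_option autoImplicit false

namespace Cfsg.Agent.Lib.Helper04

open scoped ComplexConjugate Pointwise
open Cfsg

universe u

section GlaubClass

variable {Γ : Type u} [Group Γ] [Finite Γ]

/-- Glauberman's lemma for elements: fixed points that are conjugate under `G` are conjugate under
the fixed point subgroup. -/
theorem exists_centralizer_conj_elt {G S : Subgroup Γ}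
    (hSG : S ≤ Subgroup.normalizer (G : Set Γ)) (hcop : (Nat.card G).Coprime (Nat.card S))
    (hsolv : Group.IsSolvable S) {c c' γ : Γ}
    (hc : c ∈ G ⊓ Subgroup.centralizer (S : Set Γ))
    (hc' : c' ∈ G ⊓ Subgroup.centralizer (S : Set Γ)) (hγ : γ ∈ G) (h : γ * c * γ⁻¹ = c') :
    ∃ δ ∈ G ⊓ Subgroup.centralizer (S : Set Γ), δ * c * δ⁻¹ = c' := by
  set A : Subgroup Γ := S with hA
  set N : Subgroup Γ := G ⊓ Subgroup.centralizer ({c} : Set Γ) with hN
  have hAc : ∀ a ∈ A, a * c = c * a := fun a ha =>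
    (Subgroup.mem_centralizer_iff.mp (Subgroup.mem_inf.mp hc).2) a ha
  have hAc' : ∀ a ∈ A, a * c' = c' * a := fun a ha =>
    (Subgroup.mem_centralizer_iff.mp (Subgroup.mem_inf.mp hc').2) a ha
  have hconjG : ∀ a ∈ A, ∀ n ∈ G, a * n * a⁻¹ ∈ G := fun a ha n hn =>
    (Subgroup.mem_normalizer_iff.mp (hSG ha) n).mp hn
  have hconjG' : ∀ a ∈ A, ∀ n, a * n * a⁻¹ ∈ G → n ∈ G := fun a ha n hn =>
    (Subgroup.mem_normalizer_iff.mp (hSG ha) n).mpr hn
  have hAN : A ≤ Subgroup.normalizer (N : Set Γ) := by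
    intro a ha
    rw [Subgroup.mem_normalizer_iff]
    intro n
    rw [hN, Subgroup.mem_inf, Subgroup.mem_inf, Subgroup.mem_centralizer_singleton_iff,
      Subgroup.mem_centralizer_singleton_iff]
    have hac : Commute a c := hAc a ha
    constructor
    · rintro ⟨h1, h2⟩
      exact ⟨hconjG a ha n h1,
        ((hac.mul_left (show Commute n c from h2)).mul_left hac.inv_left).eq⟩
    · rintro ⟨h1, h2⟩
      have h3 : Commute (a⁻¹ * (a * n * a⁻¹) * a) c :=
        (hac.inv_left.mul_left (show Commute (a * n * a⁻¹) c from h2)).mul_left hac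
      have h4 : a⁻¹ * (a * n * a⁻¹) * a = n := by group
      rw [h4] at h3
      exact ⟨hconjG' a ha n h1, h3.eq⟩
  have hNG : N ≤ G := inf_le_left
  have hcopN : (Nat.card N).Coprime (Nat.card A) :=
    Nat.Coprime.coprime_dvd_left (Subgroup.card_dvd_of_le hNG) hcop
  have hk : ∀ a ∈ A, γ⁻¹ * a * γ * a⁻¹ ∈ N := by
    intro a ha
    rw [hN, Subgroup.mem_inf, Subgroup.mem_centralizer_singleton_iff]
    refine ⟨?_, ?_⟩
    · have : γ⁻¹ * a * γ * a⁻¹ = γ⁻¹ * (a * γ * a⁻¹) := by group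
      rw [this]
      exact G.mul_mem (G.inv_mem hγ) (hconjG a ha γ hγ)
    · have hac : Commute a c := hAc a ha
      have hac' := hAc' a ha
      have hc'eq : c' = γ * c * γ⁻¹ := h.symm
      have h1 : γ⁻¹ * c' * γ = c := by rw [hc'eq]; group
      have h2 : Commute (γ⁻¹ * a * γ) c := by
        rw [← h1]
        show (γ⁻¹ * a * γ) * (γ⁻¹ * c' * γ) = (γ⁻¹ * c' * γ) * (γ⁻¹ * a * γ)
        calc (γ⁻¹ * a * γ) * (γ⁻¹ * c' * γ) = γ⁻¹ * (a * c') * γ := by group
          _ = γ⁻¹ * (c' * a) * γ := by rw [hac']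
          _ = (γ⁻¹ * c' * γ) * (γ⁻¹ * a * γ) := by group
      exact (h2.mul_left hac.inv_left).eq
  obtain ⟨n, hn, hnA⟩ := Cfsg.Agent.Lib.Helper01.exists_mul_inv_normalizes hAN hcopN
    (Or.inr hsolv) γ hk
  have hnG : n * γ⁻¹ ∈ G := G.mul_mem (hNG hn) (G.inv_mem hγ)
  have hdisj : G ⊓ A = ⊥ := (Subgroup.disjoint_of_coprime_natCard hcop).eq_bot
  have hcent := Cfsg.Agent.Lib.Helper01.mem_centralizer_of_conj_smul_eq hSG hdisj hnG hnA
  have hnc : n * c = c * n := by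
    have := (Subgroup.mem_inf.mp hn).2
    rw [Subgroup.mem_centralizer_singleton_iff] at this
    exact this
  refine ⟨(n * γ⁻¹)⁻¹, ?_, ?_⟩
  · apply Subgroup.inv_mem
    exact Subgroup.mem_inf.mpr ⟨hnG, hcent⟩
  · have hn' : n⁻¹ * c * n = c := by
      calc n⁻¹ * c * n = n⁻¹ * (c * n) := by group
        _ = n⁻¹ * (n * c) := by rw [hnc]
        _ = c := by group
    calc (n * γ⁻¹)⁻¹ * c * (n * γ⁻¹)⁻¹⁻¹ = γ * (n⁻¹ * c * n) * γ⁻¹ := by group
      _ = γ * c * γ⁻¹ := by rw [hn']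
      _ = c' := h

/-- Glauberman's lemma for elements, existence: an invariant class of `G` meets the fixed point
subgroup. -/
theorem exists_conj_mem_centralizer {G S : Subgroup Γ}
    (hSG : S ≤ Subgroup.normalizer (G : Set Γ)) (hcop : (Nat.card G).Coprime (Nat.card S))
    (hsolv : Group.IsSolvable S) (g : Γ)
    (horb : ∀ a ∈ S, ∃ k ∈ G, k * g * k⁻¹ = a * g * a⁻¹) :
    ∃ k ∈ G, k * g * k⁻¹ ∈ Subgroup.centralizer (S : Set Γ) := by
  let inst : MulAction Γ Γ := MulAction.compHom Γ (MulAut.conj : Γ →* MulAut Γ)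
  have hsmul : ∀ x y : Γ, @HSMul.hSMul Γ Γ Γ (@instHSMul Γ Γ inst.toSMul) x y = x * y * x⁻¹ :=
    fun x y => rfl
  obtain ⟨k, hk, hfix⟩ := @Cfsg.Agent.Lib.Helper80.exists_fixed_of_orbit_stable Γ _ _ Γ inst S G
    hSG hcop.symm (Or.inl hsolv) g (by
      intro a ha
      obtain ⟨k, hk, hk2⟩ := horb a ha
      exact ⟨k, hk, by rw [hsmul, hsmul, hk2]⟩)
  refine ⟨k, hk, ?_⟩
  rw [Subgroup.mem_centralizer_iff]
  intro a ha
  have h1 := hfix a ha
  rw [hsmul, hsmul] at h1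
  calc a * (k * g * k⁻¹) = (a * (k * g * k⁻¹) * a⁻¹) * a := by rw [inv_mul_cancel_right]
    _ = k * g * k⁻¹ * a := by rw [h1]

/-- the invariant classes of `G` correspond to the classes of the fixed point subgroup. -/
theorem card_invClasses_eq (G S C : Subgroup Γ) (hSG : ∀ s ∈ S, ∀ g ∈ G, s * g * s⁻¹ ∈ G)
    (hcop : (Nat.card G).Coprime (Nat.card S)) (hsolv : Group.IsSolvable S)
    (hC : C = G ⊓ Subgroup.centralizer (S : Set Γ)) :
    Nat.card {K : ConjClasses G // ∀ s ∈ S, ∀ g g' : G, (g' : Γ) = s * g * s⁻¹ →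
      ConjClasses.mk g = K → ConjClasses.mk g' = K} = Nat.card (ConjClasses C) := by
  classical
  subst hC
  have hCG : G ⊓ Subgroup.centralizer (S : Set Γ) ≤ G := inf_le_left
  have hSGn : S ≤ Subgroup.normalizer (G : Set Γ) := by
    intro s hs
    rw [Subgroup.mem_normalizer_iff]
    intro g
    constructor
    · exact hSG s hs g
    · intro h
      have := hSG s⁻¹ (S.inv_mem hs) _ h
      have h2 : s⁻¹ * (s * g * s⁻¹) * s⁻¹⁻¹ = g := by group
      rwa [h2] at this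
  symm
  let Φ : ConjClasses (G ⊓ Subgroup.centralizer (S : Set Γ) : Subgroup Γ) →
      {K : ConjClasses G // ∀ s ∈ S, ∀ g g' : G, (g' : Γ) = s * g * s⁻¹ →
        ConjClasses.mk g = K → ConjClasses.mk g' = K} := fun K =>
    ⟨ConjClasses.map (Subgroup.inclusion hCG) K, by
      obtain ⟨c, rfl⟩ := ConjClasses.exists_rep K
      intro s hs g g' hg hgK
      have h1 : IsConj g (Subgroup.inclusion hCG c) := ConjClasses.mk_eq_mk_iff_isConj.mp hgK
      rw [isConj_iff] at h1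
      obtain ⟨y, hy⟩ := h1
      show ConjClasses.mk g' = ConjClasses.mk (Subgroup.inclusion hCG c)
      rw [ConjClasses.mk_eq_mk_iff_isConj, isConj_comm, isConj_iff]
      have hcS : (c : Γ) ∈ Subgroup.centralizer (S : Set Γ) := (Subgroup.mem_inf.mp c.2).2
      have hsc : s * (c : Γ) = c * s := (Subgroup.mem_centralizer_iff.mp hcS) s hs
      -- `g = y⁻¹ c y`
      have hy' : (y : Γ) * g * (y : Γ)⁻¹ = c := by
        have := congrArg Subtype.val hy
        simpa using this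
      have hg1 : (g : Γ) = (y : Γ)⁻¹ * c * y := by rw [← hy']; group
      refine ⟨⟨s * (y : Γ)⁻¹ * s⁻¹, hSG s hs _ (G.inv_mem y.2)⟩, ?_⟩
      apply Subtype.ext
      show (s * (y : Γ)⁻¹ * s⁻¹) * (c : Γ) * (s * (y : Γ)⁻¹ * s⁻¹)⁻¹ = g'
      rw [hg, hg1]
      have h3 : s⁻¹ * (c : Γ) * s = c := by
        calc s⁻¹ * (c : Γ) * s = s⁻¹ * (c * s) := by group
          _ = s⁻¹ * (s * c) := by rw [hsc]
          _ = c := by group
      calc (s * (y : Γ)⁻¹ * s⁻¹) * (c : Γ) * (s * (y : Γ)⁻¹ * s⁻¹)⁻¹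
          = s * ((y : Γ)⁻¹ * (s⁻¹ * c * s) * y) * s⁻¹ := by group
        _ = s * ((y : Γ)⁻¹ * c * y) * s⁻¹ := by rw [h3]⟩
  have hΦ : Function.Bijective Φ := by
    constructor
    · intro K K' hKK
      obtain ⟨c, rfl⟩ := ConjClasses.exists_rep K
      obtain ⟨c', rfl⟩ := ConjClasses.exists_rep K'
      have h1 : ConjClasses.mk (Subgroup.inclusion hCG c) =
          ConjClasses.mk (Subgroup.inclusion hCG c') := congrArg Subtype.val hKK
      rw [ConjClasses.mk_eq_mk_iff_isConj, isConj_iff] at h1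
      obtain ⟨x, hx⟩ := h1
      have hx' : (x : Γ) * (c : Γ) * (x : Γ)⁻¹ = (c' : Γ) := by
        have := congrArg Subtype.val hx
        simpa using this
      obtain ⟨δ, hδ, hδc⟩ := exists_centralizer_conj_elt hSGn hcop hsolv c.2 c'.2 x.2 hx'
      rw [ConjClasses.mk_eq_mk_iff_isConj, isConj_iff]
      refine ⟨⟨δ, hδ⟩, ?_⟩
      apply Subtype.ext
      simpa using hδc
    · rintro ⟨K, hK⟩
      obtain ⟨g, rfl⟩ := ConjClasses.exists_rep K
      have horb : ∀ a ∈ S, ∃ k ∈ G, k * (g : Γ) * k⁻¹ = a * g * a⁻¹ := by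
        intro a ha
        have h1 := hK a ha g ⟨a * g * a⁻¹, hSG a ha g g.2⟩ rfl rfl
        rw [ConjClasses.mk_eq_mk_iff_isConj, isConj_comm, isConj_iff] at h1
        obtain ⟨k, hk⟩ := h1
        refine ⟨k, k.2, ?_⟩
        have := congrArg Subtype.val hk
        simpa using this
      obtain ⟨k, hk, hkc⟩ := exists_conj_mem_centralizer hSGn hcop hsolv (g : Γ) horb
      have hkg : k * (g : Γ) * k⁻¹ ∈ G := G.mul_mem (G.mul_mem hk g.2) (G.inv_mem hk)
      refine ⟨ConjClasses.mk ⟨k * g * k⁻¹, Subgroup.mem_inf.mpr ⟨hkg, hkc⟩⟩, ?_⟩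
      apply Subtype.ext
      show ConjClasses.mk (Subgroup.inclusion hCG ⟨k * g * k⁻¹, _⟩) = ConjClasses.mk g
      rw [ConjClasses.mk_eq_mk_iff_isConj, isConj_comm, isConj_iff]
      exact ⟨⟨k, hk⟩, Subtype.ext rfl⟩
  exact Nat.card_congr (Equiv.ofBijective Φ hΦ)

end GlaubClass

end Cfsg.Agent.Lib.Helper04
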