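import Mathlib
import Cfsg.Agent.Lib.Helper04.GlaubSolv
import Cfsg.Agent.Lib.Helper84.Clifford
import Cfsg.Agent.Lib.Helper80.GlaubermanAction
import Cfsg.Agent.Lib.Helper04.OrbitSum
import Cfsg.Agent.Lib.Helper83.Quotient
import Cfsg.Agent.S4447

/-!
# Constituents and the Glauberman correspondence for `q`-groups of operators

For a (relative) `q`-group `T` acting coprimely on `G` and normalizing `N ⊴ G`, an invariant
irreducible character `χ` of `G` lies over the invariant irreducible character `θ` of `N` iff the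
correspondent of `χ` lies over the correspondent of `θ`.
-/

set_option autoImplicit false

namespace Cfsg.Agent.Lib.Helper04

open Cfsg
open scoped ComplexConjugate

section GlaubCons

universe u

variable {Γ : Type u} [Group Γ]

/-- restriction of a function to a smaller subgroup. -/
def resTo {H G : Subgroup Γ} (hHG : H ≤ G) (χ : G → ℂ) : H → ℂ := fun h => χ ⟨h, hHG h.2⟩

theorem resTo_apply {H G : Subgroup Γ} (hHG : H ≤ G) (χ : G → ℂ) (h : H) :
    resTo hHG χ h = χ ⟨h, hHG h.2⟩ := rfl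

theorem resTo_resTo {K H G : Subgroup Γ} (hKH : K ≤ H) (hHG : H ≤ G) (χ : G → ℂ) :
    resTo hKH (resTo hHG χ) = resTo (hKH.trans hHG) χ := rfl

theorem isCharacter_resTo {H G : Subgroup Γ} (hHG : H ≤ G) {χ : G → ℂ} (hχ : IsCharacter G χ) :
    IsCharacter H (resTo hHG χ) :=
  Cfsg.Agent.Lib.Helper83.isCharacter_comp_hom (Subgroup.inclusion hHG) hχ

theorem resTo_sum {H G : Subgroup Γ} (hHG : H ≤ G) {ι : Type*} (s : Finset ι)
    (f : ι → G → ℂ) : resTo hHG (∑ i ∈ s, f i) = ∑ i ∈ s, resTo hHG (f i) := by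
  funext h
  simp only [resTo_apply, Finset.sum_apply]

theorem resTo_smul {H G : Subgroup Γ} (hHG : H ≤ G) (c : ℂ) (f : G → ℂ) :
    resTo hHG (c • f) = c • resTo hHG f := rfl

/-- the multiplicity of an irreducible character of `H` in the restriction of a function. -/
noncomputable def rmul {H G : Subgroup Γ} [Fintype H] (hHG : H ≤ G) (χ : G → ℂ)
    (β : IrrCharacter H) : ℕ :=
  Cfsg.Agent.Lib.Helper83.irrMult (resTo hHG χ) β

theorem rmul_cast {H G : Subgroup Γ} [Fintype H] (hHG : H ≤ G) {χ : G → ℂ}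
    (hχ : IsCharacter G χ) (β : IrrCharacter H) :
    (rmul hHG χ β : ℂ) = classInner (resTo hHG χ) (β : H → ℂ) :=
  Cfsg.Agent.Lib.Helper83.irrMult_cast (isCharacter_resTo hHG hχ) β

theorem rmul_eq_of_classInner {H G : Subgroup Γ} [Fintype H] (hHG : H ≤ G) {χ : G → ℂ}
    (hχ : IsCharacter G χ) (β : IrrCharacter H) {m : ℕ}
    (h : classInner (resTo hHG χ) (β : H → ℂ) = m) : rmul hHG χ β = m := by
  have := rmul_cast hHG hχ β
  rw [h] at this
  exact_mod_cast this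

/-- transitivity of multiplicities. -/
theorem rmul_trans {K H G : Subgroup Γ} [Fintype K] [Fintype H] [Fintype (IrrCharacter H)]
    (hKH : K ≤ H) (hHG : H ≤ G) {χ : G → ℂ} (hχ : IsCharacter G χ) (γ : IrrCharacter K) :
    rmul (hKH.trans hHG) χ γ = ∑ β : IrrCharacter H, rmul hHG χ β * rmul hKH (β : H → ℂ) γ := by
  have h1 := Cfsg.Agent.Lib.Helper83.char_eq_sum_irrMult (isCharacter_resTo hHG hχ)
  have h2 : resTo (hKH.trans hHG) χ =
      ∑ β : IrrCharacter H, (rmul hHG χ β : ℂ) • resTo hKH (β : H → ℂ) := by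
    rw [← resTo_resTo hKH hHG χ]
    conv_lhs => rw [h1]
    rw [resTo_sum]
    rfl
  have h3 : (rmul (hKH.trans hHG) χ γ : ℂ) =
      ((∑ β : IrrCharacter H, rmul hHG χ β * rmul hKH (β : H → ℂ) γ : ℕ) : ℂ) := by
    rw [rmul_cast _ hχ, h2, Cfsg.Agent.Lib.Helper83.classInner_sum_left]
    push_cast
    apply Finset.sum_congr rfl
    intro β _
    rw [Cfsg.Agent.Lib.Helper83.classInner_smul_left,
      rmul_cast hKH (Cfsg.Agent.Lib.Helper83.IrrCharacter_isCharacter β)]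
  exact_mod_cast h3

/-- the restriction of a class function is invariant under conjugation by elements of `G`. -/
theorem conjRel_resTo {G N : Subgroup Γ} (hNG : N ≤ G) {χ : G → ℂ} (hχ : IsClassFunction G χ)
    {g : Γ} (hg : g ∈ G) : ConjRel N g (resTo hNG χ) (resTo hNG χ) := by
  intro h h' hh
  rw [resTo_apply, resTo_apply]
  have h1 : (⟨(h' : Γ), hNG h'.2⟩ : G) = ⟨g, hg⟩ * ⟨(h : Γ), hNG h.2⟩ * ⟨g, hg⟩⁻¹ := by
    apply Subtype.ext
    simp only [Subgroup.coe_mul, Subgroup.coe_inv]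
    exact hh
  rw [h1]
  exact hχ _ _

/-- conjugate characters have the same multiplicity in the restriction of a class function. -/
theorem classInner_resTo_conj {G N : Subgroup Γ} [Fintype N] (hNG : N ≤ G)
    (hGN : ∀ g ∈ G, ∀ n ∈ N, g * n * g⁻¹ ∈ N) {χ : G → ℂ} (hχ : IsClassFunction G χ)
    {g : Γ} (hg : g ∈ G) {φ ψ : N → ℂ} (h : ConjRel N g φ ψ) :
    classInner (resTo hNG χ) ψ = classInner (resTo hNG χ) φ := by
  have hx : ∀ n ∈ N, g * n * g⁻¹ ∈ N := hGN g hg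
  have hx' : ∀ n ∈ N, g⁻¹ * n * g ∈ N := by
    intro n hn
    have := hGN g⁻¹ (G.inv_mem hg) n hn
    rwa [inv_inv] at this
  exact ConjRel.classInner_eq hx hx' (conjRel_resTo hNG hχ hg) h

/-- **Clifford's theorem** for subgroups of an ambient group: two irreducible constituents of the
restriction of an irreducible character to a normal subgroup are conjugate. -/
theorem cliff_conj [Finite Γ] {G N : Subgroup Γ} [Fintype N] (hNG : N ≤ G)
    (hGN : ∀ g ∈ G, ∀ n ∈ N, g * n * g⁻¹ ∈ N) (χ : IrrCharacter G) (φ ψ : IrrCharacter N)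
    (h1 : classInner (resTo hNG (χ : G → ℂ)) (φ : N → ℂ) ≠ 0)
    (h2 : classInner (resTo hNG (χ : G → ℂ)) (ψ : N → ℂ) ≠ 0) :
    ∃ g ∈ G, ConjRel N g (ψ : N → ℂ) (φ : N → ℂ) := by
  classical
  have : Fintype G := Fintype.ofFinite G
  have hHn : (N.subgroupOf G).Normal := ⟨fun n hn g => by
    rw [Subgroup.mem_subgroupOf] at hn ⊢
    simp only [Subgroup.coe_mul, Subgroup.coe_inv]
    exact hGN g g.2 n hn⟩
  have : Fintype (N.subgroupOf G) := Fintype.ofFinite _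
  let e : N.subgroupOf G ≃* N := Subgroup.subgroupOfEquivOfLe hNG
  have he : ∀ x : N.subgroupOf G, ((e x : N) : Γ) = ((x : G) : Γ) := fun x => rfl
  have hres : (fun x : N.subgroupOf G => resTo hNG (χ : G → ℂ) (e x)) =
      fun x : N.subgroupOf G => (χ : G → ℂ) x := by
    funext x
    rfl
  have key : ∀ φ : IrrCharacter N,
      classInner (fun x : N.subgroupOf G => (χ : G → ℂ) x) (irrCongr e φ : N.subgroupOf G → ℂ) =
        classInner (resTo hNG (χ : G → ℂ)) (φ : N → ℂ) := by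
    intro φ
    rw [← hres]
    exact classInner_comp_mulEquiv e (resTo hNG (χ : G → ℂ)) (φ : N → ℂ)
  obtain ⟨g, hg⟩ := Cfsg.Agent.Lib.Helper84.clifford_exists_conj (N.subgroupOf G) χ.2
    (irrCongr e φ).2 (irrCongr e ψ).2 (by rw [key]; exact h1) (by rw [key]; exact h2)
  refine ⟨g, g.2, ?_⟩
  intro h h' hh
  have h3 := congrFun hg (e.symm h)
  rw [Cfsg.Agent.Lib.Helper84.conjFun_apply] at h3
  have h4 : (irrCongr e ψ : N.subgroupOf G → ℂ) (e.symm h) = (ψ : N → ℂ) h := by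
    rw [irrCongr_apply, MulEquiv.apply_symm_apply]
  rw [h4] at h3
  rw [← h3, irrCongr_apply]
  have h5 : h' = e ⟨g * (e.symm h : N.subgroupOf G) * g⁻¹,
      hHn.conj_mem _ (e.symm h).2 g⟩ := by
    apply Subtype.ext
    rw [he, hh]
    simp only [Subgroup.coe_mul, Subgroup.coe_inv]
    rw [← he (e.symm h), MulEquiv.apply_symm_apply]
  rw [h5]

/-- Clifford: the multiplicities in the restriction to a normal subgroup. -/
theorem rmul_cliff [Finite Γ] {G N : Subgroup Γ} [Fintype N] (hNG : N ≤ G)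
    (hGN : ∀ g ∈ G, ∀ n ∈ N, g * n * g⁻¹ ∈ N) (χ : IrrCharacter G) (θ φ : IrrCharacter N)
    (hθ : rmul hNG (χ : G → ℂ) θ ≠ 0) [Decidable (∃ g ∈ G, ConjRel N g (θ : N → ℂ) (φ : N → ℂ))] :
    rmul hNG (χ : G → ℂ) φ =
      if ∃ g ∈ G, ConjRel N g (θ : N → ℂ) (φ : N → ℂ) then rmul hNG (χ : G → ℂ) θ else 0 := by
  have hχc := Cfsg.Agent.Lib.Helper83.IrrCharacter_isCharacter χ
  have hχcl := Cfsg.Agent.Lib.Helper83.char_isClassFunction hχc
  split_ifs with h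
  · obtain ⟨g, hg, hc⟩ := h
    have h1 := classInner_resTo_conj hNG hGN hχcl hg hc
    rw [← rmul_cast hNG hχc, ← rmul_cast hNG hχc] at h1
    exact_mod_cast h1
  · by_contra h0
    apply h
    have h1 : classInner (resTo hNG (χ : G → ℂ)) (θ : N → ℂ) ≠ 0 := by
      rw [← rmul_cast hNG hχc]
      exact_mod_cast hθ
    have h2 : classInner (resTo hNG (χ : G → ℂ)) (φ : N → ℂ) ≠ 0 := by
      rw [← rmul_cast hNG hχc]
      exact_mod_cast h0
    exact cliff_conj hNG hGN χ φ θ h2 h1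

/-- orbit sums for a group acting through a `q`-group. -/
theorem sum_modEq_sum_fixed_hom {T : Type*} [Group T] {X : Type*} [Fintype X] [DecidableEq X]
    (q k : ℕ) [Fact q.Prime] (ρ : T →* Equiv.Perm X) (hpow : ∀ t : T, ρ (t ^ (q ^ k)) = 1)
    (f : X → ℕ) (hf : ∀ t x, f (ρ t x) = f x) [DecidablePred fun x => ∀ t, ρ t x = x] :
    ∑ x, f x ≡ ∑ x ∈ Finset.univ.filter (fun x => ∀ t, ρ t x = x), f x [MOD q] := by
  classical
  have hP : IsPGroup q ρ.range := by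
    rintro ⟨g, t, rfl⟩
    refine ⟨k, ?_⟩
    apply Subtype.ext
    show (ρ t) ^ (q ^ k) = 1
    rw [← map_pow, hpow]
  have key := sum_modEq_sum_fixed (P := ρ.range) (fun (g : ρ.range) (x : X) => (g : Equiv.Perm X) x)
    f hP (fun x => rfl) (fun g h x => rfl) (by
      rintro ⟨g, t, rfl⟩ x
      exact hf t x)
  have hfilter : Finset.univ.filter (fun x : X => ∀ g : ρ.range, (g : Equiv.Perm X) x = x) =
      Finset.univ.filter (fun x => ∀ t, ρ t x = x) := by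
    apply Finset.filter_congr
    intro x _
    constructor
    · intro h t
      exact h ⟨ρ t, t, rfl⟩
    · rintro h ⟨g, t, rfl⟩
      exact h t
  rw [hfilter] at key
  exact key

/-- conjugation, as a homomorphism into the automorphism group of a normalized subgroup. -/
def conjAutHom (N T : Subgroup Γ) (hTN : ∀ t ∈ T, ∀ n ∈ N, t * n * t⁻¹ ∈ N) : T →* MulAut N where
  toFun t := conjAut N t (hTN t t.2) (fun n hn => by
    have := hTN t⁻¹ (T.inv_mem t.2) n hn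
    rwa [inv_inv] at this)
  map_one' := by
    apply MulEquiv.ext
    intro n
    apply Subtype.ext
    rw [conjAut_apply]
    simp
  map_mul' a b := by
    apply MulEquiv.ext
    intro n
    apply Subtype.ext
    rw [MulAut.mul_apply, conjAut_apply, conjAut_apply, conjAut_apply]
    simp only [Subgroup.coe_mul]
    group

theorem conjAutHom_apply (N T : Subgroup Γ) (hTN : ∀ t ∈ T, ∀ n ∈ N, t * n * t⁻¹ ∈ N) (t : T)
    (n : N) : ((conjAutHom N T hTN t n : N) : Γ) = t * n * (t : Γ)⁻¹ := rfl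

theorem conjAutHom_inv_apply (N T : Subgroup Γ) (hTN : ∀ t ∈ T, ∀ n ∈ N, t * n * t⁻¹ ∈ N)
    (t : T) (n : N) : ((((conjAutHom N T hTN t)⁻¹ : MulAut N) n : N) : Γ) = (t : Γ)⁻¹ * n * t := by
  rw [← map_inv, conjAutHom_apply]
  simp

/-- the action of a normalizing subgroup on the irreducible characters. -/
noncomputable def irrAct [Finite Γ] (N T : Subgroup Γ) (hTN : ∀ t ∈ T, ∀ n ∈ N, t * n * t⁻¹ ∈ N) :
    T →* Equiv.Perm (IrrCharacter N) :=
  (Cfsg.Agent.Lib.Helper80.autPerm N).comp (conjAutHom N T hTN)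

theorem irrAct_apply [Finite Γ] (N T : Subgroup Γ) (hTN : ∀ t ∈ T, ∀ n ∈ N, t * n * t⁻¹ ∈ N)
    (t : T) (φ : IrrCharacter N) (n : N) :
    (irrAct N T hTN t φ : N → ℂ) n =
      (φ : N → ℂ) ⟨(t : Γ)⁻¹ * n * t, by
        have := hTN t⁻¹ (T.inv_mem t.2) n n.2
        rwa [inv_inv] at this⟩ := by
  show (φ : N → ℂ) (((conjAutHom N T hTN t)⁻¹ : MulAut N) n) = _
  congr 1

/-- the conjugate character is related to the original one. -/
theorem irrAct_conjRel [Finite Γ] (N T : Subgroup Γ) (hTN : ∀ t ∈ T, ∀ n ∈ N, t * n * t⁻¹ ∈ N)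
    (t : T) (φ : IrrCharacter N) :
    ConjRel N (t : Γ) (φ : N → ℂ) (irrAct N T hTN t φ : N → ℂ) := by
  intro h h' hh
  rw [irrAct_apply]
  have h1 : (⟨(t : Γ)⁻¹ * h' * t, by
      have := hTN t⁻¹ (T.inv_mem t.2) h' h'.2
      rwa [inv_inv] at this⟩ : N) = h := by
    apply Subtype.ext
    show (t : Γ)⁻¹ * h' * t = h
    rw [hh]
    group
  rw [h1]

theorem irrAct_fixed_iff [Finite Γ] (N T : Subgroup Γ)
    (hTN : ∀ t ∈ T, ∀ n ∈ N, t * n * t⁻¹ ∈ N) (φ : IrrCharacter N) :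
    (∀ t : T, irrAct N T hTN t φ = φ) ↔ SetInv N T (φ : N → ℂ) := by
  constructor
  · intro h t ht g g' hg
    have h1 := irrAct_conjRel N T hTN ⟨t, ht⟩ φ g g' hg
    rw [h ⟨t, ht⟩] at h1
    exact h1
  · intro h t
    apply Subtype.ext
    funext n
    rw [irrAct_apply]
    symm
    apply h t t.2
    show (n : Γ) = t * ((t : Γ)⁻¹ * n * t) * (t : Γ)⁻¹
    group

/-- the Clifford multiplicity divides the degree. -/
theorem rmul_dvd_charDegree [Finite Γ] {G N : Subgroup Γ} [Fintype N] (hNG : N ≤ G)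
    (hGN : ∀ g ∈ G, ∀ n ∈ N, g * n * g⁻¹ ∈ N) (χ : IrrCharacter G) (θ : IrrCharacter N)
    (hθ : rmul hNG (χ : G → ℂ) θ ≠ 0) :
    rmul hNG (χ : G → ℂ) θ ∣ charDegree (χ : G → ℂ) := by
  classical
  have : Fintype (IrrCharacter N) := Fintype.ofFinite _
  have hχc := Cfsg.Agent.Lib.Helper83.IrrCharacter_isCharacter χ
  have h1 := Cfsg.Agent.Lib.Helper83.char_eq_sum_irrMult (isCharacter_resTo hNG hχc)
  have h2 := congrFun h1 1
  rw [Finset.sum_apply] at h2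
  have h3 : (charDegree (χ : G → ℂ) : ℂ) =
      ((∑ φ : IrrCharacter N, rmul hNG (χ : G → ℂ) φ * charDegree (φ : N → ℂ) : ℕ) : ℂ) := by
    rw [Cfsg.Agent.Lib.Helper83.charDegree_cast hχc]
    have h4 : resTo hNG (χ : G → ℂ) 1 = (χ : G → ℂ) 1 := rfl
    rw [← h4, h2]
    push_cast
    apply Finset.sum_congr rfl
    intro φ _
    rw [Pi.smul_apply, smul_eq_mul,
      Cfsg.Agent.Lib.Helper83.charDegree_cast (Cfsg.Agent.Lib.Helper83.IrrCharacter_isCharacter φ)]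
    rfl
  have h5 : charDegree (χ : G → ℂ) =
      ∑ φ : IrrCharacter N, rmul hNG (χ : G → ℂ) φ * charDegree (φ : N → ℂ) := by
    exact_mod_cast h3
  rw [h5]
  apply Finset.dvd_sum
  intro φ _
  rw [rmul_cliff hNG hGN χ θ φ hθ]
  split_ifs
  · exact Dvd.intro _ rfl
  · rw [zero_mul]; exact dvd_zero _

section Forward

variable [Finite Γ]

/-- **constituents correspond, forward direction.** -/
theorem cons_forward (q k : ℕ) [hq : Fact q.Prime] (G N T B B' : Subgroup Γ)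
    [Fintype N] [Fintype B] [Fintype B']
    (hNG : N ≤ G) (hGN : ∀ g ∈ G, ∀ n ∈ N, g * n * g⁻¹ ∈ N)
    (hTN : ∀ t ∈ T, ∀ n ∈ N, t * n * t⁻¹ ∈ N)
    (hpow : ∀ t ∈ T, ∀ n ∈ N, t ^ (q ^ k) * n = n * t ^ (q ^ k))
    (hcop : (Nat.card G).Coprime q)
    (hBG : B ≤ G) (hB'N : B' ≤ N) (hB'B : B' ≤ B)
    (hTB' : ∀ t ∈ T, ∀ b ∈ B', t * b = b * t)
    (fG : {χ : IrrCharacter G // SetInv G T (χ : G → ℂ)} → IrrCharacter B)
    (hcG : ∀ (χ : {χ : IrrCharacter G // SetInv G T (χ : G → ℂ)}) (β : IrrCharacter B), ∃ m : ℕ,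
      classInner (fun c : B => (χ.1 : G → ℂ) ⟨c, hBG c.2⟩) (β : B → ℂ) = (m : ℂ) ∧
      ((β = fG χ ∧ ((m : ℤ) ≡ 1 [ZMOD q] ∨ (m : ℤ) ≡ -1 [ZMOD q])) ∨ (β ≠ fG χ ∧ q ∣ m)))
    (fN : {θ : IrrCharacter N // SetInv N T (θ : N → ℂ)} → IrrCharacter B')
    (hfN : Function.Injective fN)
    (hcN : ∀ (θ : {θ : IrrCharacter N // SetInv N T (θ : N → ℂ)}) (β : IrrCharacter B'), ∃ m : ℕ,
      classInner (fun c : B' => (θ.1 : N → ℂ) ⟨c, hB'N c.2⟩) (β : B' → ℂ) = (m : ℂ) ∧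
      ((β = fN θ ∧ ((m : ℤ) ≡ 1 [ZMOD q] ∨ (m : ℤ) ≡ -1 [ZMOD q])) ∨ (β ≠ fN θ ∧ q ∣ m)))
    (χ : {χ : IrrCharacter G // SetInv G T (χ : G → ℂ)})
    (θ : {θ : IrrCharacter N // SetInv N T (θ : N → ℂ)})
    (h : classInner (resTo hNG (χ.1 : G → ℂ)) (θ.1 : N → ℂ) ≠ 0) :
    classInner (resTo hB'B (fG χ : B → ℂ)) (fN θ : B' → ℂ) ≠ 0 := by
  classical
  have : Fintype (IrrCharacter N) := Fintype.ofFinite _
  have : Fintype (IrrCharacter B) := Fintype.ofFinite _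
  have hχc := Cfsg.Agent.Lib.Helper83.IrrCharacter_isCharacter χ.1
  have hχcl := Cfsg.Agent.Lib.Helper83.char_isClassFunction hχc
  set γ : IrrCharacter B' := fN θ with hγ
  set a : ℕ := rmul hNG (χ.1 : G → ℂ) θ.1 with ha
  have ha0 : a ≠ 0 := by
    intro h0
    apply h
    rw [← rmul_cast hNG hχc, ← ha, h0, Nat.cast_zero]
  -- `q` does not divide `a`
  have hqa : ¬ q ∣ a := by
    intro hdvd
    have h1 := rmul_dvd_charDegree hNG hGN χ.1 θ.1 ha0
    have h2 := Cfsg.Agent.Lib.Helper83.irr_charDegree_dvd_card χ.1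
    have h3 : q ∣ Nat.card G := hdvd.trans (h1.trans h2)
    have h4 : q ∣ Nat.gcd (Nat.card G) q := Nat.dvd_gcd h3 dvd_rfl
    rw [hcop] at h4
    exact hq.out.one_lt.ne' (Nat.dvd_one.mp h4)
  -- the weights
  set w : IrrCharacter N → ℕ := fun φ => rmul hB'N (φ : N → ℂ) γ with hw
  set f : IrrCharacter N → ℕ := fun φ => rmul hNG (χ.1 : G → ℂ) φ * w φ with hf
  have hTN' : ∀ t ∈ T, ∀ n ∈ N, t⁻¹ * n * t ∈ N := by
    intro t ht n hn
    have := hTN t⁻¹ (T.inv_mem ht) n hn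
    rwa [inv_inv] at this
  -- invariance of the weights
  have hfinv : ∀ (t : T) (φ : IrrCharacter N), f (irrAct N T hTN t φ) = f φ := by
    intro t φ
    have hc := irrAct_conjRel N T hTN t φ
    have h1 : rmul hNG (χ.1 : G → ℂ) (irrAct N T hTN t φ) = rmul hNG (χ.1 : G → ℂ) φ := by
      have h2 : ConjRel N (t : Γ) (resTo hNG (χ.1 : G → ℂ)) (resTo hNG (χ.1 : G → ℂ)) := by
        intro n n' hn
        exact χ.2 t t.2 ⟨n, hNG n.2⟩ ⟨n', hNG n'.2⟩ hn
      have h3 := ConjRel.classInner_eq (hTN t t.2) (hTN' t t.2) h2 hc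
      rw [← rmul_cast hNG hχc, ← rmul_cast hNG hχc] at h3
      exact_mod_cast h3
    have h4 : w (irrAct N T hTN t φ) = w φ := by
      have h5 : ConjRel B' (t : Γ) (resTo hB'N (φ : N → ℂ))
          (resTo hB'N (irrAct N T hTN t φ : N → ℂ)) := ConjRel.restrict hB'N hc
      have h6 : ConjRel B' (t : Γ) (γ : B' → ℂ) (γ : B' → ℂ) := by
        intro b b' hb
        have : b' = b := by
          apply Subtype.ext
          rw [hb, hTB' t t.2 b b.2, mul_inv_cancel_right]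
        rw [this]
      have hx : ∀ b ∈ B', (t : Γ) * b * (t : Γ)⁻¹ ∈ B' := by
        intro b hb
        rw [hTB' t t.2 b hb, mul_inv_cancel_right]
        exact hb
      have hx' : ∀ b ∈ B', (t : Γ)⁻¹ * b * (t : Γ) ∈ B' := by
        intro b hb
        rw [mul_assoc, ← hTB' t t.2 b hb, inv_mul_cancel_left]
        exact hb
      have h7 := ConjRel.classInner_eq hx hx' h5 h6
      have hφc := Cfsg.Agent.Lib.Helper83.IrrCharacter_isCharacter φ
      have hφc' := Cfsg.Agent.Lib.Helper83.IrrCharacter_isCharacter (irrAct N T hTN t φ)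
      rw [← rmul_cast hB'N hφc, ← rmul_cast hB'N hφc'] at h7
      exact_mod_cast h7
    show rmul hNG (χ.1 : G → ℂ) (irrAct N T hTN t φ) * w (irrAct N T hTN t φ) = _
    rw [h1, h4]
  -- the power condition
  have hpow' : ∀ t : T, irrAct N T hTN (t ^ (q ^ k)) = 1 := by
    intro t
    apply Equiv.ext
    intro φ
    apply Subtype.ext
    funext n
    rw [irrAct_apply]
    show _ = (φ : N → ℂ) n
    have h1 : (⟨((t ^ (q ^ k) : T) : Γ)⁻¹ * n * ((t ^ (q ^ k) : T) : Γ), by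
        have := hTN' _ (t ^ (q ^ k) : T).2 n n.2
        exact this⟩ : N) = n := by
      apply Subtype.ext
      show ((t ^ (q ^ k) : T) : Γ)⁻¹ * n * ((t ^ (q ^ k) : T) : Γ) = n
      rw [Subgroup.coe_pow, mul_assoc, ← hpow t t.2 n n.2, inv_mul_cancel_left]
    rw [h1]
  have hsum := sum_modEq_sum_fixed_hom q k (irrAct N T hTN) hpow' f hfinv
  -- the total
  have hR1 : rmul (hB'N.trans hNG) (χ.1 : G → ℂ) γ = ∑ φ : IrrCharacter N, f φ :=
    rmul_trans hB'N hNG hχc γ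
  -- the fixed points
  have hθfix : θ.1 ∈ Finset.univ.filter (fun x => ∀ t, irrAct N T hTN t x = x) := by
    rw [Finset.mem_filter]
    exact ⟨Finset.mem_univ _, (irrAct_fixed_iff N T hTN θ.1).mpr θ.2⟩
  have hwθ : ¬ q ∣ w θ.1 := by
    obtain ⟨m, hm1, hm2⟩ := hcN θ γ
    have hm3 : w θ.1 = m :=
      rmul_eq_of_classInner hB'N (Cfsg.Agent.Lib.Helper83.IrrCharacter_isCharacter θ.1) γ hm1
    rw [hm3]
    rcases hm2 with ⟨_, hm⟩ | ⟨hne, _⟩
    · exact not_dvd_of_pm_one hm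
    · exact absurd rfl hne
  have hother : ∀ φ ∈ (Finset.univ.filter (fun x => ∀ t, irrAct N T hTN t x = x)).erase θ.1,
      q ∣ f φ := by
    intro φ hφ
    rw [Finset.mem_erase, Finset.mem_filter] at hφ
    obtain ⟨hne, _, hfix⟩ := hφ
    have hφinv : SetInv N T (φ : N → ℂ) := (irrAct_fixed_iff N T hTN φ).mp hfix
    obtain ⟨m, hm1, hm2⟩ := hcN ⟨φ, hφinv⟩ γ
    have hm3 : w φ = m :=
      rmul_eq_of_classInner hB'N (Cfsg.Agent.Lib.Helper83.IrrCharacter_isCharacter φ) γ hm1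
    rcases hm2 with ⟨heq, _⟩ | ⟨_, hm⟩
    · exfalso
      apply hne
      have : θ = ⟨φ, hφinv⟩ := hfN heq
      rw [this]
    · show q ∣ rmul hNG (χ.1 : G → ℂ) φ * w φ
      rw [hm3]
      exact Dvd.dvd.mul_left hm _
  have hfixsum : ¬ q ∣ ∑ x ∈ Finset.univ.filter (fun x => ∀ t, irrAct N T hTN t x = x), f x := by
    rw [← Finset.add_sum_erase _ f hθfix]
    intro hdvd
    have h2 : q ∣ ∑ x ∈ (Finset.univ.filter
        (fun x => ∀ t, irrAct N T hTN t x = x)).erase θ.1, f x := Finset.dvd_sum hother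
    have h3 : q ∣ f θ.1 := (Nat.dvd_add_left h2).mp hdvd
    rcases (Nat.Prime.dvd_mul hq.out).mp h3 with h4 | h4
    · exact hqa h4
    · exact hwθ h4
  have hRnd : ¬ q ∣ rmul (hB'N.trans hNG) (χ.1 : G → ℂ) γ := by
    rw [hR1]
    intro hdvd
    apply hfixsum
    exact (Nat.modEq_zero_iff_dvd.mp ((hsum.symm).trans (Nat.modEq_zero_iff_dvd.mpr hdvd)))
  -- the other expansion
  intro hzero
  apply hRnd
  have hR2 : rmul (hB'B.trans hBG) (χ.1 : G → ℂ) γ =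
      ∑ β : IrrCharacter B, rmul hBG (χ.1 : G → ℂ) β * rmul hB'B (β : B → ℂ) γ :=
    rmul_trans hB'B hBG hχc γ
  show q ∣ rmul (hB'B.trans hBG) (χ.1 : G → ℂ) γ
  rw [hR2]
  apply Finset.dvd_sum
  intro β _
  obtain ⟨m, hm1, hm2⟩ := hcG χ β
  have hm3 : rmul hBG (χ.1 : G → ℂ) β = m := rmul_eq_of_classInner hBG hχc β hm1
  rcases hm2 with ⟨heq, _⟩ | ⟨_, hm⟩
  · have h0 : rmul hB'B (β : B → ℂ) γ = 0 := by
      rw [heq]
      exact rmul_eq_of_classInner hB'B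
        (Cfsg.Agent.Lib.Helper83.IrrCharacter_isCharacter (fG χ)) γ (by rw [hzero, Nat.cast_zero])
    rw [h0, mul_zero]
    exact dvd_zero _
  · rw [hm3]
    exact Dvd.dvd.mul_right hm _

end Forward

/-- a conjugate, by an element centralizing `T`, of a `T`-invariant function is `T`-invariant. -/
theorem setInv_of_conjRel_centralizer {N T : Subgroup Γ} {x : Γ}
    (hxN' : ∀ n ∈ N, x⁻¹ * n * x ∈ N) (hxT : ∀ t ∈ T, t * x = x * t) {θ θ' : N → ℂ}
    (hθ : SetInv N T θ) (hc : ConjRel N x θ θ') : SetInv N T θ' := by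
  intro t ht g g' hg
  have hg₀ : x⁻¹ * (g : Γ) * x ∈ N := hxN' g g.2
  have hg₀' : x⁻¹ * (g' : Γ) * x ∈ N := hxN' g' g'.2
  have e1 : θ' g = θ ⟨x⁻¹ * g * x, hg₀⟩ :=
    hc ⟨_, hg₀⟩ g (by show (g : Γ) = x * (x⁻¹ * g * x) * x⁻¹; group)
  have e2 : θ' g' = θ ⟨x⁻¹ * g' * x, hg₀'⟩ :=
    hc ⟨_, hg₀'⟩ g' (by show (g' : Γ) = x * (x⁻¹ * g' * x) * x⁻¹; group)
  rw [e1, e2]
  apply hθ t ht ⟨_, hg₀⟩ ⟨_, hg₀'⟩
  show x⁻¹ * (g' : Γ) * x = t * (x⁻¹ * g * x) * t⁻¹
  rw [hg]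
  have h1 : x⁻¹ * t = t * x⁻¹ := by
    have := hxT t ht
    calc x⁻¹ * t = x⁻¹ * (t * x) * x⁻¹ := by group
      _ = x⁻¹ * (x * t) * x⁻¹ := by rw [this]
      _ = t * x⁻¹ := by group
  have h2 : t⁻¹ * x = x * t⁻¹ := by
    have := hxT t ht
    calc t⁻¹ * x = t⁻¹ * (x * t) * t⁻¹ := by group
      _ = t⁻¹ * (t * x) * t⁻¹ := by rw [this]
      _ = x * t⁻¹ := by group
  calc x⁻¹ * (t * (g : Γ) * t⁻¹) * x = (x⁻¹ * t) * g * (t⁻¹ * x) := by group
    _ = (t * x⁻¹) * g * (x * t⁻¹) := by rw [h1, h2]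
    _ = t * (x⁻¹ * g * x) * t⁻¹ := by group

section Backward

variable [Finite Γ]

/-- **constituents correspond, backward direction.** -/
theorem cons_backward (q k : ℕ) [hq : Fact q.Prime] (G N T B B' : Subgroup Γ)
    [Fintype N] [Fintype B] [Fintype B']
    (hNG : N ≤ G) (hGN : ∀ g ∈ G, ∀ n ∈ N, g * n * g⁻¹ ∈ N)
    (hTG : ∀ t ∈ T, ∀ g ∈ G, t * g * t⁻¹ ∈ G)
    (hTN : ∀ t ∈ T, ∀ n ∈ N, t * n * t⁻¹ ∈ N)
    (hpow : ∀ t ∈ T, ∀ n ∈ N, t ^ (q ^ k) * n = n * t ^ (q ^ k))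
    (hcop : (Nat.card G).Coprime q)
    (hsolvT : Group.IsSolvable T) (hcopT : (Nat.card G).Coprime (Nat.card T))
    (hB : B = G ⊓ Subgroup.centralizer (T : Set Γ))
    (hB' : B' = N ⊓ Subgroup.centralizer (T : Set Γ))
    (hBG : B ≤ G) (hB'N : B' ≤ N) (hB'B : B' ≤ B)
    (fG : {χ : IrrCharacter G // SetInv G T (χ : G → ℂ)} → IrrCharacter B)
    (hcG : ∀ (χ : {χ : IrrCharacter G // SetInv G T (χ : G → ℂ)}) (β : IrrCharacter B), ∃ m : ℕ,
      classInner (fun c : B => (χ.1 : G → ℂ) ⟨c, hBG c.2⟩) (β : B → ℂ) = (m : ℂ) ∧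
      ((β = fG χ ∧ ((m : ℤ) ≡ 1 [ZMOD q] ∨ (m : ℤ) ≡ -1 [ZMOD q])) ∨ (β ≠ fG χ ∧ q ∣ m)))
    (fN : {θ : IrrCharacter N // SetInv N T (θ : N → ℂ)} → IrrCharacter B')
    (hfN : Function.Injective fN)
    (hcN : ∀ (θ : {θ : IrrCharacter N // SetInv N T (θ : N → ℂ)}) (β : IrrCharacter B'), ∃ m : ℕ,
      classInner (fun c : B' => (θ.1 : N → ℂ) ⟨c, hB'N c.2⟩) (β : B' → ℂ) = (m : ℂ) ∧
      ((β = fN θ ∧ ((m : ℤ) ≡ 1 [ZMOD q] ∨ (m : ℤ) ≡ -1 [ZMOD q])) ∨ (β ≠ fN θ ∧ q ∣ m)))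
    (χ : {χ : IrrCharacter G // SetInv G T (χ : G → ℂ)})
    (θ : {θ : IrrCharacter N // SetInv N T (θ : N → ℂ)})
    (h : classInner (resTo hB'B (fG χ : B → ℂ)) (fN θ : B' → ℂ) ≠ 0) :
    classInner (resTo hNG (χ.1 : G → ℂ)) (θ.1 : N → ℂ) ≠ 0 := by
  classical
  have : Fintype Γ := Fintype.ofFinite Γ
  have : Fintype G := Fintype.ofFinite G
  have hχc := Cfsg.Agent.Lib.Helper83.IrrCharacter_isCharacter χ.1
  have hχcl := Cfsg.Agent.Lib.Helper83.char_isClassFunction hχc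
  have hTB' : ∀ t ∈ T, ∀ b ∈ B', t * b = b * t := by
    intro t ht b hb
    rw [hB'] at hb
    exact (Subgroup.mem_centralizer_iff.mp (Subgroup.mem_inf.mp hb).2) t ht
  have hTB : ∀ t ∈ T, ∀ b ∈ B, t * b = b * t := by
    intro t ht b hb
    rw [hB] at hb
    exact (Subgroup.mem_centralizer_iff.mp (Subgroup.mem_inf.mp hb).2) t ht
  -- an invariant constituent
  have hNn : (N.subgroupOf G).Normal := ⟨fun n hn g => by
    rw [Subgroup.mem_subgroupOf] at hn ⊢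
    simp only [Subgroup.coe_mul, Subgroup.coe_inv]
    exact hGN g g.2 n hn⟩
  have hcop' : (N.relIndex G).Coprime (Nat.card T) :=
    Nat.Coprime.coprime_dvd_left (Subgroup.index_dvd_card _) hcopT
  obtain ⟨θ', hθ'1, hθ'2⟩ := Cfsg.Agent.S4447.result G T N hTG hNG hTN hcop' (Or.inl hsolvT)
    χ.1 χ.2
  have hfw := cons_forward q k G N T B B' hNG hGN hTN hpow hcop hBG hB'N hB'B hTB' fG hcG fN hfN
    hcN χ ⟨θ', hθ'2⟩ hθ'1
  -- conjugacy in `B`
  have hBB' : ∀ b ∈ B, ∀ c ∈ B', b * c * b⁻¹ ∈ B' := by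
    intro b hb c hc
    rw [hB'] at hc ⊢
    have hbG : b ∈ G := hBG hb
    refine Subgroup.mem_inf.mpr ⟨hGN b hbG c (Subgroup.mem_inf.mp hc).1, ?_⟩
    rw [Subgroup.mem_centralizer_iff]
    intro t ht
    have h1 : t * b = b * t := hTB t ht b hb
    have h2 : t * c = c * t := (Subgroup.mem_centralizer_iff.mp (Subgroup.mem_inf.mp hc).2) t ht
    have h3 : t * b⁻¹ = b⁻¹ * t := by
      calc t * b⁻¹ = b⁻¹ * (b * t) * b⁻¹ := by group
        _ = b⁻¹ * (t * b) * b⁻¹ := by rw [h1]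
        _ = b⁻¹ * t := by group
    calc t * (b * c * b⁻¹) = (t * b) * c * b⁻¹ := by group
      _ = b * (t * c) * b⁻¹ := by rw [h1]; group
      _ = b * c * (t * b⁻¹) := by rw [h2]; group
      _ = b * c * b⁻¹ * t := by rw [h3]; group
  obtain ⟨b, hb, hbc⟩ := cliff_conj hB'B hBB' (fG χ) (fN ⟨θ', hθ'2⟩) (fN θ) hfw h
  -- the conjugate of `θ`
  have hbG : b ∈ G := hBG hb
  have hbN : ∀ n ∈ N, b * n * b⁻¹ ∈ N := hGN b hbG
  have hbN' : ∀ n ∈ N, b⁻¹ * n * b ∈ N := by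
    intro n hn
    have := hGN b⁻¹ (G.inv_mem hbG) n hn
    rwa [inv_inv] at this
  obtain ⟨θ'', hθ''⟩ := exists_conjRel N b hbN hbN' θ.1
  have hθ''inv : SetInv N T (θ'' : N → ℂ) :=
    setInv_of_conjRel_centralizer hbN' (fun t ht => hTB t ht b hb) θ.2 hθ''
  have hbB' : ∀ c ∈ B', b * c * b⁻¹ ∈ B' := hBB' b hb
  have hbB'' : ∀ c ∈ B', b⁻¹ * c * b ∈ B' := by
    intro c hc
    have := hBB' b⁻¹ (B.inv_mem hb) c hc
    rwa [inv_inv] at this
  have heq := glaubCorr_equivariant (p := q) (G := N) (S := T) (C := B') (hCG := hB'N) fN hcN b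
    hbB' hbB'' θ ⟨θ'', hθ''inv⟩ hθ''
  have h1 : (fN ⟨θ'', hθ''inv⟩ : B' → ℂ) = (fN ⟨θ', hθ'2⟩ : B' → ℂ) :=
    ConjRel.unique hbB'' heq hbc
  have h2 : (⟨θ'', hθ''inv⟩ : {θ : IrrCharacter N // SetInv N T (θ : N → ℂ)}) = ⟨θ', hθ'2⟩ :=
    hfN (Subtype.ext h1)
  have h3 : θ'' = θ' := congrArg Subtype.val h2
  have h4 := classInner_resTo_conj hNG hGN hχcl hbG hθ''
  rw [← h4, h3]
  exact hθ'1

end Backward

end GlaubCons

end Cfsg.Agent.Lib.Helper04
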