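import Mathlib
import Cfsg.Agent.Lib.Helper04.GlaubCons
import Cfsg.Agent.Lib.Helper01.SolvableNP
import Cfsg.Agent.Lib.Helper85.CliffordCorr
import Cfsg.Agent.Lib.Helper05.CharDegree
import Cfsg.Agent.Lib.Helper83.Constituent

/-!
# Invariant characters over invariant characters, for solvable groups of operators

If the solvable group `S` acts coprimely on `G` and normalizes `N ⊴ G`, every `S`-invariant
irreducible character of `N` lies under an `S`-invariant irreducible character of `G`.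
-/

set_option autoImplicit false

namespace Cfsg.Agent.Lib.Helper04

open Cfsg

section GlaubUp

universe u

variable {Γ : Type u} [Group Γ] [Finite Γ]

/-- above a proper normal subgroup `K` of the solvable group `S` there is a normal subgroup `T`
of `S` with `T / K` a nontrivial `q`-group. -/
theorem exists_rel_qgroup (S K : Subgroup Γ) (hKS : K ≤ S)
    (hKn : ∀ s ∈ S, ∀ k ∈ K, s * k * s⁻¹ ∈ K) (hne : K ≠ S) (hsolv : Group.IsSolvable S) :
    ∃ (q k : ℕ) (T : Subgroup Γ), q.Prime ∧ 0 < k ∧ K ≤ T ∧ T ≤ S ∧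
      (∀ s ∈ S, ∀ t ∈ T, s * t * s⁻¹ ∈ T) ∧ K.relIndex T = q ^ k := by
  classical
  have hK'n : (K.subgroupOf S).Normal := ⟨fun n hn g => by
    rw [Subgroup.mem_subgroupOf] at hn ⊢
    simp only [Subgroup.coe_mul, Subgroup.coe_inv]
    exact hKn g g.2 n hn⟩
  have hnt : Nontrivial (S ⧸ K.subgroupOf S) := by
    have h1 : ∃ s ∈ S, s ∉ K := by
      by_contra hcon
      push Not at hcon
      exact hne (le_antisymm hKS hcon)
    obtain ⟨s, hs, hsK⟩ := h1
    refine ⟨⟨QuotientGroup.mk ⟨s, hs⟩, 1, ?_⟩⟩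
    intro h
    rw [QuotientGroup.eq_one_iff, Subgroup.mem_subgroupOf] at h
    exact hsK h
  have hsolvQ : Group.IsSolvable (S ⧸ K.subgroupOf S) := inferInstance
  obtain ⟨q, hq, P, hPn, hPq, hPne⟩ :=
    Cfsg.Agent.Lib.Helper01.exists_normal_pSubgroup_of_solvable hsolvQ
  have _ : Fact q.Prime := ⟨hq⟩
  obtain ⟨k, hk⟩ := IsPGroup.iff_card.mp hPq
  have hk0 : 0 < k := by
    rcases Nat.eq_zero_or_pos k with h0 | h0
    · exfalso
      rw [h0, pow_zero] at hk
      exact hPne (Subgroup.card_eq_one.mp hk)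
    · exact h0
  set T' : Subgroup S := P.comap (QuotientGroup.mk' (K.subgroupOf S)) with hT'
  have hK'T' : K.subgroupOf S ≤ T' := by
    intro x hx
    rw [hT', Subgroup.mem_comap]
    have : QuotientGroup.mk' (K.subgroupOf S) x = 1 := (QuotientGroup.eq_one_iff x).mpr hx
    rw [this]
    exact P.one_mem
  have hT'n : T'.Normal := hPn.comap _
  have hrel' : (K.subgroupOf S).relIndex T' = q ^ k := by
    have h1 : K.subgroupOf S = (⊥ : Subgroup (S ⧸ K.subgroupOf S)).comap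
        (QuotientGroup.mk' (K.subgroupOf S)) := by
      exact (QuotientGroup.ker_mk' (K.subgroupOf S)).symm
    rw [h1, Subgroup.relIndex_comap, hT',
      Subgroup.map_comap_eq_self_of_surjective (QuotientGroup.mk'_surjective _),
      Subgroup.relIndex_bot_left, hk]
  refine ⟨q, k, T'.map S.subtype, hq, hk0, ?_, ?_, ?_, ?_⟩
  · intro x hx
    exact ⟨⟨x, hKS hx⟩, hK'T' (Subgroup.mem_subgroupOf.mpr hx), rfl⟩
  · exact Subgroup.map_subtype_le T'
  · rintro s hs _ ⟨t, ht, rfl⟩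
    exact ⟨⟨s, hs⟩ * t * ⟨s, hs⟩⁻¹, hT'n.conj_mem t ht ⟨s, hs⟩, rfl⟩
  · have h2 : K = (K.subgroupOf S).map S.subtype := (Subgroup.map_subgroupOf_eq_of_le hKS).symm
    conv_lhs => rw [h2]
    rw [Subgroup.relIndex_map_map_of_injective _ _ S.subtype_injective, hrel']

/-- every irreducible character of a subgroup lies under an irreducible character. -/
theorem exists_irr_over_sub {G N : Subgroup Γ} [Fintype N] (hNG : N ≤ G) (θ : IrrCharacter N) :
    ∃ χ : IrrCharacter G, classInner (resTo hNG (χ : G → ℂ)) (θ : N → ℂ) ≠ 0 := by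
  classical
  have : Fintype G := Fintype.ofFinite G
  have : Fintype (N.subgroupOf G) := Fintype.ofFinite _
  let e : N.subgroupOf G ≃* N := Subgroup.subgroupOfEquivOfLe hNG
  set θ' : IrrCharacter (N.subgroupOf G) := irrCongr e θ with hθ'
  have hΦ : IsCharacter G (indFun (N.subgroupOf G) (θ' : N.subgroupOf G → ℂ)) :=
    Cfsg.Agent.Lib.Helper34.isCharacter_indFun _
      (Cfsg.Agent.Lib.Helper83.IrrCharacter_isCharacter θ')
  obtain ⟨d, hd0, hd1, _⟩ := Cfsg.Agent.Lib.Helper05.exists_degree_dvd θ'.2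
  have h1 : indFun (N.subgroupOf G) (θ' : N.subgroupOf G → ℂ) 1 ≠ 0 := by
    rw [Cfsg.Agent.Lib.Helper85.indFun_apply_one, hd1]
    have hidx : (N.subgroupOf G).index ≠ 0 := Subgroup.index_ne_zero_of_finite
    have : (N.subgroupOf G).index * d ≠ 0 := Nat.mul_ne_zero hidx hd0.ne'
    exact_mod_cast this
  obtain ⟨χ, hχ⟩ := Cfsg.Agent.Lib.Helper83.exists_constituent hΦ h1
  refine ⟨χ, ?_⟩
  rw [frobenius_reciprocity (N.subgroupOf G) (θ' : N.subgroupOf G → ℂ) (χ : G → ℂ)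
    (Cfsg.Agent.Lib.Helper83.char_isClassFunction
      (Cfsg.Agent.Lib.Helper83.IrrCharacter_isCharacter χ))] at hχ
  intro hcon
  apply hχ
  rw [← Cfsg.Agent.Lib.Helper83.classInner_conj_symm]
  have hres : (fun x : N.subgroupOf G => resTo hNG (χ : G → ℂ) (e x)) =
      fun x : N.subgroupOf G => (χ : G → ℂ) x := by
    funext x
    rfl
  have key : classInner (fun x : N.subgroupOf G => (χ : G → ℂ) x) (θ' : N.subgroupOf G → ℂ) =
      classInner (resTo hNG (χ : G → ℂ)) (θ : N → ℂ) := by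
    rw [← hres]
    exact classInner_comp_mulEquiv e (resTo hNG (χ : G → ℂ)) (θ : N → ℂ)
  rw [key, hcon, map_zero]

omit [Finite Γ] in
/-- a conjugate, by an element normalizing `T`, of a `T`-invariant function is `T`-invariant. -/
theorem setInv_of_conjRel_normalizer {N T : Subgroup Γ} {x : Γ}
    (hxN' : ∀ n ∈ N, x⁻¹ * n * x ∈ N) (hxT' : ∀ t ∈ T, x⁻¹ * t * x ∈ T) {θ θ' : N → ℂ}
    (hθ : SetInv N T θ) (hc : ConjRel N x θ θ') : SetInv N T θ' := by
  intro t ht g g' hg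
  have hg₀ : x⁻¹ * (g : Γ) * x ∈ N := hxN' g g.2
  have hg₀' : x⁻¹ * (g' : Γ) * x ∈ N := hxN' g' g'.2
  have e1 : θ' g = θ ⟨x⁻¹ * g * x, hg₀⟩ :=
    hc ⟨_, hg₀⟩ g (by show (g : Γ) = x * (x⁻¹ * g * x) * x⁻¹; group)
  have e2 : θ' g' = θ ⟨x⁻¹ * g' * x, hg₀'⟩ :=
    hc ⟨_, hg₀'⟩ g' (by show (g' : Γ) = x * (x⁻¹ * g' * x) * x⁻¹; group)
  rw [e1, e2]
  apply hθ (x⁻¹ * t * x) (hxT' t ht) ⟨_, hg₀⟩ ⟨_, hg₀'⟩
  show x⁻¹ * (g' : Γ) * x = (x⁻¹ * t * x) * (x⁻¹ * g * x) * (x⁻¹ * t * x)⁻¹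
  rw [hg]
  group

/-- **invariant characters over invariant characters**, by induction on the order of the group
of operators induced on `G`. -/
theorem exists_inv_over_aux : ∀ (n : ℕ) (G S N : Subgroup Γ) [Fintype N] (hNG : N ≤ G),
    (S ⊓ Subgroup.centralizer (G : Set Γ)).relIndex S ≤ n →
    (∀ s ∈ S, ∀ g ∈ G, s * g * s⁻¹ ∈ G) →
    (∀ g ∈ G, ∀ x ∈ N, g * x * g⁻¹ ∈ N) → (∀ s ∈ S, ∀ x ∈ N, s * x * s⁻¹ ∈ N) →
    (Nat.card G).Coprime (Nat.card S) → Group.IsSolvable S →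
    ∀ θ : IrrCharacter N, SetInv N S (θ : N → ℂ) →
    ∃ χ : IrrCharacter G, classInner (resTo hNG (χ : G → ℂ)) (θ : N → ℂ) ≠ 0 ∧
      SetInv G S (χ : G → ℂ) := by
  intro n
  induction n with
  | zero =>
    intro G S N _ hNG hn
    exfalso
    have h1 : (S ⊓ Subgroup.centralizer (G : Set Γ)).relIndex S ≠ 0 :=
      Subgroup.index_ne_zero_of_finite
    omega
  | succ n ih =>
    intro G S N _ hNG hn hSG hGN hSN hcop hsolv θ hθ
    classical
    by_cases hcent : S ≤ Subgroup.centralizer (G : Set Γ)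
    · obtain ⟨χ, hχ⟩ := exists_irr_over_sub hNG θ
      refine ⟨χ, hχ, ?_⟩
      intro s hs g g' hg
      have h1 := Subgroup.mem_centralizer_iff.mp (hcent hs) g g.2
      have : g' = g := by
        apply Subtype.ext
        rw [hg, ← h1, mul_inv_cancel_right]
      rw [this]
    set K : Subgroup Γ := S ⊓ Subgroup.centralizer (G : Set Γ) with hK
    have hKS : K ≤ S := inf_le_left
    have hKcent : ∀ t ∈ K, ∀ g ∈ G, t * g = g * t := by
      intro t ht g hg
      exact (Subgroup.mem_centralizer_iff.mp (Subgroup.mem_inf.mp ht).2 g hg).symm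
    have hSG' : ∀ s ∈ S, ∀ g ∈ G, s⁻¹ * g * s ∈ G := by
      intro s hs g hg
      have := hSG s⁻¹ (S.inv_mem hs) g hg
      rwa [inv_inv] at this
    have hSN' : ∀ s ∈ S, ∀ x ∈ N, s⁻¹ * x * s ∈ N := by
      intro s hs x hx
      have := hSN s⁻¹ (S.inv_mem hs) x hx
      rwa [inv_inv] at this
    have hKn : ∀ s ∈ S, ∀ t ∈ K, s * t * s⁻¹ ∈ K := by
      intro s hs t ht
      refine Subgroup.mem_inf.mpr ⟨S.mul_mem (S.mul_mem hs (hKS ht)) (S.inv_mem hs), ?_⟩
      rw [Subgroup.mem_centralizer_iff]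
      intro g hg
      have h1 := hKcent t ht (s⁻¹ * g * s) (hSG' s hs g hg)
      calc g * (s * t * s⁻¹) = s * ((s⁻¹ * g * s) * t) * s⁻¹ := by group
        _ = s * (t * (s⁻¹ * g * s)) * s⁻¹ := by rw [h1]
        _ = s * t * s⁻¹ * g := by group
    have hKne : K ≠ S := by
      intro h
      apply hcent
      rw [← h]
      exact inf_le_right
    obtain ⟨q, k, T, hq, hk0, hKT, hTS, hTn, hrel⟩ := exists_rel_qgroup S K hKS hKn hKne hsolv
    have _ : Fact q.Prime := ⟨hq⟩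
    have hTn' : ∀ s ∈ S, ∀ t ∈ T, s⁻¹ * t * s ∈ T := by
      intro s hs t ht
      have := hTn s⁻¹ (S.inv_mem hs) t ht
      rwa [inv_inv] at this
    set B : Subgroup Γ := G ⊓ Subgroup.centralizer (T : Set Γ) with hB
    set B' : Subgroup Γ := N ⊓ Subgroup.centralizer (T : Set Γ) with hB'
    have _ : Fintype B := Fintype.ofFinite B
    have _ : Fintype B' := Fintype.ofFinite B'
    have hBG : B ≤ G := inf_le_left
    have hB'N : B' ≤ N := inf_le_left
    have hB'B : B' ≤ B := inf_le_inf_right _ hNG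
    have hqT : q ∣ Nat.card T := by
      have h1 : K.relIndex T ∣ Nat.card T := Subgroup.index_dvd_card _
      rw [hrel] at h1
      exact (dvd_pow_self q (by omega)).trans h1
    have hcopT : (Nat.card G).Coprime (Nat.card T) :=
      Nat.Coprime.coprime_dvd_right (Subgroup.card_dvd_of_le hTS) hcop
    have hcopq : (Nat.card G).Coprime q := Nat.Coprime.coprime_dvd_right hqT hcopT
    have hcopqN : (Nat.card N).Coprime q :=
      Nat.Coprime.coprime_dvd_left (Subgroup.card_dvd_of_le hNG) hcopq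
    have hTG : ∀ t ∈ T, ∀ g ∈ G, t * g * t⁻¹ ∈ G := fun t ht => hSG t (hTS ht)
    have hTN : ∀ t ∈ T, ∀ x ∈ N, t * x * t⁻¹ ∈ N := fun t ht => hSN t (hTS ht)
    have hTKn : ∀ s ∈ T, ∀ t ∈ K, s * t * s⁻¹ ∈ K := fun s hs => hKn s (hTS hs)
    have hKcentN : ∀ t ∈ K, ∀ x ∈ N, t * x = x * t := fun t ht x hx => hKcent t ht x (hNG hx)
    obtain ⟨fG, hfG, hcG⟩ := glaub_rel q k G T K B hBG hTG (fun _ => hcopq) hKT hTKn hKcent
      hrel rfl
    obtain ⟨fN, hfN, hcN⟩ := glaub_rel q k N T K B' hB'N hTN (fun _ => hcopqN) hKT hTKn hKcentN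
      hrel rfl
    -- powers
    have hpow : ∀ t ∈ T, ∀ x ∈ N, t ^ (q ^ k) * x = x * t ^ (q ^ k) := by
      intro t ht x hx
      have hK'n : (K.subgroupOf T).Normal := ⟨fun n hn g => by
        rw [Subgroup.mem_subgroupOf] at hn ⊢
        simp only [Subgroup.coe_mul, Subgroup.coe_inv]
        exact hTKn g g.2 n hn⟩
      have h1 := Subgroup.pow_index_mem (K.subgroupOf T) (⟨t, ht⟩ : T)
      have h2 : (K.subgroupOf T).index = q ^ k := hrel
      rw [h2, Subgroup.mem_subgroupOf] at h1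
      exact hKcentN _ h1 x hx
    -- the correspondent of `θ`
    have hθT : SetInv N T (θ : N → ℂ) := fun t ht => hθ t (hTS ht)
    have hSB : ∀ s ∈ S, ∀ b ∈ B, s * b * s⁻¹ ∈ B := fun s hs =>
      conj_mem_inf_centralizer (hSG s hs) (hTn' s hs)
    have hSB' : ∀ s ∈ S, ∀ b ∈ B', s * b * s⁻¹ ∈ B' := fun s hs =>
      conj_mem_inf_centralizer (hSN s hs) (hTn' s hs)
    have hSB'' : ∀ s ∈ S, ∀ b ∈ B', s⁻¹ * b * s ∈ B' := by
      intro s hs b hb
      have := hSB' s⁻¹ (S.inv_mem hs) b hb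
      rwa [inv_inv] at this
    have hSBi : ∀ s ∈ S, ∀ b ∈ B, s⁻¹ * b * s ∈ B := by
      intro s hs b hb
      have := hSB s⁻¹ (S.inv_mem hs) b hb
      rwa [inv_inv] at this
    have hφinv : SetInv B' S (fN ⟨θ, hθT⟩ : B' → ℂ) := by
      intro x hx
      exact glaubCorr_equivariant (p := q) (G := N) (S := T) (C := B') (hCG := hB'N) fN hcN x
        (hSB' x hx) (hSB'' x hx) ⟨θ, hθT⟩ ⟨θ, hθT⟩ (hθ x hx)
    -- the measure decreases
    have hTB : ∀ t ∈ T, ∀ b ∈ B, t * b = b * t := fun t ht b hb =>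
      (Subgroup.mem_centralizer_iff.mp (Subgroup.mem_inf.mp hb).2) t ht
    have hmeasure : (S ⊓ Subgroup.centralizer (B : Set Γ)).relIndex S ≤ n := by
      have hTle : T ≤ S ⊓ Subgroup.centralizer (B : Set Γ) := by
        intro t ht
        refine Subgroup.mem_inf.mpr ⟨hTS ht, ?_⟩
        rw [Subgroup.mem_centralizer_iff]
        intro b hb
        exact (hTB t ht b hb).symm
      have h1 : (S ⊓ Subgroup.centralizer (B : Set Γ)).relIndex S ∣ T.relIndex S :=
        Subgroup.relIndex_dvd_of_le_left S hTle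
      have h2 : T.relIndex S ≠ 0 := Subgroup.index_ne_zero_of_finite
      have h3 := Nat.le_of_dvd (Nat.pos_of_ne_zero h2) h1
      have h4 := Subgroup.relIndex_mul_relIndex K T S hKT hTS
      rw [hrel] at h4
      have h5 : 2 ≤ q ^ k := by
        calc 2 ≤ q := hq.two_le
          _ = q ^ 1 := (pow_one q).symm
          _ ≤ q ^ k := Nat.pow_le_pow_right hq.pos hk0
      have h6 : 0 < T.relIndex S := Nat.pos_of_ne_zero h2
      nlinarith
    have hBB' : ∀ b ∈ B, ∀ c ∈ B', b * c * b⁻¹ ∈ B' := by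
      intro b hb
      apply conj_mem_inf_centralizer (hGN b (hBG hb))
      intro t ht
      have h1 := hTB t ht b hb
      have : b⁻¹ * t * b = t := by
        calc b⁻¹ * t * b = b⁻¹ * (t * b) := by group
          _ = b⁻¹ * (b * t) := by rw [h1]
          _ = t := by group
      rw [this]
      exact ht
    have hcopB : (Nat.card B).Coprime (Nat.card S) :=
      Nat.Coprime.coprime_dvd_left (Subgroup.card_dvd_of_le hBG) hcop
    obtain ⟨ψ, hψ1, hψ2⟩ := ih B S B' hB'B hmeasure hSB hBB' hSB' hcopB hsolv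
      (fN ⟨θ, hθT⟩) hφinv
    -- pull back to `G`
    obtain ⟨χ₁, hχ₁⟩ := hfG.2 ψ
    have hχ₁S : SetInv G S (χ₁.1 : G → ℂ) := by
      intro x hx
      obtain ⟨χ', hχ'⟩ := exists_conjRel G x (hSG x hx) (hSG' x hx) χ₁.1
      have hχ'T : SetInv G T (χ' : G → ℂ) :=
        setInv_of_conjRel_normalizer (hSG' x hx) (hTn' x hx) χ₁.2 hχ'
      have h5 := glaubCorr_equivariant (p := q) (G := G) (S := T) (C := B) (hCG := hBG) fG hcG x
        (hSB x hx) (hSBi x hx) χ₁ ⟨χ', hχ'T⟩ hχ'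
      have h6 : ConjRel B x (fG χ₁ : B → ℂ) (fG χ₁ : B → ℂ) := by
        rw [hχ₁]; exact hψ2 x hx
      have h7 : (fG ⟨χ', hχ'T⟩ : B → ℂ) = (fG χ₁ : B → ℂ) := ConjRel.unique (hSBi x hx) h5 h6
      have h8 : (⟨χ', hχ'T⟩ : {χ : IrrCharacter G // SetInv G T (χ : G → ℂ)}) = χ₁ :=
        hfG.1 (Subtype.ext h7)
      have h9 : χ' = χ₁.1 := congrArg Subtype.val h8
      rw [h9] at hχ'
      exact hχ'
    refine ⟨χ₁.1, ?_, hχ₁S⟩
    have hsolvT : Group.IsSolvable T :=
      Group.isSolvable_of_isSolvable_injective (f := Subgroup.inclusion hTS)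
        (Subgroup.inclusion_injective hTS)
    apply cons_backward q k G N T B B' hNG hGN hTG hTN hpow hcopq hsolvT hcopT rfl rfl hBG hB'N
      hB'B fG hcG fN hfN.1 hcN χ₁ ⟨θ, hθT⟩
    rw [hχ₁]
    exact hψ1

/-- **invariant characters over invariant characters**: the solvable group `S` acts coprimely on
`G` and normalizes `N ⊴ G`; every `S`-invariant irreducible character of `N` lies under an
`S`-invariant irreducible character of `G`. -/
theorem exists_inv_over (G S N : Subgroup Γ) [Fintype N] (hNG : N ≤ G)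
    (hSG : ∀ s ∈ S, ∀ g ∈ G, s * g * s⁻¹ ∈ G)
    (hGN : ∀ g ∈ G, ∀ x ∈ N, g * x * g⁻¹ ∈ N) (hSN : ∀ s ∈ S, ∀ x ∈ N, s * x * s⁻¹ ∈ N)
    (hcop : (Nat.card G).Coprime (Nat.card S)) (hsolv : Group.IsSolvable S)
    (θ : IrrCharacter N) (hθ : SetInv N S (θ : N → ℂ)) :
    ∃ χ : IrrCharacter G, classInner (resTo hNG (χ : G → ℂ)) (θ : N → ℂ) ≠ 0 ∧
      SetInv G S (χ : G → ℂ) :=
  exists_inv_over_aux _ G S N hNG le_rfl hSG hGN hSN hcop hsolv θ hθ

end GlaubUp

end Cfsg.Agent.Lib.Helper04
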