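import Mathlib
import Cfsg.Prelude.Def_SylowChains
import Cfsg.Agent.Lib.Helper41.AG
import Cfsg.Agent.Lib.Helper39.HyperplaneGen
import Cfsg.Agent.Lib.Helper15.Lifting

/-!
# Groups with a strongly `p`-embedded subgroup: abstract lemmas

For a Sylow `p`-subgroup `S` of a finite group `Γ` put
`gen0 S = ⟨N_Γ(Q) : 1 ≠ Q ≤ S⟩`.  If `gen0 S ≠ Γ` then
* the Sylow `p`-subgroups are not chain connected,
* two normal subgroups of order divisible by `p` meet in a subgroup of order divisible by `p`,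
* hence there is a least normal subgroup of order divisible by `p`.
-/

set_option autoImplicit false

namespace Cfsg.Agent.Lib.Helper04.Gold

open Cfsg Cfsg.Agent.Lib.Helper41

variable {Γ : Type*} [Group Γ]

/-- the subgroup generated by the normalizers of the nontrivial subgroups of `S` -/
def gen0 (S : Subgroup Γ) : Subgroup Γ :=
  ⨆ Q : {Q : Subgroup Γ // Q ≤ S ∧ Q ≠ ⊥}, Subgroup.normalizer ((Q : Subgroup Γ) : Set Γ)

theorem normalizer_le_gen0 {S Q : Subgroup Γ} (hQS : Q ≤ S) (hQ : Q ≠ ⊥) :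
    Subgroup.normalizer (Q : Set Γ) ≤ gen0 S :=
  le_iSup (fun Q : {Q : Subgroup Γ // Q ≤ S ∧ Q ≠ ⊥} =>
    Subgroup.normalizer ((Q : Subgroup Γ) : Set Γ)) ⟨Q, hQS, hQ⟩

theorem chain_prod_mem_gen0 {S : Subgroup Γ} {𝓕 : Set (Subgroup Γ)} (h𝓕 : ∀ T ∈ 𝓕, T ≤ S) :
    ∀ (L : List (Subgroup Γ × Γ)) (A : Set Γ), (∃ a ∈ A, a ≠ 1) → Chain 𝓕 A L →
      (L.map Prod.snd).prod ∈ gen0 S := by
  intro L
  induction L with
  | nil => intro A _ _; simp
  | cons s L ih =>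
    obtain ⟨T, x⟩ := s
    rintro A ⟨a, ha, ha1⟩ ⟨hT, hx, hAT, hrest⟩
    simp only [List.map_cons, List.prod_cons]
    refine Subgroup.mul_mem _ ?_ (ih (rconj x A) ⟨x⁻¹ * a * x, ⟨a, ha, rfl⟩, ?_⟩ hrest)
    · apply normalizer_le_gen0 (h𝓕 T hT) _ hx
      intro hbot
      have h1 : a ∈ T := hAT ha
      rw [hbot, Subgroup.mem_bot] at h1
      exact ha1 h1
    · intro h
      apply ha1
      have e : a = x * (x⁻¹ * a * x) * x⁻¹ := by group
      rw [e, h]; group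

section finite

variable [Finite Γ] {p : ℕ} [Fact p.Prime]

/-- if `S ∩ gSg⁻¹ ≠ 1` then `g ∈ gen0 S` -/
theorem mem_gen0_of_inf_ne_bot (S : Sylow p Γ) (g : Γ)
    (h : (S : Subgroup Γ) ⊓ lc g (S : Subgroup Γ) ≠ ⊥) : g ∈ gen0 (S : Subgroup Γ) := by
  set D := (S : Subgroup Γ) ⊓ lc g (S : Subgroup Γ) with hD
  have hDS : (D : Set Γ) ⊆ ((S : Subgroup Γ) : Set Γ) := fun x hx => (inf_le_left : D ≤ _) hx
  have hgD : rconj g (D : Set Γ) ⊆ ((S : Subgroup Γ) : Set Γ) := by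
    intro x hx
    rw [mem_rconj] at hx
    have h2 : g * x * g⁻¹ ∈ lc g (S : Subgroup Γ) := (inf_le_right : D ≤ _) hx
    rw [mem_lc] at h2
    have e : g⁻¹ * (g * x * g⁻¹) * g = x := by group
    rwa [e] at h2
  obtain ⟨g', hreach, hact⟩ := ag_reach S hDS hgD
  obtain ⟨L, hL, hprod⟩ := hreach
  have hne : ∃ a ∈ (D : Set Γ), a ≠ 1 := by
    by_contra hcon
    push Not at hcon
    apply h
    rw [eq_bot_iff]
    intro x hx
    rw [Subgroup.mem_bot]
    exact hcon x hx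
  have hg' : g' ∈ gen0 (S : Subgroup Γ) := by
    rw [← hprod]
    exact chain_prod_mem_gen0 (fun T hT => hT.1) L _ hne hL
  have hc : g * g'⁻¹ ∈ Subgroup.normalizer (D : Set Γ) := by
    apply Subgroup.centralizer_le_normalizer
    rw [Subgroup.mem_centralizer_iff]
    intro a ha
    have e := hact a ha
    calc a * (g * g'⁻¹) = g * (g⁻¹ * a * g) * g'⁻¹ := by group
    _ = g * (g'⁻¹ * a * g') * g'⁻¹ := by rw [e]
    _ = g * g'⁻¹ * a := by group
  have e2 : g = (g * g'⁻¹) * g' := by group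
  rw [e2]
  exact Subgroup.mul_mem _ (normalizer_le_gen0 inf_le_left h hc) hg'

/-- chain connectedness forces `gen0 S = ⊤` -/
theorem gen0_eq_top_of_chainConnected (S : Sylow p Γ) (hS : (S : Subgroup Γ) ≠ ⊥)
    (hc : Cfsg.IsSylowChainConnected p Γ) : gen0 (S : Subgroup Γ) = ⊤ := by
  rw [eq_top_iff]
  intro x _
  obtain ⟨n, c, h0, hlast, -, hstep⟩ := hc S (x • S)
  have key : ∀ i : ℕ, ∀ hi : i < n + 1, ∃ g ∈ gen0 (S : Subgroup Γ),
      ((c ⟨i, hi⟩ : Sylow p Γ) : Subgroup Γ) = lc g (S : Subgroup Γ) := by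
    intro i
    induction i with
    | zero =>
      intro hi
      refine ⟨1, Subgroup.one_mem _, ?_⟩
      have : c ⟨0, hi⟩ = S := h0
      rw [this, lc_one]
    | succ i ih =>
      intro hi
      obtain ⟨g, hg, hcg⟩ := ih (by omega)
      obtain ⟨h', hh'⟩ := MulAction.exists_smul_eq Γ S (c ⟨i + 1, hi⟩)
      have hne := (hstep ⟨i, by omega⟩).2
      have e1 : (⟨i, by omega⟩ : Fin n).castSucc = (⟨i, by omega⟩ : Fin (n + 1)) := rfl
      have e2 : (⟨i, by omega⟩ : Fin n).succ = (⟨i + 1, hi⟩ : Fin (n + 1)) := rfl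
      rw [e1, e2, hcg] at hne
      have hc2 : ((c ⟨i + 1, hi⟩ : Sylow p Γ) : Subgroup Γ) = lc h' (S : Subgroup Γ) := by
        rw [← hh', Sylow.coe_subgroup_smul]; rfl
      rw [hc2] at hne
      refine ⟨h', ?_, hc2⟩
      -- `S ∩ lc (g⁻¹ h') S ≠ ⊥`
      have h3 : (S : Subgroup Γ) ⊓ lc (g⁻¹ * h') (S : Subgroup Γ) ≠ ⊥ := by
        intro hbot
        apply hne
        have : lc g ((S : Subgroup Γ) ⊓ lc (g⁻¹ * h') (S : Subgroup Γ)) =
            lc g (S : Subgroup Γ) ⊓ lc h' (S : Subgroup Γ) := by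
          rw [lc_inf, ← lc_mul]
          congr 2
          group
        rw [← this, hbot, lc_bot]
      have h4 := mem_gen0_of_inf_ne_bot S _ h3
      have : h' = g * (g⁻¹ * h') := by group
      rw [this]
      exact Subgroup.mul_mem _ hg h4
  obtain ⟨g, hg, hcg⟩ := key n (by omega)
  have hl : c ⟨n, by omega⟩ = x • S := hlast
  rw [hl, Sylow.coe_subgroup_smul] at hcg
  -- `lc x S = lc g S`
  have h5 : lc (g⁻¹ * x) (S : Subgroup Γ) = (S : Subgroup Γ) := by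
    have h6 : lc x (S : Subgroup Γ) = lc g (S : Subgroup Γ) := hcg
    rw [lc_mul, h6, lc_inv_lc]
  have h7 : g⁻¹ * x ∈ Subgroup.normalizer ((S : Subgroup Γ) : Set Γ) :=
    mem_normalizer_iff_lc.mpr h5
  have : x = g * (g⁻¹ * x) := by group
  rw [this]
  exact Subgroup.mul_mem _ hg (normalizer_le_gen0 le_rfl hS h7)

/-- a normal subgroup of order divisible by `p` meets `S` in an element of order `p` -/
theorem exists_orderOf_eq_in_inf (S : Sylow p Γ) (Y : Subgroup Γ) [hY : Y.Normal]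
    (hpY : p ∣ Nat.card Y) : ∃ t ∈ (S : Subgroup Γ) ⊓ Y, orderOf t = p := by
  obtain ⟨y, hy⟩ := exists_prime_orderOf_dvd_card' p hpY
  have hyo : orderOf (y : Γ) = p := by rw [Subgroup.orderOf_coe, hy]
  have hpg : IsPGroup p (Subgroup.zpowers (y : Γ)) := by
    apply IsPGroup.of_card (n := 1)
    rw [Nat.card_zpowers, hyo, pow_one]
  obtain ⟨Q, hQ⟩ := hpg.exists_le_sylow
  obtain ⟨g, hg⟩ := MulAction.exists_smul_eq Γ Q S
  refine ⟨g * y * g⁻¹, Subgroup.mem_inf.mpr ⟨?_, hY.conj_mem _ y.2 g⟩, ?_⟩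
  · have h1 : (y : Γ) ∈ (Q : Subgroup Γ) := hQ (Subgroup.mem_zpowers _)
    have h2 : g * y * g⁻¹ ∈ lc g (Q : Subgroup Γ) := conj_mem_lc h1
    have h3 : ((g • Q : Sylow p Γ) : Subgroup Γ) = lc g (Q : Subgroup Γ) := by
      rw [Sylow.coe_subgroup_smul]; rfl
    rw [← hg, h3]
    exact h2
  · have := (MulAut.conj g).orderOf_eq (y : Γ)
    rw [MulAut.conj_apply] at this
    rw [this, hyo]

/-- **intersection lemma**: if `gen0 S ≠ ⊤`, two normal subgroups of order divisible by `p` meet in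
a subgroup of order divisible by `p`. -/
theorem dvd_card_inf_of_gen0_ne_top (S : Sylow p Γ) (h0 : gen0 (S : Subgroup Γ) ≠ ⊤)
    (Y₁ Y₂ : Subgroup Γ) [hn₁ : Y₁.Normal] [hn₂ : Y₂.Normal]
    (h₁ : p ∣ Nat.card Y₁) (h₂ : p ∣ Nat.card Y₂) : p ∣ Nat.card (Y₁ ⊓ Y₂ : Subgroup Γ) := by
  by_contra hnd
  have hp : p.Prime := Fact.out
  apply h0
  set D : Subgroup Γ := Y₁ ⊓ Y₂ with hD
  haveI hDn : D.Normal := Subgroup.normal_inf_normal Y₁ Y₂
  have hDcop : (Nat.card D).Coprime p := ((Nat.Prime.coprime_iff_not_dvd hp).mpr hnd).symm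
  have hSD : (S : Subgroup Γ) ⊓ D = ⊥ :=
    Cfsg.Agent.Lib.Helper40.isPGroup_inf_coprime_eq_bot _ _ S.2 hDcop
  obtain ⟨t₁, ht₁, ho₁⟩ := exists_orderOf_eq_in_inf S Y₁ h₁
  obtain ⟨t₂, ht₂, ho₂⟩ := exists_orderOf_eq_in_inf S Y₂ h₂
  obtain ⟨ht₁S, ht₁Y⟩ := Subgroup.mem_inf.mp ht₁
  obtain ⟨ht₂S, ht₂Y⟩ := Subgroup.mem_inf.mp ht₂
  set G0 := gen0 (S : Subgroup Γ) with hG0
  have ht₁1 : t₁ ≠ 1 := by
    intro h; rw [h, orderOf_one] at ho₁; exact hp.one_lt.ne ho₁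
  have ht₂1 : t₂ ≠ 1 := by
    intro h; rw [h, orderOf_one] at ho₂; exact hp.one_lt.ne ho₂
  have hT₁S : Subgroup.zpowers t₁ ≤ (S : Subgroup Γ) := (Subgroup.zpowers_le).mpr ht₁S
  have hT₁ne : Subgroup.zpowers t₁ ≠ ⊥ := by
    intro h; exact ht₁1 (Subgroup.zpowers_eq_bot.mp h)
  have hN₁ : Subgroup.normalizer ((Subgroup.zpowers t₁ : Subgroup Γ) : Set Γ) ≤ G0 :=
    normalizer_le_gen0 hT₁S hT₁ne
  -- Step (i): `G0 ⊔ Y₂ = ⊤` (Frattini)
  have hstep1 : G0 ⊔ Y₂ = ⊤ := by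
    have hidx : ¬ p ∣ ((S : Subgroup Γ) ⊓ Y₂).relIndex Y₂ := by
      apply not_dvd_relIndex_inf_of_normal (N := ⊤) le_top S.2 _ le_top
        (fun c n hc _ => hn₂.conj_mem c hc n)
      rw [Subgroup.relIndex_top_right]
      exact S.not_dvd_index
    have hpg : IsPGroup p (((S : Subgroup Γ) ⊓ Y₂).subgroupOf Y₂) :=
      (S.2.to_inf_left (K := Y₂)).comap_subtype
    let P₂ : Sylow p Y₂ := hpg.toSylow hidx
    have hfr := Sylow.normalizer_sup_eq_top P₂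
    have hmap : ((P₂ : Subgroup Y₂).map Y₂.subtype) = (S : Subgroup Γ) ⊓ Y₂ := by
      show ((((S : Subgroup Γ) ⊓ Y₂).subgroupOf Y₂).map Y₂.subtype) = _
      exact Subgroup.map_subgroupOf_eq_of_le inf_le_right
    rw [hmap] at hfr
    have hne : (S : Subgroup Γ) ⊓ Y₂ ≠ ⊥ := by
      intro h
      have : t₂ ∈ (S : Subgroup Γ) ⊓ Y₂ := ht₂
      rw [h, Subgroup.mem_bot] at this
      exact ht₂1 this
    rw [eq_top_iff, ← hfr]
    exact sup_le_sup_right (normalizer_le_gen0 inf_le_left hne) _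
  -- Step (ii): `Y₂ ≤ G0 ⊔ D`
  have hstep2 : Y₂ ≤ G0 ⊔ D := by
    intro y hy
    have hTpg : IsPGroup p (Subgroup.zpowers t₁) := S.2.to_le hT₁S
    have hcen := Cfsg.Agent.Lib.Helper15.centralizer_map_mk_of_coprime D hDcop
      (Subgroup.zpowers t₁) hTpg
    have hy' : (QuotientGroup.mk' D y) ∈ Subgroup.centralizer
        (((Subgroup.zpowers t₁).map (QuotientGroup.mk' D) : Subgroup (Γ ⧸ D)) : Set (Γ ⧸ D)) := by
      rw [Subgroup.mem_centralizer_iff]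
      rintro _ ⟨t, ht, rfl⟩
      -- `t y = y t` modulo `D`
      have htY : t ∈ Y₁ := by
        have : Subgroup.zpowers t₁ ≤ Y₁ := (Subgroup.zpowers_le).mpr ht₁Y
        exact this ht
      rw [← map_mul, ← map_mul]
      apply (QuotientGroup.eq).mpr
      -- `(t y)⁻¹ (y t) ∈ D`
      have e : (t * y)⁻¹ * (y * t) = (y⁻¹ * (t⁻¹ * y * t⁻¹⁻¹)) * 1 := by group
      refine Subgroup.mem_inf.mpr ⟨?_, ?_⟩
      · -- in Y₁ : `y⁻¹ t⁻¹ y · t`
        have e1 : (t * y)⁻¹ * (y * t) = (y⁻¹ * t⁻¹ * y⁻¹⁻¹) * t := by group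
        rw [e1]
        exact Y₁.mul_mem (hn₁.conj_mem _ (Y₁.inv_mem htY) _) htY
      · -- in Y₂ : `y⁻¹ · (t⁻¹ y t)`
        have e2 : (t * y)⁻¹ * (y * t) = y⁻¹ * (t⁻¹ * y * t⁻¹⁻¹) := by group
        rw [e2]
        exact Y₂.mul_mem (Y₂.inv_mem hy) (hn₂.conj_mem _ hy _)
    rw [hcen] at hy'
    obtain ⟨c, hc, hcy⟩ := hy'
    have hcD : c⁻¹ * y ∈ D := (QuotientGroup.eq).mp hcy
    have : y = c * (c⁻¹ * y) := by group
    rw [this]
    exact Subgroup.mul_mem _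
      (Subgroup.mem_sup_left (hN₁ (Subgroup.centralizer_le_normalizer _ hc)))
      (Subgroup.mem_sup_right hcD)
  have hstep3 : G0 ⊔ D = ⊤ := by
    rw [eq_top_iff, ← hstep1]
    exact sup_le le_sup_left hstep2
  -- Step B: `D ≤ G0`
  have hcomm : t₁ * t₂ = t₂ * t₁ := by
    have h1 : t₁ * t₂ * t₁⁻¹ * t₂⁻¹ ∈ (S : Subgroup Γ) ⊓ D := by
      refine Subgroup.mem_inf.mpr ⟨?_, Subgroup.mem_inf.mpr ⟨?_, ?_⟩⟩
      · exact Subgroup.mul_mem _ (Subgroup.mul_mem _ (Subgroup.mul_mem _ ht₁S ht₂S)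
          (Subgroup.inv_mem _ ht₁S)) (Subgroup.inv_mem _ ht₂S)
      · have e : t₁ * t₂ * t₁⁻¹ * t₂⁻¹ = t₁ * (t₂ * t₁⁻¹ * t₂⁻¹) := by group
        rw [e]
        exact Y₁.mul_mem ht₁Y (hn₁.conj_mem _ (Y₁.inv_mem ht₁Y) _)
      · exact Y₂.mul_mem (hn₂.conj_mem _ ht₂Y _) (Y₂.inv_mem ht₂Y)
    rw [hSD, Subgroup.mem_bot] at h1
    calc t₁ * t₂ = (t₁ * t₂ * t₁⁻¹ * t₂⁻¹) * (t₂ * t₁) := by group
    _ = t₂ * t₁ := by rw [h1, one_mul]
  set A : Subgroup Γ := Subgroup.zpowers t₁ ⊔ Subgroup.zpowers t₂ with hA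
  have hAS : A ≤ (S : Subgroup Γ) := sup_le hT₁S ((Subgroup.zpowers_le).mpr ht₂S)
  have hAgen : A = Subgroup.closure {t₁, t₂} := by
    rw [hA, Subgroup.zpowers_eq_closure, Subgroup.zpowers_eq_closure, ← Subgroup.closure_union]
    rfl
  have hcomm' : ∀ x ∈ ({t₁, t₂} : Set Γ), ∀ y ∈ ({t₁, t₂} : Set Γ), x * y = y * x := by
    intro x hx y hy
    rcases hx with rfl | rfl <;> rcases hy with rfl | rfl
    · rfl
    · exact hcomm
    · exact hcomm.symm
    · rfl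
  have hAc : ∀ a ∈ A, ∀ b ∈ A, a * b = b * a := by
    have h1 : ({t₁, t₂} : Set Γ) ⊆ Subgroup.centralizer ({t₁, t₂} : Set Γ) := by
      intro x hx
      rw [SetLike.mem_coe, Subgroup.mem_centralizer_iff]
      intro y hy
      exact hcomm' y hy x hx
    have h2 : A ≤ Subgroup.centralizer ({t₁, t₂} : Set Γ) := by
      rw [hAgen]; exact (Subgroup.closure_le _).mpr h1
    have h3 : ({t₁, t₂} : Set Γ) ⊆ Subgroup.centralizer (A : Set Γ) := by
      intro x hx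
      rw [SetLike.mem_coe, Subgroup.mem_centralizer_iff]
      intro a ha
      exact ((Subgroup.mem_centralizer_iff.mp (h2 ha)) x hx).symm
    have h4 : Subgroup.closure ({t₁, t₂} : Set Γ) ≤ Subgroup.centralizer (A : Set Γ) :=
      (Subgroup.closure_le _).mpr h3
    intro a ha b hb
    rw [hAgen] at ha
    exact ((Subgroup.mem_centralizer_iff.mp (h4 ha)) b hb).symm
  have e1 : t₁ ^ p = 1 := by rw [← ho₁]; exact pow_orderOf_eq_one t₁
  have e2 : t₂ ^ p = 1 := by rw [← ho₂]; exact pow_orderOf_eq_one t₂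
  have hAp : ∀ a ∈ A, a ^ p = 1 := by
    intro a ha
    rw [hAgen] at ha
    induction ha using Subgroup.closure_induction with
    | mem x hx =>
      rcases hx with rfl | rfl
      · exact e1
      · exact e2
    | one => exact one_pow _
    | mul x y hx hy ihx ihy =>
      have hxy : x * y = y * x := hAc x (hAgen ▸ hx) y (hAgen ▸ hy)
      rw [(Commute.mul_pow hxy) p, ihx, ihy, one_mul]
    | inv x hx ih => rw [inv_pow, ih, inv_one]
  have hcardA : p < Nat.card A := by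
    -- `A` is a `p`-group containing `zpowers t₁` properly
    have hApg : IsPGroup p A := S.2.to_le hAS
    obtain ⟨k, hk⟩ := (IsPGroup.iff_card).mp hApg
    have h1 : Subgroup.zpowers t₁ ≤ A := le_sup_left
    have hlt : Subgroup.zpowers t₁ < A := by
      refine lt_of_le_of_ne h1 ?_
      intro heq
      have h2 : t₂ ∈ Subgroup.zpowers t₁ := by
        rw [heq]; exact Subgroup.mem_sup_right (Subgroup.mem_zpowers _)
      -- then `t₂ ∈ Y₁ ∩ Y₂ ∩ S = ⊥`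
      have h3 : t₂ ∈ (S : Subgroup Γ) ⊓ D := by
        refine Subgroup.mem_inf.mpr ⟨ht₂S, Subgroup.mem_inf.mpr ⟨?_, ht₂Y⟩⟩
        have : Subgroup.zpowers t₁ ≤ Y₁ := (Subgroup.zpowers_le).mpr ht₁Y
        exact this h2
      rw [hSD, Subgroup.mem_bot] at h3
      exact ht₂1 h3
    have h4 := card_lt_card_of_lt hlt
    rw [Nat.card_zpowers, ho₁] at h4
    exact h4
  have hDG0 : D ≤ G0 := by
    apply Cfsg.Agent.Lib.Helper39.le_of_hyperplane_centralizers_le hAc hAp hDcop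
    · intro a _
      exact (Subgroup.normalizer_eq_top_iff.mpr hDn) ▸ Subgroup.mem_top a
    · intro B hBA hcard
      have hBne : B ≠ ⊥ := by
        intro hB
        rw [hB, Subgroup.card_bot, mul_one] at hcard
        omega
      exact inf_le_right.trans ((Subgroup.centralizer_le_normalizer _).trans
        (normalizer_le_gen0 (hBA.trans hAS) hBne))
  rw [eq_top_iff, ← hstep3]
  exact sup_le le_rfl hDG0

/-- **the least normal subgroup of order divisible by `p`** -/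
theorem exists_least_normal (S : Sylow p Γ) (h0 : gen0 (S : Subgroup Γ) ≠ ⊤)
    (hp : p ∣ Nat.card Γ) :
    ∃ X : Subgroup Γ, X.Normal ∧ p ∣ Nat.card X ∧
      ∀ Y : Subgroup Γ, Y.Normal → p ∣ Nat.card Y → X ≤ Y := by
  classical
  set 𝒴 : Set (Subgroup Γ) := {Y | Y.Normal ∧ p ∣ Nat.card Y} with h𝒴
  have hne : 𝒴.Nonempty := ⟨⊤, inferInstance, by rwa [Subgroup.card_top]⟩
  obtain ⟨X, hX, hmin⟩ := Set.exists_min_image 𝒴 (fun Y => Nat.card Y) (Set.toFinite _) hne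
  refine ⟨X, hX.1, hX.2, ?_⟩
  intro Y hYn hYp
  haveI := hX.1
  haveI := hYn
  have h1 : p ∣ Nat.card (X ⊓ Y : Subgroup Γ) := dvd_card_inf_of_gen0_ne_top S h0 X Y hX.2 hYp
  have h2 : (X ⊓ Y : Subgroup Γ) ∈ 𝒴 := ⟨Subgroup.normal_inf_normal X Y, h1⟩
  have h3 := hmin _ h2
  have h4 : X ⊓ Y = X := Subgroup.eq_of_le_of_card_ge inf_le_left h3
  rw [← h4]
  exact inf_le_right

end finite

end Cfsg.Agent.Lib.Helper04.Gold
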