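import Cfsg.Agent.Lib.Helper04.GoldAbs
import Cfsg.Agent.Lib.Helper04.Alperin

/-!
# Bridge between `N_G(H)/H` and subgroups of `G` between `H` and `N_G(H)`
-/

set_option autoImplicit false

namespace Cfsg.Agent.Lib.Helper04.Gold

open Cfsg Cfsg.Agent.Lib.Helper41

variable {G : Type*} [Group G]

section bridge

variable (H : Subgroup G)

/-- the quotient `N_G(H)/H` -/
abbrev Quo : Type _ :=
  ↥(Subgroup.normalizer (H : Set G)) ⧸ H.subgroupOf (Subgroup.normalizer (H : Set G))

/-- the projection `N_G(H) → N_G(H)/H` -/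
def proj : ↥(Subgroup.normalizer (H : Set G)) →* Quo H := QuotientGroup.mk' _

theorem proj_surjective : Function.Surjective (proj H) := QuotientGroup.mk'_surjective _

theorem ker_proj : (proj H).ker = H.subgroupOf (Subgroup.normalizer (H : Set G)) :=
  QuotientGroup.ker_mk' _

/-- image in `N(H)/H` of a subgroup of `G` -/
def img (Y : Subgroup G) : Subgroup (Quo H) :=
  (Y.subgroupOf (Subgroup.normalizer (H : Set G))).map (proj H)

/-- preimage in `G` of a subgroup of `N(H)/H` -/
def pre (Z : Subgroup (Quo H)) : Subgroup G :=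
  (Z.comap (proj H)).map (Subgroup.normalizer (H : Set G)).subtype

theorem pre_le (Z : Subgroup (Quo H)) : pre H Z ≤ Subgroup.normalizer (H : Set G) :=
  Subgroup.map_subtype_le _

theorem le_pre (Z : Subgroup (Quo H)) : H ≤ pre H Z := by
  intro h hh
  refine ⟨⟨h, Subgroup.le_normalizer hh⟩, ?_, rfl⟩
  show proj H ⟨h, Subgroup.le_normalizer hh⟩ ∈ Z
  have h1 : proj H ⟨h, Subgroup.le_normalizer hh⟩ = 1 := by
    rw [← MonoidHom.mem_ker, ker_proj, Subgroup.mem_subgroupOf]
    exact hh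
  rw [h1]
  exact Z.one_mem

theorem subgroupOf_pre (Z : Subgroup (Quo H)) :
    (pre H Z).subgroupOf (Subgroup.normalizer (H : Set G)) = Z.comap (proj H) :=
  Subgroup.comap_map_eq_self_of_injective (Subgroup.subtype_injective _) _

theorem pre_mono {Z₁ Z₂ : Subgroup (Quo H)} (h : Z₁ ≤ Z₂) : pre H Z₁ ≤ pre H Z₂ :=
  Subgroup.map_mono (Subgroup.comap_mono h)

theorem img_pre (Z : Subgroup (Quo H)) : img H (pre H Z) = Z := by
  unfold img
  rw [subgroupOf_pre]
  exact Subgroup.map_comap_eq_self_of_surjective (proj_surjective H) Z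

theorem pre_img {Y : Subgroup G} (hHY : H ≤ Y) (hYN : Y ≤ Subgroup.normalizer (H : Set G)) :
    pre H (img H Y) = Y := by
  unfold pre img
  rw [Subgroup.comap_map_eq, ker_proj]
  have h1 : Y.subgroupOf (Subgroup.normalizer (H : Set G)) ⊔
      H.subgroupOf (Subgroup.normalizer (H : Set G)) =
      Y.subgroupOf (Subgroup.normalizer (H : Set G)) := by
    rw [sup_eq_left]
    intro x hx
    rw [Subgroup.mem_subgroupOf] at hx ⊢
    exact hHY hx
  rw [h1]
  exact Subgroup.map_subgroupOf_eq_of_le hYN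

theorem img_self : img H H = ⊥ := by
  unfold img
  rw [Subgroup.map_eq_bot_iff, ker_proj]

theorem pre_bot : pre H ⊥ = H := by
  unfold pre
  rw [MonoidHom.comap_bot, ker_proj]
  exact Subgroup.map_subgroupOf_eq_of_le Subgroup.le_normalizer

theorem pre_top : pre H ⊤ = Subgroup.normalizer (H : Set G) := by
  unfold pre
  rw [Subgroup.comap_top, ← MonoidHom.range_eq_map, Subgroup.range_subtype]

theorem card_img {Y : Subgroup G} (hYN : Y ≤ Subgroup.normalizer (H : Set G)) :
    Nat.card (img H Y) = H.relIndex Y := by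
  have h := Subgroup.relIndex_comap (H := (⊥ : Subgroup (Quo H))) (proj H)
    (Y.subgroupOf (Subgroup.normalizer (H : Set G)))
  rw [Subgroup.relIndex_bot_left, MonoidHom.comap_bot, ker_proj,
    Subgroup.relIndex_subgroupOf hYN] at h
  unfold img
  exact h.symm

theorem normal_subgroupOf_pre (Z : Subgroup (Quo H)) [Z.Normal] :
    ((pre H Z).subgroupOf (Subgroup.normalizer (H : Set G))).Normal := by
  rw [subgroupOf_pre]
  infer_instance

theorem normal_img {Y : Subgroup G}
    (hn : (Y.subgroupOf (Subgroup.normalizer (H : Set G))).Normal) : (img H Y).Normal :=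
  hn.map _ (proj_surjective H)

end bridge

/-- upstairs version of `gen0` -/
def gam0 (P H : Subgroup G) : Subgroup G :=
  ⨆ Q : {Q : Subgroup G // H < Q ∧ Q ≤ P ⊓ Subgroup.normalizer (H : Set G)},
    Subgroup.normalizer (H : Set G) ⊓ Subgroup.normalizer ((Q : Subgroup G) : Set G)

theorem gam0_le (P H : Subgroup G) : gam0 P H ≤ Subgroup.normalizer (H : Set G) :=
  iSup_le fun _ => inf_le_left

theorem mem_gam0 {P H Q : Subgroup G} (hQ : H < Q) (hQP : Q ≤ P ⊓ Subgroup.normalizer (H : Set G))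
    {x : G} (hx : x ∈ Subgroup.normalizer (H : Set G)) (hxQ : x ∈ Subgroup.normalizer (Q : Set G)) :
    x ∈ gam0 P H :=
  (le_iSup (fun Q : {Q : Subgroup G // H < Q ∧ Q ≤ P ⊓ Subgroup.normalizer (H : Set G)} =>
    Subgroup.normalizer (H : Set G) ⊓ Subgroup.normalizer ((Q : Subgroup G) : Set G)) ⟨Q, hQ, hQP⟩)
    (Subgroup.mem_inf.mpr ⟨hx, hxQ⟩)

theorem le_gam0 {P H : Subgroup G} (hlt : H < P ⊓ Subgroup.normalizer (H : Set G)) :
    H ≤ gam0 P H := by
  intro h hh
  exact mem_gam0 hlt le_rfl (Subgroup.le_normalizer hh) (Subgroup.le_normalizer (hlt.le hh))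

section sylow

variable [Finite G] {p : ℕ} [Fact p.Prime]

/-- the image of `N_P(H)` in `N(H)/H` as a Sylow subgroup -/
noncomputable def sbar (P : Sylow p G) (H : Subgroup G)
    (hsyl : ¬ p ∣ ((P : Subgroup G) ⊓ Subgroup.normalizer (H : Set G)).relIndex
      (Subgroup.normalizer (H : Set G))) : Sylow p (Quo H) :=
  ((P.2.to_inf_left (K := Subgroup.normalizer (H : Set G))).comap_subtype.toSylow
    hsyl).mapSurjective (proj_surjective H)

theorem coe_sbar (P : Sylow p G) (H : Subgroup G)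
    (hsyl : ¬ p ∣ ((P : Subgroup G) ⊓ Subgroup.normalizer (H : Set G)).relIndex
      (Subgroup.normalizer (H : Set G))) :
    ((sbar P H hsyl : Sylow p (Quo H)) : Subgroup (Quo H)) =
      img H ((P : Subgroup G) ⊓ Subgroup.normalizer (H : Set G)) := rfl

theorem gen0_le_img_gam0 (P : Sylow p G) {H : Subgroup G} (hHP : H ≤ (P : Subgroup G))
    (hsyl : ¬ p ∣ ((P : Subgroup G) ⊓ Subgroup.normalizer (H : Set G)).relIndex
      (Subgroup.normalizer (H : Set G))) :
    gen0 ((sbar P H hsyl : Sylow p (Quo H)) : Subgroup (Quo H)) ≤ img H (gam0 (P : Subgroup G) H) := by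
  apply iSup_le
  rintro ⟨Qb, hQS, hQne⟩
  have hHQ : H ≤ pre H Qb := le_pre H Qb
  have hQlt : H < pre H Qb := by
    refine lt_of_le_of_ne hHQ ?_
    intro h
    apply hQne
    rw [← img_pre H Qb, ← h, img_self]
  have hQP : pre H Qb ≤ (P : Subgroup G) ⊓ Subgroup.normalizer (H : Set G) := by
    have h1 : pre H Qb ≤ pre H (img H ((P : Subgroup G) ⊓ Subgroup.normalizer (H : Set G))) := by
      apply pre_mono
      rw [← coe_sbar P H hsyl]
      exact hQS
    rwa [pre_img H (le_inf hHP Subgroup.le_normalizer) inf_le_right] at h1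
  intro γ hγ
  obtain ⟨n, rfl⟩ := proj_surjective H γ
  refine ⟨n, ?_, rfl⟩
  show n ∈ (gam0 (P : Subgroup G) H).subgroupOf (Subgroup.normalizer (H : Set G))
  rw [Subgroup.mem_subgroupOf]
  apply mem_gam0 hQlt hQP n.2
  apply Cfsg.Agent.Lib.Helper04.mem_normalizer_of_conj_le
  rintro q ⟨q', hq', rfl⟩
  refine ⟨n * q' * n⁻¹, ?_, by simp⟩
  show proj H (n * q' * n⁻¹) ∈ Qb
  rw [map_mul, map_mul, map_inv]
  exact (Subgroup.mem_normalizer_iff.mp hγ _).mp hq'

theorem gam0_eq_of_gen0_eq_top (P : Sylow p G) {H : Subgroup G} (hHP : H ≤ (P : Subgroup G))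
    (hne : H ≠ (P : Subgroup G))
    (hsyl : ¬ p ∣ ((P : Subgroup G) ⊓ Subgroup.normalizer (H : Set G)).relIndex
      (Subgroup.normalizer (H : Set G)))
    (h : gen0 ((sbar P H hsyl : Sylow p (Quo H)) : Subgroup (Quo H)) = ⊤) :
    gam0 (P : Subgroup G) H = Subgroup.normalizer (H : Set G) := by
  apply le_antisymm (gam0_le _ _)
  have hlt : H < (P : Subgroup G) ⊓ Subgroup.normalizer (H : Set G) :=
    lt_inf_normalizer_of_ne P.2 hHP hne
  have h1 : pre H ⊤ ≤ pre H (img H (gam0 (P : Subgroup G) H)) := by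
    apply pre_mono
    rw [← h]
    exact gen0_le_img_gam0 P hHP hsyl
  rwa [pre_img H (le_gam0 hlt) (gam0_le _ _), pre_top] at h1

/-- **bridge theorem**: if `gam0 P H ≠ N(H)` then `N(H)/H` is not chain connected and there is a least
subgroup `X` between `H` and `N(H)`, normal in `N(H)`, with `p ∣ |X : H|`. -/
theorem exists_least_of_gam0_ne (P : Sylow p G) {H : Subgroup G} (hHP : H ≤ (P : Subgroup G))
    (hne : H ≠ (P : Subgroup G))
    (hsyl : ¬ p ∣ ((P : Subgroup G) ⊓ Subgroup.normalizer (H : Set G)).relIndex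
      (Subgroup.normalizer (H : Set G)))
    (hg : gam0 (P : Subgroup G) H ≠ Subgroup.normalizer (H : Set G)) :
    ¬ Cfsg.IsSylowChainConnected p
      (↥(Subgroup.normalizer (H : Set G)) ⧸ H.subgroupOf (Subgroup.normalizer (H : Set G))) ∧
    ∃ X : Subgroup G, H ≤ X ∧ X ≤ Subgroup.normalizer (H : Set G) ∧
      (X.subgroupOf (Subgroup.normalizer (H : Set G))).Normal ∧ p ∣ H.relIndex X ∧
      ∀ Y : Subgroup G, H ≤ Y → Y ≤ Subgroup.normalizer (H : Set G) →
        (Y.subgroupOf (Subgroup.normalizer (H : Set G))).Normal → p ∣ H.relIndex Y → X ≤ Y := by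
  have h0 : gen0 ((sbar P H hsyl : Sylow p (Quo H)) : Subgroup (Quo H)) ≠ ⊤ :=
    fun h => hg (gam0_eq_of_gen0_eq_top P hHP hne hsyl h)
  have hlt : H < (P : Subgroup G) ⊓ Subgroup.normalizer (H : Set G) :=
    lt_inf_normalizer_of_ne P.2 hHP hne
  have hSne : ((sbar P H hsyl : Sylow p (Quo H)) : Subgroup (Quo H)) ≠ ⊥ := by
    rw [coe_sbar]
    intro h
    have h1 := pre_img H hlt.le (inf_le_right : (P : Subgroup G) ⊓ _ ≤ _)
    rw [h, pre_bot] at h1
    exact hlt.ne h1
  have hpΓ : p ∣ Nat.card (Quo H) := by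
    have hS := (sbar P H hsyl : Sylow p (Quo H)).2
    rcases hS.card_eq_or_dvd with h1 | h1
    · exact absurd (Subgroup.eq_bot_of_card_eq _ h1) hSne
    · exact h1.trans (Subgroup.card_subgroup_dvd_card _)
  refine ⟨fun hc => h0 (gen0_eq_top_of_chainConnected _ hSne hc), ?_⟩
  obtain ⟨Xb, hXn, hXp, hXmin⟩ := exists_least_normal (sbar P H hsyl) h0 hpΓ
  have := hXn
  refine ⟨pre H Xb, le_pre H Xb, pre_le H Xb, normal_subgroupOf_pre H Xb, ?_, ?_⟩
  · rw [← card_img H (pre_le H Xb), img_pre]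
    exact hXp
  · intro Y hHY hYN hYn hYp
    have h1 : Xb ≤ img H Y := by
      apply hXmin _ (normal_img H hYn)
      rw [card_img H hYN]
      exact hYp
    have h2 := pre_mono H h1
    rwa [pre_img H hHY hYN] at h2

end sylow

end Cfsg.Agent.Lib.Helper04.Gold
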