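import Cfsg.Agent.Lib.Helper04.GoldTransport

/-!
# Chains of steps for the strong Alperin–Goldschmidt theorem
-/

set_option autoImplicit false

namespace Cfsg.Agent.Lib.Helper04.Gold

open Cfsg Cfsg.Agent.Lib.Helper41

variable {G : Type*} [Group G] {p : ℕ} {P : Subgroup G}

theorem StepOK.mem_normalizer {H X : Subgroup G} {x : G} (h : StepOK p P H X x) :
    x ∈ Subgroup.normalizer (H : Set G) :=
  h.2.2.2.2.2.2.1.1.2.1 (Subgroup.map_subtype_le _ h.2.2.2.2.2.2.2)

/-- chain of steps starting at the set `A` -/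
def GChain (p : ℕ) (P : Subgroup G) : Set G → List (Subgroup G × Subgroup G × G) → Prop
  | _, [] => True
  | A, (H, X, x) :: L => StepOK p P H X x ∧ A ⊆ (H : Set G) ∧ GChain p P (rconj x A) L

/-- product of the elements of a chain -/
def gprod (L : List (Subgroup G × Subgroup G × G)) : G := (L.map (fun t => t.2.2)).prod

@[simp] theorem gprod_nil : gprod ([] : List (Subgroup G × Subgroup G × G)) = 1 := rfl

@[simp] theorem gprod_cons (t : Subgroup G × Subgroup G × G) (L : List (Subgroup G × Subgroup G × G)) :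
    gprod (t :: L) = t.2.2 * gprod L := by
  simp [gprod]

@[simp] theorem gprod_append (L₁ L₂ : List (Subgroup G × Subgroup G × G)) :
    gprod (L₁ ++ L₂) = gprod L₁ * gprod L₂ := by
  simp [gprod]

theorem gchain_mono {A B : Set G} (hBA : B ⊆ A) :
    ∀ {L : List (Subgroup G × Subgroup G × G)}, GChain p P A L → GChain p P B L := by
  intro L
  induction L generalizing A B with
  | nil => intro _; trivial
  | cons a L ih =>
    obtain ⟨H, X, x⟩ := a
    rintro ⟨h1, h2, h3⟩
    exact ⟨h1, hBA.trans h2, ih (rconj_mono hBA) h3⟩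

theorem gchain_append {A : Set G} {L₁ L₂ : List (Subgroup G × Subgroup G × G)} :
    GChain p P A (L₁ ++ L₂) ↔ GChain p P A L₁ ∧ GChain p P (rconj (gprod L₁) A) L₂ := by
  induction L₁ generalizing A with
  | nil => simp [GChain]
  | cons a L ih =>
    obtain ⟨H, X, x⟩ := a
    simp only [List.cons_append, GChain, gprod_cons, ih, rconj_mul]
    tauto

/-- conjugate of a chain -/
def conjL (w : G) (L : List (Subgroup G × Subgroup G × G)) : List (Subgroup G × Subgroup G × G) :=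
  L.map (fun t => (lc w t.1, lc w t.2.1, w * t.2.2 * w⁻¹))

theorem gprod_conjL (w : G) (L : List (Subgroup G × Subgroup G × G)) :
    gprod (conjL w L) = w * gprod L * w⁻¹ := by
  induction L with
  | nil => simp [conjL]
  | cons a L ih =>
    have : conjL w (a :: L) = (lc w a.1, lc w a.2.1, w * a.2.2 * w⁻¹) :: conjL w L := rfl
    rw [this, gprod_cons, gprod_cons, ih]
    group

theorem gchain_conjL {w : G} (hw : lc w P = P) {B : Set G}
    {L : List (Subgroup G × Subgroup G × G)} (h : GChain p P B L) :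
    GChain p P (rconj w⁻¹ B) (conjL w L) := by
  induction L generalizing B with
  | nil => trivial
  | cons a L ih =>
    obtain ⟨H, X, x⟩ := a
    obtain ⟨h1, h2, h3⟩ := h
    have e : conjL w ((H, X, x) :: L) = (lc w H, lc w X, w * x * w⁻¹) :: conjL w L := rfl
    rw [e]
    refine ⟨?_, ?_, ?_⟩
    · have := h1.conj w
      rwa [hw] at this
    · have := rconj_mono (g := w⁻¹) h2
      rwa [rconj_coe, inv_inv] at this
    · have h4 := ih h3
      have e2 : rconj (w * x * w⁻¹) (rconj w⁻¹ B) = rconj w⁻¹ (rconj x B) := by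
        rw [← rconj_mul, ← rconj_mul]
        congr 1
        group
      rw [e2]
      exact h4

/-- `g` is a chain product times an element of `N(P)` -/
def GReach (p : ℕ) (P : Subgroup G) (A : Set G) (g : G) : Prop :=
  ∃ (L : List (Subgroup G × Subgroup G × G)) (y : G),
    y ∈ Subgroup.normalizer (P : Set G) ∧ GChain p P A L ∧ g = gprod L * y

/-- the action of `g` on `A` is accounted for -/
def GR (p : ℕ) (P : Subgroup G) (A : Set G) (g : G) : Prop :=
  ∃ g' : G, GReach p P A g' ∧ ∀ a ∈ A, g'⁻¹ * a * g' = g⁻¹ * a * g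

theorem GR.mono {A B : Set G} {g : G} (hBA : B ⊆ A) (h : GR p P A g) : GR p P B g := by
  obtain ⟨g', ⟨L, y, hy, hL, hg⟩, h2⟩ := h
  exact ⟨g', ⟨L, y, hy, gchain_mono hBA hL, hg⟩, fun a ha => h2 a (hBA ha)⟩

theorem GR.congr {A : Set G} {g h : G} (hgh : ∀ a ∈ A, g⁻¹ * a * g = h⁻¹ * a * h)
    (hr : GR p P A g) : GR p P A h := by
  obtain ⟨g', h1, h2⟩ := hr
  exact ⟨g', h1, fun a ha => (h2 a ha).trans (hgh a ha)⟩

theorem GR.base {A : Set G} {y : G} (hy : y ∈ Subgroup.normalizer (P : Set G)) : GR p P A y :=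
  ⟨y, ⟨[], y, hy, trivial, by simp⟩, fun _ _ => rfl⟩

theorem GR.single {A : Set G} {H X : Subgroup G} {x : G} (h : StepOK p P H X x)
    (hA : A ⊆ (H : Set G)) : GR p P A x :=
  ⟨x, ⟨[(H, X, x)], 1, Subgroup.one_mem _, ⟨h, hA, trivial⟩, by simp⟩, fun _ _ => rfl⟩

theorem GR.trans {A : Set G} {g h : G} (h₁ : GR p P A g) (h₂ : GR p P (rconj g A) h) :
    GR p P A (g * h) := by
  obtain ⟨g', ⟨L₁, y₁, hy₁, hL₁, hg'⟩, a1⟩ := h₁
  obtain ⟨h', ⟨L₂, y₂, hy₂, hL₂, hh'⟩, a2⟩ := h₂
  rw [← rconj_congr a1] at hL₂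
  have hw : lc y₁ P = P := mem_normalizer_iff_lc.mp hy₁
  refine ⟨g' * h', ⟨L₁ ++ conjL y₁ L₂, y₁ * y₂, Subgroup.mul_mem _ hy₁ hy₂, ?_, ?_⟩, ?_⟩
  · rw [gchain_append]
    refine ⟨hL₁, ?_⟩
    have := gchain_conjL hw hL₂
    rw [hg', rconj_mul, rconj_inv_rconj] at this
    exact this
  · rw [gprod_append, gprod_conjL, hg', hh']
    group
  · intro a ha
    have e1 := a1 a ha
    have e2 := a2 (g⁻¹ * a * g) ⟨a, ha, rfl⟩
    calc (g' * h')⁻¹ * a * (g' * h') = h'⁻¹ * (g'⁻¹ * a * g') * h' := by group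
    _ = h'⁻¹ * (g⁻¹ * a * g) * h' := by rw [e1]
    _ = h⁻¹ * (g⁻¹ * a * g) * h := e2
    _ = (g * h)⁻¹ * a * (g * h) := by group

end Cfsg.Agent.Lib.Helper04.Gold
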