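import Cfsg.Agent.Lib.Helper04.GoldMain

/-!
# The strong Alperin–Goldschmidt theorem, in the indexed form of the statement
-/

set_option autoImplicit false

namespace Cfsg.Agent.Lib.Helper04.Gold

open Cfsg Cfsg.Agent.Lib.Helper41

variable {G : Type*} [Group G] {p : ℕ} {P : Subgroup G}

theorem gchain_getElem {A : Set G} {L : List (Subgroup G × Subgroup G × G)}
    (hL : GChain p P A L) (i : ℕ) (hi : i < L.length) :
    StepOK p P L[i].1 L[i].2.1 L[i].2.2 ∧
      rconj ((L.map (fun t => t.2.2)).take i).prod A ⊆ (L[i].1 : Set G) := by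
  induction L generalizing A i with
  | nil => simp at hi
  | cons a L ih =>
    obtain ⟨H, X, x⟩ := a
    obtain ⟨h1, h2, h3⟩ := hL
    cases i with
    | zero => simpa using ⟨h1, h2⟩
    | succ i =>
      have hi' : i < L.length := by simpa using hi
      have := ih h3 i hi'
      simpa [rconj_mul] using this

theorem strong_ag_indexed [Finite G] [Fact p.Prime]
    (P : Sylow p G) (A : Set G) (hA : A ⊆ (P : Set G))
    (g : G) (hAg : (fun a => g⁻¹ * a * g) '' A ⊆ (P : Set G)) :
    ∃ (n : ℕ) (H X : Fin n → Subgroup G) (x : Fin n → G) (c y : G),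
      c ∈ Subgroup.centralizer A ∧ y ∈ Subgroup.normalizer ((P : Subgroup G) : Set G) ∧
      g = c * (List.ofFn x).prod * y ∧
      ∀ i : Fin n,
        H i ≤ (P : Subgroup G) ∧
        ¬ p ∣ ((P : Subgroup G) ⊓ Subgroup.normalizer (H i : Set G)).relIndex (Subgroup.normalizer (H i : Set G)) ∧
        (P : Subgroup G) ⊓ Subgroup.centralizer (H i : Set G) ≤ H i ∧
        (Cfsg.pPrimePCore p ↥(Subgroup.normalizer (H i : Set G))).map (Subgroup.normalizer (H i : Set G)).subtype =
          H i ⊔ Subgroup.centralizer (H i : Set G) ∧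
        ¬ Cfsg.IsSylowChainConnected p
            (↥(Subgroup.normalizer (H i : Set G)) ⧸ (H i).subgroupOf (Subgroup.normalizer (H i : Set G))) ∧
        (H i ≤ X i ∧ X i ≤ Subgroup.normalizer (H i : Set G) ∧
          ((X i).subgroupOf (Subgroup.normalizer (H i : Set G))).Normal ∧ p ∣ (H i).relIndex (X i) ∧
          ∀ Y : Subgroup G, H i ≤ Y → Y ≤ Subgroup.normalizer (H i : Set G) →
            (Y.subgroupOf (Subgroup.normalizer (H i : Set G))).Normal → p ∣ (H i).relIndex Y → X i ≤ Y) ∧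
        x i ∈ (Cfsg.pResidual p ↥(X i)).map (X i).subtype ∧
        (fun a => (((List.ofFn x).take i.val).prod)⁻¹ * a * ((List.ofFn x).take i.val).prod) '' A ⊆ (H i : Set G) := by
  obtain ⟨g', ⟨L, y, hy, hL, hg'⟩, hact⟩ := strong_ag P (A := A) (g := g) hA hAg
  have hofn : List.ofFn (fun i : Fin L.length => L[i.val].2.2) = L.map (fun t => t.2.2) := by
    have : (fun i : Fin L.length => L[i.val].2.2) =
        (fun t : Subgroup G × Subgroup G × G => t.2.2) ∘ (fun i : Fin L.length => L[i.val]) := rfl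
    rw [this, ← List.map_ofFn, List.ofFn_getElem]
  refine ⟨L.length, fun i => L[i.val].1, fun i => L[i.val].2.1, fun i => L[i.val].2.2,
    g * g'⁻¹, y, ?_, hy, ?_, ?_⟩
  · rw [Subgroup.mem_centralizer_iff]
    intro a ha
    have e := hact a ha
    calc a * (g * g'⁻¹) = g * (g⁻¹ * a * g) * g'⁻¹ := by group
    _ = g * (g'⁻¹ * a * g') * g'⁻¹ := by rw [e]
    _ = g * g'⁻¹ * a := by group
  · rw [hofn]
    show g = g * g'⁻¹ * gprod L * y
    rw [mul_assoc, ← hg']
    group
  · intro i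
    obtain ⟨⟨h1, h2, h3, h4, h5, h6, h7, h8⟩, hsub⟩ := gchain_getElem hL i.val i.2
    refine ⟨h1, h2, h3, h4, (exists_least_of_gam0_ne P h1 h5 h2 h6).1,
      ⟨h7.1.1, h7.1.2.1, h7.1.2.2.1, h7.1.2.2.2,
        fun Y hY1 hY2 hY3 hY4 => h7.2 Y ⟨hY1, hY2, hY3, hY4⟩⟩, h8, ?_⟩
    rw [hofn]
    exact hsub

end Cfsg.Agent.Lib.Helper04.Gold
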