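import Cfsg.Agent.Lib.Helper04.GoldChain

/-!
# The strong form of the Alperin–Goldschmidt fusion theorem
-/

set_option autoImplicit false

namespace Cfsg.Agent.Lib.Helper04.Gold

open Cfsg Cfsg.Agent.Lib.Helper41

variable {G : Type*} [Group G] [Finite G] {p : ℕ} [Fact p.Prime]

/-- the frozen form of the radical condition for members of the Alperin–Goldschmidt family -/
theorem rad_of_agFamily (P : Sylow p G) {D : Subgroup G} (hD : D ∈ agFamily p P) :
    relPPrimePCore p (Subgroup.normalizer (D : Set G)) =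
      D ⊔ Subgroup.centralizer (D : Set G) := by
  obtain ⟨hKL, hDL, hcomm, _, hsup⟩ := ag_isInternalDirectProduct P hD
  have hcen := ag_centralizer_le P hD.1 hD.2.1 hD.2.2.1
  apply le_antisymm
  · rw [← hsup]
    apply sup_le _ le_sup_left
    intro a ha
    apply Subgroup.mem_sup_right
    rw [Subgroup.mem_centralizer_iff]
    intro b hb
    exact (hcomm a ha b hb).symm
  · exact sup_le hDL hcen

/-- the inductive claim: conjugations normalizing subgroups of `P` of order more than `m` are
accounted for -/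
def Claim (p : ℕ) (P : Subgroup G) (m : ℕ) : Prop :=
  ∀ Q : Subgroup G, Q ≤ P → m < Nat.card Q →
    ∀ z ∈ Subgroup.normalizer (Q : Set G), GR p P (Q : Set G) z

theorem Claim.mono {P : Subgroup G} {m m' : ℕ} (h : Claim p P m) (hm : m ≤ m') : Claim p P m' :=
  fun Q hQ hlt z hz => h Q hQ (lt_of_le_of_lt hm hlt) z hz

theorem le_normalizer_pResidualOf (X : Subgroup G) :
    X ≤ Subgroup.normalizer (((pResidual p ↥X).map X.subtype : Subgroup G) : Set G) := by
  intro q hq
  apply mem_normalizer_of_lc_le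
  rw [Cfsg.Agent.Lib.Helper54.map_pResidual_subtype]
  show (Subgroup.closure _).map (MulAut.conj q).toMonoidHom ≤ _
  rw [MonoidHom.map_closure]
  apply Subgroup.closure_mono
  rintro _ ⟨g, ⟨hgX, hgc⟩, rfl⟩
  refine ⟨?_, ?_⟩
  · show q * g * q⁻¹ ∈ X
    exact X.mul_mem (X.mul_mem hq hgX) (X.inv_mem hq)
  · rw [MulEquiv.coe_toMonoidHom, MulEquiv.orderOf_eq]
    exact hgc

/-- refinement of one step of an Alperin–Goldschmidt chain -/
theorem step_refine (P : Sylow p G) {D : Subgroup G} (hD : D ∈ agFamily p P)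
    (hC : Claim p (P : Subgroup G) (Nat.card D)) {x : G}
    (hx : x ∈ Subgroup.normalizer (D : Set G)) :
    GR p (P : Subgroup G) (D : Set G) x := by
  have hDP := hD.1
  have hsyl := hD.2.1
  have hcen := hD.2.2.1
  by_cases hne : D = (P : Subgroup G)
  · rw [hne] at hx
    exact GR.base hx
  have hlt : D < (P : Subgroup G) ⊓ Subgroup.normalizer (D : Set G) :=
    lt_inf_normalizer_of_ne P.2 hDP hne
  by_cases hg : gam0 (P : Subgroup G) D = Subgroup.normalizer (D : Set G)
  · have hx' : x ∈ gam0 (P : Subgroup G) D := by rw [hg]; exact hx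
    have key : x ∈ Subgroup.normalizer (D : Set G) ∧ GR p (P : Subgroup G) (D : Set G) x := by
      unfold gam0 at hx'
      refine Subgroup.iSup_induction _
        (C := fun z => z ∈ Subgroup.normalizer (D : Set G) ∧ GR p (P : Subgroup G) (D : Set G) z)
        hx' ?_ ?_ ?_
      · rintro ⟨Q, hQ, hQP⟩ z hz
        refine ⟨hz.1, ?_⟩
        have := hC Q (hQP.trans inf_le_left) (card_lt_card_of_lt hQ) z hz.2
        exact this.mono (by exact_mod_cast hQ.le)
      · exact ⟨Subgroup.one_mem _, GR.base (Subgroup.one_mem _)⟩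
      · rintro a b ⟨ha, hra⟩ ⟨hb, hrb⟩
        refine ⟨Subgroup.mul_mem _ ha hb, hra.trans ?_⟩
        rw [rconj_eq_of_mem_normalizer ha]
        exact hrb
    exact key.2
  · obtain ⟨_, X, hDX, hXN, hXn, hXp, hXmin⟩ := exists_least_of_gam0_ne P hDP hne hsyl hg
    set N := Subgroup.normalizer (D : Set G) with hN
    have hXnorm : ∀ c n, c ∈ X → n ∈ N → n * c * n⁻¹ ∈ X :=
      (Subgroup.normal_subgroupOf_iff hXN).mp hXn
    have hPp : IsPGroup p (P : Subgroup G) := P.2
    set Q := (P : Subgroup G) ⊓ X with hQ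
    have hQsyl : ¬ p ∣ Q.relIndex X := by
      have := not_dvd_relIndex_inf_of_normal (inf_le_right : (P : Subgroup G) ⊓ N ≤ N)
        hPp.to_inf_left hsyl hXN hXnorm
      have e : ((P : Subgroup G) ⊓ N) ⊓ X = Q := by rw [hQ, inf_assoc, inf_eq_right.mpr hXN]
      rwa [e] at this
    have hDQ : D ≤ Q := le_inf hDP hDX
    have hDQlt : D < Q := by
      refine lt_of_le_of_ne hDQ ?_
      intro h
      apply hQsyl
      rw [← h]; exact hXp
    have hQP : Q ≤ (P : Subgroup G) := inf_le_left
    have hQX : Q ≤ X := inf_le_right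
    have hQN : Q ≤ N := hQX.trans hXN
    have hQp : IsPGroup p Q := hPp.to_inf_left
    have hxQ : lc x Q ≤ X := by
      intro y hy
      rw [mem_lc] at hy
      have h1 := hXnorm _ x (hQX hy) hx
      have e : x * (x⁻¹ * y * x) * x⁻¹ = y := by group
      rwa [e] at h1
    obtain ⟨y, hyX, hy⟩ := exists_lc_le_of_relIndex hQX hQp hQsyl (isPGroup_lc hQp) hxQ
    have hn : y * x ∈ Subgroup.normalizer (Q : Set G) :=
      mem_normalizer_of_lc_le (by rw [lc_mul]; exact hy)
    have hnN : y * x ∈ N := N.mul_mem (hXN hyX) hx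
    have hcop : (Q.relIndex X).Coprime p :=
      ((Nat.Prime.coprime_iff_not_dvd Fact.out).mpr hQsyl).symm
    have hXle := Cfsg.Agent.Lib.Helper52.le_pResidual_sup (p := p) X Q hcop
    set R := (pResidual p ↥X).map X.subtype with hR
    have hRX : R ≤ X := Subgroup.map_subtype_le _
    have hQR : Q ≤ Subgroup.normalizer (R : Set G) := hQX.trans (le_normalizer_pResidualOf X)
    obtain ⟨z, hz, u, hu, hzu⟩ := (mem_sup_of_le_normalizer hQR).mp (hXle (X.inv_mem hyX))
    set n' := u * (y * x) with hn'
    have hx_eq : x = z * n' := by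
      rw [hn', ← mul_assoc, ← mul_assoc, ← hzu]; group
    have hn'Q : n' ∈ Subgroup.normalizer (Q : Set G) :=
      Subgroup.mul_mem _ (Subgroup.le_normalizer hu) hn
    have hstep : StepOK p (P : Subgroup G) D X z :=
      ⟨hDP, hsyl, hcen, rad_of_agFamily P hD, hne, hg,
        ⟨⟨hDX, hXN, hXn, hXp⟩, fun Y hY => hXmin Y hY.1 hY.2.1 hY.2.2.1 hY.2.2.2⟩, hz⟩
    have r1 : GR p (P : Subgroup G) (D : Set G) z := GR.single hstep le_rfl
    have hzN : z ∈ N := hXN (hRX hz)
    have r2 : GR p (P : Subgroup G) (D : Set G) n' :=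
      (hC Q hQP (card_lt_card_of_lt hDQlt) n' hn'Q).mono (by exact_mod_cast hDQlt.le)
    rw [hx_eq]
    refine r1.trans ?_
    rw [rconj_eq_of_mem_normalizer hzN]
    exact r2

/-- refinement of a whole Alperin–Goldschmidt chain -/
theorem chain_refine (P : Sylow p G) {m : ℕ} (hC : Claim p (P : Subgroup G) m) :
    ∀ (L : List (Subgroup G × G)) (A : Set G),
      (∀ D : Subgroup G, A ⊆ (D : Set G) → m ≤ Nat.card D) →
      Chain (agFamily p P) A L → GR p (P : Subgroup G) A (L.map Prod.snd).prod := by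
  intro L
  induction L with
  | nil =>
    intro A _ _
    simpa using GR.base (p := p) (P := (P : Subgroup G)) (A := A) (Subgroup.one_mem _)
  | cons a L ih =>
    obtain ⟨D, x⟩ := a
    rintro A hinv ⟨hD, hx, hAD, hrest⟩
    have r1 : GR p (P : Subgroup G) A x :=
      (step_refine P hD (hC.mono (hinv D hAD)) hx).mono hAD
    have hinv' : ∀ D' : Subgroup G, rconj x A ⊆ (D' : Set G) → m ≤ Nat.card D' := by
      intro D' hD'
      have h1 : A ⊆ ((lc x D' : Subgroup G) : Set G) := by
        have := rconj_mono (g := x⁻¹) hD'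
        rwa [rconj_inv_rconj, rconj_coe, inv_inv] at this
      have := hinv _ h1
      rwa [card_lc] at this
    have r2 := ih (rconj x A) hinv' hrest
    simpa using r1.trans r2

theorem claim_all (P : Sylow p G) :
    ∀ k m : ℕ, Nat.card (P : Subgroup G) ≤ m + k → Claim p (P : Subgroup G) m := by
  intro k
  induction k with
  | zero =>
    intro m hm Q hQP hlt
    exact absurd (Subgroup.card_le_of_le hQP) (by omega)
  | succ k ih =>
    intro m hm Q hQP hlt z hz
    by_cases h : m + 1 < Nat.card Q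
    · exact ih (m + 1) (by omega) Q hQP h z hz
    · have hcard : Nat.card Q = m + 1 := by omega
      have hC := ih (m + 1) (by omega)
      have hzQ : rconj z (Q : Set G) ⊆ ((P : Subgroup G) : Set G) := by
        rw [rconj_eq_of_mem_normalizer hz]
        exact hQP
      obtain ⟨g', ⟨L, hL, rfl⟩, hact⟩ := ag_reach P (A := (Q : Set G)) (g := z) hQP hzQ
      have := chain_refine P hC L (Q : Set G)
        (fun D hD => by rw [← hcard]; exact Subgroup.card_le_of_le hD) hL
      exact this.congr hact

/-- the strong Alperin–Goldschmidt theorem in relational form -/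
theorem strong_ag (P : Sylow p G) {A : Set G} (hA : A ⊆ ((P : Subgroup G) : Set G)) {g : G}
    (hAg : rconj g A ⊆ ((P : Subgroup G) : Set G)) : GR p (P : Subgroup G) A g := by
  obtain ⟨g', ⟨L, hL, rfl⟩, hact⟩ := ag_reach P hA hAg
  have := chain_refine P (claim_all P (Nat.card (P : Subgroup G)) 0 (by omega)) L A
    (fun _ _ => Nat.zero_le _) hL
  exact this.congr hact

end Cfsg.Agent.Lib.Helper04.Gold
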