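import Cfsg.Agent.Lib.Helper04.GoldBridge
import Cfsg.Agent.Lib.Helper41.AG
import Cfsg.Agent.Lib.Helper41.WV
import Cfsg.Agent.Lib.Helper15.PSolv
import Cfsg.Agent.Lib.Helper52.PResidual
import Cfsg.Agent.Lib.Helper54.Subnormal

/-!
# Transport of the step conditions of the strong Alperin–Goldschmidt theorem under conjugation
-/

set_option autoImplicit false

namespace Cfsg.Agent.Lib.Helper04.Gold

open Cfsg Cfsg.Agent.Lib.Helper41

/-- `O_{p',p}` is carried along isomorphisms -/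
theorem pPrimePCore_map_equiv' {X Y : Type*} [Group X] [Group Y] (p : ℕ) (e : X ≃* Y) :
    (pPrimePCore p X).map e.toMonoidHom = pPrimePCore p Y := by
  have hK : (pPrimeCore p X).map e.toMonoidHom = pPrimeCore p Y :=
    Cfsg.Agent.Lib.Helper15.pPrimeCore_map_equiv p e
  let φ : X ⧸ pPrimeCore p X ≃* Y ⧸ pPrimeCore p Y := QuotientGroup.congr _ _ e hK
  have hφ : ∀ x : X, φ (QuotientGroup.mk' _ x) = QuotientGroup.mk' _ (e x) := fun x => rfl
  have hc : (pCore p (X ⧸ pPrimeCore p X)).map φ.toMonoidHom = pCore p (Y ⧸ pPrimeCore p Y) :=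
    Cfsg.Agent.Lib.Helper15.pCore_map_equiv p φ
  ext y
  rw [Subgroup.mem_map_equiv]
  unfold pPrimePCore
  rw [Subgroup.mem_comap, Subgroup.mem_comap, ← hc, Subgroup.mem_map_equiv]
  have h1 : φ.symm (QuotientGroup.mk' _ y) = QuotientGroup.mk' _ (e.symm y) := by
    rw [MulEquiv.symm_apply_eq, hφ, MulEquiv.apply_symm_apply]
  rw [h1]

variable {G : Type*} [Group G]

theorem relPPrimePCore_lc (p : ℕ) (w : G) (N : Subgroup G) :
    relPPrimePCore p (lc w N) = lc w (relPPrimePCore p N) := by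
  have key : ∀ (w : G) (N : Subgroup G), lc w (relPPrimePCore p N) ≤ relPPrimePCore p (lc w N) := by
    intro w N y hy
    rw [mem_lc] at hy
    obtain ⟨x', hx', hxx⟩ := hy
    have h := pPrimePCore_map_equiv' p ((MulAut.conj w).subgroupMap N)
    have h1 : ((MulAut.conj w).subgroupMap N) x' ∈
        (pPrimePCore p ↥N).map ((MulAut.conj w).subgroupMap N).toMonoidHom :=
      Subgroup.mem_map_of_mem _ hx'
    rw [h] at h1
    refine ⟨_, h1, ?_⟩
    show w * (x' : G) * w⁻¹ = y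
    have e : (x' : G) = w⁻¹ * y * w := hxx
    rw [e]; group
  apply le_antisymm _ (key w N)
  have h := key w⁻¹ (lc w N)
  rw [lc_inv_lc] at h
  rw [← lc_le_lc_iff (g := w⁻¹), lc_inv_lc]
  exact h

theorem pResidualOf_lc (p : ℕ) (w : G) (X : Subgroup G) :
    (pResidual p ↥(lc w X)).map (lc w X).subtype = lc w ((pResidual p ↥X).map X.subtype) :=
  (Cfsg.Agent.Lib.Helper54.map_conj_map_pResidual_subtype p X w).symm

theorem lc_iSup {ι : Sort*} (w : G) (f : ι → Subgroup G) : lc w (⨆ i, f i) = ⨆ i, lc w (f i) :=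
  Subgroup.map_iSup _ _

theorem lc_lt_lc_iff {w : G} {H K : Subgroup G} : lc w H < lc w K ↔ H < K := by
  rw [lt_iff_le_not_ge, lt_iff_le_not_ge, lc_le_lc_iff, lc_le_lc_iff]

theorem lc_gam0_le (w : G) (P H : Subgroup G) : lc w (gam0 P H) ≤ gam0 (lc w P) (lc w H) := by
  unfold gam0
  rw [lc_iSup]
  apply iSup_le
  rintro ⟨Q, hQ, hQP⟩
  have h1 : lc w H < lc w Q := lc_lt_lc_iff.mpr hQ
  have h2 : lc w Q ≤ lc w P ⊓ Subgroup.normalizer ((lc w H : Subgroup G) : Set G) := by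
    rw [normalizer_lc, ← lc_inf]
    exact lc_mono hQP
  have h3 : lc w (Subgroup.normalizer (H : Set G) ⊓ Subgroup.normalizer (Q : Set G)) =
      Subgroup.normalizer ((lc w H : Subgroup G) : Set G) ⊓
        Subgroup.normalizer ((lc w Q : Subgroup G) : Set G) := by
    rw [lc_inf, normalizer_lc, normalizer_lc]
  rw [h3]
  exact le_iSup (fun Q : {Q : Subgroup G // lc w H < Q ∧
      Q ≤ lc w P ⊓ Subgroup.normalizer ((lc w H : Subgroup G) : Set G)} =>
    Subgroup.normalizer ((lc w H : Subgroup G) : Set G) ⊓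
      Subgroup.normalizer ((Q : Subgroup G) : Set G)) ⟨lc w Q, h1, h2⟩

theorem gam0_lc (w : G) (P H : Subgroup G) : gam0 (lc w P) (lc w H) = lc w (gam0 P H) := by
  apply le_antisymm _ (lc_gam0_le w P H)
  have h := lc_gam0_le w⁻¹ (lc w P) (lc w H)
  rw [lc_inv_lc, lc_inv_lc] at h
  rw [← lc_le_lc_iff (g := w⁻¹), lc_inv_lc]
  exact h

/-- `Y` lies between `H` and `N(H)`, is normal in `N(H)`, and `p ∣ |Y : H|` -/
def NormalOver (p : ℕ) (H Y : Subgroup G) : Prop :=
  H ≤ Y ∧ Y ≤ Subgroup.normalizer (H : Set G) ∧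
    (Y.subgroupOf (Subgroup.normalizer (H : Set G))).Normal ∧ p ∣ H.relIndex Y

theorem NormalOver.conj {p : ℕ} {H Y : Subgroup G} (h : NormalOver p H Y) (w : G) :
    NormalOver p (lc w H) (lc w Y) := by
  obtain ⟨h1, h2, h3, h4⟩ := h
  have h2' : lc w Y ≤ Subgroup.normalizer ((lc w H : Subgroup G) : Set G) := by
    rw [normalizer_lc]; exact lc_mono h2
  refine ⟨lc_mono h1, h2', ?_, ?_⟩
  · rw [Subgroup.normal_subgroupOf_iff h2']
    rw [Subgroup.normal_subgroupOf_iff h2] at h3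
    intro y n hy hn
    rw [normalizer_lc, mem_lc] at hn
    rw [mem_lc] at hy ⊢
    have := h3 _ _ hy hn
    have e : w⁻¹ * (n * y * n⁻¹) * w = w⁻¹ * n * w * (w⁻¹ * y * w) * (w⁻¹ * n * w)⁻¹ := by group
    rw [e]
    exact this
  · rw [relIndex_lc]
    exact h4

/-- `X` is the least subgroup normal over `H` -/
def LeastOver (p : ℕ) (H X : Subgroup G) : Prop :=
  NormalOver p H X ∧ ∀ Y : Subgroup G, NormalOver p H Y → X ≤ Y

theorem LeastOver.conj {p : ℕ} {H X : Subgroup G} (h : LeastOver p H X) (w : G) :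
    LeastOver p (lc w H) (lc w X) := by
  refine ⟨h.1.conj w, ?_⟩
  intro Y hY
  have h1 := hY.conj w⁻¹
  rw [lc_inv_lc] at h1
  have h2 := h.2 _ h1
  rw [← lc_le_lc_iff (g := w⁻¹), lc_inv_lc]
  exact h2

/-- the conditions on one step `(H, X, x)` of the strong Alperin–Goldschmidt theorem -/
def StepOK (p : ℕ) (P H X : Subgroup G) (x : G) : Prop :=
  H ≤ P ∧
  ¬ p ∣ (P ⊓ Subgroup.normalizer (H : Set G)).relIndex (Subgroup.normalizer (H : Set G)) ∧
  P ⊓ Subgroup.centralizer (H : Set G) ≤ H ∧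
  relPPrimePCore p (Subgroup.normalizer (H : Set G)) = H ⊔ Subgroup.centralizer (H : Set G) ∧
  H ≠ P ∧ gam0 P H ≠ Subgroup.normalizer (H : Set G) ∧
  LeastOver p H X ∧
  x ∈ (pResidual p ↥X).map X.subtype

theorem StepOK.conj {p : ℕ} {P H X : Subgroup G} {x : G} (h : StepOK p P H X x) (w : G) :
    StepOK p (lc w P) (lc w H) (lc w X) (w * x * w⁻¹) := by
  obtain ⟨h1, h2, h3, h4, h5, h6, h7, h8⟩ := h
  refine ⟨lc_mono h1, ?_, ?_, ?_, ?_, ?_, h7.conj w, ?_⟩
  · rw [normalizer_lc, ← lc_inf, relIndex_lc]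
    exact h2
  · rw [centralizer_lc, ← lc_inf]
    exact lc_mono h3
  · rw [normalizer_lc, relPPrimePCore_lc, h4, centralizer_lc]
    exact Subgroup.map_sup _ _ _
  · intro h
    exact h5 (lc_injective w h)
  · rw [gam0_lc, normalizer_lc]
    intro h
    exact h6 (lc_injective w h)
  · rw [pResidualOf_lc]
    exact conj_mem_lc h8

end Cfsg.Agent.Lib.Helper04.Gold
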