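import Cfsg.Agent.Lib.Helper06.Hall4.Defs

/-!
# KEYSTONE 422101 K-H4-BR1 `trans4_of_pretransitive` (architect helper6, S4221 pack)
-/

set_option autoImplicit false
set_option linter.unusedSectionVars false
open Equiv

namespace Cfsg.Agent.Lib.Helper04.Hall4
open Cfsg.Agent.Lib.Helper06.Hall4

variable {α : Type*} [Fintype α] [DecidableEq α]

/-- LEAF BR1 (422101). -/
theorem trans4_of_pretransitive (G : Subgroup (Perm α))
    (hG : MulAction.IsMultiplyPretransitive G α 4) : Trans4 G := by
  intro a b c d a' b' c' d' hab hac had hbc hbd hcd hab' hac' had' hbc' hbd' hcd'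
  have inj : ∀ (p q r s : α), p ≠ q → p ≠ r → p ≠ s → q ≠ r → q ≠ s → r ≠ s →
      Function.Injective ![p, q, r, s] := by
    intro p q r s h1 h2 h3 h4 h5 h6 i j h
    fin_cases i <;> fin_cases j <;> simp_all
  let x : Fin 4 ↪ α := ⟨![a, b, c, d], inj a b c d hab hac had hbc hbd hcd⟩
  let y : Fin 4 ↪ α := ⟨![a', b', c', d'], inj a' b' c' d' hab' hac' had' hbc' hbd' hcd'⟩
  obtain ⟨g, hg⟩ := MulAction.exists_smul_eq G x y
  have key : ∀ i : Fin 4, (g : Perm α) (x i) = y i := by
    intro i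
    have := congrArg (fun e : Fin 4 ↪ α => e i) hg
    simpa [Function.Embedding.smul_apply, Subgroup.smul_def] using this
  exact ⟨g.1, g.2, key 0, key 1, key 2, key 3⟩

end Cfsg.Agent.Lib.Helper04.Hall4
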