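import Mathlib
import Cfsg.Prelude.Def_Blocks
import Cfsg.Agent.Lib.Helper70.IPDefs
import Cfsg.Agent.Lib.Helper01.CD3Coprime
import Cfsg.Agent.Lib.Helper98.CD3VAN
import Cfsg.Agent.Lib.Helper84.NormalAction
import Cfsg.Agent.Lib.Helper80.IPAExt
import Cfsg.Agent.Lib.Helper66.IPAMul
import Cfsg.Agent.Lib.Helper45.IPARam
import Cfsg.Agent.Lib.Helper73.IPABETW
import Cfsg.Agent.Lib.Helper98.IPSUB
import Cfsg.Agent.Lib.Helper65.IPMono

/-!
# Pack K-IP (S4463), CASE A (keystone 446311): the step lemma when `G ⧸ K` is solvable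

Glue over the sub-leaves 446321 - 446325 (spec `notes/S4463_caseA_keystones.lean.txt`) and the K-CD3 leaves.
-/

set_option autoImplicit false

namespace Cfsg.Agent.Lib.Helper04.IP

open Cfsg Cfsg.Agent.Lib.Helper70.IP
open scoped commutatorElement

universe u

/-- the `p`-group branch: `H` = preimage of the centre of `G ⧸ K` -/
theorem pgroup_case {G : Type u} [Group G] [Finite G] (b : ℕ) (hb : DegLE G b)
    (K : Subgroup G) [hK : K.Normal] (hmono : MonoQ (G ⧸ K))
    (hnab : ∃ a c : G ⧸ K, a * c ≠ c * a) {p : ℕ} [Fact p.Prime] (hp : IsPGroup p (G ⧸ K)) :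
    ∃ H : Subgroup G, H ≠ ⊤ ∧ H.index ≤ b ^ 2 ∧
      ∀ ψ : IrrCharacter H, charDegree (ψ : H → ℂ) < b := by
  classical
  obtain ⟨θb, hθb, hθ1, hθvan, hθnorm, hθidx⟩ :=
    Cfsg.Agent.Lib.Helper45.IPA.exists_ramified hp hnab hmono
  have hmk_surj : Function.Surjective (QuotientGroup.mk' K) := QuotientGroup.mk'_surjective K
  have hθ : IsIrrCharacter G (fun g : G => θb (QuotientGroup.mk g)) :=
    Cfsg.Agent.Lib.Helper83.isIrrCharacter_inflate K hθb
  have hθd : charDegree (fun g : G => θb (QuotientGroup.mk g)) = charDegree θb :=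
    Cfsg.Agent.Lib.Helper01.CD3.charDegree_inflate K θb
  have hZidx : ((Subgroup.center (G ⧸ K)).comap (QuotientGroup.mk' K)).index =
      (Subgroup.center (G ⧸ K)).index :=
    Subgroup.index_comap_of_surjective _ hmk_surj
  have hθle : charDegree θb ≤ b := by
    have := hb ⟨_, hθ⟩
    rwa [hθd] at this
  refine ⟨(Subgroup.center (G ⧸ K)).comap (QuotientGroup.mk' K), ?_, ?_, ?_⟩
  · intro htop
    obtain ⟨a, c, hac⟩ := hnab
    apply hac
    obtain ⟨a', rfl⟩ := hmk_surj a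
    have ha : a' ∈ (Subgroup.center (G ⧸ K)).comap (QuotientGroup.mk' K) := by
      rw [htop]; exact Subgroup.mem_top _
    rw [Subgroup.mem_comap, Subgroup.mem_center_iff] at ha
    exact (ha c).symm
  · rw [hZidx, ← hθidx]
    exact Nat.pow_le_pow_left hθle 2
  · intro ψ
    by_contra hlt
    have hlt' : b ≤ charDegree ψ.1 := Nat.le_of_not_lt hlt
    obtain ⟨χ, hχ, hχb, hext⟩ :=
      Cfsg.Agent.Lib.Helper80.IPA.ext_of_degree_eq b hb _ ψ.2 hlt'
    have hχZ : IsIrrCharacter ((Subgroup.center (G ⧸ K)).comap (QuotientGroup.mk' K))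
        (fun z : ((Subgroup.center (G ⧸ K)).comap (QuotientGroup.mk' K)) => χ z) := by
      have : (fun z : ((Subgroup.center (G ⧸ K)).comap (QuotientGroup.mk' K)) => χ z) =
          (ψ : _ → ℂ) := funext hext
      rw [this]; exact ψ.2
    obtain ⟨hirr, hdeg⟩ := Cfsg.Agent.Lib.Helper66.IPA.irr_mul_of_vanish
      ((Subgroup.center (G ⧸ K)).comap (QuotientGroup.mk' K)) hχ hθ hχZ
      (fun g hg => hθvan _ (fun hc => hg (Subgroup.mem_comap.2 hc)))
      (fun z hz => by
        rw [hθd]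
        exact hθnorm _ (Subgroup.mem_comap.1 hz))
      (by rw [hθd, hZidx]; exact hθidx)
    have hle := hb ⟨_, hirr⟩
    rw [hdeg, hχb, hθd] at hle
    have hbpos : 0 < b := by
      rw [← hχb]
      exact Cfsg.Agent.Lib.Helper83.irr_charDegree_pos ⟨χ, hχ⟩
    have : b * 2 ≤ b * charDegree θb := Nat.mul_le_mul_left b hθ1
    omega

/-- the Frobenius branch -/
theorem frobenius_case {G : Type u} [Group G] [Finite G] (b : ℕ) (hb : DegLE G b)
    (K : Subgroup G) [hK : K.Normal] (hmono : MonoQ (G ⧸ K))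
    (hXnab : ∃ a c : G ⧸ K, a * c ≠ c * a) (hsolv : Group.IsSolvable (G ⧸ K))
    (hXnp : ∀ p : ℕ, p.Prime → ¬ IsPGroup p (G ⧸ K)) :
    ∃ H : Subgroup G, H ≠ ⊤ ∧ H.index ≤ b ^ 2 ∧
      ∀ ψ : IrrCharacter H, charDegree (ψ : H → ℂ) < b := by
  classical
  have hmk_surj : Function.Surjective (QuotientGroup.mk' K) := QuotientGroup.mk'_surjective K
  obtain ⟨r, Q, hr, hVp, hVab, hQab, hVQ, hsup, hcop, hfpfQ, hfpfX, hindex, hQ1, a, ha, hVcard⟩ :=
    Cfsg.Agent.Lib.Helper30.CD3.frobenius_structure hsolv hXnab hmono hXnp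
  have hVne : commutator (G ⧸ K) ≠ ⊥ := by
    intro h0
    have : Nat.card (commutator (G ⧸ K)) = 1 := by rw [h0]; simp
    rw [hVcard] at this
    have h2 : 2 ≤ r ^ a := by
      calc 2 ≤ r := hr.two_le
        _ = r ^ 1 := (pow_one r).symm
        _ ≤ r ^ a := Nat.pow_le_pow_right hr.pos ha
    omega
  obtain ⟨χb, hχb, hχbd⟩ :=
    Cfsg.Agent.Lib.Helper10.CD3.exists_irr_of_frobenius (commutator (G ⧸ K)) Q hVab hVne hVQ hsup hfpfQ
  have hχ : IsIrrCharacter G (fun g : G => χb (QuotientGroup.mk g)) :=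
    Cfsg.Agent.Lib.Helper83.isIrrCharacter_inflate K hχb
  have hχd : charDegree (fun g : G => χb (QuotientGroup.mk g)) = Nat.card Q := by
    rw [Cfsg.Agent.Lib.Helper01.CD3.charDegree_inflate, hχbd]
  have hfb : Nat.card Q ≤ b := by
    have := hb ⟨_, hχ⟩
    rwa [hχd] at this
  have hbpos : 0 < b := by omega
  -- the subgroup N
  set N : Subgroup G := (commutator (G ⧸ K)).comap (QuotientGroup.mk' K) with hNdef
  have hNn : N.Normal := Subgroup.Normal.comap inferInstance _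
  have hKN : K ≤ N := by
    intro k hk
    rw [hNdef, Subgroup.mem_comap]
    have : (QuotientGroup.mk' K) k = 1 := (QuotientGroup.eq_one_iff k).2 hk
    rw [this]; exact Subgroup.one_mem _
  have hNK : ∀ x ∈ N, ∀ y ∈ N, x * y * x⁻¹ * y⁻¹ ∈ K := by
    intro x hx y hy
    rw [← QuotientGroup.eq_one_iff]
    have := hVab _ hx _ hy
    simp only [QuotientGroup.mk'_apply] at this
    rw [QuotientGroup.mk_mul, QuotientGroup.mk_mul, QuotientGroup.mk_mul, QuotientGroup.mk_inv,
      QuotientGroup.mk_inv, this]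
    group
  have hGN : ∀ g h : G, g * h * g⁻¹ * h⁻¹ ∈ N := by
    intro g h
    rw [hNdef, Subgroup.mem_comap, commutator_def]
    have : (QuotientGroup.mk' K) (g * h * g⁻¹ * h⁻¹) =
        ⁅(QuotientGroup.mk' K) g, (QuotientGroup.mk' K) h⁆ := by
      rw [commutatorElement_def]; simp
    rw [this]
    exact Subgroup.commutator_mem_commutator (Subgroup.mem_top _) (Subgroup.mem_top _)
  have hfpf : ∀ g : G, g ∉ N → ∀ x ∈ N, g * x * g⁻¹ * x⁻¹ ∈ K → x ∈ K := by
    intro g hg x hx hgx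
    rw [← QuotientGroup.eq_one_iff] at hgx ⊢
    apply hfpfX ((QuotientGroup.mk' K) g) hg ((QuotientGroup.mk' K) x) hx
    simp only [QuotientGroup.mk'_apply]
    rw [QuotientGroup.mk_mul, QuotientGroup.mk_mul, QuotientGroup.mk_mul, QuotientGroup.mk_inv,
      QuotientGroup.mk_inv] at hgx
    calc (g : G ⧸ K) * (x : G ⧸ K)
        = ((g : G ⧸ K) * (x : G ⧸ K) * (g : G ⧸ K)⁻¹ * (x : G ⧸ K)⁻¹) * ((x : G ⧸ K) * (g : G ⧸ K)) := by
          group
      _ = (x : G ⧸ K) * (g : G ⧸ K) := by rw [hgx, one_mul]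
  have hNidx : N.index = Nat.card Q := by
    rw [hNdef, Subgroup.index_comap_of_surjective _ hmk_surj, hindex]
  have hidx : ∃ a : ℕ, 0 < a ∧ K.relIndex N = r ^ a := by
    refine ⟨a, ha, ?_⟩
    have hKker : K = (⊥ : Subgroup (G ⧸ K)).comap (QuotientGroup.mk' K) := by
      ext k
      rw [Subgroup.mem_comap, Subgroup.mem_bot]
      exact (QuotientGroup.eq_one_iff k).symm
    have hmapN : N.map (QuotientGroup.mk' K) = commutator (G ⧸ K) := by
      rw [hNdef, Subgroup.map_comap_eq_self_of_surjective hmk_surj]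
    conv_lhs => rw [hKker]
    rw [Subgroup.relIndex_comap, hmapN, Subgroup.relIndex_bot_left, hVcard]
  have hNtop : N ≠ ⊤ := by
    intro h
    rw [h, Subgroup.index_top] at hNidx
    omega
  by_cases hall : ∀ ψ : IrrCharacter N, charDegree (ψ : N → ℂ) < b
  · refine ⟨N, hNtop, ?_, hall⟩
    rw [hNidx]
    calc Nat.card Q ≤ b := hfb
      _ = b ^ 1 := (pow_one b).symm
      _ ≤ b ^ 2 := Nat.pow_le_pow_right hbpos (by norm_num)
  · push Not at hall
    obtain ⟨ψ0, hψ0⟩ := hall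
    have hNb : DegLE N b := Cfsg.Agent.Lib.Helper98.IP.degLE_subgroup b hb N
    have hψ0b : charDegree (ψ0 : N → ℂ) = b := le_antisymm (hNb ψ0) hψ0
    -- every character of N of degree b is fixed by the linear characters of N/K
    have hinv : ∀ ψ : N → ℂ, IsIrrCharacter N ψ → charDegree ψ = b →
        ∀ μ : N → ℂ, IsIrrCharacter N μ → μ 1 = 1 → (∀ k : N, (k : G) ∈ K → μ k = 1) → ψ * μ = ψ := by
      intro ψ hψ hψb μ h1 h2 h3
      by_contra h4
      obtain ⟨ξ, hξ, hdeg, hin⟩ :=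
        Cfsg.Agent.Lib.Helper32.CD3.exists_twist_inertia K N hKN hNK hGN hfpf hψ ⟨μ, h1, h2, h3, h4⟩
      obtain ⟨χ', hχ', hχ'd⟩ := Cfsg.Agent.Lib.Helper45.CD3.exists_irr_index_mul N hξ hin
      have hle := hb ⟨χ', hχ'⟩
      rw [hχ'd, hNidx, hdeg, hψb] at hle
      have : 2 * b ≤ Nat.card Q * b := Nat.mul_le_mul_right b hQ1
      omega
    have hrb : r ∣ b := by
      have := Cfsg.Agent.Lib.Helper98.CD3.dvd_degree_of_twist_invariant K N hKN hNK hr hidx ψ0.2
        (hinv ψ0 ψ0.2 hψ0b)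
      rwa [hψ0b] at this
    have hrle : r ≤ b := Nat.le_of_dvd hbpos hrb
    obtain ⟨H, hKH, hHN, hHr⟩ :=
      Cfsg.Agent.Lib.Helper73.IPA.exists_between_index K N hKN hr hidx
    have hHidx : H.index = r * Nat.card Q := by
      rw [← Subgroup.relIndex_mul_index hHN, hHr, hNidx]
    refine ⟨H, ?_, ?_, ?_⟩
    · intro h
      apply hNtop
      rw [eq_top_iff, ← h]
      exact hHN
    · rw [hHidx, pow_two]
      exact Nat.mul_le_mul hrle hfb
    · -- transfer through `H.subgroupOf N`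
      have hH' : H.subgroupOf N ≠ ⊤ := by
        intro h
        have h1 : H.relIndex N = 1 := by
          rw [Subgroup.relIndex, h, Subgroup.index_top]
        rw [hHr] at h1
        exact hr.one_lt.ne' h1
      have hKH' : K.subgroupOf N ≤ H.subgroupOf N := by
        intro x hx
        rw [Subgroup.mem_subgroupOf] at hx ⊢
        exact hKH hx
      have hvan : ∀ ψ : N → ℂ, IsIrrCharacter N ψ → charDegree ψ = b →
          ∀ x : N, x ∉ K.subgroupOf N → ψ x = 0 := by
        intro ψ hψ hψb x hx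
        exact Cfsg.Agent.Lib.Helper98.CD3.vanish_off K N hNK (hinv ψ hψ hψb) x
          (fun hc => hx (Subgroup.mem_subgroupOf.2 hc))
      have hlt := Cfsg.Agent.Lib.Helper80.IPA.lt_of_vanish b hNb (K.subgroupOf N) (H.subgroupOf N)
        hKH' hH' hvan
      intro σ
      have e : ↥(H.subgroupOf N) ≃* ↥H := Subgroup.subgroupOfEquivOfLe hHN
      have hσ' : IsIrrCharacter ↥(H.subgroupOf N) (fun x => (σ : H → ℂ) (e x)) :=
        Cfsg.Agent.Lib.Helper84.isIrrCharacter_comp_mulEquiv e σ.2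
      have := hlt ⟨_, hσ'⟩
      have hd : charDegree (fun x : ↥(H.subgroupOf N) => (σ : H → ℂ) (e x)) =
          charDegree (σ : H → ℂ) := by
        show ⌊((σ : H → ℂ) (e 1)).re⌋₊ = ⌊((σ : H → ℂ) 1).re⌋₊
        rw [map_one]
      rw [← hd]
      exact this

/-- **446311 IP-CASEA** -/
theorem solvable_case {G : Type u} [Group G] [Finite G] (b : ℕ) (hb : DegLE G b)
    (hatt : ∃ χ : IrrCharacter G, charDegree (χ : G → ℂ) = b)
    (K : Subgroup G) [hK : K.Normal] (hmax : MaxNonab K) (hs : Group.IsSolvable (G ⧸ K)) :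
    ∃ H : Subgroup G, H ≠ ⊤ ∧ H.index ≤ b ^ 2 ∧
      ∀ ψ : IrrCharacter H, charDegree (ψ : H → ℂ) < b := by
  classical
  have hmono : MonoQ (G ⧸ K) := Cfsg.Agent.Lib.Helper65.IP.monoQ_of_maxNonab K hmax
  have hXnab : ∃ a c : G ⧸ K, a * c ≠ c * a := by
    by_contra hall
    push Not at hall
    apply hmax.2.1
    rw [commutator_def, Subgroup.commutator_le]
    intro g _ h _
    rw [commutatorElement_def, ← QuotientGroup.eq_one_iff]
    have := hall (g : G ⧸ K) (h : G ⧸ K)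
    rw [QuotientGroup.mk_mul, QuotientGroup.mk_mul, QuotientGroup.mk_mul, QuotientGroup.mk_inv,
      QuotientGroup.mk_inv, this]
    group
  by_cases hp : ∃ p : ℕ, p.Prime ∧ IsPGroup p (G ⧸ K)
  · obtain ⟨p, hpp, hpg⟩ := hp
    have := Fact.mk hpp
    exact pgroup_case b hb K hmono hXnab hpg
  · have hXnp : ∀ p : ℕ, p.Prime → ¬ IsPGroup p (G ⧸ K) := fun p hpp hpg => hp ⟨p, hpp, hpg⟩
    exact frobenius_case b hb K hmono hXnab hs hXnp

end Cfsg.Agent.Lib.Helper04.IP
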