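import Mathlib
import Cfsg.Agent.Lib.Helper12.KKDefs
import Cfsg.Agent.Lib.Helper26.KKGrp

/-!
# Associated graded Lie ring of a group, part 1: graded pieces and the graded bracket
-/

set_option autoImplicit false

namespace Cfsg.Agent.Lib.Helper04.KK

open scoped commutatorElement
open Cfsg.Agent.Lib.Helper26.KK

universe u

/-- degrees: `⟨n⟩` stands for the index of the `n`-th term of the lower central series
(`γ 0 = G`), with addition `⟨i⟩ + ⟨j⟩ = ⟨i + j + 1⟩`. -/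
structure Deg where
  /-- underlying natural number -/
  n : ℕ
deriving DecidableEq

instance : Add Deg := ⟨fun a b => ⟨a.n + b.n + 1⟩⟩

theorem Deg.add_n (a b : Deg) : (a + b).n = a.n + b.n + 1 := rfl

theorem Deg.ext_n {a b : Deg} (h : a.n = b.n) : a = b := by
  cases a; cases b; simp_all

variable (G : Type u) [Group G]

/-- the `n`-th term of the lower central series -/
abbrev gam (n : ℕ) : Subgroup G := (⊤ : Subgroup G).lowerCentralSeries n

/-- `γ (i+1)` inside `γ i` -/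
abbrev NN (i : ℕ) : Subgroup (gam G i) := (gam G (i + 1)).subgroupOf (gam G i)

/-- the `i`-th factor of the lower central series -/
def Q (i : ℕ) : Type u := (gam G i) ⧸ NN G i

instance (i : ℕ) : Group (Q G i) := inferInstanceAs (Group ((gam G i) ⧸ NN G i))

variable {G}

/-- class of an element of `γ i` in the factor `Q i` -/
def qmk (i : ℕ) (x : G) (hx : x ∈ gam G i) : Q G i := QuotientGroup.mk (⟨x, hx⟩ : gam G i)

theorem qmk_surj (i : ℕ) (a : Q G i) : ∃ x, ∃ hx : x ∈ gam G i, qmk i x hx = a := by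
  induction a using QuotientGroup.induction_on with
  | H z => exact ⟨z.1, z.2, rfl⟩

theorem qmk_eq_iff (i : ℕ) {x y : G} (hx : x ∈ gam G i) (hy : y ∈ gam G i) :
    qmk i x hx = qmk i y hy ↔ x⁻¹ * y ∈ gam G (i + 1) := by
  have h : ((QuotientGroup.mk (⟨x, hx⟩ : gam G i) : (gam G i) ⧸ NN G i)
      = QuotientGroup.mk (⟨y, hy⟩ : gam G i)) ↔ (⟨x, hx⟩ : gam G i)⁻¹ * ⟨y, hy⟩ ∈ NN G i :=
    QuotientGroup.eq
  have h2 : ((⟨x, hx⟩ : gam G i)⁻¹ * ⟨y, hy⟩ ∈ NN G i) ↔ x⁻¹ * y ∈ gam G (i + 1) := by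
    simp [Subgroup.mem_subgroupOf]
  exact h.trans h2

theorem qmk_eq_one_iff (i : ℕ) {x : G} (hx : x ∈ gam G i) :
    qmk i x hx = 1 ↔ x ∈ gam G (i + 1) := by
  have h : ((QuotientGroup.mk (⟨x, hx⟩ : gam G i) : (gam G i) ⧸ NN G i) = 1)
      ↔ (⟨x, hx⟩ : gam G i) ∈ NN G i :=
    QuotientGroup.eq_one_iff _
  have h2 : ((⟨x, hx⟩ : gam G i) ∈ NN G i) ↔ x ∈ gam G (i + 1) := by
    simp [Subgroup.mem_subgroupOf]
  exact h.trans h2

theorem qmk_mul (i : ℕ) {x y : G} (hx : x ∈ gam G i) (hy : y ∈ gam G i) :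
    qmk i (x * y) (mul_mem hx hy) = qmk i x hx * qmk i y hy := rfl

theorem qmk_one (i : ℕ) : qmk i (1 : G) (one_mem _) = 1 := rfl

theorem qmk_inv (i : ℕ) {x : G} (hx : x ∈ gam G i) :
    qmk i x⁻¹ (inv_mem hx) = (qmk i x hx)⁻¹ := rfl

theorem qmk_pow (i : ℕ) {x : G} (hx : x ∈ gam G i) (k : ℕ) :
    qmk i (x ^ k) (pow_mem hx k) = (qmk i x hx) ^ k := rfl

theorem gam_succ_le (i : ℕ) : gam G (i + 1) ≤ gam G i :=
  Subgroup.lowerCentralSeries_antitone _ (Nat.le_succ i)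

theorem gam_anti {i j : ℕ} (h : i ≤ j) : gam G j ≤ gam G i :=
  Subgroup.lowerCentralSeries_antitone _ h

instance (i : ℕ) : CommGroup (Q G i) :=
  { (inferInstance : Group (Q G i)) with
    mul_comm := by
      intro a b
      obtain ⟨x, hx, rfl⟩ := qmk_surj i a
      obtain ⟨y, hy, rfl⟩ := qmk_surj i b
      rw [← qmk_mul, ← qmk_mul, qmk_eq_iff]
      have h : (x * y)⁻¹ * (y * x) = ⁅y⁻¹, x⁻¹⁆ := by
        rw [commutatorElement_def]; group
      rw [h]
      exact gam_anti (by omega) (comm_mem_lcs (inv_mem hy) (inv_mem hx)) }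

theorem qmk_eq_of (i : ℕ) {x y : G} (hx : x ∈ gam G i) (hy : y ∈ gam G i)
    (h : x * y⁻¹ ∈ gam G (i + 1)) : qmk i x hx = qmk i y hy := by
  rw [qmk_eq_iff]
  have hn : (gam G (i + 1)).Normal := inferInstance
  have h1 := hn.conj_mem _ (inv_mem h) x⁻¹
  have h2 : x⁻¹ * (x * y⁻¹)⁻¹ * x⁻¹⁻¹ = x⁻¹ * y := by group
  rwa [h2] at h1

theorem qmk_congr {i j : ℕ} (hij : i = j) {x : G} (hx : x ∈ gam G i) (hx' : x ∈ gam G j) :
    HEq (qmk i x hx) (qmk j x hx') := by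
  subst hij; rfl

/-- the bracket with a fixed left entry, as a homomorphism on `γ j` -/
def gmR (i j : ℕ) (x : G) (hx : x ∈ gam G i) : gam G j →* Q G (i + j + 1) where
  toFun y := qmk (i + j + 1) ⁅x, (y : G)⁆ (comm_mem_lcs hx y.2)
  map_one' := by
    rw [qmk_eq_one_iff]
    simp
  map_mul' := by
    intro y z
    rw [← qmk_mul]
    exact qmk_eq_of _ _ _ (comm_mul_right_mod hx y.2 z.2)

theorem gmR_apply (i j : ℕ) (x : G) (hx : x ∈ gam G i) (y : gam G j) :
    gmR i j x hx y = qmk (i + j + 1) ⁅x, (y : G)⁆ (comm_mem_lcs hx y.2) := rfl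

theorem gmR_ker (i j : ℕ) (x : G) (hx : x ∈ gam G i) : NN G j ≤ (gmR i j x hx).ker := by
  intro y hy
  rw [MonoidHom.mem_ker, gmR_apply, qmk_eq_one_iff]
  have hy' : (y : G) ∈ gam G (j + 1) := by simpa [Subgroup.mem_subgroupOf] using hy
  have := comm_mem_lcs hx hy'
  have e : i + (j + 1) + 1 = i + j + 1 + 1 := by omega
  rwa [e] at this

/-- the bracket with a fixed left entry, on the factor `Q j` -/
def gmL (i j : ℕ) (x : G) (hx : x ∈ gam G i) : Q G j →* Q G (i + j + 1) :=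
  QuotientGroup.lift (NN G j) (gmR i j x hx) (gmR_ker i j x hx)

theorem gmL_qmk (i j : ℕ) (x : G) (hx : x ∈ gam G i) (y : G) (hy : y ∈ gam G j) :
    gmL i j x hx (qmk j y hy) = qmk (i + j + 1) ⁅x, y⁆ (comm_mem_lcs hx hy) := rfl

/-- the bracket as a homomorphism on `γ i` with values in homomorphisms -/
def gmA (i j : ℕ) : gam G i →* (Q G j →* Q G (i + j + 1)) where
  toFun x := gmL i j x.1 x.2
  map_one' := by
    ext b
    obtain ⟨y, hy, rfl⟩ := qmk_surj j b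
    rw [gmL_qmk, MonoidHom.one_apply, qmk_eq_one_iff]
    simp
  map_mul' := by
    intro x z
    ext b
    obtain ⟨y, hy, rfl⟩ := qmk_surj j b
    rw [MonoidHom.mul_apply, gmL_qmk, gmL_qmk, gmL_qmk, ← qmk_mul]
    exact qmk_eq_of _ _ _ (comm_mul_left_mod x.2 z.2 hy)

theorem gmA_ker (i j : ℕ) : NN G i ≤ (gmA i j : gam G i →* (Q G j →* Q G (i + j + 1))).ker := by
  intro x hx
  rw [MonoidHom.mem_ker]
  ext b
  obtain ⟨y, hy, rfl⟩ := qmk_surj j b
  change gmL i j x.1 x.2 (qmk j y hy) = 1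
  rw [gmL_qmk, qmk_eq_one_iff]
  have hx' : (x : G) ∈ gam G (i + 1) := by simpa [Subgroup.mem_subgroupOf] using hx
  have := comm_mem_lcs hx' hy
  have e : i + 1 + j + 1 = i + j + 1 + 1 := by omega
  rwa [e] at this

/-- the graded bracket on the factors -/
def gm (i j : ℕ) : Q G i →* (Q G j →* Q G (i + j + 1)) :=
  QuotientGroup.lift (NN G i) (gmA i j) (gmA_ker i j)

theorem gm_qmk (i j : ℕ) (x : G) (hx : x ∈ gam G i) (y : G) (hy : y ∈ gam G j) :
    gm i j (qmk i x hx) (qmk j y hy) = qmk (i + j + 1) ⁅x, y⁆ (comm_mem_lcs hx hy) := rfl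

end Cfsg.Agent.Lib.Helper04.KK
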