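import Mathlib
import Cfsg.Agent.Lib.Helper04.KKAL1

/-!
# Associated graded Lie ring of a group, part 2: the direct sum and its Lie ring structure
-/

set_option autoImplicit false

namespace Cfsg.Agent.Lib.Helper04.KK

open scoped commutatorElement DirectSum
open Cfsg.Agent.Lib.Helper26.KK

universe u

variable (G : Type u) [Group G]

/-- the homogeneous component of degree `d`, written additively -/
def A (d : Deg) : Type u := Additive (Q G d.n)

instance (d : Deg) : AddCommGroup (A G d) := inferInstanceAs (AddCommGroup (Additive (Q G d.n)))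

variable {G}

/-- additive class of an element -/
def amk (d : Deg) (x : G) (hx : x ∈ gam G d.n) : A G d := Additive.ofMul (qmk d.n x hx)

theorem amk_surj (d : Deg) (a : A G d) : ∃ x, ∃ hx : x ∈ gam G d.n, amk d x hx = a := by
  obtain ⟨x, hx, h⟩ := qmk_surj d.n (Additive.toMul a)
  exact ⟨x, hx, by unfold amk; rw [h]; rfl⟩

theorem amk_mul (d : Deg) {x y : G} (hx : x ∈ gam G d.n) (hy : y ∈ gam G d.n) :
    amk d (x * y) (mul_mem hx hy) = amk d x hx + amk d y hy := rfl

theorem amk_one (d : Deg) : amk d (1 : G) (one_mem _) = 0 := rfl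

theorem amk_inv (d : Deg) {x : G} (hx : x ∈ gam G d.n) :
    amk d x⁻¹ (inv_mem hx) = - amk d x hx := rfl

theorem amk_pow (d : Deg) {x : G} (hx : x ∈ gam G d.n) (k : ℕ) :
    amk d (x ^ k) (pow_mem hx k) = k • amk d x hx := rfl

theorem amk_eq_zero_iff (d : Deg) {x : G} (hx : x ∈ gam G d.n) :
    amk d x hx = 0 ↔ x ∈ gam G (d.n + 1) := by
  have : amk d x hx = 0 ↔ qmk d.n x hx = 1 := Iff.rfl
  rw [this, qmk_eq_one_iff]

theorem amk_eq_of (d : Deg) {x y : G} (hx : x ∈ gam G d.n) (hy : y ∈ gam G d.n)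
    (h : x * y⁻¹ ∈ gam G (d.n + 1)) : amk d x hx = amk d y hy := by
  unfold amk
  rw [qmk_eq_of d.n hx hy h]

/-- graded multiplication -/
def amul (i j : Deg) (a : A G i) (b : A G j) : A G (i + j) :=
  Additive.ofMul (gm i.n j.n (Additive.toMul a) (Additive.toMul b))

theorem amul_amk (i j : Deg) (x : G) (hx : x ∈ gam G i.n) (y : G) (hy : y ∈ gam G j.n) :
    amul i j (amk i x hx) (amk j y hy) = amk (i + j) ⁅x, y⁆ (comm_mem_lcs hx hy) := rfl

instance : DirectSum.GNonUnitalNonAssocSemiring (A G) where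
  mul {i j} a b := amul i j a b
  mul_zero {i j} a := by
    change Additive.ofMul (gm i.n j.n (Additive.toMul a) 1) = 0
    rw [map_one]; rfl
  zero_mul {i j} b := by
    change Additive.ofMul (gm i.n j.n 1 (Additive.toMul b)) = 0
    rw [map_one, MonoidHom.one_apply]; rfl
  mul_add {i j} a b c := by
    change Additive.ofMul (gm i.n j.n (Additive.toMul a) (Additive.toMul b * Additive.toMul c)) = _
    rw [map_mul]; rfl
  add_mul {i j} a b c := by
    change Additive.ofMul (gm i.n j.n (Additive.toMul a * Additive.toMul b) (Additive.toMul c)) = _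
    rw [map_mul, MonoidHom.mul_apply]; rfl

variable (G)

/-- the associated graded additive group -/
def L : Type u := ⨁ d : Deg, A G d

instance : AddCommGroup (L G) := inferInstanceAs (AddCommGroup (⨁ d : Deg, A G d))

instance : NonUnitalNonAssocRing (L G) :=
  inferInstanceAs (NonUnitalNonAssocRing (⨁ d : Deg, A G d))

variable {G}

/-- homogeneous element of `L` given by a group element -/
def cls (d : Deg) (x : G) (hx : x ∈ gam G d.n) : L G := DirectSum.of (A G) d (amk d x hx)

theorem cls_congr {d e : Deg} (h : d = e) (x : G) (hx : x ∈ gam G d.n) (hx' : x ∈ gam G e.n) :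
    cls d x hx = cls e x hx' := by
  subst h; rfl

theorem cls_mul (d : Deg) {x y : G} (hx : x ∈ gam G d.n) (hy : y ∈ gam G d.n) :
    cls d (x * y) (mul_mem hx hy) = cls d x hx + cls d y hy := by
  unfold cls
  rw [amk_mul d hx hy]
  exact map_add (DirectSum.of (A G) d) _ _

theorem cls_one (d : Deg) : cls d (1 : G) (one_mem _) = 0 := by
  unfold cls
  rw [amk_one]
  exact map_zero (DirectSum.of (A G) d)

theorem cls_inv (d : Deg) {x : G} (hx : x ∈ gam G d.n) :
    cls d x⁻¹ (inv_mem hx) = - cls d x hx := by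
  unfold cls
  rw [amk_inv d hx]
  exact map_neg (DirectSum.of (A G) d) _

theorem cls_pow (d : Deg) {x : G} (hx : x ∈ gam G d.n) (k : ℕ) :
    cls d (x ^ k) (pow_mem hx k) = k • cls d x hx := by
  unfold cls
  rw [amk_pow d hx]
  exact map_nsmul (DirectSum.of (A G) d) _ _

theorem cls_eq_zero_iff (d : Deg) {x : G} (hx : x ∈ gam G d.n) :
    cls d x hx = 0 ↔ x ∈ gam G (d.n + 1) := by
  unfold cls
  rw [← amk_eq_zero_iff d hx]
  constructor
  · intro h
    exact (DirectSum.of_injective (β := A G) d) (h.trans (map_zero (DirectSum.of (A G) d)).symm)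
  · intro h
    rw [h]
    exact map_zero (DirectSum.of (A G) d)

theorem cls_eq_of (d : Deg) {x y : G} (hx : x ∈ gam G d.n) (hy : y ∈ gam G d.n)
    (h : x * y⁻¹ ∈ gam G (d.n + 1)) : cls d x hx = cls d y hy := by
  unfold cls
  rw [amk_eq_of d hx hy h]

theorem cls_mul_cls (i j : Deg) (x : G) (hx : x ∈ gam G i.n) (y : G) (hy : y ∈ gam G j.n) :
    cls i x hx * cls j y hy = cls (i + j) ⁅x, y⁆ (comm_mem_lcs hx hy) := by
  unfold cls
  exact DirectSum.of_mul_of (A := A G) _ _

theorem L_induction {P : L G → Prop} (h0 : P 0)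
    (hc : ∀ (d : Deg) (x : G) (hx : x ∈ gam G d.n), P (cls d x hx))
    (ha : ∀ a b, P a → P b → P (a + b)) : ∀ a, P a := by
  intro a
  refine DirectSum.induction_on (motive := P) a h0 ?_ ha
  intro d a
  obtain ⟨x, hx, rfl⟩ := amk_surj d a
  exact hc d x hx

end Cfsg.Agent.Lib.Helper04.KK
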