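import Mathlib
import Cfsg.Agent.Lib.Helper04.KKAL2

/-!
# Associated graded Lie ring of a group, part 3: the Lie ring axioms
-/

set_option autoImplicit false

namespace Cfsg.Agent.Lib.Helper04.KK

open scoped commutatorElement DirectSum
open Cfsg.Agent.Lib.Helper26.KK

universe u

variable {G : Type u} [Group G]

theorem L_skew (a b : L G) : a * b + b * a = 0 := by
  revert b
  refine L_induction (P := fun a => ∀ b, a * b + b * a = 0) ?_ ?_ ?_ a
  · intro b; simp
  · intro i x hx b
    refine L_induction (P := fun b => cls i x hx * b + b * cls i x hx = 0) ?_ ?_ ?_ b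
    · simp
    · intro j y hy
      rw [cls_mul_cls, cls_mul_cls]
      have e : j + i = i + j := Deg.ext_n (by rw [Deg.add_n, Deg.add_n]; omega)
      rw [cls_congr e ⁅y, x⁆ _ (comm_mem_lcs hx hy |> fun h => by
        have h2 := comm_mem_lcs hy hx
        rw [Deg.add_n]
        have e2 : j.n + i.n + 1 = i.n + j.n + 1 := by omega
        rwa [e2] at h2)]
      rw [← cls_mul]
      have h1 : ⁅x, y⁆ * ⁅y, x⁆ = 1 := by
        rw [commutatorElement_def, commutatorElement_def]; group
      rw [cls_eq_of (i + j) _ (one_mem _) (by rw [h1]; simp)]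
      exact cls_one _
    · intro b c hb hc
      rw [mul_add, add_mul]
      have : cls i x hx * b + cls i x hx * c + (b * cls i x hx + c * cls i x hx)
          = (cls i x hx * b + b * cls i x hx) + (cls i x hx * c + c * cls i x hx) := by abel
      rw [this, hb, hc, add_zero]
  · intro a c ha hc b
    rw [add_mul, mul_add]
    have : a * b + c * b + (b * a + b * c) = (a * b + b * a) + (c * b + b * c) := by abel
    rw [this, ha, hc, add_zero]

theorem L_self (a : L G) : a * a = 0 := by
  refine L_induction (P := fun a => a * a = 0) ?_ ?_ ?_ a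
  · simp
  · intro i x hx
    rw [cls_mul_cls]
    have h1 : ⁅x, x⁆ = 1 := commutatorElement_self x
    rw [cls_eq_of (i + i) _ (one_mem _) (by rw [h1]; simp)]
    exact cls_one _
  · intro a b ha hb
    rw [add_mul, mul_add, mul_add, ha, hb, zero_add, add_zero, L_skew]

theorem L_jacobi_cls (i j k : Deg) (x y z : G) (hx : x ∈ gam G i.n) (hy : y ∈ gam G j.n)
    (hz : z ∈ gam G k.n) :
    cls i x hx * (cls j y hy * cls k z hz)
      = (cls i x hx * cls j y hy) * cls k z hz + cls j y hy * (cls i x hx * cls k z hz) := by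
  rw [cls_mul_cls j k, cls_mul_cls i (j + k), cls_mul_cls i j, cls_mul_cls (i + j) k,
    cls_mul_cls i k, cls_mul_cls j (i + k)]
  have e1 : i + j + k = i + (j + k) := Deg.ext_n (by simp only [Deg.add_n]; omega)
  have e2 : j + (i + k) = i + (j + k) := Deg.ext_n (by simp only [Deg.add_n]; omega)
  have hD : (i + (j + k)).n = i.n + j.n + k.n + 2 := by simp only [Deg.add_n]; omega
  have m1 : ⁅⁅x, y⁆, z⁆ ∈ gam G (i + (j + k)).n := by
    have := comm_mem_lcs (comm_mem_lcs hx hy) hz
    rw [hD]
    have e : i.n + j.n + 1 + k.n + 1 = i.n + j.n + k.n + 2 := by omega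
    rwa [e] at this
  have m2 : ⁅y, ⁅x, z⁆⁆ ∈ gam G (i + (j + k)).n := by
    have := comm_mem_lcs hy (comm_mem_lcs hx hz)
    rw [hD]
    have e : j.n + (i.n + k.n + 1) + 1 = i.n + j.n + k.n + 2 := by omega
    rwa [e] at this
  rw [cls_congr e1 _ _ m1, cls_congr e2 _ _ m2, ← cls_mul]
  apply cls_eq_of
  have := jacobi_mod hx hy hz
  rw [hD]
  exact this

theorem L_jacobi (a b c : L G) : a * (b * c) = (a * b) * c + b * (a * c) := by
  revert b c
  refine L_induction (P := fun a => ∀ b c, a * (b * c) = (a * b) * c + b * (a * c)) ?_ ?_ ?_ a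
  · intro b c; simp
  · intro i x hx b
    refine L_induction (P := fun b => ∀ c, cls i x hx * (b * c)
        = (cls i x hx * b) * c + b * (cls i x hx * c)) ?_ ?_ ?_ b
    · intro c; simp
    · intro j y hy c
      refine L_induction (P := fun c => cls i x hx * (cls j y hy * c)
        = (cls i x hx * cls j y hy) * c + cls j y hy * (cls i x hx * c)) ?_ ?_ ?_ c
      · simp
      · intro k z hz
        exact L_jacobi_cls i j k x y z hx hy hz
      · intro c d hc hd
        rw [mul_add, mul_add, hc, hd, mul_add, mul_add, mul_add]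
        abel
    · intro b d hb hd c
      rw [add_mul, mul_add, hb, hd, mul_add, add_mul, add_mul]
      abel
  · intro a d ha hd b c
    rw [add_mul, ha, hd, add_mul, add_mul, add_mul, mul_add]
    abel

instance instLieRingL : LieRing (L G) where
  bracket a b := a * b
  add_lie := add_mul
  lie_add := mul_add
  lie_self := L_self
  leibniz_lie := L_jacobi

theorem L_lie_def (a b : L G) : ⁅a, b⁆ = a * b := rfl

end Cfsg.Agent.Lib.Helper04.KK
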