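import Mathlib
import Cfsg.Agent.Lib.Helper04.KKAL3
import Cfsg.Agent.S0032

/-!
# Associated graded Lie ring of a group, part 4: the induced automorphism
-/

set_option autoImplicit false

namespace Cfsg.Agent.Lib.Helper04.KK

open scoped commutatorElement DirectSum
open Cfsg.Agent.Lib.Helper26.KK

universe u

variable {G : Type u} [Group G]

theorem aut_mem_gam (α : MulAut G) (i : ℕ) {x : G} (hx : x ∈ gam G i) : α x ∈ gam G i := by
  have hc : (gam G i).Characteristic := inferInstance
  exact Subgroup.characteristic_iff_le_comap.mp hc α hx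

/-- restriction of an automorphism to `γ i` -/
def autRes (α : MulAut G) (i : ℕ) : gam G i →* gam G i where
  toFun x := ⟨α x.1, aut_mem_gam α i x.2⟩
  map_one' := by ext; simp
  map_mul' := by intro x y; ext; simp

theorem autRes_le (α : MulAut G) (i : ℕ) : NN G i ≤ (NN G i).comap (autRes α i) := by
  intro x hx
  rw [Subgroup.mem_comap]
  have hx' : (x : G) ∈ gam G (i + 1) := by simpa [Subgroup.mem_subgroupOf] using hx
  have : α (x : G) ∈ gam G (i + 1) := aut_mem_gam α (i + 1) hx'
  simpa [Subgroup.mem_subgroupOf, autRes] using this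

/-- the map induced on the factor `Q i` -/
def phiQ (α : MulAut G) (i : ℕ) : Q G i →* Q G i :=
  QuotientGroup.map (NN G i) (NN G i) (autRes α i) (autRes_le α i)

theorem phiQ_qmk (α : MulAut G) (i : ℕ) (x : G) (hx : x ∈ gam G i) :
    phiQ α i (qmk i x hx) = qmk i (α x) (aut_mem_gam α i hx) := rfl

/-- the map induced on the additive component -/
def phiA (α : MulAut G) (d : Deg) : A G d →+ A G d := MonoidHom.toAdditive (phiQ α d.n)

theorem phiA_amk (α : MulAut G) (d : Deg) (x : G) (hx : x ∈ gam G d.n) :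
    phiA α d (amk d x hx) = amk d (α x) (aut_mem_gam α d.n hx) := rfl

/-- the induced additive endomorphism of `L` -/
def phiL (α : MulAut G) : L G →+ L G := DirectSum.map (fun d => phiA α d)

theorem phiL_cls (α : MulAut G) (d : Deg) (x : G) (hx : x ∈ gam G d.n) :
    phiL α (cls d x hx) = cls d (α x) (aut_mem_gam α d.n hx) := by
  have h := DirectSum.map_of (fun d => phiA α d) d (amk d x hx)
  rw [phiA_amk] at h
  exact h

theorem phiL_lie (α : MulAut G) (a b : L G) : phiL α ⁅a, b⁆ = ⁅phiL α a, phiL α b⁆ := by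
  rw [L_lie_def, L_lie_def]
  revert b
  refine L_induction (P := fun a => ∀ b, phiL α (a * b) = phiL α a * phiL α b) ?_ ?_ ?_ a
  · intro b; simp
  · intro i x hx b
    refine L_induction (P := fun b => phiL α (cls i x hx * b)
      = phiL α (cls i x hx) * phiL α b) ?_ ?_ ?_ b
    · simp
    · intro j y hy
      rw [cls_mul_cls, phiL_cls, phiL_cls, phiL_cls, cls_mul_cls]
      congr 1
      exact map_commutatorElement α x y
    · intro b c hb hc
      rw [mul_add, map_add, hb, hc, map_add, mul_add]
  · intro a c ha hc b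
    rw [add_mul, map_add, ha, hc, map_add, add_mul]

theorem phiL_iterate_cls (α : MulAut G) (k : ℕ) (d : Deg) (x : G) (hx : x ∈ gam G d.n) :
    (⇑(phiL α))^[k] (cls d x hx) = cls d ((α ^ k) x) (aut_mem_gam (α ^ k) d.n hx) := by
  induction k with
  | zero => simp
  | succ k ih =>
    rw [Function.iterate_succ_apply', ih, phiL_cls]
    congr 1
    rw [pow_succ']
    rfl

theorem phiL_iterate (α : MulAut G) (p : ℕ) (hα : α ^ p = 1) (a : L G) :
    (⇑(phiL α))^[p] a = a := by
  refine L_induction (P := fun a => (⇑(phiL α))^[p] a = a) ?_ ?_ ?_ a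
  · exact iterate_map_zero (phiL α) p
  · intro d x hx
    rw [phiL_iterate_cls]
    congr 1
    rw [hα]; rfl
  · intro a b ha hb
    rw [iterate_map_add (phiL α) p, ha, hb]

theorem phiA_regular [Finite G] (α : MulAut G) (hfpf : ∀ g : G, α g = g → g = 1) (d : Deg)
    (a : A G d) (ha : phiA α d a = a) : a = 0 := by
  obtain ⟨x, hx, rfl⟩ := amk_surj d a
  rw [phiA_amk] at ha
  rw [amk_eq_zero_iff]
  have h1 : qmk d.n (α x) (aut_mem_gam α d.n hx) = qmk d.n x hx := ha
  rw [qmk_eq_iff] at h1
  exact Cfsg.Agent.S0032.result α (fun g hg => hfpf g hg) (gam G (d.n + 1))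
    (fun n hn => aut_mem_gam α (d.n + 1) hn) x h1

theorem phiL_regular [Finite G] (α : MulAut G) (hfpf : ∀ g : G, α g = g → g = 1)
    (a : L G) (ha : phiL α a = a) : a = 0 := by
  have key : ∀ (b c : ⨁ d : Deg, A G d), DirectSum.map (fun d => phiA α d) b = c → c = b →
      b = 0 := by
    intro b c h1 h2
    apply DFinsupp.ext
    intro d
    have h3 : (DirectSum.map (fun d => phiA α d) b) d = phiA α d (b d) :=
      DirectSum.map_apply _ _ _
    rw [h1, h2] at h3
    exact phiA_regular α hfpf d (b d) h3.symm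
  exact key a (phiL α a) rfl ha

end Cfsg.Agent.Lib.Helper04.KK
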