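import Mathlib
import Cfsg.Agent.Lib.Helper04.KKAL4

/-!
# Associated graded Lie ring of a group, part 5: torsion, class transfer, and the keystone K-AL
-/

set_option autoImplicit false

namespace Cfsg.Agent.Lib.Helper04.KK

open scoped commutatorElement DirectSum
open Cfsg.Agent.Lib.Helper26.KK
open Cfsg.Agent.Lib.Helper12.KK

universe u

variable {G : Type u} [Group G]

theorem card_nsmul_L [Finite G] (a : L G) : (Nat.card G) • a = 0 := by
  refine L_induction (P := fun a => (Nat.card G) • a = 0) ?_ ?_ ?_ a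
  · simp
  · intro d x hx
    rw [← cls_pow]
    have h1 : x ^ Nat.card G = 1 := pow_card_eq_one'
    rw [cls_eq_of d _ (one_mem _) (by rw [h1]; simp)]
    exact cls_one d
  · intro a b ha hb
    rw [nsmul_add, ha, hb, add_zero]

theorem not_dvd_card_of_fpf [Finite G] (p : ℕ) (hp : p.Prime) (α : MulAut G)
    (hα : α ^ p = 1) (hfpf : ∀ g : G, α g = g → g = 1) : ¬ p ∣ Nat.card G := by
  haveI : Fact p.Prime := ⟨hp⟩
  have hP : IsPGroup p (Subgroup.zpowers α) := by
    intro g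
    refine ⟨1, ?_⟩
    obtain ⟨g, hg⟩ := g
    obtain ⟨k, rfl⟩ := Subgroup.mem_zpowers_iff.mp hg
    ext1
    simp only [pow_one, Subgroup.coe_pow, Subgroup.coe_one]
    rw [← zpow_natCast, ← zpow_mul, mul_comm, zpow_mul, zpow_natCast, hα, one_zpow]
  have h1 := hP.card_modEq_card_fixedPoints (α := G)
  have h2 : MulAction.fixedPoints (Subgroup.zpowers α) G = {1} := by
    ext g
    simp only [MulAction.mem_fixedPoints, Set.mem_singleton_iff]
    constructor
    · intro h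
      exact hfpf g (h ⟨α, Subgroup.mem_zpowers α⟩)
    · rintro rfl m
      obtain ⟨m, hm⟩ := m
      change m (1 : G) = 1
      exact map_one m
  rw [h2] at h1
  simp only [Nat.card_eq_fintype_card, Fintype.card_unique, Set.mem_singleton_iff,
    Nat.card_unique] at h1
  intro hdvd
  have h3 : Nat.card G % p = 0 := Nat.mod_eq_zero_of_dvd hdvd
  have h4 : Nat.card G % p = 1 % p := h1
  rw [h3, Nat.mod_eq_of_lt hp.one_lt] at h4
  exact absurd h4 (by norm_num)

theorem exists_inverse_mod [Finite G] (p : ℕ) (hp : p.Prime) (hnd : ¬ p ∣ Nat.card G) :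
    ∃ u v : ℕ, p * u = 1 + Nat.card G * v := by
  have hc : Nat.Coprime (Nat.card G) p := ((Nat.Prime.coprime_iff_not_dvd hp).mpr hnd).symm
  have hpos : 0 < Nat.card G := Nat.card_pos
  -- work modulo `Nat.card G`
  by_cases h1 : Nat.card G = 1
  · exact ⟨1, p - 1, by rw [h1]; have := hp.one_lt; omega⟩
  · have hgt : 1 < Nat.card G := by omega
    obtain ⟨u, -, hu⟩ := Nat.exists_mul_mod_eq_one_of_coprime hc.symm hgt
    refine ⟨u, p * u / Nat.card G, ?_⟩
    have := Nat.div_add_mod (p * u) (Nat.card G)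
    rw [hu] at this
    omega

theorem p_divisible [Finite G] (p : ℕ) (hp : p.Prime) (hnd : ¬ p ∣ Nat.card G) (a : L G) :
    ∃ b : L G, p • b = a := by
  obtain ⟨u, v, huv⟩ := exists_inverse_mod (G := G) p hp hnd
  refine ⟨u • a, ?_⟩
  rw [← mul_nsmul', huv, add_nsmul, one_nsmul, mul_comm, mul_nsmul', card_nsmul_L,
    nsmul_zero, add_zero]

theorem p_torsion_free [Finite G] (p : ℕ) (hp : p.Prime) (hnd : ¬ p ∣ Nat.card G) (a : L G)
    (ha : p • a = 0) : a = 0 := by
  obtain ⟨u, v, huv⟩ := exists_inverse_mod (G := G) p hp hnd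
  have h1 : (p * u) • a = 0 := by rw [mul_comm, mul_nsmul', ha, nsmul_zero]
  rw [huv, add_nsmul, one_nsmul, mul_comm, mul_nsmul', card_nsmul_L, nsmul_zero, add_zero] at h1
  exact h1

theorem cls_mem_lcs (i : ℕ) : ∀ (x : G) (hx : x ∈ gam G i),
    cls ⟨i⟩ x hx ∈ lcsFrom (⊤ : AddSubgroup (L G)) i := by
  induction i with
  | zero =>
    intro x hx
    exact AddSubgroup.mem_top _
  | succ i ih =>
    intro x hx
    have hx' : x ∈ Subgroup.closure {z | ∃ a ∈ gam G i, ∃ b ∈ (⊤ : Subgroup G), ⁅a, b⁆ = z} := hx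
    have hsub : ∀ z ∈ Subgroup.closure {z | ∃ a ∈ gam G i, ∃ b ∈ (⊤ : Subgroup G), ⁅a, b⁆ = z},
        z ∈ gam G (i + 1) := fun z hz => hz
    refine Subgroup.closure_induction
      (p := fun z hz => cls ⟨i + 1⟩ z (hsub z hz) ∈ lcsFrom (⊤ : AddSubgroup (L G)) (i + 1))
      ?_ ?_ ?_ ?_ hx'
    · rintro z ⟨a, ha, b, hb, rfl⟩
      have hb0 : b ∈ gam G (0 : ℕ) := Subgroup.mem_top b
      have h1 := cls_mul_cls ⟨i⟩ ⟨0⟩ a ha b hb0
      have e : (⟨i⟩ + ⟨0⟩ : Deg) = ⟨i + 1⟩ := rfl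
      rw [cls_congr e _ _ (hsub _ (Subgroup.subset_closure ⟨a, ha, b, hb, rfl⟩))] at h1
      rw [← h1]
      exact AddSubgroup.subset_closure ⟨_, ih a ha, _, AddSubgroup.mem_top _, rfl⟩
    · rw [cls_one]
      exact zero_mem _
    · intro y z hy hz h1 h2
      rw [cls_mul ⟨i + 1⟩ (hsub y hy) (hsub z hz)]
      exact add_mem h1 h2
    · intro y hy h1
      rw [cls_inv ⟨i + 1⟩ (hsub y hy)]
      exact neg_mem h1

theorem gam_eq_bot_of_lcs (hnil : Group.IsNilpotent G) (c : ℕ)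
    (h : lcsFrom (⊤ : AddSubgroup (L G)) c = ⊥) : gam G c = ⊥ := by
  have h1 : gam G c ≤ gam G (c + 1) := by
    intro x hx
    have h2 := cls_mem_lcs c x hx
    rw [h, AddSubgroup.mem_bot] at h2
    exact (cls_eq_zero_iff ⟨c⟩ hx).mp h2
  have h2 : ∀ k, gam G (c + k) = gam G c := by
    intro k
    induction k with
    | zero => rfl
    | succ k ih =>
      have : gam G (c + (k + 1)) = ⁅gam G (c + k), (⊤ : Subgroup G)⁆ := rfl
      rw [this, ih]
      exact le_antisymm (gam_succ_le c) h1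
  obtain ⟨n, hn⟩ := Subgroup.nilpotent_iff_lowerCentralSeries.mp hnil
  rw [← h2 n, eq_bot_iff]
  have : gam G (c + n) ≤ gam G n := gam_anti (by omega)
  exact this.trans (le_of_eq hn)

theorem exists_lie_ring (G : Type u) [Group G] [Finite G] (p : ℕ) (hp : p.Prime) (α : MulAut G)
    (hα : α ^ p = 1) (hfpf : ∀ g : G, α g = g → g = 1) (hnil : Group.IsNilpotent G) :
    ∃ (L : Type u) (_ : LieRing L) (φ : L →+ L),
      (∀ x y : L, φ ⁅x, y⁆ = ⁅φ x, φ y⁆) ∧ (∀ x : L, (⇑φ)^[p] x = x) ∧ (∀ x : L, φ x = x → x = 0) ∧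
      (∀ x : L, ∃ y : L, p • y = x) ∧ (∀ x : L, p • x = 0 → x = 0) ∧
      (∀ c : ℕ, lcsFrom (⊤ : AddSubgroup L) c = ⊥ → (⊤ : Subgroup G).lowerCentralSeries c = ⊥) := by
  have hnd := not_dvd_card_of_fpf p hp α hα hfpf
  exact ⟨Cfsg.Agent.Lib.Helper04.KK.L G, instLieRingL, phiL α, phiL_lie α, phiL_iterate α p hα,
    phiL_regular α hfpf, p_divisible p hp hnd, p_torsion_free p hp hnd,
    fun c hc => gam_eq_bot_of_lcs hnil c hc⟩

end Cfsg.Agent.Lib.Helper04.KK
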