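import Mathlib

/-!
# A lattice minimum lemma for products of coset-graph Laplacians

`D` is a finite commutative group.  For a subgroup `Z` the operator `lap Z` is the Laplacian
of the graph joining two points of `D` lying in the same coset of `Z`.  For a list `l` of
subgroups, `theta l` is the product of the operators `1 + lap Z`.  The main result
`card_sat_le` bounds the quadratic form `a ↦ ⟨a, theta l a⟩` on integer valued functions from
below by the size of the saturation of the support of `a` under the subgroup generated by `l`.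
-/

set_option autoImplicit false

namespace Cfsg.Agent.Lib.Helper04.Knorr

open Finset
open scoped Classical

variable {D : Type*} [CommGroup D] [Fintype D]

/-- the standard inner product of integer valued functions -/
def ip (a b : D → ℤ) : ℤ := ∑ x, a x * b x

/-- translation -/
def tr (z : D) (a : D → ℤ) : D → ℤ := fun x => a (x * z)

/-- the Laplacian of the coset graph of `Z` -/
noncomputable def lap (Z : Subgroup D) (a : D → ℤ) : D → ℤ :=
  fun x => ∑ z, if z ∈ Z then a x - a (x * z) else 0

/-- the product of the operators `1 + lap Z` -/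
noncomputable def theta : List (Subgroup D) → (D → ℤ) → (D → ℤ)
  | [], a => a
  | Z :: l, a => theta l a + lap Z (theta l a)

/-- the subgroup generated by a list of subgroups -/
def supList : List (Subgroup D) → Subgroup D
  | [] => ⊥
  | Z :: l => Z ⊔ supList l

/-- the saturation of the support of `a` under `H` -/
noncomputable def sat (H : Subgroup D) (a : D → ℤ) : Finset D :=
  univ.filter (fun x => ∃ y, a y ≠ 0 ∧ x⁻¹ * y ∈ H)

theorem mem_sat {H : Subgroup D} {a : D → ℤ} {x : D} :
    x ∈ sat H a ↔ ∃ y, a y ≠ 0 ∧ x⁻¹ * y ∈ H := by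
  simp [sat]

theorem ip_comm (a b : D → ℤ) : ip a b = ip b a := by
  unfold ip
  exact Finset.sum_congr rfl (fun x _ => mul_comm _ _)

theorem ip_add_right (a b c : D → ℤ) : ip a (b + c) = ip a b + ip a c := by
  unfold ip
  rw [← Finset.sum_add_distrib]
  exact Finset.sum_congr rfl (fun x _ => by simp [mul_add])

theorem ip_sub_right (a b c : D → ℤ) : ip a (b - c) = ip a b - ip a c := by
  unfold ip
  rw [← Finset.sum_sub_distrib]
  exact Finset.sum_congr rfl (fun x _ => by simp [mul_sub])

theorem ip_sub_left (a b c : D → ℤ) : ip (a - b) c = ip a c - ip b c := by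
  rw [ip_comm, ip_sub_right, ip_comm c a, ip_comm c b]

theorem ip_tr_tr (z : D) (a b : D → ℤ) : ip (tr z a) (tr z b) = ip a b := by
  unfold ip tr
  exact Fintype.sum_equiv (Equiv.mulRight z) _ _ (fun x => by simp)

theorem ip_tr_left (z : D) (a b : D → ℤ) : ip (tr z a) b = ip a (tr z⁻¹ b) := by
  unfold ip tr
  exact Fintype.sum_equiv (Equiv.mulRight z) _ _ (fun x => by simp)

theorem tr_add (z : D) (a b : D → ℤ) : tr z (a + b) = tr z a + tr z b := rfl

theorem tr_sub (z : D) (a b : D → ℤ) : tr z (a - b) = tr z a - tr z b := rfl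

theorem lap_add (Z : Subgroup D) (a b : D → ℤ) : lap Z (a + b) = lap Z a + lap Z b := by
  funext x
  simp only [lap, Pi.add_apply]
  rw [← Finset.sum_add_distrib]
  refine Finset.sum_congr rfl (fun z _ => ?_)
  split_ifs <;> ring

theorem lap_sub (Z : Subgroup D) (a b : D → ℤ) : lap Z (a - b) = lap Z a - lap Z b := by
  funext x
  simp only [lap, Pi.sub_apply]
  rw [← Finset.sum_sub_distrib]
  refine Finset.sum_congr rfl (fun z _ => ?_)
  split_ifs <;> ring

theorem lap_tr (Z : Subgroup D) (y : D) (a : D → ℤ) : lap Z (tr y a) = tr y (lap Z a) := by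
  funext x
  simp only [lap, tr]
  refine Finset.sum_congr rfl (fun z _ => ?_)
  rw [mul_right_comm x z y]

theorem theta_add (l : List (Subgroup D)) (a b : D → ℤ) :
    theta l (a + b) = theta l a + theta l b := by
  induction l with
  | nil => rfl
  | cons Z l ih =>
    simp only [theta, ih, lap_add]
    abel

theorem theta_sub (l : List (Subgroup D)) (a b : D → ℤ) :
    theta l (a - b) = theta l a - theta l b := by
  induction l with
  | nil => rfl
  | cons Z l ih =>
    simp only [theta, ih, lap_sub]
    abel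

theorem theta_tr (l : List (Subgroup D)) (y : D) (a : D → ℤ) :
    theta l (tr y a) = tr y (theta l a) := by
  induction l with
  | nil => rfl
  | cons Z l ih =>
    simp only [theta, ih, lap_tr, tr_add]

/-- `⟨a, lap Z b⟩` as a sum over `Z` -/
theorem ip_lap (Z : Subgroup D) (a b : D → ℤ) :
    ip a (lap Z b) = ∑ z, if z ∈ Z then ip a b - ip a (tr z b) else 0 := by
  unfold ip lap tr
  simp_rw [Finset.mul_sum]
  rw [Finset.sum_comm]
  refine Finset.sum_congr rfl (fun z _ => ?_)
  split_ifs
  · rw [← Finset.sum_sub_distrib]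
    exact Finset.sum_congr rfl (fun x _ => by ring)
  · simp

/-- the key identity -/
theorem two_mul_ip_lap_theta (Z : Subgroup D) (l : List (Subgroup D)) (a : D → ℤ) :
    2 * ip a (lap Z (theta l a)) =
      ∑ z, if z ∈ Z then ip (a - tr z a) (theta l (a - tr z a)) else 0 := by
  set b := theta l a with hb
  have h1 : ∀ z : D, ip (a - tr z a) (theta l (a - tr z a)) =
      2 * ip a b - ip a (tr z b) - ip a (tr z⁻¹ b) := by
    intro z
    rw [theta_sub, theta_tr, ← hb, ip_sub_left, ip_sub_right, ip_sub_right, ip_tr_tr,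
      ip_tr_left z a b]
    ring
  rw [ip_lap, Finset.mul_sum]
  have h2 : ∑ z, (if z ∈ Z then ip a (tr z⁻¹ b) else 0) =
      ∑ z, (if z ∈ Z then ip a (tr z b) else 0) := by
    refine Fintype.sum_equiv (Equiv.inv D) _ _ (fun z => ?_)
    simp only [Equiv.inv_apply, inv_mem_iff]
  have h3 : ∑ z, (if z ∈ Z then ip (a - tr z a) (theta l (a - tr z a)) else 0) =
      ∑ z, ((if z ∈ Z then 2 * ip a b - ip a (tr z b) else 0) -
        (if z ∈ Z then ip a (tr z⁻¹ b) else 0)) := by
    refine Finset.sum_congr rfl (fun z _ => ?_)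
    split_ifs
    · rw [h1]
    · simp
  rw [h3, Finset.sum_sub_distrib, h2, ← Finset.sum_sub_distrib]
  refine Finset.sum_congr rfl (fun z _ => ?_)
  split_ifs <;> ring

theorem sat_mono {H K : Subgroup D} (h : H ≤ K) (a : D → ℤ) : sat H a ⊆ sat K a := by
  intro x hx
  rw [mem_sat] at hx ⊢
  obtain ⟨y, hy, hxy⟩ := hx
  exact ⟨y, hy, h hxy⟩

/-- the counting step -/
theorem card_sat_step (Z H : Subgroup D) (a : D → ℤ) :
    2 * ((sat (Z ⊔ H) a).card : ℤ) ≤
      2 * ((sat H a).card : ℤ) + ∑ z, if z ∈ Z then ((sat H (a - tr z a)).card : ℤ) else 0 := by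
  set S' := sat H a with hS'
  set S'' := sat (Z ⊔ H) a with hS''
  have hsub : S' ⊆ S'' := sat_mono le_sup_right a
  set E := S'' \ S' with hE
  have hcard : (S''.card : ℤ) = S'.card + E.card := by
    have := Finset.card_sdiff_add_card_eq_card hsub
    rw [hE]
    omega
  -- the two families of witnesses
  set Gz : D → Finset D := fun z => univ.filter (fun x => x ∉ S' ∧ x * z ∈ S') with hGz
  set Fz : D → Finset D := fun z => univ.filter (fun w => w ∈ S' ∧ w * z ∉ S') with hFz
  have hGsub : ∀ z, Gz z ⊆ sat H (a - tr z a) := by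
    intro z x hx
    simp only [hGz, Finset.mem_filter, Finset.mem_univ, true_and] at hx
    obtain ⟨hx1, hx2⟩ := hx
    rw [hS', mem_sat] at hx2
    obtain ⟨y, hy, hxy⟩ := hx2
    rw [mem_sat]
    refine ⟨y * z⁻¹, ?_, ?_⟩
    · have h0 : a (y * z⁻¹) = 0 := by
        by_contra hne
        apply hx1
        rw [hS', mem_sat]
        refine ⟨y * z⁻¹, hne, ?_⟩
        have : x⁻¹ * (y * z⁻¹) = (x * z)⁻¹ * y := by
          rw [mul_inv]; ac_rfl
        rw [this]; exact hxy
      simp only [Pi.sub_apply, tr, h0, inv_mul_cancel_right, zero_sub, ne_eq, neg_eq_zero]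
      exact hy
    · have : x⁻¹ * (y * z⁻¹) = (x * z)⁻¹ * y := by
        rw [mul_inv]; ac_rfl
      rw [this]; exact hxy
  have hFsub : ∀ z, Fz z ⊆ sat H (a - tr z a) := by
    intro z w hw
    simp only [hFz, Finset.mem_filter, Finset.mem_univ, true_and] at hw
    obtain ⟨hw1, hw2⟩ := hw
    rw [hS', mem_sat] at hw1
    obtain ⟨y, hy, hwy⟩ := hw1
    rw [mem_sat]
    refine ⟨y, ?_, hwy⟩
    have h0 : a (y * z) = 0 := by
      by_contra hne
      apply hw2
      rw [hS', mem_sat]
      refine ⟨y * z, hne, ?_⟩
      have : (w * z)⁻¹ * (y * z) = w⁻¹ * y := by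
        rw [mul_inv]
        calc w⁻¹ * z⁻¹ * (y * z) = w⁻¹ * y * (z⁻¹ * z) := by ac_rfl
          _ = w⁻¹ * y := by simp
      rw [this]; exact hwy
    simp only [Pi.sub_apply, tr, h0, sub_zero, ne_eq]
    exact hy
  have hdisj : ∀ z, Disjoint (Gz z) (Fz z) := by
    intro z
    rw [Finset.disjoint_left]
    intro x hx hx'
    simp only [hGz, hFz, Finset.mem_filter, Finset.mem_univ, true_and] at hx hx'
    exact hx.1 hx'.1
  have hGF : ∀ z, ((Gz z).card : ℤ) + (Fz z).card ≤ (sat H (a - tr z a)).card := by
    intro z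
    have h := Finset.card_le_card (Finset.union_subset (hGsub z) (hFsub z))
    rw [Finset.card_union_of_disjoint (hdisj z)] at h
    exact_mod_cast h
  -- every point of `E` lies in some `Gz z`, `z ∈ Z`
  have hEG : (E.card : ℤ) ≤ ∑ z, if z ∈ Z then ((Gz z).card : ℤ) else 0 := by
    have hE1 : ∀ x ∈ E, ∃ z, z ∈ Z ∧ x ∈ Gz z := by
      intro x hx
      rw [hE, Finset.mem_sdiff] at hx
      obtain ⟨hx1, hx2⟩ := hx
      rw [hS'', mem_sat] at hx1
      obtain ⟨y, hy, hxy⟩ := hx1
      obtain ⟨z, hz, d, hd, hzd⟩ := Subgroup.mem_sup.mp hxy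
      refine ⟨z, hz, ?_⟩
      simp only [hGz, Finset.mem_filter, Finset.mem_univ, true_and]
      refine ⟨hx2, ?_⟩
      rw [hS', mem_sat]
      refine ⟨y, hy, ?_⟩
      have : (x * z)⁻¹ * y = z⁻¹ * (x⁻¹ * y) := by
        rw [mul_inv]; ac_rfl
      rw [this, ← hzd]
      simpa using hd
    choose! f hf using hE1
    -- map `x ↦ (f x, x)` into the sigma-like finset
    have : E.card ≤ ((univ.filter (fun z => z ∈ Z)).sigma (fun z => Gz z)).card := by
      apply Finset.card_le_card_of_injOn (fun x => ⟨f x, x⟩)
      · intro x hx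
        simp only [Finset.coe_sigma, Finset.coe_filter, Finset.mem_univ, true_and, Set.mem_sigma_iff,
          Set.mem_setOf_eq, Finset.mem_coe]
        exact ⟨(hf x hx).1, (hf x hx).2⟩
      · intro x _ x' _ hxx
        simp only [Sigma.mk.injEq] at hxx
        exact eq_of_heq hxx.2
    rw [Finset.card_sigma] at this
    have h2 : ∑ z, (if z ∈ Z then ((Gz z).card : ℤ) else 0) =
        ((∑ z ∈ univ.filter (fun z => z ∈ Z), (Gz z).card : ℕ) : ℤ) := by
      rw [Finset.sum_filter]
      push_cast
      refine Finset.sum_congr rfl (fun z _ => ?_)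
      split_ifs <;> simp
    rw [h2]
    exact_mod_cast this
  -- the `F` sum equals the `G` sum
  have hFG : ∑ z, (if z ∈ Z then ((Fz z).card : ℤ) else 0) =
      ∑ z, if z ∈ Z then ((Gz z).card : ℤ) else 0 := by
    refine Fintype.sum_equiv (Equiv.inv D) _ _ (fun z => ?_)
    simp only [Equiv.inv_apply, inv_mem_iff]
    have : (Fz z).card = (Gz z⁻¹).card := by
      apply Finset.card_bij (fun w _ => w * z)
      · intro w hw
        simp only [hFz, hGz, Finset.mem_filter, Finset.mem_univ, true_and] at hw ⊢
        refine ⟨hw.2, ?_⟩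
        simpa using hw.1
      · intro w _ w' _ h
        exact mul_right_cancel h
      · intro x hx
        simp only [hGz, Finset.mem_filter, Finset.mem_univ, true_and] at hx
        refine ⟨x * z⁻¹, ?_, by simp⟩
        simp only [hFz, Finset.mem_filter, Finset.mem_univ, true_and]
        refine ⟨hx.2, ?_⟩
        simpa using hx.1
    rw [this]
  have hsum : ∑ z, (if z ∈ Z then ((Gz z).card : ℤ) else 0) +
      ∑ z, (if z ∈ Z then ((Fz z).card : ℤ) else 0) ≤
      ∑ z, if z ∈ Z then ((sat H (a - tr z a)).card : ℤ) else 0 := by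
    rw [← Finset.sum_add_distrib]
    refine Finset.sum_le_sum (fun z _ => ?_)
    split_ifs
    · exact hGF z
    · simp
  rw [hFG] at hsum
  rw [hcard]
  linarith

theorem card_supp_le_ip (a : D → ℤ) : ((univ.filter (fun x => a x ≠ 0)).card : ℤ) ≤ ip a a := by
  unfold ip
  rw [Finset.card_eq_sum_ones, Finset.sum_filter]
  push_cast
  refine Finset.sum_le_sum (fun x _ => ?_)
  split_ifs with h
  · have : a x ≤ -1 ∨ 1 ≤ a x := by omega
    rcases this with h1 | h1 <;> nlinarith
  · exact mul_self_nonneg _

/-- **Lattice minimum lemma.** -/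
theorem card_sat_le (l : List (Subgroup D)) :
    ∀ a : D → ℤ, ((sat (supList l) a).card : ℤ) ≤ ip a (theta l a) := by
  induction l with
  | nil =>
    intro a
    have : sat (supList ([] : List (Subgroup D))) a = univ.filter (fun x => a x ≠ 0) := by
      ext x
      simp only [mem_sat, supList, Subgroup.mem_bot, Finset.mem_filter, Finset.mem_univ, true_and]
      constructor
      · rintro ⟨y, hy, hxy⟩
        have : y = x := by
          rw [inv_mul_eq_one] at hxy; exact hxy.symm
        rw [← this]; exact hy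
      · intro hx
        exact ⟨x, hx, by simp⟩
    rw [this]
    exact card_supp_le_ip a
  | cons Z l ih =>
    intro a
    have hstep := card_sat_step Z (supList l) a
    have hkey := two_mul_ip_lap_theta Z l a
    have h1 : ip a (theta (Z :: l) a) = ip a (theta l a) + ip a (lap Z (theta l a)) := by
      simp only [theta, ip_add_right]
    have h2 : ∑ z, (if z ∈ Z then ((sat (supList l) (a - tr z a)).card : ℤ) else 0) ≤
        ∑ z, if z ∈ Z then ip (a - tr z a) (theta l (a - tr z a)) else 0 := by
      refine Finset.sum_le_sum (fun z _ => ?_)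
      split_ifs
      · exact ih _
      · exact le_refl _
    have h3 := ih a
    have : supList (Z :: l) = Z ⊔ supList l := rfl
    rw [this, h1]
    linarith

end Cfsg.Agent.Lib.Helper04.Knorr
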