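import Mathlib
import Cfsg.Agent.Lib.Helper04.KnorrLattice
import Cfsg.Agent.Lib.Helper05.CosetSum

/-!
# Fourier transform on a finite abelian group and the lattice lemma

`A` is a finite commutative group and `A →* ℂˣ` its dual group.  The operators `lap (perp K)` on
integer valued functions on the dual group become multiplication operators after Fourier
transform.  Combined with the lattice lemma this yields `weighted_sum_ge`, a lower bound for
weighted sums of squares of absolute values of a (restricted) character.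
-/

set_option autoImplicit false

namespace Cfsg.Agent.Lib.Helper04.Knorr

open Finset
open scoped Classical ComplexConjugate

variable {A : Type*} [CommGroup A] [Fintype A]

noncomputable instance dualFintype : Fintype (A →* ℂˣ) := Fintype.ofFinite _

/-- the annihilator of a subgroup in the dual group -/
def perp (K : Subgroup A) : Subgroup (A →* ℂˣ) where
  carrier := {α | ∀ k ∈ K, α k = 1}
  mul_mem' := by
    intro a b ha hb k hk
    simp only [Set.mem_setOf_eq] at ha hb
    simp [ha k hk, hb k hk]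
  one_mem' := by
    intro k _
    simp
  inv_mem' := by
    intro a ha k hk
    simp only [Set.mem_setOf_eq] at ha
    simp [ha k hk]

theorem mem_perp {K : Subgroup A} {α : A →* ℂˣ} : α ∈ perp K ↔ ∀ k ∈ K, α k = 1 := Iff.rfl

theorem perp_eq_ker (K : Subgroup A) : perp K = (MonoidHom.domRestrictHom K ℂˣ).ker := by
  ext α
  rw [mem_perp, MonoidHom.mem_ker, MonoidHom.domRestrictHom_apply,
    MonoidHom.domRestrict_eq_one_iff]

theorem perp_eq_iso (K : Subgroup A) :
    perp K = OrderDual.ofDual (CommGroup.subgroupOrderIsoSubgroupMonoidHom A ℂ K) := by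
  ext α
  rw [mem_perp, CommGroup.mem_subgroupOrderIsoSubgroupMonoidHom_iff]

theorem card_perp (K : Subgroup A) : Nat.card (perp K) = K.index := by
  rw [perp_eq_ker, CommGroup.card_domRestrictHom_ker]
  rfl

theorem perp_top : perp (⊤ : Subgroup A) = ⊥ := by
  rw [eq_bot_iff]
  intro α hα
  rw [Subgroup.mem_bot]
  ext x
  rw [mem_perp] at hα
  simp [hα x (Subgroup.mem_top x)]

theorem perp_inf (K₁ K₂ : Subgroup A) : perp (K₁ ⊓ K₂) = perp K₁ ⊔ perp K₂ := by
  rw [perp_eq_iso, perp_eq_iso, perp_eq_iso, map_inf]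
  rfl

/-- the intersection of a list of subgroups -/
def infList : List (Subgroup A) → Subgroup A
  | [] => ⊤
  | K :: l => K ⊓ infList l

theorem supList_map_perp (ks : List (Subgroup A)) :
    supList (ks.map perp) = perp (infList ks) := by
  induction ks with
  | nil => simp [supList, infList, perp_top]
  | cons K l ih =>
    simp only [List.map_cons, supList, infList, ih, perp_inf]

theorem exists_perp_apply_ne_one {K : Subgroup A} {x : A} (hx : x ∉ K) :
    ∃ α ∈ perp K, α x ≠ 1 := by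
  by_contra hcon
  push Not at hcon
  exact hx ((CommGroup.forall_monoidHom_apply_eq_one_iff ℂ K x).mp
    (fun φ hφ => hcon φ (mem_perp.mpr hφ)))

/-- Fourier transform of an integer valued function on the dual group -/
noncomputable def ftz (a : (A →* ℂˣ) → ℤ) (x : A) : ℂ := ∑ α : A →* ℂˣ, (a α : ℂ) * ((α x : ℂˣ) : ℂ)

theorem conj_unit_apply (α : A →* ℂˣ) (x : A) :
    conj ((α x : ℂˣ) : ℂ) = (((α x)⁻¹ : ℂˣ) : ℂ) := by
  have h1 : ((α x : ℂˣ) : ℂ) ^ (Fintype.card A) = 1 := by
    rw [← Units.val_pow_eq_pow_val, ← map_pow, pow_card_eq_one, map_one, Units.val_one]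
  have h2 : ‖((α x : ℂˣ) : ℂ)‖ = 1 :=
    Complex.norm_eq_one_of_pow_eq_one h1 Fintype.card_ne_zero
  have h3 : ((α x : ℂˣ) : ℂ) * conj ((α x : ℂˣ) : ℂ) = 1 := by
    rw [Complex.mul_conj, Complex.normSq_eq_norm_sq, h2]
    simp
  rw [Units.val_inv_eq_inv_val]
  exact (eq_inv_of_mul_eq_one_right h3)

/-- orthogonality of characters -/
theorem sum_char_mul_conj (α β : A →* ℂˣ) :
    ∑ x : A, ((α x : ℂˣ) : ℂ) * conj ((β x : ℂˣ) : ℂ) = if α = β then (Fintype.card A : ℂ) else 0 := by
  split_ifs with h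
  · subst h
    have : ∀ x : A, ((α x : ℂˣ) : ℂ) * conj ((α x : ℂˣ) : ℂ) = 1 := by
      intro x
      rw [conj_unit_apply, ← Units.val_mul, mul_inv_cancel, Units.val_one]
    simp [this]
  · have h1 : (Units.coeHom ℂ).comp (α * β⁻¹) ≠ 1 := by
      intro hcon
      apply h
      ext x
      have := DFunLike.congr_fun hcon x
      simp only [MonoidHom.coe_comp, Function.comp_apply, MonoidHom.mul_apply,
        MonoidHom.inv_apply, Units.coeHom_apply, MonoidHom.one_apply] at this
      have h2 : α x * (β x)⁻¹ = 1 := Units.ext (by simpa using this)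
      rw [mul_inv_eq_one] at h2
      rw [h2]
    have := sum_hom_units_eq_zero _ h1
    rw [← this]
    refine Finset.sum_congr rfl (fun x _ => ?_)
    rw [conj_unit_apply]
    simp

theorem conj_ftz (a : (A →* ℂˣ) → ℤ) (x : A) :
    conj (ftz a x) = ∑ α : A →* ℂˣ, (a α : ℂ) * conj ((α x : ℂˣ) : ℂ) := by
  unfold ftz
  rw [map_sum]
  refine Finset.sum_congr rfl (fun α _ => ?_)
  rw [map_mul]
  simp

/-- Parseval -/
theorem parseval (a b : (A →* ℂˣ) → ℤ) :
    ∑ x : A, ftz a x * conj (ftz b x) = (Fintype.card A : ℂ) * ((ip a b : ℤ) : ℂ) := by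
  simp_rw [conj_ftz, ftz, Finset.sum_mul, Finset.mul_sum]
  rw [Finset.sum_comm]
  have : ∀ α : A →* ℂˣ, ∑ x : A, ∑ β : A →* ℂˣ,
      (a α : ℂ) * ((α x : ℂˣ) : ℂ) * ((b β : ℂ) * conj ((β x : ℂˣ) : ℂ)) =
      (Fintype.card A : ℂ) * ((a α : ℂ) * (b α : ℂ)) := by
    intro α
    rw [Finset.sum_comm]
    have h1 : ∀ β : A →* ℂˣ, ∑ x : A,
        (a α : ℂ) * ((α x : ℂˣ) : ℂ) * ((b β : ℂ) * conj ((β x : ℂˣ) : ℂ)) =
        (a α : ℂ) * (b β : ℂ) * (if α = β then (Fintype.card A : ℂ) else 0) := by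
      intro β
      rw [← sum_char_mul_conj, Finset.mul_sum]
      exact Finset.sum_congr rfl (fun x _ => by ring)
    simp_rw [h1]
    simp only [mul_ite, mul_zero, Finset.sum_ite_eq, Finset.mem_univ, if_true]
    ring
  simp_rw [this]
  rw [← Finset.mul_sum]
  unfold ip
  push_cast
  rfl

theorem sum_perp_apply (K : Subgroup A) (x : A) :
    ∑ z : A →* ℂˣ, (if z ∈ perp K then (((z x)⁻¹ : ℂˣ) : ℂ) else 0) =
      if x ∈ K then (Nat.card (perp K) : ℂ) else 0 := by
  split_ifs with hx
  · have : ∀ z : A →* ℂˣ, (if z ∈ perp K then (((z x)⁻¹ : ℂˣ) : ℂ) else 0) =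
        if z ∈ perp K then (1 : ℂ) else 0 := by
      intro z
      split_ifs with hz
      · rw [mem_perp.mp hz x hx]; simp
      · rfl
    simp_rw [this]
    rw [Finset.sum_ite, Finset.sum_const_zero, add_zero, Finset.sum_const, nsmul_eq_mul, mul_one]
    congr 1
    rw [Nat.card_eq_fintype_card, Fintype.card_subtype]
  · obtain ⟨z₀, hz₀, hz₀x⟩ := exists_perp_apply_ne_one hx
    set S := ∑ z : A →* ℂˣ, (if z ∈ perp K then (((z x)⁻¹ : ℂˣ) : ℂ) else 0) with hS
    have h1 : S = (((z₀ x)⁻¹ : ℂˣ) : ℂ) * S := by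
      rw [hS, Finset.mul_sum]
      refine (Fintype.sum_equiv (Equiv.mulLeft z₀) _ _ (fun z => ?_)).symm
      simp only [Equiv.coe_mulLeft]
      have hmem : z₀ * z ∈ perp K ↔ z ∈ perp K := by
        constructor
        · intro h
          have := (perp K).mul_mem ((perp K).inv_mem hz₀) h
          simpa using this
        · intro h
          exact (perp K).mul_mem hz₀ h
      simp only [hmem, MonoidHom.mul_apply, mul_inv]
      split_ifs
      · rw [Units.val_mul]
      · simp
    have h2 : (((z₀ x)⁻¹ : ℂˣ) : ℂ) ≠ 1 := by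
      intro hcon
      apply hz₀x
      have : (z₀ x)⁻¹ = 1 := Units.ext (by simpa using hcon)
      rwa [inv_eq_one] at this
    have h3 : (1 - (((z₀ x)⁻¹ : ℂˣ) : ℂ)) * S = 0 := by
      rw [sub_mul, one_mul, ← h1, sub_self]
    rcases mul_eq_zero.mp h3 with h4 | h4
    · exact absurd (sub_eq_zero.mp h4).symm h2
    · exact h4

/-- the Laplacian of an annihilator becomes a multiplication operator -/
theorem ftz_lap (K : Subgroup A) (a : (A →* ℂˣ) → ℤ) (x : A) :
    ftz (lap (perp K) a) x = ftz a x * (if x ∈ K then 0 else (K.index : ℂ)) := by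
  have h1 : ftz (lap (perp K) a) x =
      ∑ z : A →* ℂˣ, (if z ∈ perp K then (ftz a x - (((z x)⁻¹ : ℂˣ) : ℂ) * ftz a x) else 0) := by
    unfold ftz lap
    push_cast
    simp_rw [Finset.sum_mul]
    rw [Finset.sum_comm]
    refine Finset.sum_congr rfl (fun z _ => ?_)
    split_ifs with hz
    · simp only [Int.cast_sub, sub_mul]
      rw [Finset.sum_sub_distrib]
      congr 1
      rw [Finset.mul_sum]
      refine Fintype.sum_equiv (Equiv.mulRight z) _ _ (fun α => ?_)
      have hne : ((z x : ℂˣ) : ℂ) ≠ 0 := Units.ne_zero _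
      simp only [Equiv.coe_mulRight, MonoidHom.mul_apply, Units.val_mul,
        Units.val_inv_eq_inv_val]
      field_simp
    · simp
  rw [h1]
  have h2 : ∀ z : A →* ℂˣ,
      (if z ∈ perp K then (ftz a x - (((z x)⁻¹ : ℂˣ) : ℂ) * ftz a x) else 0) =
      ftz a x * ((if z ∈ perp K then (1 : ℂ) else 0) -
        (if z ∈ perp K then (((z x)⁻¹ : ℂˣ) : ℂ) else 0)) := by
    intro z
    split_ifs <;> ring
  simp_rw [h2]
  rw [← Finset.mul_sum, Finset.sum_sub_distrib, sum_perp_apply]
  congr 1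
  have h3 : ∑ z : A →* ℂˣ, (if z ∈ perp K then (1 : ℂ) else 0) = (Nat.card (perp K) : ℂ) := by
    rw [Finset.sum_ite, Finset.sum_const_zero, add_zero, Finset.sum_const, nsmul_eq_mul, mul_one]
    congr 1
    rw [Nat.card_eq_fintype_card, Fintype.card_subtype]
  rw [h3, card_perp]
  split_ifs <;> simp

theorem ftz_add (a b : (A →* ℂˣ) → ℤ) (x : A) : ftz (a + b) x = ftz a x + ftz b x := by
  unfold ftz
  rw [← Finset.sum_add_distrib]
  refine Finset.sum_congr rfl (fun α _ => ?_)
  simp only [Pi.add_apply, Int.cast_add]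
  ring

/-- the weight attached to a list of subgroups -/
noncomputable def wt (ks : List (Subgroup A)) (x : A) : ℕ :=
  (ks.map (fun K : Subgroup A => 1 + if x ∈ K then 0 else K.index)).prod

theorem ftz_theta (ks : List (Subgroup A)) (a : (A →* ℂˣ) → ℤ) (x : A) :
    ftz (theta (ks.map perp) a) x = ftz a x * (wt ks x : ℂ) := by
  induction ks with
  | nil => simp [theta, wt]
  | cons K l ih =>
    simp only [List.map_cons, theta, ftz_add, ftz_lap, ih, wt, List.prod_cons]
    push_cast
    split_ifs <;> ring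

theorem perp_inf_perp_eq_bot {K L : Subgroup A} (h : K ⊔ L = ⊤) : perp K ⊓ perp L = ⊥ := by
  rw [eq_bot_iff]
  intro α hα
  rw [Subgroup.mem_inf] at hα
  rw [Subgroup.mem_bot]
  have h1 : K ≤ α.ker := fun k hk => MonoidHom.mem_ker.mpr (mem_perp.mp hα.1 k hk)
  have h2 : L ≤ α.ker := fun k hk => MonoidHom.mem_ker.mpr (mem_perp.mp hα.2 k hk)
  have h3 : (⊤ : Subgroup A) ≤ α.ker := h ▸ sup_le h1 h2
  ext x
  have := MonoidHom.mem_ker.mp (h3 (Subgroup.mem_top x))
  simp [this]

/-- a function invariant under translation by an element of prime order `p` has sum divisible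
by `p` -/
theorem dvd_sum_of_tr_eq {D : Type*} [CommGroup D] [Fintype D] (p : ℕ) (z : D)
    (hz : orderOf z = p) (m : D → ℤ) (hinv : ∀ x, m (x * z) = m x) : (p : ℤ) ∣ ∑ x, m x := by
  have hinv' : ∀ x, m (x * z⁻¹) = m x := by
    intro x
    have := hinv (x * z⁻¹)
    rw [inv_mul_cancel_right] at this
    exact this.symm
  have hpow : ∀ (k : ℤ) (x : D), m (x * z ^ k) = m x := by
    intro k
    induction k using Int.induction_on with
    | zero => intro x; simp
    | succ i ih =>
      intro x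
      rw [zpow_add, zpow_one, ← mul_assoc, hinv, ih]
    | pred i ih =>
      intro x
      rw [zpow_sub, zpow_one, ← mul_assoc, hinv', ih]
  have hF : ∀ g : D, ∀ b ∈ Subgroup.zpowers z, m (g * b) = m g := by
    intro g b hb
    obtain ⟨k, rfl⟩ := Subgroup.mem_zpowers_iff.mp hb
    exact hpow k g
  have := Cfsg.Agent.Lib.Helper05.sum_eq_card_nsmul_sum_out (Subgroup.zpowers z) m hF
  rw [this, Nat.card_zpowers, hz, nsmul_eq_mul]
  exact Dvd.intro _ rfl

/-- two cosets in the saturation -/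
theorem two_card_le_card_sat {D : Type*} [CommGroup D] [Fintype D] (p : ℕ) (hp : p.Prime)
    (Z0 H : Subgroup D) (hZ0 : Nat.card Z0 = p) (hZH : Z0 ⊓ H = ⊥) (m : D → ℤ)
    (hm : ¬ (p : ℤ) ∣ ∑ x, m x) (z : D) (hz : z ∈ Z0) (hz1 : z ≠ 1) :
    2 * Nat.card H ≤ (sat H (m - tr z m)).card := by
  have hord : orderOf z = p := by
    have h1 : orderOf z ∣ p := by
      have := Subgroup.orderOf_dvd_natCard Z0 hz
      rwa [hZ0] at this
    rcases (Nat.dvd_prime hp).mp h1 with h | h
    · exact absurd (orderOf_eq_one_iff.mp h) hz1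
    · exact h
  set b := m - tr z m with hb
  have hb0 : ∃ α, b α ≠ 0 := by
    by_contra hcon
    push Not at hcon
    apply hm
    apply dvd_sum_of_tr_eq p z hord m
    intro x
    have := hcon x
    simp only [hb, Pi.sub_apply, tr] at this
    omega
  obtain ⟨α, hα⟩ := hb0
  have htel : ∑ j ∈ Finset.range p, b (α * z ^ j) = 0 := by
    have : ∀ j, b (α * z ^ j) = m (α * z ^ j) - m (α * z ^ (j + 1)) := by
      intro j
      simp only [hb, Pi.sub_apply, tr]
      rw [pow_succ, mul_assoc]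
    simp_rw [this]
    rw [Finset.sum_range_sub' (fun j => m (α * z ^ j))]
    rw [← hord, pow_orderOf_eq_one]
    simp
  obtain ⟨j, hj, hj0, hbj⟩ : ∃ j ∈ Finset.range p, j ≠ 0 ∧ b (α * z ^ j) ≠ 0 := by
    by_contra hcon
    push Not at hcon
    have h0 : (0 : ℕ) ∈ Finset.range p := Finset.mem_range.mpr hp.pos
    rw [Finset.sum_eq_single_of_mem 0 h0 (fun j hj hj0 => hcon j hj hj0)] at htel
    apply hα
    simpa using htel
  have hzj : z ^ j ∉ H := by
    intro hcon
    have h1 : z ^ j ∈ Z0 ⊓ H := ⟨Z0.pow_mem hz j, hcon⟩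
    rw [hZH, Subgroup.mem_bot] at h1
    have hlt : j < orderOf z := by rw [hord]; exact Finset.mem_range.mp hj
    exact pow_ne_one_of_lt_orderOf hj0 hlt h1
  set T1 : Finset D := (univ.filter (fun d => d ∈ H)).image (fun d => α * d) with hT1
  set T2 : Finset D := (univ.filter (fun d => d ∈ H)).image (fun d => α * z ^ j * d) with hT2
  have hc1 : T1.card = Nat.card H := by
    rw [hT1, Finset.card_image_of_injective _ (mul_right_injective α), Nat.card_eq_fintype_card,
      Fintype.card_subtype]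
  have hc2 : T2.card = Nat.card H := by
    rw [hT2, Finset.card_image_of_injective _ (mul_right_injective (α * z ^ j)),
      Nat.card_eq_fintype_card, Fintype.card_subtype]
  have hs1 : T1 ⊆ sat H b := by
    intro x hx
    rw [hT1, Finset.mem_image] at hx
    obtain ⟨d, hd, rfl⟩ := hx
    rw [Finset.mem_filter] at hd
    rw [mem_sat]
    refine ⟨α, hα, ?_⟩
    have : (α * d)⁻¹ * α = d⁻¹ := by
      rw [mul_inv]
      calc α⁻¹ * d⁻¹ * α = d⁻¹ * (α⁻¹ * α) := by ac_rfl
        _ = d⁻¹ := by simp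
    rw [this]
    exact H.inv_mem hd.2
  have hs2 : T2 ⊆ sat H b := by
    intro x hx
    rw [hT2, Finset.mem_image] at hx
    obtain ⟨d, hd, rfl⟩ := hx
    rw [Finset.mem_filter] at hd
    rw [mem_sat]
    refine ⟨α * z ^ j, hbj, ?_⟩
    have : (α * z ^ j * d)⁻¹ * (α * z ^ j) = d⁻¹ := by
      rw [mul_inv]
      calc (α * z ^ j)⁻¹ * d⁻¹ * (α * z ^ j) = d⁻¹ * ((α * z ^ j)⁻¹ * (α * z ^ j)) := by ac_rfl
        _ = d⁻¹ := by simp
    rw [this]
    exact H.inv_mem hd.2
  have hdisj : Disjoint T1 T2 := by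
    rw [Finset.disjoint_left]
    intro x hx1 hx2
    rw [hT1, Finset.mem_image] at hx1
    rw [hT2, Finset.mem_image] at hx2
    obtain ⟨d, hd, rfl⟩ := hx1
    obtain ⟨d', hd', hdd⟩ := hx2
    rw [Finset.mem_filter] at hd hd'
    apply hzj
    have : z ^ j = d * d'⁻¹ := by
      have h1 : α * (z ^ j * d') = α * d := by rw [← mul_assoc]; exact hdd
      have h2 := mul_left_cancel h1
      rw [← h2]
      simp
    rw [this]
    exact H.mul_mem hd.2 (H.inv_mem hd'.2)
  have := Finset.card_le_card (Finset.union_subset hs1 hs2)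
  rw [Finset.card_union_of_disjoint hdisj, hc1, hc2] at this
  omega

/-- lower bound for the quadratic form attached to `lap Z0 ∘ theta l` -/
theorem ip_lap_theta_ge {D : Type*} [CommGroup D] [Fintype D] (p : ℕ) (hp : p.Prime)
    (Z0 : Subgroup D) (l : List (Subgroup D)) (hZ0 : Nat.card Z0 = p)
    (hZH : Z0 ⊓ supList l = ⊥) (m : D → ℤ) (hm : ¬ (p : ℤ) ∣ ∑ x, m x) :
    ((p : ℤ) - 1) * (Nat.card (supList l) : ℤ) ≤ ip m (lap Z0 (theta l m)) := by
  have hkey := two_mul_ip_lap_theta Z0 l m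
  have h1 : ∑ z, (if z ∈ Z0 ∧ z ≠ 1 then (2 * (Nat.card (supList l) : ℤ)) else 0) ≤
      ∑ z, if z ∈ Z0 then ip (m - tr z m) (theta l (m - tr z m)) else 0 := by
    refine Finset.sum_le_sum (fun z _ => ?_)
    by_cases hz : z ∈ Z0
    · by_cases hz1 : z = 1
      · subst hz1
        simp only [ne_eq, not_true_eq_false, and_false, if_false, hz, if_true]
        have := card_sat_le l (m - tr 1 m)
        exact le_trans (by positivity) this
      · rw [if_pos ⟨hz, hz1⟩, if_pos hz]
        have h2 := two_card_le_card_sat p hp Z0 (supList l) hZ0 hZH m hm z hz hz1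
        have h3 := card_sat_le l (m - tr z m)
        have h4 : (2 * (Nat.card (supList l) : ℤ)) ≤ ((sat (supList l) (m - tr z m)).card : ℤ) := by
          exact_mod_cast h2
        linarith
    · have : ¬ (z ∈ Z0 ∧ z ≠ 1) := fun h => hz h.1
      rw [if_neg this, if_neg hz]
  have h2 : ∑ z : D, (if z ∈ Z0 ∧ z ≠ 1 then (2 * (Nat.card (supList l) : ℤ)) else 0) =
      ((p : ℤ) - 1) * (2 * (Nat.card (supList l) : ℤ)) := by
    rw [← Finset.sum_filter, Finset.sum_const, nsmul_eq_mul]
    congr 1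
    have h3 : (univ.filter (fun z : D => z ∈ Z0 ∧ z ≠ 1)) = (univ.filter (fun z : D => z ∈ Z0)).erase 1 := by
      ext z
      simp only [Finset.mem_filter, Finset.mem_univ, true_and, Finset.mem_erase]
      tauto
    rw [h3, Finset.card_erase_of_mem (by simp [Z0.one_mem])]
    have h4 : (univ.filter (fun z : D => z ∈ Z0)).card = p := by
      rw [← hZ0, Nat.card_eq_fintype_card, Fintype.card_subtype]
    rw [h4, Nat.cast_sub hp.one_le]
    simp
  rw [h2] at h1
  linarith

/-- **The weighted lower bound.**  `K0` has prime index `p` in `A`, `ks` is a list of subgroups with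
`K0 ⊔ ⋂ ks = ⊤`, and `m` is an integer valued function on the dual group whose sum is prime to
`p`.  Then the weighted sum of `|ftz m x|²` over `x ∉ K0` is at least `|K0| (p - 1) [A : ⋂ ks]`. -/
theorem weighted_sum_ge (p : ℕ) (hp : p.Prime) (K0 : Subgroup A) (hK0 : K0.index = p)
    (ks : List (Subgroup A)) (hsup : K0 ⊔ infList ks = ⊤)
    (m : (A →* ℂˣ) → ℤ) (hm : ¬ (p : ℤ) ∣ ∑ α, m α) :
    (Nat.card K0 : ℝ) * ((p : ℝ) - 1) * ((infList ks).index : ℝ) ≤
      ∑ x : A, if x ∈ K0 then 0 else ‖ftz m x‖ ^ 2 * (wt ks x : ℝ) := by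
  have hZ0 : Nat.card (perp K0) = p := by rw [card_perp, hK0]
  have hZH : perp K0 ⊓ supList (ks.map perp) = ⊥ := by
    rw [supList_map_perp]; exact perp_inf_perp_eq_bot hsup
  have hge := ip_lap_theta_ge p hp (perp K0) (ks.map perp) hZ0 hZH m hm
  rw [supList_map_perp, card_perp] at hge
  set I := ip m (lap (perp K0) (theta (ks.map perp) m)) with hI
  set S : ℝ := ∑ x : A, if x ∈ K0 then 0 else ‖ftz m x‖ ^ 2 * (wt ks x : ℝ) with hS
  have hpar := parseval m (lap (perp K0) (theta (ks.map perp) m))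
  rw [← hI] at hpar
  have hterm : ∀ x : A, ftz m x * conj (ftz (lap (perp K0) (theta (ks.map perp) m)) x) =
      (((if x ∈ K0 then 0 else ‖ftz m x‖ ^ 2 * (wt ks x : ℝ)) * (p : ℝ) : ℝ) : ℂ) := by
    intro x
    rw [ftz_lap, ftz_theta, hK0]
    split_ifs with hx
    · simp
    · rw [map_mul, map_mul, Complex.conj_natCast, Complex.conj_natCast]
      push_cast
      have : ftz m x * conj (ftz m x) = ((‖ftz m x‖ ^ 2 : ℝ) : ℂ) := by
        rw [Complex.mul_conj, Complex.normSq_eq_norm_sq]
      calc ftz m x * (conj (ftz m x) * (wt ks x : ℂ) * (p : ℂ))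
          = (ftz m x * conj (ftz m x)) * (wt ks x : ℂ) * (p : ℂ) := by ring
        _ = _ := by rw [this]; push_cast; ring
  simp_rw [hterm] at hpar
  rw [← Complex.ofReal_sum, ← Finset.sum_mul, ← hS] at hpar
  have hcard : (Fintype.card A : ℝ) = (Nat.card K0 : ℝ) * (p : ℝ) := by
    have := K0.card_mul_index
    rw [hK0, Nat.card_eq_fintype_card (α := A)] at this
    exact_mod_cast this.symm
  have hreal : S * (p : ℝ) = (Fintype.card A : ℝ) * (I : ℝ) := by
    have h := congrArg Complex.re hpar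
    simpa using h
  have hp0 : (0 : ℝ) < (p : ℝ) := by exact_mod_cast hp.pos
  have hSeq : S = (Nat.card K0 : ℝ) * (I : ℝ) := by
    rw [hcard] at hreal
    have : S * (p : ℝ) = ((Nat.card K0 : ℝ) * (I : ℝ)) * (p : ℝ) := by rw [hreal]; ring
    exact mul_right_cancel₀ hp0.ne' this
  have hgeR : ((p : ℝ) - 1) * ((infList ks).index : ℝ) ≤ (I : ℝ) := by
    exact_mod_cast hge
  rw [hSeq]
  have hK0pos : (0 : ℝ) ≤ (Nat.card K0 : ℝ) := by positivity
  calc (Nat.card K0 : ℝ) * ((p : ℝ) - 1) * ((infList ks).index : ℝ)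
      = (Nat.card K0 : ℝ) * (((p : ℝ) - 1) * ((infList ks).index : ℝ)) := by ring
    _ ≤ (Nat.card K0 : ℝ) * (I : ℝ) := mul_le_mul_of_nonneg_left hgeR hK0pos

end Cfsg.Agent.Lib.Helper04.Knorr
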