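import Mathlib
import Cfsg.Agent.Lib.Helper04.KnorrFourier
import Cfsg.Agent.Lib.Helper04.Basis
import Cfsg.Agent.Lib.Helper05.CharDecomp

/-!
# Characters of finite abelian groups

Every character of a finite commutative group is a combination, with natural number coefficients,
of homomorphisms to `ℂˣ`.
-/

set_option autoImplicit false

namespace Cfsg.Agent.Lib.Helper04.Knorr

open Finset
open scoped Classical

variable {A : Type*} [CommGroup A] [Fintype A]

/-- the irreducible character attached to a homomorphism to `ℂˣ` -/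
noncomputable def homIrr (α : A →* ℂˣ) : Cfsg.IrrCharacter A :=
  ⟨fun a => ((α a : ℂˣ) : ℂ), Cfsg.Agent.Lib.Helper05.isIrrCharacter_of_hom α⟩

theorem homIrr_injective : Function.Injective (homIrr (A := A)) := by
  intro α β h
  ext x
  have := congrFun (congrArg Subtype.val h) x
  simpa [homIrr] using this

theorem homIrr_bijective : Function.Bijective (homIrr (A := A)) := by
  haveI : Finite (Cfsg.IrrCharacter A) := Cfsg.Agent.Lib.Helper04.irr_finite
  rw [Nat.bijective_iff_injective_and_card]
  refine ⟨homIrr_injective, ?_⟩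
  rw [CommGroup.card_monoidHom_of_hasEnoughRootsOfUnity,
    Cfsg.Agent.Lib.Helper04.card_irr_eq_card_conjClasses]
  exact Nat.card_congr ConjClasses.mkEquiv

/-- a character of a finite abelian group is the Fourier transform of a nonnegative integer valued
function on the dual group -/
theorem exists_ftz_eq {ψ : A → ℂ} (hψ : Cfsg.IsCharacter A ψ) :
    ∃ m : (A →* ℂˣ) → ℤ, ∀ x : A, ψ x = ftz m x := by
  haveI : Finite (Cfsg.IrrCharacter A) := Cfsg.Agent.Lib.Helper04.irr_finite
  letI : Fintype (Cfsg.IrrCharacter A) := Fintype.ofFinite _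
  obtain ⟨m, hm⟩ := Cfsg.Agent.Lib.Helper05.exists_nat_coeff hψ
  refine ⟨fun α => (m (homIrr α) : ℤ), fun x => ?_⟩
  rw [hm]
  unfold ftz
  rw [Finset.sum_apply]
  rw [← (Equiv.ofBijective _ (homIrr_bijective (A := A))).sum_comp]
  refine Finset.sum_congr rfl (fun α _ => ?_)
  simp [homIrr]

end Cfsg.Agent.Lib.Helper04.Knorr
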