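import Mathlib
import Cfsg.Agent.Lib.Helper04.KnorrFourier
import Cfsg.Agent.Lib.Helper04.KnorrAbelian
import Cfsg.Agent.Lib.Helper04.Basis
import Cfsg.Agent.Lib.Helper05.CharBasic
import Cfsg.Agent.Lib.Helper83.CharBasic

/-!
# The counting core of Knörr's abelian stabilizer theorem
-/

set_option autoImplicit false

namespace Cfsg.Agent.Lib.Helper04.Knorr

open Finset
open scoped Classical ComplexConjugate
open Cfsg

/-- column orthogonality in real form -/
theorem sum_norm_sq_eq {X : Type*} [Group X] [Fintype X] [Fintype (IrrCharacter X)] (g : X) :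
    ∑ χ : IrrCharacter X, ‖(χ : X → ℂ) g‖ ^ 2 =
      (Nat.card (Subgroup.centralizer ({g} : Set X)) : ℝ) := by
  have h := (Cfsg.Agent.Lib.Helper04.column_orthogonality g g).1 (IsConj.refl g)
  rw [finsum_eq_sum_of_fintype] at h
  have h2 : ∀ χ : IrrCharacter X, (χ : X → ℂ) g * conj ((χ : X → ℂ) g) =
      ((‖(χ : X → ℂ) g‖ ^ 2 : ℝ) : ℂ) := by
    intro χ
    rw [Complex.mul_conj, Complex.normSq_eq_norm_sq]
  simp_rw [h2] at h
  rw [← Complex.ofReal_sum] at h
  have h3 : ((∑ χ : IrrCharacter X, ‖(χ : X → ℂ) g‖ ^ 2 : ℝ) : ℂ) =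
      (((Nat.card (Subgroup.centralizer ({g} : Set X)) : ℝ)) : ℂ) := by
    rw [h]; simp
  exact Complex.ofReal_injective h3

/-- **The counting core.** -/
theorem knorr_core {X : Type*} [Group X] [Fintype X] {A : Type*} [CommGroup A] [Fintype A]
    (ι : A →* X) (p : ℕ) (hp : p.Prime) (V : Subgroup X)
    (hdeg : ∀ χ : IrrCharacter X, ¬ p ∣ charDegree (χ : X → ℂ))
    (K0 : Subgroup A) (hK0 : K0.index = p)
    (ks : List (Subgroup A)) (hsup : K0 ⊔ infList ks = ⊤)
    (hidx : Nat.card K0 ≤ (infList ks).index)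
    (hcent : ∀ a : A, a ∉ K0 →
      wt ks a * Nat.card (Subgroup.centralizer ({ι a} : Set X)) ≤ Nat.card V * Nat.card K0) :
    Nat.card (ConjClasses X) ≤ Nat.card V := by
  haveI : Finite (IrrCharacter X) := Cfsg.Agent.Lib.Helper04.irr_finite
  letI : Fintype (IrrCharacter X) := Fintype.ofFinite _
  rw [← Cfsg.Agent.Lib.Helper04.card_irr_eq_card_conjClasses, Nat.card_eq_fintype_card]
  set n := Nat.card K0 with hn
  have hnpos : 0 < n := Nat.card_pos
  set idx := (infList ks).index with hidxdef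
  -- the bound for each character
  have hχ : ∀ χ : IrrCharacter X, (n : ℝ) * ((p : ℝ) - 1) * (idx : ℝ) ≤
      ∑ a : A, if a ∈ K0 then 0 else ‖(χ : X → ℂ) (ι a)‖ ^ 2 * (wt ks a : ℝ) := by
    intro χ
    have hc : IsCharacter X (χ : X → ℂ) := Cfsg.Agent.Lib.Helper05.IsIrrCharacter.isCharacter χ.2
    have hψ : IsCharacter A (fun a => (χ : X → ℂ) (ι a)) :=
      Cfsg.Agent.Lib.Helper05.isCharacter_comp ι hc
    obtain ⟨m, hm⟩ := exists_ftz_eq hψ
    have hsum : ∑ α, m α = (charDegree (χ : X → ℂ) : ℤ) := by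
      have h1 := hm 1
      simp only [map_one] at h1
      rw [← Cfsg.Agent.Lib.Helper83.charDegree_cast hc] at h1
      have h2 : ftz m 1 = ((∑ α, m α : ℤ) : ℂ) := by
        unfold ftz
        push_cast
        refine Finset.sum_congr rfl (fun α _ => ?_)
        simp
      rw [h2] at h1
      exact_mod_cast h1.symm
    have hndvd : ¬ (p : ℤ) ∣ ∑ α, m α := by
      rw [hsum, Int.natCast_dvd_natCast]
      exact hdeg χ
    have := weighted_sum_ge p hp K0 hK0 ks hsup m hndvd
    simp_rw [← hm] at this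
    exact this
  -- sum over all characters
  have hsumχ : (Fintype.card (IrrCharacter X) : ℝ) * ((n : ℝ) * ((p : ℝ) - 1) * (idx : ℝ)) ≤
      ∑ a : A, if a ∈ K0 then 0 else
        (Nat.card (Subgroup.centralizer ({ι a} : Set X)) : ℝ) * (wt ks a : ℝ) := by
    have h1 : ∑ _χ : IrrCharacter X, ((n : ℝ) * ((p : ℝ) - 1) * (idx : ℝ)) ≤
        ∑ χ : IrrCharacter X, ∑ a : A,
          if a ∈ K0 then 0 else ‖(χ : X → ℂ) (ι a)‖ ^ 2 * (wt ks a : ℝ) :=
      Finset.sum_le_sum (fun χ _ => hχ χ)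
    rw [Finset.sum_const, Finset.card_univ, nsmul_eq_mul, Finset.sum_comm] at h1
    refine le_trans h1 (le_of_eq ?_)
    refine Finset.sum_congr rfl (fun a _ => ?_)
    split_ifs
    · simp
    · rw [← Finset.sum_mul, sum_norm_sq_eq]
  -- bound the right hand side
  have hrhs : ∑ a : A, (if a ∈ K0 then 0 else
      (Nat.card (Subgroup.centralizer ({ι a} : Set X)) : ℝ) * (wt ks a : ℝ)) ≤
      (((p : ℝ) - 1) * (n : ℝ)) * ((Nat.card V : ℝ) * (n : ℝ)) := by
    have h1 : ∀ a : A, (if a ∈ K0 then 0 else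
        (Nat.card (Subgroup.centralizer ({ι a} : Set X)) : ℝ) * (wt ks a : ℝ)) ≤
        if a ∈ K0 then 0 else ((Nat.card V : ℝ) * (n : ℝ)) := by
      intro a
      split_ifs with ha
      · exact le_refl _
      · have := hcent a ha
        rw [mul_comm]
        exact_mod_cast this
    refine le_trans (Finset.sum_le_sum (fun a _ => h1 a)) (le_of_eq ?_)
    rw [Finset.sum_ite, Finset.sum_const_zero, zero_add, Finset.sum_const, nsmul_eq_mul]
    congr 1
    have h2 : (univ.filter (fun a : A => a ∉ K0)).card + n = p * n := by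
      have h3 : (univ.filter (fun a : A => a ∈ K0)).card = n := by
        rw [hn, Nat.card_eq_fintype_card, Fintype.card_subtype]
      have h4 := Finset.card_filter_add_card_filter_not (s := (univ : Finset A))
        (fun a : A => a ∈ K0)
      have h5 : Fintype.card A = n * p := by
        have := K0.card_mul_index
        rw [hK0, Nat.card_eq_fintype_card (α := A)] at this
        exact this.symm
      rw [Finset.card_univ, h3, h5] at h4
      linarith
    have h6 : ((univ.filter (fun a : A => a ∉ K0)).card : ℝ) = (p : ℝ) * (n : ℝ) - (n : ℝ) := by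
      have : (((univ.filter (fun a : A => a ∉ K0)).card + n : ℕ) : ℝ) = ((p * n : ℕ) : ℝ) := by
        rw [h2]
      push_cast at this
      linarith
    rw [h6]; ring
  -- conclusion
  have hp1 : (1 : ℝ) ≤ (p : ℝ) - 1 := by
    have : (2 : ℝ) ≤ (p : ℝ) := by exact_mod_cast hp.two_le
    linarith
  have hnR : (0 : ℝ) < (n : ℝ) := by exact_mod_cast hnpos
  have hidxR : (n : ℝ) ≤ (idx : ℝ) := by exact_mod_cast hidx
  have hk0 : (0 : ℝ) ≤ (Fintype.card (IrrCharacter X) : ℝ) := by positivity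
  have hfinal : (Fintype.card (IrrCharacter X) : ℝ) * ((n : ℝ) * ((p : ℝ) - 1) * (n : ℝ)) ≤
      (Nat.card V : ℝ) * ((n : ℝ) * ((p : ℝ) - 1) * (n : ℝ)) := by
    have h1 : (Fintype.card (IrrCharacter X) : ℝ) * ((n : ℝ) * ((p : ℝ) - 1) * (n : ℝ)) ≤
        (Fintype.card (IrrCharacter X) : ℝ) * ((n : ℝ) * ((p : ℝ) - 1) * (idx : ℝ)) := by
      apply mul_le_mul_of_nonneg_left _ hk0
      apply mul_le_mul_of_nonneg_left hidxR
      positivity
    have h2 := le_trans h1 (le_trans hsumχ hrhs)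
    linarith
  have hpos : (0 : ℝ) < (n : ℝ) * ((p : ℝ) - 1) * (n : ℝ) := by positivity
  have := le_of_mul_le_mul_right hfinal hpos
  exact_mod_cast this

end Cfsg.Agent.Lib.Helper04.Knorr
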