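import Mathlib
import Cfsg.Agent.Lib.Helper04.KnorrFourier
import Cfsg.Agent.Lib.Helper01.Basic

/-!
# Abelian groups acting completely reducibly: the list of kernels

`A` is a finite commutative group acting on a finite commutative group `V` such that every
invariant subgroup has an invariant complement.  We produce a list `ks` of subgroups of `A`
whose intersection is the kernel of the action and such that
`wt ks a * |C_V(a)| ≤ |V|` for every `a`.
-/

set_option autoImplicit false

namespace Cfsg.Agent.Lib.Helper04.Knorr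

open scoped Classical

variable {A V : Type*} [CommGroup A] [CommGroup V] [MulDistribMulAction A V]

/-- the pointwise stabilizer of a subgroup -/
def actKer (U : Subgroup V) : Subgroup A where
  carrier := {a | ∀ u ∈ U, a • u = u}
  mul_mem' := by
    intro a b ha hb u hu
    simp only [Set.mem_setOf_eq] at ha hb
    rw [mul_smul, hb u hu, ha u hu]
  one_mem' := by
    intro u _
    simp
  inv_mem' := by
    intro a ha u hu
    simp only [Set.mem_setOf_eq] at ha
    rw [inv_smul_eq_iff, ha u hu]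

theorem mem_actKer {U : Subgroup V} {a : A} : a ∈ actKer (A := A) U ↔ ∀ u ∈ U, a • u = u := Iff.rfl

/-- the fixed points of `a` in `U` -/
def fixedIn (U : Subgroup V) (a : A) : Subgroup V where
  carrier := {u | u ∈ U ∧ a • u = u}
  mul_mem' := by
    rintro x y ⟨hx, hx'⟩ ⟨hy, hy'⟩
    exact ⟨U.mul_mem hx hy, by rw [smul_mul', hx', hy']⟩
  one_mem' := ⟨U.one_mem, smul_one a⟩
  inv_mem' := by
    rintro x ⟨hx, hx'⟩
    exact ⟨U.inv_mem hx, by rw [smul_inv', hx']⟩

theorem mem_fixedIn {U : Subgroup V} {a : A} {u : V} :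
    u ∈ fixedIn U a ↔ u ∈ U ∧ a • u = u := Iff.rfl

theorem fixedIn_le (U : Subgroup V) (a : A) : fixedIn U a ≤ U := fun _ hu => hu.1

theorem fixedIn_eq_self_of_mem {U : Subgroup V} {a : A} (ha : a ∈ actKer (A := A) U) :
    fixedIn U a = U := by
  apply le_antisymm (fixedIn_le U a)
  intro u hu
  exact ⟨hu, ha u hu⟩

/-- `fixedIn U a` is invariant when `U` is (the group `A` is commutative) -/
theorem fixedIn_invariant {U : Subgroup V} (hU : ∀ a : A, ∀ u ∈ U, a • u ∈ U) (a : A) :
    ∀ b : A, ∀ u ∈ fixedIn U a, b • u ∈ fixedIn U a := by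
  rintro b u ⟨hu, hu'⟩
  refine ⟨hU b u hu, ?_⟩
  rw [smul_comm, hu']

section Finite

variable [Finite A] [Finite V]

/-- a minimal invariant subgroup is acted on semiregularly -/
theorem index_add_one_le_card {U₁ : Subgroup V} (hU₁ : ∀ a : A, ∀ u ∈ U₁, a • u ∈ U₁)
    (hne : U₁ ≠ ⊥)
    (hmin : ∀ W : Subgroup V, (∀ a : A, ∀ w ∈ W, a • w ∈ W) → W ≤ U₁ → W = ⊥ ∨ W = U₁) :
    (actKer (A := A) U₁).index + 1 ≤ Nat.card U₁ ∧
      ∀ a : A, a ∉ actKer (A := A) U₁ → fixedIn U₁ a = ⊥ := by
  have hdich : ∀ a : A, a ∉ actKer (A := A) U₁ → fixedIn U₁ a = ⊥ := by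
    intro a ha
    rcases hmin (fixedIn U₁ a) (fixedIn_invariant hU₁ a) (fixedIn_le U₁ a) with h | h
    · exact h
    · exfalso
      apply ha
      intro u hu
      have : u ∈ fixedIn U₁ a := by rw [h]; exact hu
      exact this.2
  refine ⟨?_, hdich⟩
  obtain ⟨u, hu, hu1⟩ : ∃ u ∈ U₁, u ≠ 1 := by
    by_contra hcon
    push Not at hcon
    apply hne
    rw [eq_bot_iff]
    intro x hx
    rw [Subgroup.mem_bot]
    exact hcon x hx
  have hstab : MulAction.stabilizer A u = actKer (A := A) U₁ := by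
    ext b
    rw [MulAction.mem_stabilizer_iff]
    constructor
    · intro hb
      by_contra hcon
      have h1 := hdich b hcon
      have h2 : u ∈ fixedIn U₁ b := ⟨hu, hb⟩
      rw [h1, Subgroup.mem_bot] at h2
      exact hu1 h2
    · intro hb
      exact hb u hu
  have hidx := MulAction.index_stabilizer A u
  rw [hstab] at hidx
  rw [hidx]
  have hsub : MulAction.orbit A u ⊆ ((U₁ : Set V) \ {1}) := by
    rintro x ⟨b, rfl⟩
    refine ⟨hU₁ b u hu, ?_⟩
    intro hx
    simp only [Set.mem_singleton_iff] at hx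
    apply hu1
    have : b • u = b • (1 : V) := by simp only [smul_one]; exact hx
    exact MulAction.injective b this
  have h1 : (MulAction.orbit A u).ncard ≤ ((U₁ : Set V) \ {1}).ncard :=
    Set.ncard_le_ncard hsub (Set.toFinite _)
  have h2 : ((U₁ : Set V) \ {1}).ncard + 1 = (U₁ : Set V).ncard := by
    rw [Set.ncard_diff_singleton_add_one (U₁.one_mem) (Set.toFinite _)]
  have h3 : (U₁ : Set V).ncard = Nat.card U₁ := by
    rw [← Nat.card_coe_set_eq]; rfl
  omega

theorem card_sup_of_disjoint (X Y : Subgroup V) (h : X ⊓ Y = ⊥) :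
    Nat.card (X ⊔ Y : Subgroup V) = Nat.card X * Nat.card Y := by
  have := Cfsg.Agent.Lib.Helper01.card_sup_mul_card_inf Y X
  rw [inf_comm, h, Subgroup.card_bot, mul_one, mul_comm] at this
  exact this

/-- decomposition of the fixed points along a direct decomposition into invariant subgroups -/
theorem fixedIn_sup {U₁ W : Subgroup V} (hU₁ : ∀ a : A, ∀ u ∈ U₁, a • u ∈ U₁)
    (hW : ∀ a : A, ∀ w ∈ W, a • w ∈ W) (hdisj : U₁ ⊓ W = ⊥) (a : A) :
    fixedIn (U₁ ⊔ W) a = fixedIn U₁ a ⊔ fixedIn W a := by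
  apply le_antisymm
  · rintro x ⟨hx, hx'⟩
    obtain ⟨u, hu, w, hw, rfl⟩ := Subgroup.mem_sup.mp hx
    rw [smul_mul'] at hx'
    have h1 : u⁻¹ * a • u = w * (a • w)⁻¹ := by
      have : a • u * a • w = u * w := hx'
      calc u⁻¹ * a • u = u⁻¹ * (a • u * a • w) * (a • w)⁻¹ := by
            rw [mul_assoc, mul_assoc, mul_inv_cancel, mul_one]
        _ = u⁻¹ * (u * w) * (a • w)⁻¹ := by rw [this]
        _ = w * (a • w)⁻¹ := by rw [inv_mul_cancel_left]
    have h2 : u⁻¹ * a • u ∈ U₁ ⊓ W := by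
      refine ⟨U₁.mul_mem (U₁.inv_mem hu) (hU₁ a u hu), ?_⟩
      rw [h1]
      exact W.mul_mem hw (W.inv_mem (hW a w hw))
    rw [hdisj, Subgroup.mem_bot] at h2
    have hu' : a • u = u := by
      rw [inv_mul_eq_one] at h2; exact h2.symm
    have hw' : a • w = w := by
      rw [h2] at h1
      have := h1.symm
      rw [mul_inv_eq_one] at this
      exact this.symm
    exact Subgroup.mul_mem_sup ⟨hu, hu'⟩ ⟨hw, hw'⟩
  · apply sup_le
    · rintro x ⟨hx, hx'⟩
      exact ⟨Subgroup.mem_sup_left hx, hx'⟩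
    · rintro x ⟨hx, hx'⟩
      exact ⟨Subgroup.mem_sup_right hx, hx'⟩

theorem actKer_sup (U₁ W : Subgroup V) :
    actKer (A := A) (U₁ ⊔ W) = actKer (A := A) U₁ ⊓ actKer (A := A) W := by
  ext a
  rw [Subgroup.mem_inf, mem_actKer, mem_actKer, mem_actKer]
  constructor
  · intro h
    exact ⟨fun u hu => h u (Subgroup.mem_sup_left hu), fun w hw => h w (Subgroup.mem_sup_right hw)⟩
  · rintro ⟨h1, h2⟩ x hx
    obtain ⟨u, hu, w, hw, rfl⟩ := Subgroup.mem_sup.mp hx
    rw [smul_mul', h1 u hu, h2 w hw]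

/-- **The list of kernels.** -/
theorem exists_list
    (hM : ∀ U : Subgroup V, (∀ a : A, ∀ u ∈ U, a • u ∈ U) →
      ∃ W : Subgroup V, (∀ a : A, ∀ w ∈ W, a • w ∈ W) ∧ U ⊓ W = ⊥ ∧ U ⊔ W = ⊤) :
    ∀ (n : ℕ) (U : Subgroup V), Nat.card U = n → (∀ a : A, ∀ u ∈ U, a • u ∈ U) →
      ∃ ks : List (Subgroup A), infList ks = actKer (A := A) U ∧
        ∀ a : A, wt ks a * Nat.card (fixedIn U a) ≤ Nat.card U := by
  intro n
  induction n using Nat.strong_induction_on with
  | _ n ih =>
    intro U hUn hU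
    by_cases hbot : U = ⊥
    · subst hbot
      refine ⟨[], ?_, ?_⟩
      · simp only [infList]
        ext a
        simp only [Subgroup.mem_top, mem_actKer, Subgroup.mem_bot, true_iff]
        intro u hu
        rw [hu, smul_one]
      · intro a
        have : fixedIn (⊥ : Subgroup V) a = ⊥ := le_bot_iff.mp (fixedIn_le ⊥ a)
        simp [wt, this]
    · -- a minimal nontrivial invariant subgroup of `U`
      have hex : ∃ k : ℕ, ∃ U₁ : Subgroup V, Nat.card U₁ = k ∧
          (∀ a : A, ∀ u ∈ U₁, a • u ∈ U₁) ∧ U₁ ≤ U ∧ U₁ ≠ ⊥ :=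
        ⟨Nat.card U, U, rfl, hU, le_refl _, hbot⟩
      obtain ⟨U₁, hk, hU₁, hU₁U, hU₁ne⟩ := Nat.find_spec hex
      have hmin : ∀ W : Subgroup V, (∀ a : A, ∀ w ∈ W, a • w ∈ W) → W ≤ U₁ → W = ⊥ ∨ W = U₁ := by
        intro W hW hWU
        by_cases hWb : W = ⊥
        · exact Or.inl hWb
        · right
          have hle : Nat.card W ≤ Nat.card U₁ := Subgroup.card_le_of_le hWU
          have hge : Nat.find hex ≤ Nat.card W :=
            Nat.find_min' hex ⟨W, rfl, hW, hWU.trans hU₁U, hWb⟩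
          rw [← hk] at hge
          exact Subgroup.eq_of_le_of_card_ge hWU hge
      obtain ⟨W₀, hW₀, hd₀, hs₀⟩ := hM U₁ hU₁
      set W := W₀ ⊓ U with hWdef
      have hW : ∀ a : A, ∀ w ∈ W, a • w ∈ W := by
        rintro a w ⟨hw1, hw2⟩
        exact ⟨hW₀ a w hw1, hU a w hw2⟩
      have hdisj : U₁ ⊓ W = ⊥ := by
        rw [hWdef, ← inf_assoc, hd₀, bot_inf_eq]
      have hsup : U₁ ⊔ W = U := by
        rw [hWdef, ← sup_inf_assoc_of_le W₀ hU₁U, hs₀, top_inf_eq]
      have hcardU : Nat.card U = Nat.card U₁ * Nat.card W := by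
        rw [← hsup]; exact card_sup_of_disjoint U₁ W hdisj
      have hU₁card : 1 < Nat.card U₁ := by
        rw [Subgroup.one_lt_card_iff_ne_bot]; exact hU₁ne
      have hWlt : Nat.card W < n := by
        rw [← hUn, hcardU]
        have : 0 < Nat.card W := Nat.card_pos
        nlinarith
      obtain ⟨ksW, hksW, hbW⟩ := ih (Nat.card W) hWlt W rfl hW
      obtain ⟨hidx, hdich⟩ := index_add_one_le_card hU₁ hU₁ne hmin
      refine ⟨actKer (A := A) U₁ :: ksW, ?_, ?_⟩
      · simp only [infList]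
        rw [hksW, ← actKer_sup, hsup]
      · intro a
        have hfix : Nat.card (fixedIn U a) = Nat.card (fixedIn U₁ a) * Nat.card (fixedIn W a) := by
          rw [← hsup, fixedIn_sup hU₁ hW hdisj a]
          apply card_sup_of_disjoint
          rw [eq_bot_iff, ← hdisj]
          exact inf_le_inf (fixedIn_le U₁ a) (fixedIn_le W a)
        have hwt : wt (actKer (A := A) U₁ :: ksW) a =
            (1 + if a ∈ actKer (A := A) U₁ then 0 else (actKer (A := A) U₁).index) * wt ksW a := by
          simp [wt]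
        rw [hwt, hfix, hcardU]
        have h1 : (1 + if a ∈ actKer (A := A) U₁ then 0 else (actKer (A := A) U₁).index) *
            Nat.card (fixedIn U₁ a) ≤ Nat.card U₁ := by
          split_ifs with ha
          · rw [fixedIn_eq_self_of_mem ha]; simp
          · rw [hdich a ha, Subgroup.card_bot]; omega
        calc (1 + if a ∈ actKer (A := A) U₁ then 0 else (actKer (A := A) U₁).index) * wt ksW a *
              (Nat.card (fixedIn U₁ a) * Nat.card (fixedIn W a))
            = ((1 + if a ∈ actKer (A := A) U₁ then 0 else (actKer (A := A) U₁).index) *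
              Nat.card (fixedIn U₁ a)) * (wt ksW a * Nat.card (fixedIn W a)) := by ring
          _ ≤ Nat.card U₁ * Nat.card W := Nat.mul_le_mul h1 (hbW a)

end Finite

end Cfsg.Agent.Lib.Helper04.Knorr
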