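import Mathlib
import Cfsg.Agent.Lib.Helper04.KnorrModule
import Cfsg.Agent.Lib.Helper77.CoprimeInv

/-!
# Group theoretic input for Knörr's abelian stabilizer theorem
-/

set_option autoImplicit false

namespace Cfsg.Agent.Lib.Helper04.Knorr

open scoped Classical
open Subgroup

section Maschke

variable {A V : Type*} [CommGroup A] [Finite A] [CommGroup V] [Finite V] [MulDistribMulAction A V]

/-- Maschke for a commutative group acting through a subgroup of coprime order -/
theorem maschke_of_subgroup {p : ℕ} [Fact p.Prime] (hp : ∀ v : V, v ^ p = 1) (B : Subgroup A)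
    (hcop : (Nat.card B).Coprime (Nat.card V))
    (hB : ∀ a : A, ∃ b ∈ B, ∀ v : V, a • v = b • v) :
    ∀ U : Subgroup V, (∀ a : A, ∀ u ∈ U, a • u ∈ U) →
      ∃ W : Subgroup V, (∀ a : A, ∀ w ∈ W, a • w ∈ W) ∧ U ⊓ W = ⊥ ∧ U ⊔ W = ⊤ := by
  intro U hU
  have hU' : ∀ b : B, ∀ u ∈ U, b • u ∈ U := fun b u hu => hU (b : A) u hu
  obtain ⟨W, hW, h1, h2⟩ :=
    Cfsg.Agent.Lib.Helper77.exists_invariant_compl (A := B) hp hcop U hU'
  refine ⟨W, ?_, h1, h2⟩
  intro a w hw
  obtain ⟨b, hb, hab⟩ := hB a
  rw [hab w]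
  exact hW ⟨b, hb⟩ w hw

end Maschke

section Central

variable {X : Type*} [Group X]

/-- the structure of the centralizer of an element `w * c` -/
theorem centralizer_decomp (p : ℕ) [hp : Fact p.Prime] (V G : Subgroup X)
    (hVab : ∀ a ∈ V, ∀ b ∈ V, a * b = b * a) (hGV : Subgroup.IsComplement' V G)
    (v : X) (hv : v ∈ V) (hvp : Nat.card (zpowers v) = p)
    (hCab : ∀ a ∈ G ⊓ centralizer ({v} : Set X), ∀ b ∈ G ⊓ centralizer ({v} : Set X),
      a * b = b * a)
    [Finite (G ⊓ centralizer ({v} : Set X) : Subgroup X)]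
    (hcop : (Nat.card (G ⊓ centralizer ({v} : Set X) : Subgroup X)).Coprime p)
    (w c : X) (hw : w ∈ zpowers v) (hw1 : w ≠ 1) (hc : c ∈ G ⊓ centralizer ({v} : Set X))
    (y : X) (hy : y * (w * c) = (w * c) * y) :
    ∃ u ∈ V, ∃ g ∈ G ⊓ centralizer ({v} : Set X), y = u * g ∧ (w * c) * u = u * (w * c) := by
  set C := G ⊓ centralizer ({v} : Set X) with hC
  have hvc : Commute v c := by
    have := (Subgroup.mem_centralizer_iff.mp hc.2) v (Set.mem_singleton v)
    exact this
  obtain ⟨k, rfl⟩ := Subgroup.mem_zpowers_iff.mp hw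
  have hwc : Commute (v ^ k) c := hvc.zpow_left k
  set w := v ^ k with hwdef
  set N := Nat.card C with hN
  have hyN : Commute y ((w * c) ^ N) := Commute.pow_right hy N
  have hcN : c ^ N = 1 := by
    have : (⟨c, hc⟩ : C) ^ N = 1 := pow_card_eq_one'
    have := congrArg Subtype.val this
    simpa using this
  rw [hwc.mul_pow, hcN, mul_one] at hyN
  have hwp : w ^ p = 1 := by
    have h1 : (⟨w, hw⟩ : zpowers v) ^ p = 1 := by
      rw [← hvp]; exact pow_card_eq_one'
    have := congrArg Subtype.val h1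
    simpa using this
  have hyw : Commute y w := by
    obtain ⟨m, -, hm⟩ := Nat.exists_mul_mod_eq_one_of_coprime hcop hp.out.one_lt
    have h2 : (w ^ N) ^ m = w := by
      rw [← pow_mul, pow_eq_pow_mod (N * m) hwp, hm, pow_one]
    rw [← h2]
    exact hyN.pow_right m
  have hyc : Commute y c := by
    have : c = w⁻¹ * (w * c) := by group
    rw [this]
    exact hyw.inv_right.mul_right hy
  have hyv : Commute y v := by
    have hne : (⟨w, hw⟩ : zpowers v) ≠ 1 := by
      intro h
      apply hw1
      have := congrArg Subtype.val h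
      simpa using this
    have := mem_zpowers_of_prime_card (G := zpowers v) hvp (g' := ⟨v, Subgroup.mem_zpowers v⟩) hne
    obtain ⟨j, hj⟩ := Subgroup.mem_zpowers_iff.mp this
    have hj' : w ^ j = v := by
      have := congrArg Subtype.val hj
      simpa using this
    rw [← hj']
    exact hyw.zpow_right j
  obtain ⟨⟨⟨u, hu⟩, ⟨g, hg⟩⟩, hug⟩ := hGV.2 y
  simp only at hug
  have huv : Commute u v := hVab u hu v hv
  have hgv : Commute g v := by
    have : g = u⁻¹ * y := by rw [← hug]; group
    rw [this]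
    exact huv.inv_left.mul_left hyv
  have hgC : g ∈ C := by
    refine ⟨hg, ?_⟩
    show g ∈ centralizer ({v} : Set X)
    rw [Subgroup.mem_centralizer_iff]
    intro h hh
    rw [Set.mem_singleton_iff] at hh
    subst hh
    exact hgv.symm
  have hgc : Commute g c := hCab g hgC c hc
  have huc : Commute u c := by
    have : u = y * g⁻¹ := by rw [← hug]; group
    rw [this]
    exact hyc.mul_left hgc.inv_left
  have hwV : w ∈ V := by
    have : zpowers v ≤ V := by
      rw [Subgroup.zpowers_le]; exact hv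
    exact this hw
  have huw : Commute u w := hVab u hu w hwV
  refine ⟨u, hu, g, hgC, hug.symm, ?_⟩
  exact (huw.mul_right huc).symm

end Central

end Cfsg.Agent.Lib.Helper04.Knorr
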