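import Mathlib
import Cfsg.Agent.Lib.Helper04.KnorrCore
import Cfsg.Agent.Lib.Helper04.KnorrGroup
import Cfsg.Agent.Lib.Helper83.OneNonlinear

/-!
# Knörr's abelian stabilizer theorem for the `k(GV)` problem
-/

set_option autoImplicit false

namespace Cfsg.Agent.Lib.Helper04.Knorr

open scoped Classical IsMulCommutative
open Subgroup Cfsg

variable {X : Type*} [Group X]

/-- the conjugation action of a subgroup on a normal subgroup -/
@[reducible] noncomputable def conjMDMA (H V : Subgroup X) [V.Normal] : MulDistribMulAction H V :=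
  MulDistribMulAction.compHom V ((MulAut.conjNormal (H := V)).comp H.subtype)

theorem conjMDMA_coe (H V : Subgroup X) [V.Normal] (a : H) (u : V) :
    letI := conjMDMA H V
    ((a • u : V) : X) = (a : X) * (u : X) * (a : X)⁻¹ := rfl

set_option maxHeartbeats 1600000 in
/-- **Knörr's theorem**, the case `v ≠ 1`. -/
theorem knorr_main [Finite X] (p : ℕ) [hp : Fact p.Prime] (V : Subgroup X) [V.Normal]
    (hVexp : ∀ v ∈ V, v ^ p = 1) (hidx : ¬ p ∣ V.index)
    (hself : centralizer (V : Set X) = V) (G : Subgroup X) (hGV : IsComplement' V G)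
    (v : X) (hv : v ∈ V) (hv1 : v ≠ 1)
    (hab : ∀ a ∈ G ⊓ centralizer ({v} : Set X), ∀ b ∈ G ⊓ centralizer ({v} : Set X),
      a * b = b * a) :
    Nat.card (ConjClasses X) ≤ Nat.card V := by
  letI : Fintype X := Fintype.ofFinite X
  set C := G ⊓ centralizer ({v} : Set X) with hC
  set P := zpowers v with hP
  have hVab : ∀ a ∈ V, ∀ b ∈ V, a * b = b * a := by
    intro a ha b hb
    have : a ∈ centralizer (V : Set X) := by rw [hself]; exact ha
    exact ((mem_centralizer_iff.mp this) b hb).symm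
  have hvp : Nat.card P = p := by
    rw [hP, Nat.card_zpowers]
    have h1 : orderOf v ∣ p := orderOf_dvd_of_pow_eq_one (hVexp v hv)
    rcases (Nat.dvd_prime hp.out).mp h1 with h | h
    · exact absurd (orderOf_eq_one_iff.mp h) hv1
    · exact h
  have hcardG : Nat.card G = V.index := by
    have h1 := hGV.card_mul_card
    have h2 := V.card_mul_index
    exact Nat.eq_of_mul_eq_mul_left Nat.card_pos (h1.trans h2.symm)
  have hCG : C ≤ G := inf_le_left
  have hcopC : (Nat.card C).Coprime p := by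
    have h1 : Nat.card C ∣ V.index := hcardG ▸ Subgroup.card_dvd_of_le hCG
    have h2 : (V.index).Coprime p :=
      (Nat.Coprime.symm ((Nat.Prime.coprime_iff_not_dvd hp.out).mpr hidx))
    exact Nat.Coprime.coprime_dvd_left h1 h2
  have hVp : IsPGroup p V := by
    intro u
    refine ⟨1, ?_⟩
    rw [pow_one]
    have := hVexp u.1 u.2
    exact Subtype.ext (by simpa using this)
  obtain ⟨kV, hkV⟩ := hVp.exists_card_eq
  have hcopCV : (Nat.card C).Coprime (Nat.card V) := by
    rw [hkV]; exact hcopC.pow_right kV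
  have hPV : P ≤ V := by rw [hP, zpowers_le]; exact hv
  have hVG : V ⊓ G = ⊥ := hGV.disjoint.eq_bot
  have hPCdisj : P ⊓ C = ⊥ := by
    rw [eq_bot_iff, ← hVG]
    exact inf_le_inf hPV hCG
  have hPC : P ≤ centralizer (C : Set X) := by
    rw [hP, zpowers_le, mem_centralizer_iff]
    intro c hc
    exact ((mem_centralizer_iff.mp hc.2) v rfl).symm
  set A₀ := P ⊔ C with hA₀
  have hPA : P ≤ A₀ := le_sup_left
  have hCA : C ≤ A₀ := le_sup_right
  have hPP : P ≤ centralizer (P : Set X) := by
    intro x hx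
    rw [mem_centralizer_iff]
    intro y hy
    exact hVab y (hPV hy) x (hPV hx)
  have hCC : C ≤ centralizer (C : Set X) := by
    intro x hx
    rw [mem_centralizer_iff]
    intro y hy
    exact hab y hy x hx
  have hAcomm : A₀ ≤ centralizer (A₀ : Set X) := by
    apply sup_le
    · rw [le_centralizer_iff]
      exact sup_le hPP (le_centralizer_iff.mp hPC)
    · rw [le_centralizer_iff]
      exact sup_le hPC hCC
  haveI : IsMulCommutative A₀ := le_centralizer_iff_isMulCommutative.mp hAcomm
  haveI : IsMulCommutative V := ⟨⟨fun a b => Subtype.ext (hVab a.1 a.2 b.1 b.2)⟩⟩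
  have hdecomp : ∀ a ∈ A₀, ∃ w ∈ P, ∃ c ∈ C, a = w * c := by
    intro a ha
    have hnorm : P ≤ normalizer (C : Set X) := hPC.trans (centralizer_le_normalizer _)
    have h1 := coe_mul_of_left_le_normalizer_right P C hnorm
    have h2 : a ∈ ((P ⊔ C : Subgroup X) : Set X) := ha
    rw [h1] at h2
    obtain ⟨w, hw, c, hc, rfl⟩ := Set.mem_mul.mp h2
    exact ⟨w, hw, c, hc, rfl⟩
  -- the subgroups of `A₀`
  set K0 : Subgroup A₀ := C.subgroupOf A₀ with hK0def
  set P' : Subgroup A₀ := P.subgroupOf A₀ with hP'def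
  have hcardK0 : Nat.card K0 = Nat.card C := Nat.card_congr (subgroupOfEquivOfLe hCA).toEquiv
  have hcardP' : Nat.card P' = p := by
    rw [← hvp]; exact Nat.card_congr (subgroupOfEquivOfLe hPA).toEquiv
  have hK0P'sup : K0 ⊔ P' = ⊤ := by
    rw [hK0def, hP'def, ← subgroupOf_sup hCA hPA, sup_comm, ← hA₀, subgroupOf_self]
  have hK0P'inf : K0 ⊓ P' = ⊥ := by
    rw [eq_bot_iff]
    intro a ha
    rw [Subgroup.mem_bot]
    have h1 : (a : X) ∈ P ⊓ C := ⟨mem_subgroupOf.mp ha.2, mem_subgroupOf.mp ha.1⟩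
    rw [hPCdisj, Subgroup.mem_bot] at h1
    exact Subtype.ext h1
  have hK0idx : K0.index = p := by
    have h1 := card_sup_of_disjoint K0 P' hK0P'inf
    rw [hK0P'sup, Subgroup.card_top, hcardP'] at h1
    have h2 := K0.card_mul_index
    rw [h1] at h2
    exact Nat.eq_of_mul_eq_mul_left Nat.card_pos h2
  -- the action
  letI : MulDistribMulAction A₀ V := conjMDMA A₀ V
  have hsmul : ∀ (a : A₀) (u : V), ((a • u : V) : X) = (a : X) * (u : X) * (a : X)⁻¹ :=
    fun a u => rfl
  have hexpV : ∀ u : V, u ^ p = 1 := by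
    intro u
    have := hVexp u.1 u.2
    exact Subtype.ext (by simpa using this)
  have hactB : ∀ a : A₀, ∃ b ∈ K0, ∀ u : V, a • u = b • u := by
    intro a
    obtain ⟨w, hw, c, hc, hwc⟩ := hdecomp a.1 a.2
    refine ⟨⟨c, hCA hc⟩, mem_subgroupOf.mpr hc, fun u => ?_⟩
    apply Subtype.ext
    rw [hsmul, hsmul, hwc]
    have hcu : c * (u : X) * c⁻¹ ∈ V := Subgroup.Normal.conj_mem inferInstance u.1 u.2 c
    have hwV : w ∈ V := hPV hw
    have := hVab w hwV _ hcu
    calc w * c * (u : X) * (w * c)⁻¹ = w * (c * (u : X) * c⁻¹) * w⁻¹ := by group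
      _ = (c * (u : X) * c⁻¹) * w * w⁻¹ := by rw [this]
      _ = c * (u : X) * c⁻¹ := by group
  have hcopK0 : (Nat.card K0).Coprime (Nat.card V) := by rw [hcardK0]; exact hcopCV
  have hM := maschke_of_subgroup (A := A₀) (V := V) hexpV K0 hcopK0 hactB
  obtain ⟨ks, hks, hb⟩ := exists_list (A := A₀) (V := V) hM (Nat.card (⊤ : Subgroup V)) ⊤ rfl
    (fun _ _ _ => Subgroup.mem_top _)
  -- hypotheses of the core
  have hP'ker : P' ≤ actKer (A := A₀) (⊤ : Subgroup V) := by
    intro a ha u _
    apply Subtype.ext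
    rw [hsmul]
    have haV : (a : X) ∈ V := hPV (mem_subgroupOf.mp ha)
    have := hVab a.1 haV u.1 u.2
    rw [this]; group
  have hsup : K0 ⊔ infList ks = ⊤ := by
    rw [hks, eq_top_iff, ← hK0P'sup]
    exact sup_le_sup_left hP'ker K0
  have hK0ker : K0 ⊓ actKer (A := A₀) (⊤ : Subgroup V) = ⊥ := by
    rw [eq_bot_iff]
    intro a ha
    rw [Subgroup.mem_bot]
    have haC : (a : X) ∈ C := mem_subgroupOf.mp ha.1
    have hcen : (a : X) ∈ centralizer (V : Set X) := by
      rw [mem_centralizer_iff]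
      intro u hu
      have h1 := ha.2 ⟨u, hu⟩ (Subgroup.mem_top _)
      have h2 := congrArg Subtype.val h1
      rw [hsmul] at h2
      simp only at h2
      calc u * (a : X) = ((a : X) * u * (a : X)⁻¹) * (a : X) := by rw [h2]
        _ = (a : X) * u := by group
    rw [hself] at hcen
    have : (a : X) ∈ V ⊓ G := ⟨hcen, hCG haC⟩
    rw [hVG, Subgroup.mem_bot] at this
    exact Subtype.ext this
  have hidx' : Nat.card K0 ≤ (infList ks).index := by
    rw [hks]
    have h1 : (actKer (A := A₀) (⊤ : Subgroup V)).relIndex K0 = Nat.card K0 := by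
      rw [← inf_relIndex_right, inf_comm, hK0ker, relIndex_bot_left]
    have h2 := relIndex_dvd_index_of_normal (actKer (A := A₀) (⊤ : Subgroup V)) K0
    rw [h1] at h2
    exact Nat.le_of_dvd (Nat.pos_of_ne_zero (Subgroup.index_ne_zero_of_finite)) h2
  have hdeg : ∀ χ : IrrCharacter X, ¬ p ∣ charDegree (χ : X → ℂ) := by
    intro χ hcon
    exact hidx (hcon.trans (Cfsg.Agent.Lib.Helper83.ito_charDegree χ V hVab))
  have hcent : ∀ a : A₀, a ∉ K0 →
      wt ks a * Nat.card (centralizer ({A₀.subtype a} : Set X)) ≤ Nat.card V * Nat.card K0 := by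
    intro a haK0
    obtain ⟨w, hw, c, hc, hwc⟩ := hdecomp a.1 a.2
    have hw1 : w ≠ 1 := by
      intro h
      apply haK0
      rw [hK0def, mem_subgroupOf, hwc, h, one_mul]
      exact hc
    have hL1 : ∀ y : centralizer ({(a : X)} : Set X), ∃ u : fixedIn (⊤ : Subgroup V) a,
        ∃ g : C, (y : X) = ((u : V) : X) * (g : X) := by
      intro y
      have h0 : (a : X) * (y : X) = (y : X) * (a : X) :=
        (mem_centralizer_iff.mp y.2) (a : X) rfl
      have hy : (y : X) * (w * c) = (w * c) * (y : X) := by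
        rw [← hwc]; exact h0.symm
      obtain ⟨u, hu, g, hg, hyug, hcomm⟩ :=
        centralizer_decomp p V G hVab hGV v hv hvp hab hcopC w c hw hw1 hc y.1 hy
      refine ⟨⟨⟨u, hu⟩, Subgroup.mem_top _, ?_⟩, ⟨g, hg⟩, hyug⟩
      apply Subtype.ext
      rw [hsmul, hwc]
      simp only
      rw [hcomm]; group
    choose fu fg hfug using hL1
    have hinj : Function.Injective (fun y : centralizer ({(a : X)} : Set X) => (fu y, fg y)) := by
      intro y y' h
      simp only [Prod.mk.injEq] at h
      apply Subtype.ext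
      rw [hfug y, hfug y', h.1, h.2]
    have hle := Nat.card_le_card_of_injective _ hinj
    rw [Nat.card_prod] at hle
    have hb' := hb a
    rw [Subgroup.card_top] at hb'
    rw [hcardK0]
    calc wt ks a * Nat.card (centralizer ({A₀.subtype a} : Set X))
        ≤ wt ks a * (Nat.card (fixedIn (⊤ : Subgroup V) a) * Nat.card C) :=
          Nat.mul_le_mul_left _ hle
      _ = (wt ks a * Nat.card (fixedIn (⊤ : Subgroup V) a)) * Nat.card C := by ring
      _ ≤ Nat.card V * Nat.card C := Nat.mul_le_mul_right _ hb'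
  letI : Fintype A₀ := Fintype.ofFinite _
  exact knorr_core A₀.subtype p hp.out V hdeg K0 hK0idx ks hsup hidx' hcent

end Cfsg.Agent.Lib.Helper04.Knorr
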