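import Cfsg.Agent.Lib.Helper94.LCDefs

/-!
# KEYSTONE 640610 K-LC-A4b `card_octad_min_le` (architect helper94, S0406 pack)

The even minimal vectors of `L` that are not divisible by `4` have shape `(±2)^8 0^16` with support an octad of the
code; two of them with the same code word that agree off one point of the support are equal (their difference would be
`±4 u_i`, too short), so there are at most `2^7 = 128` of them per octad.  (LEAF A0 is not needed.)
-/

set_option autoImplicit false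
open Matrix

namespace Cfsg.Agent.Lib.Helper04.LC

open Cfsg.Agent.Lib.Helper94.LC

variable (L : AddSubgroup (Fin 24 → ℤ))

/-- the code word of a vector with even coordinates -/
def wOf (v : Fin 24 → ℤ) : Fin 24 → ZMod 2 := fun i => ((v i / 2 : ℤ) : ZMod 2)

/-- the shape of an even minimal vector which is not divisible by `4` -/
theorem shape_of_even_min (hw : ∀ w ∈ codeOf L, w ≠ 0 → 8 ≤ hammingNorm w)
    (v : Fin 24 → ℤ) (hvL : v ∈ L) (hv32 : ssq v = 32) (hv2 : ∀ i, (2 : ℤ) ∣ v i)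
    (hv4 : ¬ ∀ i, (4 : ℤ) ∣ v i) :
    wOf v ∈ codeOf L ∧ hammingNorm (wOf v) = 8 ∧ (∀ i, wOf v i = 0 → v i = 0) ∧
      (∀ i, wOf v i ≠ 0 → v i = 2 ∨ v i = -2) := by
  classical
  set y : Fin 24 → ℤ := fun i => v i / 2 with hy
  have hvy : ∀ i, v i = 2 * y i := fun i => (Int.mul_ediv_cancel' (hv2 i)).symm
  have hmem : wOf v ∈ codeOf L := by
    refine ⟨y, ?_, fun i => rfl⟩
    have : (fun i => 2 * y i) = v := funext (fun i => (hvy i).symm)
    rw [this]
    exact hvL
  have hne : wOf v ≠ 0 := by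
    intro h0
    apply hv4
    intro i
    have h1 : ((y i : ℤ) : ZMod 2) = 0 := congrFun h0 i
    have h2 : ((2 : ℕ) : ℤ) ∣ y i := (ZMod.intCast_zmod_eq_zero_iff_dvd (y i) 2).mp h1
    obtain ⟨k, hk⟩ := h2
    rw [hvy i]
    exact ⟨k, by rw [hk]; push_cast; ring⟩
  have h8 := hw _ hmem hne
  have hsum : ∑ i, y i ^ 2 = 8 := by
    have h4 : ssq v = 4 * ∑ i, y i ^ 2 := by
      unfold ssq
      rw [Finset.mul_sum]
      refine Finset.sum_congr rfl (fun i _ => ?_)
      rw [hvy i]
      ring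
    rw [h4] at hv32
    omega
  have hnorm : (hammingNorm (wOf v) : ℤ) = ∑ i, (if wOf v i ≠ 0 then (1 : ℤ) else 0) := by
    unfold hammingNorm
    rw [Finset.card_filter]
    push_cast
    rfl
  have hterm : ∀ i, (if wOf v i ≠ 0 then (1 : ℤ) else 0) ≤ y i ^ 2 := by
    intro i
    split_ifs with h
    · have hy0 : y i ≠ 0 := by
        intro h0
        apply h
        show ((y i : ℤ) : ZMod 2) = 0
        rw [h0]
        simp
      have : 0 < y i ^ 2 := by positivity
      omega
    · positivity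
  have hle : ∑ i, (if wOf v i ≠ 0 then (1 : ℤ) else 0) ≤ ∑ i, y i ^ 2 :=
    Finset.sum_le_sum (fun i _ => hterm i)
  have heq : ∑ i, (if wOf v i ≠ 0 then (1 : ℤ) else 0) = ∑ i, y i ^ 2 := by
    have : (8 : ℤ) ≤ hammingNorm (wOf v) := by exact_mod_cast h8
    omega
  have hterm_eq : ∀ i, (if wOf v i ≠ 0 then (1 : ℤ) else 0) = y i ^ 2 := fun i =>
    (Finset.sum_eq_sum_iff_of_le (fun i _ => hterm i)).mp heq i (Finset.mem_univ i)
  refine ⟨hmem, ?_, ?_, ?_⟩
  · have : (hammingNorm (wOf v) : ℤ) = 8 := by rw [hnorm, heq, hsum]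
    exact_mod_cast this
  · intro i hi
    have h1 := hterm_eq i
    rw [if_neg (not_not.mpr hi)] at h1
    have h2 : y i = 0 := pow_eq_zero_iff (two_ne_zero) |>.mp h1.symm
    rw [hvy i, h2]
    ring
  · intro i hi
    have h1 := hterm_eq i
    rw [if_pos hi] at h1
    have h2 : y i ^ 2 = 1 ^ 2 := by rw [← h1]; norm_num
    rcases sq_eq_sq_iff_eq_or_eq_neg.mp h2 with h | h
    · left
      rw [hvy i, h]
      ring
    · right
      rw [hvy i, h]
      ring

/-- LEAF A4b (640610). -/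
theorem card_octad_min_le (hL : CoordLattice L)
    (hw : ∀ w ∈ codeOf L, w ≠ 0 → 8 ≤ hammingNorm w) :
    {v : Fin 24 → ℤ | v ∈ L ∧ ssq v = 32 ∧ (∀ i, (2 : ℤ) ∣ v i) ∧ ¬ ∀ i, (4 : ℤ) ∣ v i}.ncard ≤
      128 * {w : Fin 24 → ZMod 2 | w ∈ codeOf L ∧ hammingNorm w = 8}.ncard := by
  classical
  set S : Set (Fin 24 → ℤ) :=
    {v | v ∈ L ∧ ssq v = 32 ∧ (∀ i, (2 : ℤ) ∣ v i) ∧ ¬ ∀ i, (4 : ℤ) ∣ v i} with hS
  set O : Set (Fin 24 → ZMod 2) := {w | w ∈ codeOf L ∧ hammingNorm w = 8} with hO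
  have hshape : ∀ v ∈ S, wOf v ∈ codeOf L ∧ hammingNorm (wOf v) = 8 ∧
      (∀ i, wOf v i = 0 → v i = 0) ∧ (∀ i, wOf v i ≠ 0 → v i = 2 ∨ v i = -2) :=
    fun v hv => shape_of_even_min L hw v hv.1 hv.2.1 hv.2.2.1 hv.2.2.2
  have hSfin : S.Finite := by
    refine Set.Finite.subset (Set.Finite.pi (fun _ : Fin 24 => Set.finite_Icc (-2 : ℤ) 2)) ?_
    intro v hv
    rw [Set.mem_univ_pi]
    intro i
    obtain ⟨-, -, h0, h1⟩ := hshape v hv
    by_cases h : wOf v i = 0
    · rw [h0 i h]
      simp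
    · rcases h1 i h with h | h <;> rw [h] <;> simp
  have hOfin : O.Finite := Set.toFinite O
  rw [Set.ncard_eq_toFinset_card S hSfin, Set.ncard_eq_toFinset_card O hOfin]
  have himg : hSfin.toFinset.image wOf ⊆ hOfin.toFinset := by
    intro w hw'
    rw [Finset.mem_image] at hw'
    obtain ⟨v, hv, rfl⟩ := hw'
    rw [Set.Finite.mem_toFinset] at hv ⊢
    exact ⟨(hshape v hv).1, (hshape v hv).2.1⟩
  refine le_trans (Finset.card_le_mul_card_image (f := wOf) hSfin.toFinset 128 ?_)
    (Nat.mul_le_mul_left _ (Finset.card_le_card himg))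
  intro w hw'
  rw [Finset.mem_image] at hw'
  obtain ⟨v₁, hv₁, hv₁w⟩ := hw'
  rw [Set.Finite.mem_toFinset] at hv₁
  set supp : Finset (Fin 24) := Finset.univ.filter (fun i => w i ≠ 0) with hsupp
  have hcard : supp.card = 8 := by
    have := (hshape v₁ hv₁).2.1
    rw [hv₁w] at this
    exact this
  obtain ⟨i₀, hi₀⟩ : supp.Nonempty := Finset.card_pos.mp (by omega)
  have hpow : ((supp.erase i₀).powerset).card = 128 := by
    rw [Finset.card_powerset, Finset.card_erase_of_mem hi₀, hcard]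
    norm_num
  rw [← hpow]
  apply Finset.card_le_card_of_injOn (fun v => (supp.erase i₀).filter (fun i => v i = 2))
  · intro v _
    exact Finset.mem_powerset.mpr (Finset.filter_subset _ _)
  · intro v hv v' hv' hg
    rw [Finset.mem_coe, Finset.mem_filter, Set.Finite.mem_toFinset] at hv hv'
    obtain ⟨hvS, hvw⟩ := hv
    obtain ⟨hvS', hvw'⟩ := hv'
    obtain ⟨-, -, a0, a1⟩ := hshape v hvS
    obtain ⟨-, -, b0, b1⟩ := hshape v' hvS'
    rw [hvw] at a0 a1
    rw [hvw'] at b0 b1
    have hoff : ∀ i, i ≠ i₀ → v i = v' i := by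
      intro i hi
      by_cases h : w i = 0
      · rw [a0 i h, b0 i h]
      · have hmem : i ∈ supp.erase i₀ :=
          Finset.mem_erase.mpr ⟨hi, Finset.mem_filter.mpr ⟨Finset.mem_univ _, h⟩⟩
        have hiff : v i = 2 ↔ v' i = 2 := by
          have := Finset.ext_iff.mp hg i
          simp only [Finset.mem_filter, hmem, true_and] at this
          exact this
        rcases a1 i h with h1 | h1 <;> rcases b1 i h with h2 | h2
        · rw [h1, h2]
        · exact absurd (hiff.mp h1) (by rw [h2]; norm_num)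
        · exact absurd (hiff.mpr h2) (by rw [h1]; norm_num)
        · rw [h1, h2]
    by_contra hne
    have hdiff : v - v' ∈ L := L.sub_mem hvS.1 hvS'.1
    have hd0 : v - v' ≠ 0 := sub_ne_zero.mpr hne
    have h32 := hL.hmin _ hdiff hd0
    have hssq : ssq (v - v') = (v i₀ - v' i₀) ^ 2 := by
      unfold ssq
      rw [Finset.sum_eq_single i₀]
      · rfl
      · intro i _ hi
        rw [Pi.sub_apply, hoff i hi, sub_self]
        ring
      · intro h
        exact absurd (Finset.mem_univ _) h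
    have hw0 : w i₀ ≠ 0 := (Finset.mem_filter.mp hi₀).2
    rw [hssq] at h32
    rcases a1 i₀ hw0 with h1 | h1 <;> rcases b1 i₀ hw0 with h2 | h2 <;> rw [h1, h2] at h32 <;>
      norm_num at h32

end Cfsg.Agent.Lib.Helper04.LC
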