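import Mathlib

set_option autoImplicit false

namespace Cfsg.Agent.Lib.Helper04.Marggraf

open Finset

section binom

/-- one step down: past the centre binomials strictly decrease -/
theorem choose_succ_lt {M a : ℕ} (ha : a ≤ M) (h : M < a + (a + 1)) :
    M.choose (a + 1) < M.choose a := by
  have hpos : 0 < M.choose a := Nat.choose_pos ha
  have h1 : M.choose (a + 1) * (a + 1) = M.choose a * (M - a) := Nat.choose_succ_right_eq M a
  have h2 : M.choose a * (M - a) < M.choose a * (a + 1) :=
    Nat.mul_lt_mul_of_pos_left (by omega) hpos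
  have h3 : M.choose (a + 1) * (a + 1) < M.choose a * (a + 1) := by omega
  exact Nat.lt_of_mul_lt_mul_right h3

/-- one step up: before the centre binomials strictly increase -/
theorem choose_lt_succ {M a : ℕ} (h : a + (a + 1) < M) :
    M.choose a < M.choose (a + 1) := by
  have hpos : 0 < M.choose a := Nat.choose_pos (by omega)
  have h1 : M.choose (a + 1) * (a + 1) = M.choose a * (M - a) := Nat.choose_succ_right_eq M a
  have h2 : M.choose a * (a + 1) < M.choose a * (M - a) :=
    Nat.mul_lt_mul_of_pos_left (by omega) hpos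
  have h3 : M.choose a * (a + 1) < M.choose (a + 1) * (a + 1) := by omega
  exact Nat.lt_of_mul_lt_mul_right h3

theorem choose_lt_of_ge_half {M a : ℕ} (ha : a ≤ M) (h2 : M ≤ a + a) :
    ∀ d : ℕ, M.choose (a + d + 1) < M.choose a := by
  intro d
  induction d with
  | zero => exact choose_succ_lt ha (by omega)
  | succ d ih =>
    by_cases hb : a + d + 1 ≤ M
    · have := choose_succ_lt (M := M) (a := a + d + 1) hb (by omega)
      have e : a + (d + 1) + 1 = a + d + 1 + 1 := by omega
      rw [e]; omega
    · have : M.choose (a + (d + 1) + 1) = 0 := Nat.choose_eq_zero_of_lt (by omega)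
      rw [this]; exact Nat.choose_pos ha

theorem choose_lt_of_lt_half {M a : ℕ} (h2 : a + a < M) :
    ∀ d : ℕ, d + 1 ≤ a → M.choose (a - (d + 1)) < M.choose a := by
  intro d
  induction d with
  | zero =>
    intro hd
    have := choose_lt_succ (M := M) (a := a - 1) (by omega)
    have e : a - 1 + 1 = a := by omega
    rw [e] at this
    simpa using this
  | succ d ih =>
    intro hd
    have h1 := ih (by omega)
    have := choose_lt_succ (M := M) (a := a - (d + 1 + 1)) (by omega)
    have e : a - (d + 1 + 1) + 1 = a - (d + 1) := by omega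
    rw [e] at this
    omega

/-- binomials strictly decrease away from the centre -/
theorem choose_lt_of_far {M a b : ℕ} (hab : a < b) (hsum : M < a + b) (ha : a ≤ M) :
    M.choose b < M.choose a := by
  by_cases hbM : M < b
  · rw [Nat.choose_eq_zero_of_lt hbM]; exact Nat.choose_pos ha
  · have hbM' : b ≤ M := by omega
    by_cases h2 : M ≤ a + a
    · obtain ⟨d, rfl⟩ : ∃ d, b = a + d + 1 := ⟨b - a - 1, by omega⟩
      exact choose_lt_of_ge_half ha h2 d
    · have hsym : M.choose b = M.choose (M - b) := (Nat.choose_symm hbM').symm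
      rw [hsym]
      have hlt : M - b < a := by omega
      obtain ⟨d, hd, hda⟩ : ∃ d, M - b = a - (d + 1) ∧ d + 1 ≤ a :=
        ⟨a - (M - b) - 1, by omega, by omega⟩
      rw [hd]
      exact choose_lt_of_lt_half (by omega) d hda

end binom

variable {Ω J : Type*} [Fintype Ω] [DecidableEq Ω] [Fintype J]

/-- number of members through `I` missing `E` -/
def cnt (D : J → Finset Ω) (I E : Finset Ω) : ℕ :=
  (Finset.univ.filter fun j => I ⊆ D j ∧ Disjoint E (D j)).card

theorem cnt_pascal (D : J → Finset Ω) (I E : Finset Ω) (x : Ω) :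
    cnt D I E = cnt D (insert x I) E + cnt D I (insert x E) := by
  unfold cnt
  rw [← Finset.card_filter_add_card_filter_not
    (s := Finset.univ.filter fun j => I ⊆ D j ∧ Disjoint E (D j)) (fun j => x ∈ D j)]
  congr 1
  · congr 1
    ext j
    simp only [Finset.mem_filter, Finset.mem_univ, true_and, Finset.insert_subset_iff]
    tauto
  · congr 1
    ext j
    simp only [Finset.mem_filter, Finset.mem_univ, true_and, Finset.disjoint_insert_left]
    tauto

theorem cnt_empty (D : J → Finset Ω) : cnt D ∅ ∅ = Fintype.card J := by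
  unfold cnt
  simp

theorem cnt_reg (D : J → Finset Ω) (m t : ℕ) (hD : ∀ j, (D j).card = m)
    (hreg : ∀ I E : Finset Ω, Disjoint I E → I.card + E.card + 1 ≤ t →
      ∀ x y : Ω, x ∉ I → x ∉ E → y ∉ I → y ∉ E →
        cnt D (insert x I) E = cnt D (insert y I) E)
    (I E : Finset Ω) (hIE : Disjoint I E) (hcard : I.card + E.card + 1 ≤ t)
    (x₀ : Ω) (hx₀I : x₀ ∉ I) (hx₀E : x₀ ∉ E) :
    (Fintype.card Ω - I.card - E.card) * cnt D (insert x₀ I) E = (m - I.card) * cnt D I E := by
  classical
  set F : J → Ω → ℕ := fun j x =>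
    if (I ⊆ D j ∧ Disjoint E (D j)) ∧ x ∈ D j ∧ x ∉ I then 1 else 0 with hF
  have hcomm : ∑ j, ∑ x, F j x = ∑ x, ∑ j, F j x := Finset.sum_comm
  -- left side
  have hL : ∑ j, ∑ x, F j x = (m - I.card) * cnt D I E := by
    have h1 : ∀ j, ∑ x, F j x = if I ⊆ D j ∧ Disjoint E (D j) then m - I.card else 0 := by
      intro j
      by_cases hP : I ⊆ D j ∧ Disjoint E (D j)
      · rw [if_pos hP]
        have : ∑ x, F j x = (D j \ I).card := by
          rw [Finset.card_eq_sum_ones, ← Finset.sum_filter_of_ne (p := fun x => x ∈ D j \ I)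
            (s := Finset.univ) (f := fun x => F j x)]
          · apply Finset.sum_congr
            · ext x; simp
            · intro x hx
              simp only [Finset.mem_filter, Finset.mem_univ, true_and, Finset.mem_sdiff] at hx
              simp only [hF, hP, hx.1, hx.2, not_false_eq_true, and_self, if_true]
          · intro x _ hx
            simp only [hF] at hx
            by_contra hcon
            apply hx
            rw [if_neg]
            rintro ⟨_, h1, h2⟩
            exact hcon (Finset.mem_sdiff.mpr ⟨h1, h2⟩)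
        rw [this, Finset.card_sdiff_of_subset hP.1, hD j]
      · rw [if_neg hP]
        apply Finset.sum_eq_zero
        intro x _
        simp only [hF]
        rw [if_neg]
        rintro ⟨h, _⟩
        exact hP h
    rw [Finset.sum_congr rfl (fun j _ => h1 j)]
    unfold cnt
    rw [← Finset.sum_filter, Finset.sum_const, smul_eq_mul, mul_comm]
  -- right side
  have hR : ∑ x, ∑ j, F j x = (Fintype.card Ω - I.card - E.card) * cnt D (insert x₀ I) E := by
    have h1 : ∀ x, ∑ j, F j x = if x ∉ I ∧ x ∉ E then cnt D (insert x₀ I) E else 0 := by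
      intro x
      by_cases hx : x ∉ I ∧ x ∉ E
      · rw [if_pos hx, ← hreg I E hIE hcard x x₀ hx.1 hx.2 hx₀I hx₀E]
        unfold cnt
        rw [Finset.card_eq_sum_ones, Finset.sum_filter]
        apply Finset.sum_congr rfl
        intro j _
        simp only [hF, Finset.insert_subset_iff]
        by_cases h : (x ∈ D j ∧ I ⊆ D j) ∧ Disjoint E (D j)
        · rw [if_pos h, if_pos ⟨⟨h.1.2, h.2⟩, h.1.1, hx.1⟩]
        · rw [if_neg h, if_neg]
          rintro ⟨⟨h1, h2⟩, h3, _⟩
          exact h ⟨⟨h3, h1⟩, h2⟩
      · rw [if_neg hx]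
        apply Finset.sum_eq_zero
        intro j _
        simp only [hF]
        rw [if_neg]
        rintro ⟨⟨_, hdis⟩, hxD, hxI⟩
        apply hx
        refine ⟨hxI, fun hxE => ?_⟩
        exact (Finset.disjoint_left.mp hdis hxE) hxD
    rw [Finset.sum_congr rfl (fun x _ => h1 x), ← Finset.sum_filter, Finset.sum_const, smul_eq_mul]
    congr 1
    have : (Finset.univ.filter fun x => x ∉ I ∧ x ∉ E) = (I ∪ E)ᶜ := by
      ext x; simp [not_or]
    rw [this, Finset.card_compl, Finset.card_union_of_disjoint hIE]
    omega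
  rw [← hL, ← hR, hcomm]

theorem cnt_closed (D : J → Finset Ω) (m t n : ℕ) (hn' : Fintype.card Ω = n)
    (hD : ∀ j, (D j).card = m) (htm : t ≤ m) (hmn : m < n)
    (hreg : ∀ I E : Finset Ω, Disjoint I E → I.card + E.card + 1 ≤ t →
      ∀ x y : Ω, x ∉ I → x ∉ E → y ∉ I → y ∉ E →
        cnt D (insert x I) E = cnt D (insert y I) E) :
    ∀ (e i : ℕ) (I E : Finset Ω), Disjoint I E → I.card = i → E.card = e → i + e ≤ t →
      e ≤ n - m →
      cnt D I E * n.choose m = Fintype.card J * (n - i - e).choose (n - m - e) := by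
  intro e
  induction e with
  | zero =>
    intro i
    induction i with
    | zero =>
      intro I E _ hI hE _ _
      rw [Finset.card_eq_zero] at hI hE
      subst hI; subst hE
      rw [cnt_empty]
      simp only [Nat.sub_zero]
      rw [Nat.choose_symm (le_of_lt hmn)]
    | succ i ih =>
      intro I E hIE hI hE hle _
      rw [Finset.card_eq_zero] at hE
      subst hE
      obtain ⟨x₀, I₀, hx₀, rfl, hI₀⟩ := Finset.card_eq_succ.mp hI
      have hR := cnt_reg D m t hD hreg I₀ ∅ (Finset.disjoint_empty_right _)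
        (by rw [hI₀, Finset.card_empty]; omega) x₀ hx₀ (Finset.notMem_empty _)
      rw [hn', hI₀, Finset.card_empty] at hR
      have hIH := ih I₀ ∅ (Finset.disjoint_empty_right _) hI₀ Finset.card_empty (by omega)
        (Nat.zero_le _)
      simp only [Nat.sub_zero] at hR hIH ⊢
      obtain ⟨N, hN⟩ : ∃ N, n - i = N + 1 := ⟨n - i - 1, by omega⟩
      have hN' : n - (i + 1) = N := by omega
      rw [hN'] 
      rw [hN] at hR hIH
      have hch := Nat.choose_mul_succ_eq N (n - m)
      have hk : N + 1 - (n - m) = m - i := by omega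
      rw [hk] at hch
      have hpos : 0 < N + 1 := Nat.succ_pos N
      apply Nat.eq_of_mul_eq_mul_left hpos
      calc (N + 1) * (cnt D (insert x₀ I₀) ∅ * n.choose m)
          = ((N + 1) * cnt D (insert x₀ I₀) ∅) * n.choose m := by ring
        _ = ((m - i) * cnt D I₀ ∅) * n.choose m := by rw [hR]
        _ = (m - i) * (cnt D I₀ ∅ * n.choose m) := by ring
        _ = (m - i) * (Fintype.card J * (N + 1).choose (n - m)) := by rw [hIH]
        _ = Fintype.card J * ((N + 1).choose (n - m) * (m - i)) := by ring
        _ = Fintype.card J * (N.choose (n - m) * (N + 1)) := by rw [hch]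
        _ = (N + 1) * (Fintype.card J * N.choose (n - m)) := by ring
  | succ e ih =>
    intro i I E hIE hI hE hle hen
    obtain ⟨x, E₀, hx, rfl, hE₀⟩ := Finset.card_eq_succ.mp hE
    have hxI : x ∉ I := fun h => (Finset.disjoint_left.mp hIE h) (Finset.mem_insert_self _ _)
    have hIE₀ : Disjoint I E₀ :=
      Finset.disjoint_of_subset_right (Finset.subset_insert _ _) hIE
    have hP := cnt_pascal D I E₀ x
    have h1 := ih i I E₀ hIE₀ hI hE₀ (by omega) (by omega)
    have h2 := ih (i + 1) (insert x I) E₀
      (by rw [Finset.disjoint_insert_left]; exact ⟨hx, hIE₀⟩)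
      (by rw [Finset.card_insert_of_notMem hxI, hI]) hE₀ (by omega) (by omega)
    obtain ⟨N, hN⟩ : ∃ N, n - i - e = N + 1 := ⟨n - i - e - 1, by omega⟩
    obtain ⟨k, hk⟩ : ∃ k, n - m - e = k + 1 := ⟨n - m - e - 1, by omega⟩
    have e1 : n - (i + 1) - e = N := by omega
    have e2 : n - i - (e + 1) = N := by omega
    have e3 : n - m - (e + 1) = k := by omega
    rw [hN, hk] at h1
    rw [e1, hk] at h2
    rw [e2, e3]
    rw [Nat.choose_succ_succ] at h1
    have : cnt D I E₀ * n.choose m =
        cnt D (insert x I) E₀ * n.choose m + cnt D I (insert x E₀) * n.choose m := by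
      rw [hP]; ring
    rw [h1, h2] at this
    have h3 : Fintype.card J * (N.choose k + N.choose (k + 1)) =
        Fintype.card J * N.choose k + Fintype.card J * N.choose (k + 1) := by ring
    simp only [Nat.succ_eq_add_one] at this
    rw [h3] at this
    omega

theorem insert_sdiff_insert_eq {S A : Finset Ω} {a : Ω} (haS : a ∈ S) (haA : a ∉ A) :
    insert a (S \ insert a A) = S \ A := by
  ext x
  simp only [Finset.mem_insert, Finset.mem_sdiff, not_or]
  constructor
  · rintro (rfl | ⟨h1, _, h3⟩)
    · exact ⟨haS, haA⟩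
    · exact ⟨h1, h3⟩
  · rintro ⟨h1, h2⟩
    by_cases hx : x = a
    · exact Or.inl hx
    · exact Or.inr ⟨h1, hx, h2⟩

/-- the alternating chain -/
theorem chain (D : J → Finset Ω) (m t n M u : ℕ) (hn' : Fintype.card Ω = n)
    (hD : ∀ j, (D j).card = m) (htm : t ≤ m) (hmn : m < n)
    (hnM : n = t + 1 + M) (hnu : n = m + t + u)
    (hreg : ∀ I E : Finset Ω, Disjoint I E → I.card + E.card + 1 ≤ t →
      ∀ x y : Ω, x ∉ I → x ∉ E → y ∉ I → y ∉ E →
        cnt D (insert x I) E = cnt D (insert y I) E)
    (S : Finset Ω) (hS : S.card + 1 = t) (γ γ' : Ω) (hγ : γ ∉ S) (hγ' : γ' ∉ S) (hne : γ ≠ γ')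
    (htwin : ∀ j, γ ∈ D j → Disjoint S (D j) → γ' ∈ D j) :
    ∀ (j : ℕ) (A : Finset Ω), A ⊆ S → A.card = j →
      (Even j → cnt D ({γ, γ'} ∪ A) (S \ A) * n.choose m =
          Fintype.card J * (M.choose (u + 1 + j) + M.choose u)) ∧
      (¬ Even j → cnt D ({γ, γ'} ∪ A) (S \ A) * n.choose m + Fintype.card J * M.choose u =
          Fintype.card J * M.choose (u + 1 + j)) := by
  have hCF := cnt_closed D m t n hn' hD htm hmn hreg
  intro j
  induction j with
  | zero =>
    intro A _ hA
    rw [Finset.card_eq_zero] at hA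
    subst hA
    refine ⟨fun _ => ?_, fun h => absurd (by decide : Even 0) h⟩
    have h0 : cnt D ({γ, γ'} ∪ ∅) (S \ ∅) = cnt D {γ} S := by
      unfold cnt
      congr 1
      ext j
      simp only [Finset.union_empty, Finset.sdiff_empty, Finset.mem_filter, Finset.mem_univ,
        true_and, Finset.insert_subset_iff, Finset.singleton_subset_iff]
      constructor
      · rintro ⟨⟨h1, _⟩, h3⟩; exact ⟨h1, h3⟩
      · rintro ⟨h1, h3⟩; exact ⟨⟨h1, htwin j h1 h3⟩, h3⟩
    rw [h0]
    have := hCF S.card 1 {γ} S (Finset.disjoint_singleton_left.mpr hγ) (Finset.card_singleton _)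
      rfl (by omega) (by omega)
    rw [this]
    have e1 : n - 1 - S.card = M + 1 := by omega
    have e2 : n - m - S.card = u + 1 := by omega
    rw [e1, e2, Nat.choose_succ_succ, add_zero, add_comm]
  | succ j ih =>
    intro A' hA'S hA'
    obtain ⟨a, A, haA, rfl, hA⟩ := Finset.card_eq_succ.mp hA'
    have haS : a ∈ S := hA'S (Finset.mem_insert_self _ _)
    have hAS : A ⊆ S := fun x hx => hA'S (Finset.mem_insert_of_mem hx)
    have hjS : j + 1 ≤ S.card := by
      rw [← hA']; exact Finset.card_le_card hA'S
    obtain ⟨ihe, iho⟩ := ih A hAS hA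
    have hP := cnt_pascal D ({γ, γ'} ∪ A) (S \ insert a A) a
    rw [insert_sdiff_insert_eq haS haA, ← Finset.union_insert] at hP
    -- closed form for the left side
    have hdisj2 : Disjoint ({γ, γ'} : Finset Ω) A := by
      rw [Finset.disjoint_left]
      intro x hx hxA
      simp only [Finset.mem_insert, Finset.mem_singleton] at hx
      rcases hx with rfl | rfl
      · exact hγ (hAS hxA)
      · exact hγ' (hAS hxA)
    have hcardI : (({γ, γ'} : Finset Ω) ∪ A).card = j + 2 := by
      rw [Finset.card_union_of_disjoint hdisj2, Finset.card_pair hne, hA]; omega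
    have hcardE : (S \ insert a A).card = S.card - (j + 1) := by
      rw [Finset.card_sdiff_of_subset hA'S, hA']
    have hdisjIE : Disjoint (({γ, γ'} : Finset Ω) ∪ A) (S \ insert a A) := by
      rw [Finset.disjoint_left]
      intro x hx hxE
      rw [Finset.mem_sdiff] at hxE
      rcases Finset.mem_union.mp hx with h | h
      · simp only [Finset.mem_insert, Finset.mem_singleton] at h
        rcases h with rfl | rfl
        · exact hγ hxE.1
        · exact hγ' hxE.1
      · exact hxE.2 (Finset.mem_insert_of_mem h)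
    have hcl := hCF (S.card - (j + 1)) (j + 2) _ _ hdisjIE hcardI hcardE (by omega) (by omega)
    have e1 : n - (j + 2) - (S.card - (j + 1)) = M + 1 := by omega
    have e2 : n - m - (S.card - (j + 1)) = (u + 1 + j) + 1 := by omega
    rw [e1, e2, Nat.choose_succ_succ] at hcl
    have hsum : cnt D ({γ, γ'} ∪ A) (S \ insert a A) * n.choose m =
        cnt D ({γ, γ'} ∪ insert a A) (S \ insert a A) * n.choose m +
          cnt D ({γ, γ'} ∪ A) (S \ A) * n.choose m := by
      rw [hP]; ring
    rw [hcl] at hsum
    have e3 : u + 1 + (j + 1) = u + 1 + j + 1 := by omega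
    rw [e3]
    have hexp : Fintype.card J * (M.choose (u + 1 + j) + M.choose (u + 1 + j + 1)) =
        Fintype.card J * M.choose (u + 1 + j) + Fintype.card J * M.choose (u + 1 + j + 1) := by
      ring
    rw [hexp] at hsum
    constructor
    · intro hev
      have hodd : ¬ Even j := by
        intro h; rw [Nat.even_add_one] at hev; exact hev h
      have := iho hodd
      have hexp2 : Fintype.card J * (M.choose (u + 1 + j + 1) + M.choose u) =
          Fintype.card J * M.choose (u + 1 + j + 1) + Fintype.card J * M.choose u := by ring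
      rw [hexp2]
      omega
    · intro hnev
      have hev : Even j := by
        by_contra h; apply hnev; rw [Nat.even_add_one]; exact h
      have := ihe hev
      have hexp2 : Fintype.card J * (M.choose (u + 1 + j) + M.choose u) =
          Fintype.card J * M.choose (u + 1 + j) + Fintype.card J * M.choose u := by ring
      rw [hexp2] at this
      omega

/-- K-S3620-A: a `t`-regular family of `m`-subsets of an `n`-set, `2 m < n`, has no twins. -/
theorem no_twins {Ω J : Type*} [Fintype Ω] [DecidableEq Ω] [Fintype J] [Nonempty J]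
    (D : J → Finset Ω) (m t : ℕ) (hD : ∀ j, (D j).card = m)
    (ht2 : 2 ≤ t) (htm : t ≤ m) (htn : t + m ≤ Fintype.card Ω) (hn : 2 * m < Fintype.card Ω)
    (hreg : ∀ I E : Finset Ω, Disjoint I E → I.card + E.card + 1 ≤ t →
      ∀ x y : Ω, x ∉ I → x ∉ E → y ∉ I → y ∉ E →
        (Finset.univ.filter fun j => insert x I ⊆ D j ∧ Disjoint E (D j)).card =
        (Finset.univ.filter fun j => insert y I ⊆ D j ∧ Disjoint E (D j)).card)
    (S : Finset Ω) (hS : S.card + 1 = t) (γ γ' : Ω) (hγ : γ ∉ S) (hγ' : γ' ∉ S) (hne : γ ≠ γ')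
    (htwin : ∀ j, γ ∈ D j → Disjoint S (D j) → γ' ∈ D j) : False := by
  classical
  set n := Fintype.card Ω with hn'
  have hmn : m < n := by omega
  obtain ⟨M, hnM⟩ : ∃ M, n = t + 1 + M := ⟨n - t - 1, by omega⟩
  obtain ⟨u, hnu⟩ : ∃ u, n = m + t + u := ⟨n - m - t, by omega⟩
  have hreg' : ∀ I E : Finset Ω, Disjoint I E → I.card + E.card + 1 ≤ t →
      ∀ x y : Ω, x ∉ I → x ∉ E → y ∉ I → y ∉ E →
        cnt D (insert x I) E = cnt D (insert y I) E := hreg
  have hch := chain D m t n M u hn'.symm hD htm hmn hnM hnu hreg' S hS γ γ' hγ hγ' hne htwin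
  -- choose an odd j
  obtain ⟨j, hjodd, hjS, hjt⟩ : ∃ j, ¬ Even j ∧ j ≤ S.card ∧ t ≤ j + 2 := by
    by_cases hte : Even t
    · refine ⟨t - 1, ?_, by omega, by omega⟩
      intro h
      have : Even (t - 1 + 1) := by rw [Nat.sub_add_cancel (by omega)]; exact hte
      rw [Nat.even_add_one] at this
      exact this h
    · refine ⟨t - 2, ?_, by omega, by omega⟩
      intro h
      apply hte
      have : t = t - 2 + 2 := by omega
      rw [this]
      exact h.add (by decide)
  obtain ⟨A, hAS, hA⟩ := Finset.exists_subset_card_eq hjS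
  have hodd := (hch j A hAS hA).2 hjodd
  have hle : Fintype.card J * M.choose u ≤ Fintype.card J * M.choose (u + 1 + j) := by
    rw [← hodd]; exact Nat.le_add_left _ _
  have hJ : 0 < Fintype.card J := Fintype.card_pos
  have hle' : M.choose u ≤ M.choose (u + 1 + j) := Nat.le_of_mul_le_mul_left hle hJ
  have hlt : M.choose (u + 1 + j) < M.choose u :=
    choose_lt_of_far (by omega) (by omega) (by omega)
  omega

end Cfsg.Agent.Lib.Helper04.Marggraf
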