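import Mathlib
import Cfsg.Agent.Lib.Helper58.PGroupNormal

set_option autoImplicit false

namespace Cfsg.Agent.Lib.Helper04

open scoped commutatorElement

section
variable {G : Type*} [Group G]

theorem ncard_conj_eq_index_centralizer' (g : G) :
    {h : G | IsConj g h}.ncard = (Subgroup.centralizer ({g} : Set G)).index := by
  have h1 : {h : G | IsConj g h} = MulAction.orbit (ConjAct G) g := by
    ext h
    rw [ConjAct.mem_orbit_conjAct, Set.mem_ofPred_eq, isConj_comm]
  rw [h1, ← MulAction.index_stabilizer, ConjAct.stabilizer_eq_centralizer]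
  rfl

/-- a nontrivial normal subgroup of a nilpotent group strictly contains its commutator with `G` -/
theorem commutator_top_lt_of_nilpotent [Group.IsNilpotent G] (A : Subgroup G) [A.Normal]
    (hA : A ≠ ⊥) : ⁅A, (⊤ : Subgroup G)⁆ < A := by
  refine lt_of_le_of_ne (Subgroup.commutator_le_left A ⊤) ?_
  intro heq
  apply hA
  have hall : ∀ n : ℕ, A ≤ (⊤ : Subgroup G).lowerCentralSeries n := by
    intro n
    induction n with
    | zero => simp
    | succ n ih =>
      rw [Subgroup.lowerCentralSeries_succ, ← heq]
      exact Subgroup.commutator_mono ih le_rfl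
  have := hall (Group.nilpotencyClass G)
  rw [Subgroup.lowerCentralSeries_nilpotencyClass] at this
  exact le_bot_iff.mp this

/-- any subgroup between `[A,G]` and `A` is normal -/
theorem normal_of_commutator_le (A B : Subgroup G) (h1 : ⁅A, (⊤ : Subgroup G)⁆ ≤ B) (h2 : B ≤ A) :
    B.Normal := by
  constructor
  intro b hb g
  have : g * b * g⁻¹ = (⁅b, g⁆)⁻¹ * b := by rw [commutatorElement_def]; group
  rw [this]
  exact B.mul_mem (B.inv_mem (h1 (Subgroup.commutator_mem_commutator (h2 hb) (Subgroup.mem_top g)))) hb

end

section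
variable {G : Type*} [Group G] [Finite G] {p : ℕ} [Fact p.Prime]

/-- a normal subgroup of order `p^(a+1)` of a `p`-group contains a normal subgroup of order `p^a` -/
theorem exists_normal_le_card_pow (hG : IsPGroup p G) (A : Subgroup G) [A.Normal] (a : ℕ)
    (hA : Nat.card A = p ^ (a + 1)) : ∃ B : Subgroup G, B.Normal ∧ B ≤ A ∧ Nat.card B = p ^ a := by
  have hp : p.Prime := Fact.out
  have : Group.IsNilpotent G := hG.isNilpotent
  have hAne : A ≠ ⊥ := by
    rintro rfl
    rw [Subgroup.card_bot] at hA
    have : 1 < p ^ (a + 1) := Nat.one_lt_pow (Nat.succ_ne_zero a) hp.one_lt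
    omega
  have hlt := commutator_top_lt_of_nilpotent A hAne
  set D := ⁅A, (⊤ : Subgroup G)⁆ with hD
  -- order of D
  obtain ⟨n, hn⟩ := IsPGroup.exists_card_eq (hG.to_subgroup D)
  have hna : n ≤ a := by
    have h1 : Nat.card D < Nat.card A := by
      refine lt_of_le_of_ne (Nat.le_of_dvd Nat.card_pos (Subgroup.card_dvd_of_le hlt.le)) ?_
      intro heq
      exact hlt.ne (Subgroup.eq_of_le_of_card_ge hlt.le heq.ge)
    rw [hn, hA] at h1
    have := (Nat.pow_lt_pow_iff_right hp.one_lt).mp h1
    omega
  -- work inside A
  have hdvd : p ^ a ∣ Nat.card A := by rw [hA]; exact pow_dvd_pow p (Nat.le_succ a)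
  have hDA : Nat.card (D.subgroupOf A) = p ^ n := by
    rw [← hn]
    exact Nat.card_congr (Subgroup.subgroupOfEquivOfLe hlt.le).toEquiv
  obtain ⟨K, hK, hDK⟩ := Sylow.exists_subgroup_card_pow_prime_le p hdvd (D.subgroupOf A) hDA hna
  refine ⟨K.map A.subtype, ?_, ?_, ?_⟩
  · apply normal_of_commutator_le A
    · intro d hd
      exact ⟨⟨d, hlt.le hd⟩, hDK hd, rfl⟩
    · exact Subgroup.map_subtype_le K
  · exact Subgroup.map_subtype_le K
  · rw [← hK]
    exact Nat.card_congr (Subgroup.equivMapOfInjective K A.subtype A.subtype_injective).symm.toEquiv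

theorem index_centralizer_le (hG : IsPGroup p G) : ∀ (a : ℕ) (A : Subgroup G), A.Normal →
    IsMulCommutative A → Nat.card A = p ^ a →
    (Subgroup.centralizer (A : Set G)).index ≤ p ^ (a * (a - 1) / 2) := by
  have hp : p.Prime := Fact.out
  intro a
  induction a with
  | zero =>
    intro A _ _ hA
    rw [pow_zero, Subgroup.card_eq_one] at hA
    subst hA
    have : Subgroup.centralizer (((⊥ : Subgroup G) : Subgroup G) : Set G) = ⊤ := by
      rw [eq_top_iff]
      intro y _
      rw [Subgroup.mem_centralizer_iff]
      intro z hz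
      rw [SetLike.mem_coe, Subgroup.mem_bot] at hz
      subst hz
      simp
    rw [this, Subgroup.index_top]
    simp
  | succ a ih =>
    intro A hAn hAc hA
    obtain ⟨B, hBn, hBA, hB⟩ := exists_normal_le_card_pow hG A a hA
    have hBc : IsMulCommutative B := by
      refine ⟨⟨fun x y => Subtype.ext ?_⟩⟩
      have := hAc.is_comm.comm (⟨x, hBA x.2⟩ : A) ⟨y, hBA y.2⟩
      have h2 := congrArg Subtype.val this
      simpa using h2
    have ihB := ih B hBn hBc hB
    have hBltA : B < A := by
      refine lt_of_le_of_ne hBA ?_
      rintro rfl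
      rw [hB] at hA
      have := Nat.pow_right_injective hp.two_le hA
      omega
    obtain ⟨x, hxA, hxB⟩ := SetLike.exists_of_lt hBltA
    have hx1 : x ≠ 1 := by
      rintro rfl
      exact hxB B.one_mem
    -- B ⊔ zpowers x = A
    have hsup : B ⊔ Subgroup.zpowers x = A := by
      have hle : B ⊔ Subgroup.zpowers x ≤ A := sup_le hBA (by rw [Subgroup.zpowers_le]; exact hxA)
      apply Subgroup.eq_of_le_of_card_ge hle
      have h1 : Nat.card (B ⊔ Subgroup.zpowers x : Subgroup G) ∣ p ^ (a + 1) :=
        hA ▸ Subgroup.card_dvd_of_le hle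
      obtain ⟨k, hk, hk'⟩ := (Nat.dvd_prime_pow hp).mp h1
      have h2 : p ^ a ∣ p ^ k := by
        rw [← hB, ← hk']
        exact Subgroup.card_dvd_of_le le_sup_left
      have h3 : a ≤ k := (Nat.pow_dvd_pow_iff_le_right hp.one_lt).mp h2
      have h4 : k ≠ a := by
        rintro rfl
        apply hxB
        have : B = B ⊔ Subgroup.zpowers x :=
          Subgroup.eq_of_le_of_card_ge le_sup_left (by rw [hk', hB])
        rw [this]
        exact Subgroup.mem_sup_right (Subgroup.mem_zpowers x)
      have : k = a + 1 := by omega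
      rw [hA, hk', this]
    have hle : Subgroup.centralizer (B : Set G) ⊓ Subgroup.centralizer {x} ≤
        Subgroup.centralizer (A : Set G) := by
      intro y hy
      have hyB : ∀ b ∈ B, b * y = y * b := fun b hb => Subgroup.mem_centralizer_iff.mp hy.1 b hb
      have hyx : x * y = y * x := Subgroup.mem_centralizer_iff.mp hy.2 x rfl
      have hsub : B ⊔ Subgroup.zpowers x ≤ Subgroup.centralizer {y} := by
        apply sup_le
        · intro b hb
          rw [Subgroup.mem_centralizer_iff]
          intro z hz
          rw [Set.mem_singleton_iff] at hz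
          subst hz
          exact (hyB b hb).symm
        · rw [Subgroup.zpowers_le, Subgroup.mem_centralizer_iff]
          intro z hz
          rw [Set.mem_singleton_iff] at hz
          subst hz
          exact hyx.symm
      rw [Subgroup.mem_centralizer_iff]
      intro a' ha'
      rw [SetLike.mem_coe, ← hsup] at ha'
      have := hsub ha'
      rw [Subgroup.mem_centralizer_iff] at this
      exact (this y rfl).symm
    have h1 : (Subgroup.centralizer ({x} : Set G)).index ≤ p ^ a := by
      obtain ⟨k, hk⟩ := hG.index (Subgroup.centralizer ({x} : Set G))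
      rw [hk]
      apply Nat.pow_le_pow_right hp.pos
      have hlt : (Subgroup.centralizer ({x} : Set G)).index < p ^ (a + 1) := by
        rw [← ncard_conj_eq_index_centralizer', ← hA]
        have hAc' : Nat.card A = (A : Set G).ncard := (Nat.card_coe_set_eq (A : Set G))
        rw [hAc']
        apply Set.ncard_lt_ncard _ (Set.toFinite _)
        constructor
        · intro h hh
          obtain ⟨g, hg⟩ := isConj_iff.mp hh
          rw [← hg]
          exact hAn.conj_mem x hxA g
        · intro hsub
          have hc : IsConj x 1 := hsub A.one_mem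
          obtain ⟨g, hg⟩ := isConj_iff.mp hc
          apply hx1
          have : x = g⁻¹ * (g * x * g⁻¹) * g := by group
          rw [this, hg]; group
      rw [hk] at hlt
      have := (Nat.pow_lt_pow_iff_right hp.one_lt).mp hlt
      omega
    calc (Subgroup.centralizer (A : Set G)).index
        ≤ (Subgroup.centralizer (B : Set G) ⊓ Subgroup.centralizer {x}).index :=
          Nat.le_of_dvd (Nat.pos_of_ne_zero Subgroup.index_ne_zero_of_finite)
            (Subgroup.index_dvd_of_le hle)
      _ ≤ (Subgroup.centralizer (B : Set G)).index * (Subgroup.centralizer ({x} : Set G)).index :=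
          Subgroup.index_inf_le
      _ ≤ p ^ (a * (a - 1) / 2) * p ^ a := Nat.mul_le_mul ihB h1
      _ = p ^ ((a + 1) * (a + 1 - 1) / 2) := by rw [← pow_add, Nat.triangle_succ]

/-- the order of a `p`-group with a maximal normal abelian subgroup of order `p^a` -/
theorem card_le_of_maximal_normal_abelian (hG : IsPGroup p G) (A : Subgroup G) [A.Normal]
    (hA : IsMulCommutative A)
    (hmax : ∀ B : Subgroup G, B.Normal → IsMulCommutative B → A ≤ B → B = A) (a : ℕ)
    (ha : Nat.card A = p ^ a) : Nat.card G ≤ p ^ (a * (a + 1) / 2) := by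
  have hp : p.Prime := Fact.out
  have hCA : Subgroup.centralizer (A : Set G) = A := by
    apply le_antisymm
    · exact Helper58.centralizer_le_of_maximal_normal_abelian hG A inferInstance hA hmax
    · intro x hx
      rw [Subgroup.mem_centralizer_iff]
      intro y hy
      have := hA.is_comm.comm (⟨y, hy⟩ : A) ⟨x, hx⟩
      exact congrArg Subtype.val this
  have h1 := index_centralizer_le hG a A inferInstance hA ha
  rw [hCA] at h1
  rw [← Subgroup.card_mul_index A, ha]
  calc p ^ a * A.index ≤ p ^ a * p ^ (a * (a - 1) / 2) := Nat.mul_le_mul_left _ h1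
    _ = p ^ (a * (a + 1) / 2) := by
      rw [← pow_add]
      congr 1
      have := Nat.triangle_succ a
      rw [Nat.add_sub_cancel, mul_comm] at this
      omega

end

end Cfsg.Agent.Lib.Helper04
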