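import Mathlib
import Cfsg.Agent.Lib.Helper56.NSE3Defs

/-!
Pack K-NSE3 (S3996), leaf L05a (keystone 399605): partition of the elements whose order is a multiple of `p`
by their order.
-/

set_option autoImplicit false

namespace Cfsg.Agent.Lib.Helper04.NSE3

open Cfsg.Agent.S3995 (s)
open Cfsg.Agent.Lib.Helper56.NSE3 (Hyp)

variable {G : Type*} [Group G] [Finite G]

/-- L05a partition by order. -/
theorem card_dvd_eq_sum (p : ℕ) (hp : 0 < p) :
    Nat.card {g : G // p ∣ orderOf g} =
      ∑ k ∈ (Nat.card G).divisors.filter (fun k => p ∣ k), s G k := by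
  classical
  have : Fintype G := Fintype.ofFinite G
  have h1 : Nat.card {g : G // p ∣ orderOf g} =
      (Finset.univ.filter (fun g : G => p ∣ orderOf g)).card := by
    rw [Nat.card_eq_fintype_card, Fintype.card_subtype]
  rw [h1, Finset.card_eq_sum_card_fiberwise (f := fun g : G => orderOf g)
    (t := (Nat.card G).divisors.filter (fun k => p ∣ k))]
  · apply Finset.sum_congr rfl
    intro k hk
    rw [Finset.mem_filter] at hk
    unfold Cfsg.Agent.S3995.s
    rw [Nat.card_eq_fintype_card, Fintype.card_subtype]
    congr 1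
    ext g
    simp only [Finset.mem_filter, Finset.mem_univ, true_and]
    constructor
    · rintro ⟨_, h⟩; exact h
    · intro h; exact ⟨h ▸ hk.2, h⟩
  · intro g hg
    have hg' : p ∣ orderOf g := by simpa using hg
    have hd : orderOf g ∣ Nat.card G := orderOf_dvd_natCard g
    have hne : Nat.card G ≠ 0 := Nat.card_pos.ne'
    simp only [Finset.coe_filter, Nat.mem_divisors]
    exact ⟨⟨hd, hne⟩, hg'⟩

end Cfsg.Agent.Lib.Helper04.NSE3
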