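import Mathlib
import Cfsg.Prelude.Def_GeometricClasses
import Cfsg.Agent.Lib.Helper50.GeoBridge
import Cfsg.Agent.Lib.Helper22.OOddMaxXB

/-!
# K-O10m-Y2 (keystone 585002, row S5850, architect helper91) : `planes_le_lines_of_card_three`

Over the field with three elements an anisotropic plane has a canonical orthogonal frame (the vectors of a
fixed non-zero norm, up to sign), so an isometric orthogonal decomposition into anisotropic planes refines
canonically to a decomposition into lines.  The glue `lines_of_frame` is stated for pieces of any dimension `k`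
having a canonical frame (adapted from `Helper22.OOddMax.three_spaces_le_lines_gen`).
-/

set_option autoImplicit false
set_option linter.unusedSectionVars false

namespace Cfsg.Agent.Lib.Helper04.O10m

open Cfsg Cfsg.Geo
open Module QuadraticMap
open scoped Matrix

section gen

variable {F : Type*} [Field F] [Fintype F] {ι : Type} [Fintype ι] [DecidableEq ι]

/-- Glue: if one (hence every) piece of an isometric orthogonal decomposition into `k`-spaces has an orthogonal
basis of vectors of norm `c ≠ 0` which are, up to sign, the only vectors of norm `c` in the piece, then the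
decomposition refines to a decomposition into lines preserved by the isometries preserving the given one. -/
theorem lines_of_frame (h2 : (2 : F) ≠ 0) (Q : QuadraticForm F (ι → F)) {t k : ℕ} (hk : 0 < k)
    (D : Fin t → Submodule F (ι → F)) (hD : IsOrthogonalMDecomposition (⇑Q) k D) (i0 : Fin t)
    (c : F) (b0 : Fin k → ι → F) (hc : c ≠ 0) (hb0N : ∀ j, b0 j ∈ D i0) (hQb0 : ∀ j, Q (b0 j) = c)
    (horth0 : ∀ i j, i ≠ j → polar (⇑Q) (b0 i) (b0 j) = 0)
    (hspan0 : ∀ w ∈ D i0, ∃ x : Fin k → F, w = ∑ j, x j • b0 j)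
    (hcan0 : ∀ w ∈ D i0, Q w = c → ∃ j, w = b0 j ∨ w = -b0 j) :
    ∃ D' : Fin (t * k) → Submodule F (ι → F), IsOrthogonalMDecomposition (⇑Q) 1 D' ∧
      decompositionStabilizer D ⊓ isometryGroup F (⇑Q) ≤ decompositionStabilizer D' := by
  classical
  have ht : 2 ≤ t := hD.decomp.decomp.two_le
  have htk : 2 ≤ t * k := le_trans ht (Nat.le_mul_of_pos_right t hk)
  have h2c' : (2 : F) * c ≠ 0 := mul_ne_zero h2 hc
  choose e he using fun i => hD.isometric i0 i
  have hpol : ∀ i (a b : D i0),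
      polar (⇑Q) ((e i a : D i) : ι → F) ((e i b : D i) : ι → F) =
        polar (⇑Q) (a : ι → F) (b : ι → F) := by
    intro i a b
    unfold polar
    rw [← he i a, ← he i b, ← Submodule.coe_add, ← Submodule.coe_add, ← he i (a + b), map_add]
  -- the frames of the `D i`
  obtain ⟨bp, hbp⟩ : ∃ bp : Fin t → Fin k → (ι → F),
      bp = fun i j => ((e i ⟨b0 j, hb0N j⟩ : D i) : ι → F) := ⟨_, rfl⟩
  have hbpD : ∀ i j, bp i j ∈ D i := fun i j => by rw [hbp]; exact (e i ⟨b0 j, hb0N j⟩).2
  have hbpQ : ∀ i j, Q (bp i j) = c := fun i j => by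
    rw [hbp]
    show Q ((e i ⟨b0 j, hb0N j⟩ : D i) : ι → F) = c
    rw [he]; exact hQb0 j
  have hbporth : ∀ i j i' j', (i, j) ≠ (i', j') → polar (⇑Q) (bp i j) (bp i' j') = 0 := by
    intro i j i' j' hne
    by_cases hii : i = i'
    · subst hii
      have hjj : j ≠ j' := fun h => hne (by rw [h])
      rw [hbp]
      show polar (⇑Q) ((e i ⟨b0 j, hb0N j⟩ : D i) : ι → F) ((e i ⟨b0 j', hb0N j'⟩ : D i) : ι → F) = 0
      rw [hpol]; exact horth0 j j' hjj
    · exact hD.decomp.orthogonal i i' hii _ (hbpD i j) _ (hbpD i' j')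
  have hbpspan : ∀ i, ∀ w ∈ D i, ∃ x : Fin k → F, w = ∑ j, x j • bp i j := by
    intro i w hw
    obtain ⟨x, hx⟩ := hspan0 ((e i).symm ⟨w, hw⟩ : ι → F) ((e i).symm ⟨w, hw⟩).2
    refine ⟨x, ?_⟩
    have h1 : (e i).symm ⟨w, hw⟩ = ∑ j, x j • (⟨b0 j, hb0N j⟩ : D i0) := by
      apply Subtype.ext
      rw [hx]
      simp
    have h3 : (⟨w, hw⟩ : D i) = ∑ j, x j • e i ⟨b0 j, hb0N j⟩ := by
      rw [← (e i).apply_symm_apply ⟨w, hw⟩, h1, map_sum]
      simp only [map_smul]
    have h4 := congrArg (fun z : D i => (z : ι → F)) h3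
    simp only [Submodule.coe_sum, Submodule.coe_smul] at h4
    rw [hbp]
    exact h4
  have hbpcan : ∀ i, ∀ w ∈ D i, Q w = c → ∃ j, w = bp i j ∨ w = -bp i j := by
    intro i w hw hwc
    obtain ⟨w0, hw0⟩ : ∃ w0 : D i0, w0 = (e i).symm ⟨w, hw⟩ := ⟨_, rfl⟩
    have hew0 : ((e i w0 : D i) : ι → F) = w := by
      rw [hw0, LinearEquiv.apply_symm_apply]
    have hw0c : Q (w0 : ι → F) = c := by rw [← he i w0, hew0, hwc]
    obtain ⟨j, hj | hj⟩ := hcan0 (w0 : ι → F) w0.2 hw0c
    · refine ⟨j, Or.inl ?_⟩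
      have h' : w0 = ⟨b0 j, hb0N j⟩ := Subtype.ext hj
      rw [← hew0, h', hbp]
    · refine ⟨j, Or.inr ?_⟩
      have h' : w0 = -⟨b0 j, hb0N j⟩ := Subtype.ext hj
      rw [← hew0, h', map_neg, hbp]
      rfl
  -- the global frame
  obtain ⟨bb, hbb⟩ : ∃ bb : Fin (t * k) → (ι → F),
      bb = fun l => bp (finProdFinEquiv.symm l).1 (finProdFinEquiv.symm l).2 := ⟨_, rfl⟩
  have hbbpair : ∀ i j, bb (finProdFinEquiv (i, j)) = bp i j := by
    intro i j
    rw [hbb]
    simp only [Equiv.symm_apply_apply]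
  have hbbD : ∀ l, bb l ∈ D (finProdFinEquiv.symm l).1 := fun l => by rw [hbb]; exact hbpD _ _
  have hbbQ : ∀ l, Q (bb l) = c := fun l => by rw [hbb]; exact hbpQ _ _
  have hbb0 : ∀ l, bb l ≠ 0 := by
    intro l h0
    have := hbbQ l
    rw [h0, map_zero] at this
    exact hc this.symm
  have hbborth : ∀ l l', l ≠ l' → polar (⇑Q) (bb l) (bb l') = 0 := by
    intro l l' hll'
    rw [hbb]
    apply hbporth
    intro h
    apply hll'
    apply finProdFinEquiv.symm.injective
    exact Prod.ext (congrArg Prod.fst h) (congrArg Prod.snd h)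
  have hbbself : ∀ l, polar (⇑Q) (bb l) (bb l) = 2 * c := by
    intro l
    rw [polar_self, hbbQ]
    simp
  have hbbcan : ∀ i, ∀ w ∈ D i, Q w = c → ∃ l, w = bb l ∨ w = -bb l := by
    intro i w hw hwc
    obtain ⟨j, hj⟩ := hbpcan i w hw hwc
    exact ⟨finProdFinEquiv (i, j), by rw [hbbpair]; exact hj⟩
  refine ⟨fun l => Submodule.span F {bb l}, ⟨⟨⟨htk, Nat.one_pos, ?_, ?_, ?_⟩, ?_, ?_⟩, ?_⟩, ?_⟩
  · intro l
    exact finrank_span_singleton (hbb0 l)
  · apply LinearIndependent.iSupIndep_span_singleton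
    rw [linearIndependent_iff']
    intro s g hs l hl
    have h1 : polar (⇑Q) (bb l) (∑ i ∈ s, g i • bb i) = 0 := by
      rw [hs]; simp [polar]
    have h := map_sum (polarBilin Q (bb l)) (fun i => g i • bb i) s
    simp only [map_smul, smul_eq_mul, polarBilin_apply_apply] at h
    rw [h, Finset.sum_eq_single l] at h1
    · rw [hbbself] at h1
      rcases mul_eq_zero.mp h1 with h5 | h5
      · exact h5
      · exact absurd h5 h2c'
    · intro l' _ hl'
      rw [hbborth l l' (Ne.symm hl'), mul_zero]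
    · intro hl'
      exact absurd hl hl'
  · rw [eq_top_iff, ← hD.decomp.decomp.iSup_eq_top]
    apply iSup_le
    intro i w hw
    obtain ⟨x, rfl⟩ := hbpspan i w hw
    apply Submodule.sum_mem
    intro j _
    apply Submodule.smul_mem
    rw [← hbbpair]
    exact Submodule.mem_iSup_of_mem (finProdFinEquiv (i, j)) (Submodule.mem_span_singleton_self _)
  · intro l w hw hw0
    rw [Submodule.mem_span_singleton] at hw
    obtain ⟨a, rfl⟩ := hw
    have ha : a ≠ 0 := by
      rintro rfl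
      simp at hw0
    refine ⟨⟨bb l, Submodule.mem_span_singleton_self _, ?_⟩, ⟨bb l, Submodule.mem_span_singleton_self _, ?_⟩⟩
    · rw [polar_smul_right, hbbself, smul_eq_mul]
      exact mul_ne_zero ha h2c'
    · rw [polar_smul_left, hbbself, smul_eq_mul]
      exact mul_ne_zero ha h2c'
  · intro l l' hll' u hu v hv
    rw [Submodule.mem_span_singleton] at hu hv
    obtain ⟨a, rfl⟩ := hu
    obtain ⟨a', rfl⟩ := hv
    rw [polar_smul_left, polar_smul_right, hbborth l l' hll']
    simp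
  · intro l l'
    refine ⟨(LinearEquiv.toSpanNonzeroSingleton F (ι → F) (bb l) (hbb0 l)).symm.trans
      (LinearEquiv.toSpanNonzeroSingleton F (ι → F) (bb l') (hbb0 l')), ?_⟩
    intro w
    have hw : (w : ι → F) = (LinearEquiv.toSpanNonzeroSingleton F (ι → F) (bb l) (hbb0 l)).symm w • bb l :=
      (LinearEquiv.toSpanNonzeroSingleton_symm_apply_smul F (ι → F) (bb l) (hbb0 l) w).symm
    rw [LinearEquiv.trans_apply, LinearEquiv.toSpanNonzeroSingleton_apply]
    conv_rhs => rw [hw]
    show Q (_ • bb l') = Q (_ • bb l)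
    rw [QuadraticMap.map_smul, QuadraticMap.map_smul, hbbQ, hbbQ]
  · intro g hg
    obtain ⟨⟨σ, hσ⟩, hiso⟩ := Subgroup.mem_inf.mp hg
    have hQg : ∀ u, Q ((g : Matrix ι ι F) *ᵥ u) = Q u := fun u => hiso u u
    have hpolg := Cfsg.Agent.Lib.Helper22.OOddMax.polar_mulVec_of_isometry Q (g : Matrix ι ι F) hQg
    have hmem : ∀ l, ∃ l', (g : Matrix ι ι F) *ᵥ bb l = bb l' ∨ (g : Matrix ι ι F) *ᵥ bb l = -bb l' := by
      intro l
      have h1 : (g : Matrix ι ι F) *ᵥ bb l ∈ D (σ (finProdFinEquiv.symm l).1) := by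
        rw [← hσ]
        exact Submodule.mem_map.mpr ⟨bb l, hbbD l, by rw [Matrix.toLin'_apply]⟩
      exact hbbcan _ _ h1 (by rw [hQg, hbbQ])
    choose f hf using hmem
    have hinj : Function.Injective f := by
      intro l₁ l₂ h12
      by_contra hne
      have h0 := hbborth l₁ l₂ hne
      rw [← hpolg] at h0
      rcases hf l₁ with h1 | h1 <;> rcases hf l₂ with h2' | h2' <;> rw [h1, h2', h12] at h0 <;>
        simp only [polar_neg_left, polar_neg_right, neg_neg, hbbself, neg_eq_zero] at h0 <;>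
        exact h2c' h0
    refine ⟨Equiv.ofBijective f (Finite.injective_iff_bijective.mp hinj), fun l => ?_⟩
    show (Submodule.span F {bb l}).map (Matrix.toLin' (g : Matrix ι ι F)) = Submodule.span F {bb (f l)}
    rw [Submodule.map_span, Set.image_singleton, Matrix.toLin'_apply]
    rcases hf l with h | h
    · rw [h]
    · rw [h, ← neg_one_smul F (bb (f l)), Submodule.span_singleton_smul_eq (isUnit_one.neg)]

/-- an anisotropic plane over the field with three elements has an orthogonal basis of vectors of equal norm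
`c`, and these are, up to sign, the only vectors of norm `c`. -/
theorem exists_frame_plane (hq : Fintype.card F = 3) (Q : QuadraticForm F (ι → F)) (N : Submodule F (ι → F))
    (hN : finrank F N = 2) (hani : ∀ v ∈ N, Q v = 0 → v = 0) :
    ∃ (c : F) (b : Fin 2 → ι → F), c ≠ 0 ∧ (∀ j, b j ∈ N) ∧ (∀ j, Q (b j) = c) ∧
      (∀ i j, i ≠ j → polar (⇑Q) (b i) (b j) = 0) ∧ (∀ w ∈ N, ∃ x : Fin 2 → F, w = ∑ j, x j • b j) ∧
      ∀ w ∈ N, Q w = c → ∃ j, w = b j ∨ w = -b j := by
  have h2 := Cfsg.Agent.Lib.Helper50.two_ne_zero_of_card_three hq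
  have hle : Fintype.card F ≤ 3 := by omega
  obtain ⟨u, huN, hu0, horth, hspan⟩ := Cfsg.Agent.Lib.Helper50.exists_orthogonal_basis_sub h2 Q N 2 hN
  have ha : ∀ j, Q (u j) ≠ 0 := fun j hj => hu0 j (hani _ (huN j) hj)
  have hpm : ∀ j, Q (u j) = 1 ∨ Q (u j) = -1 := fun j =>
    mul_self_eq_one_iff.mp (Cfsg.Agent.Lib.Helper50.mul_self_eq_one_of_card_le_three hle _ (ha j))
  have heq : Q (u 0) = Q (u 1) := by
    by_contra hne
    have hneg : Q (u 1) = - Q (u 0) := by
      rcases hpm 0 with h | h <;> rcases hpm 1 with h' | h' <;> rw [h, h'] at hne ⊢ <;>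
        first | exact absurd rfl hne | simp
    have hsum : Q (u 0 + u 1) = 0 := by
      rw [QuadraticMap.map_add Q (u 0) (u 1), horth 0 1 (by decide), hneg]; ring
    have h0 := hani _ (N.add_mem (huN 0) (huN 1)) hsum
    have h01 : u 0 = - u 1 := eq_neg_of_add_eq_zero_left h0
    apply hne
    rw [h01, QuadraticMap.map_neg]
  have hall : ∀ j, Q (u j) = Q (u 0) := by
    intro j
    fin_cases j
    · rfl
    · exact heq.symm
  refine ⟨Q (u 0), u, ha 0, huN, hall, horth, hspan, ?_⟩
  intro w hw hwc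
  obtain ⟨x, rfl⟩ := hspan w hw
  rw [Cfsg.Agent.Lib.Helper50.Q_sum_orth Q u horth x Finset.univ] at hwc
  simp only [hall, Fin.sum_univ_two] at hwc ⊢
  have hsum : x 0 * x 0 + x 1 * x 1 = 1 := by
    have : (x 0 * x 0 + x 1 * x 1) * Q (u 0) = 1 * Q (u 0) := by linear_combination hwc
    exact mul_right_cancel₀ (ha 0) this
  rcases Cfsg.Agent.Lib.Helper22.OOddMax.cases_of_card_three hq (x 0) with h0 | h0 | h0 <;>
  rcases Cfsg.Agent.Lib.Helper22.OOddMax.cases_of_card_three hq (x 1) with h1 | h1 | h1 <;>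
  rw [h0, h1] at hsum ⊢ <;>
  first
  | (refine ⟨0, ?_⟩; simp; done)
  | (refine ⟨1, ?_⟩; simp; done)
  | (exfalso; simp at hsum)

end gen

section main

variable {F : Type*} [Field F] [Fintype F] {n : ℕ}

/-- K-O10m-Y2 (585002). -/
theorem planes_le_lines_of_card_three (hq : Fintype.card F = 3) (Q : (Fin n → F) → F)
    (hQ : IsNondegenerateQuadraticForm Q)
    {t : ℕ} (D : Fin t → Submodule F (Fin n → F)) (hD : IsOrthogonalMDecomposition Q 2 D)
    (hani : ∀ i, ∀ v ∈ D i, Q v = 0 → v = 0) :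
    ∃ D' : Fin (t * 2) → Submodule F (Fin n → F), IsOrthogonalMDecomposition Q 1 D' ∧
      decompositionStabilizer D ⊓ isometryGroup F Q ≤ decompositionStabilizer D' := by
  have ht : 2 ≤ t := hD.decomp.decomp.two_le
  obtain ⟨i0, -⟩ : ∃ i0 : Fin t, i0 = ⟨0, by omega⟩ := ⟨_, rfl⟩
  obtain ⟨c, b0, hc, hb0N, hQb0, horth0, hspan0, hcan0⟩ :=
    exists_frame_plane hq (Cfsg.Agent.Lib.Helper50.geoForm Q hQ) (D i0)
      (hD.decomp.decomp.finrank_eq i0) (hani i0)
  exact lines_of_frame (Cfsg.Agent.Lib.Helper50.two_ne_zero_of_card_three hq)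
    (Cfsg.Agent.Lib.Helper50.geoForm Q hQ) (by norm_num) D hD i0 c b0 hc hb0N hQb0 horth0 hspan0 hcan0

end main

end Cfsg.Agent.Lib.Helper04.O10m
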