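import Cfsg.Agent.Lib.Helper04.OPb11Core
import Cfsg.Agent.Lib.Helper61.OPb1

/-!
# K-OPb-11 (keystone 598911, helper69's S5989/S5991 pack): wrapper of `exists_isometry_fix_of`
with LEAF 1 (`Helper61.OPb.exists_sub_isoOnto`).
-/

set_option autoImplicit false

namespace Cfsg.Agent.Lib.Helper04.OPb

open Module Cfsg.Agent.Lib.Helper98.Elus Cfsg.Agent.Lib.Helper98.Sy Cfsg.Agent.Lib.Helper98.Oh
  Cfsg.Agent.Lib.Helper69.OPb

universe u
variable {F : Type u} [Field F] {V : Type u} [AddCommGroup V] [Module F V]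

theorem exists_isometry_fix [Fintype F] (h2 : (2 : F) ≠ 0) [FiniteDimensional F V]
    (B : LinearMap.BilinForm F V) (hS : ∀ a b, B a b = B b a) (hV : NonDeg B ⊤)
    (p f : ℕ) [Fact p.Prime] (hF : Fintype.card F = p ^ f)
    (r : ℕ) [Fact r.Prime] (hpr : p ≠ r) (hr2 : r ≠ 2) (hrF : (r : F) ≠ 0)
    (N k : ℕ) (hN : 1 ≤ N) (hk : 0 < k)
    (hdim : finrank F V = N * cOf (orderOf ((Fintype.card F : ℕ) : ZMod r)) + k) :
    ∃ y : V →ₗ[F] V, Iso B y ∧ y ^ r = 1 ∧ y ≠ 1 ∧ finrank F (V0 y) = k :=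
  exists_isometry_fix_of h2 B hS hV
    (fun B' hS' hV' hlt =>
      Cfsg.Agent.Lib.Helper61.OPb.exists_sub_isoOnto h2 B hS ⊤ hV B' hS' hV' hlt)
    p f hF r hpr hr2 hrF N k hN hk hdim

end Cfsg.Agent.Lib.Helper04.OPb
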