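import Cfsg.Agent.Lib.Helper69.OPbDefs
import Cfsg.Agent.Lib.Helper23.OhD
import Cfsg.Agent.Lib.Helper98.Os1
import Cfsg.Agent.Lib.Helper98.Os3

/-!
# K-OPb-11 core (keystone 598911, helper69's S5989/S5991 pack): an isometry of odd prime order with a
prescribed dimension of the fixed space on a GIVEN nondegenerate symmetric space.
-/

set_option autoImplicit false

namespace Cfsg.Agent.Lib.Helper04.OPb

open Module Cfsg.Agent.Lib.Helper98.Elus Cfsg.Agent.Lib.Helper98.Sy Cfsg.Agent.Lib.Helper98.Oh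
  Cfsg.Agent.Lib.Helper69.OPb

universe u
variable {F : Type u} [Field F] {V : Type u} [AddCommGroup V] [Module F V]

/-- extension by the identity of an operator on a complemented subspace -/
theorem ext_props {W W' : Submodule F V} (hc : IsCompl W W') (g : W →ₗ[F] W) :
    ∃ y : V →ₗ[F] V, (∀ w : W, y (w : V) = (g w : V)) ∧ (∀ w' : W', y (w' : V) = (w' : V)) := by
  refine ⟨LinearMap.ofIsCompl hc (W.subtype ∘ₗ g) W'.subtype, fun w => ?_, fun w' => ?_⟩
  · rw [LinearMap.ofIsCompl_left_apply]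
    rfl
  · rw [LinearMap.ofIsCompl_right_apply]
    rfl

/-- LEAF 11 with LEAF 1 (`exists_sub_isoOnto`, `U = ⊤`) as a hypothesis -/
theorem exists_isometry_fix_of [Fintype F] (h2 : (2 : F) ≠ 0) [FiniteDimensional F V]
    (B : LinearMap.BilinForm F V) (hS : ∀ a b, B a b = B b a) (hV : NonDeg B ⊤)
    (hL1 : ∀ {V' : Type u} [AddCommGroup V'] [Module F V'] [FiniteDimensional F V']
      (B' : LinearMap.BilinForm F V'), (∀ a b, B' a b = B' b a) → NonDeg B' ⊤ →
      finrank F V' < finrank F (⊤ : Submodule F V) →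
      ∃ W : Submodule F V, W ≤ ⊤ ∧ NonDeg B W ∧
        ∃ e : W ≃ₗ[F] V', ∀ u v : W, B' (e u) (e v) = B (u : V) (v : V))
    (p f : ℕ) [Fact p.Prime] (hF : Fintype.card F = p ^ f)
    (r : ℕ) [Fact r.Prime] (hpr : p ≠ r) (hr2 : r ≠ 2) (hrF : (r : F) ≠ 0)
    (N k : ℕ) (hN : 1 ≤ N) (hk : 0 < k)
    (hdim : finrank F V = N * cOf (orderOf ((Fintype.card F : ℕ) : ZMod r)) + k) :
    ∃ y : V →ₗ[F] V, Iso B y ∧ y ^ r = 1 ∧ y ≠ 1 ∧ finrank F (V0 y) = k := by
  classical
  have hR : B.IsRefl := Cfsg.Agent.Lib.Helper98.Os.isRefl_of_symm hS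
  obtain ⟨V', iA, iM, iFD, B', y', hS', hnd', hiso', hy', hne', hfin', hV0'⟩ :=
    Cfsg.Agent.Lib.Helper23.Oh.exists_model_symm (F := F) h2 p f hF r hpr hr2 hrF N 0 hN
  rw [add_zero] at hfin'
  have hlt : finrank F V' < finrank F (⊤ : Submodule F V) := by
    rw [finrank_top, hdim, hfin']
    omega
  obtain ⟨W, -, hWnd, e, he⟩ := hL1 B' hS' hnd' hlt
  have hc : IsCompl W (B.orthogonal W) := Cfsg.Agent.Lib.Helper98.Os.isCompl_orth hR W hWnd
  -- the transported operator on `W`
  set g : W →ₗ[F] W := (e.symm : V' →ₗ[F] W) ∘ₗ y' ∘ₗ (e : W →ₗ[F] V') with hg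
  have hgapp : ∀ w : W, e (g w) = y' (e w) := by
    intro w
    rw [hg]
    simp
  have hgpow : ∀ (j : ℕ) (w : W), e ((g ^ j) w) = (y' ^ j) (e w) := by
    intro j
    induction j with
    | zero => intro w; simp
    | succ j ih =>
      intro w
      rw [pow_succ', pow_succ', Module.End.mul_apply, Module.End.mul_apply, hgapp, ih]
  obtain ⟨y, hyW, hyW'⟩ := ext_props hc g
  have hdec : ∀ v : V, ∃ w : W, ∃ w' : B.orthogonal W, v = (w : V) + (w' : V) := by
    intro v
    have hv : v ∈ W ⊔ B.orthogonal W := by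
      rw [hc.sup_eq_top]
      trivial
    obtain ⟨a, ha, b, hb, hab⟩ := Submodule.mem_sup.mp hv
    exact ⟨⟨a, ha⟩, ⟨b, hb⟩, hab.symm⟩
  have hort : ∀ (w : W) (w' : B.orthogonal W), B (w : V) (w' : V) = 0 := by
    intro w w'
    exact LinearMap.BilinForm.mem_orthogonal_iff.mp w'.2 w w.2
  have hort' : ∀ (w : W) (w' : B.orthogonal W), B (w' : V) (w : V) = 0 := by
    intro w w'
    rw [hS]
    exact hort w w'
  have hgiso : ∀ w₁ w₂ : W, B (g w₁ : V) (g w₂ : V) = B (w₁ : V) (w₂ : V) := by
    intro w₁ w₂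
    rw [← he, hgapp, hgapp, hiso', he]
  have hypow : ∀ (j : ℕ), (∀ w : W, (y ^ j) (w : V) = ((g ^ j) w : V)) ∧
      (∀ w' : B.orthogonal W, (y ^ j) (w' : V) = (w' : V)) := by
    intro j
    induction j with
    | zero => exact ⟨fun w => by simp, fun w' => by simp⟩
    | succ j ih =>
      refine ⟨fun w => ?_, fun w' => ?_⟩
      · rw [pow_succ', pow_succ', Module.End.mul_apply, Module.End.mul_apply, ih.1, hyW]
      · rw [pow_succ', Module.End.mul_apply, ih.2, hyW']
  refine ⟨y, ?_, ?_, ?_, ?_⟩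
  · -- isometry
    intro u v
    obtain ⟨w₁, w₁', rfl⟩ := hdec u
    obtain ⟨w₂, w₂', rfl⟩ := hdec v
    have e1 : y ((w₁ : V) + (w₁' : V)) = (g w₁ : V) + (w₁' : V) := by
      rw [map_add, hyW, hyW']
    have e2 : y ((w₂ : V) + (w₂' : V)) = (g w₂ : V) + (w₂' : V) := by
      rw [map_add, hyW, hyW']
    rw [e1, e2]
    simp only [map_add, LinearMap.add_apply]
    rw [hgiso, hort (g w₁) w₂', hort' (g w₂) w₁', hort w₁ w₂', hort' w₂ w₁']
  · -- order
    apply LinearMap.ext
    intro v
    obtain ⟨w, w', rfl⟩ := hdec v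
    have h1 := hgpow r w
    rw [hy', Module.End.one_apply] at h1
    have h2' : (g ^ r) w = w := e.injective h1
    rw [map_add, (hypow r).1, (hypow r).2, Module.End.one_apply, h2']
  · -- not the identity
    intro h1
    apply hne'
    apply LinearMap.ext
    intro v'
    have h2' := hyW (e.symm v')
    rw [h1, Module.End.one_apply] at h2'
    have h3 : g (e.symm v') = e.symm v' := Subtype.ext h2'.symm
    have h4 := hgapp (e.symm v')
    rw [h3, LinearEquiv.apply_symm_apply] at h4
    rw [Module.End.one_apply]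
    exact h4.symm
  · -- the fixed space is the orthogonal complement of `W`
    have hV0eq : V0 y = B.orthogonal W := by
      apply le_antisymm
      · intro v hv
        rw [mem_V0] at hv
        obtain ⟨w, w', rfl⟩ := hdec v
        rw [map_add, hyW, hyW'] at hv
        have h1 : (g w : V) = (w : V) := add_right_cancel hv
        have h3 : g w = w := Subtype.ext h1
        have h4 := hgapp w
        rw [h3] at h4
        have h5 : e w ∈ V0 y' := by
          rw [mem_V0]
          exact h4.symm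
        have h6 : V0 y' = ⊥ := Submodule.finrank_eq_zero.mp hV0'
        rw [h6, Submodule.mem_bot] at h5
        have h7 : w = 0 := by
          apply e.injective
          rw [h5, map_zero]
        rw [h7, Submodule.coe_zero, zero_add]
        exact w'.2
      · intro v hv
        rw [mem_V0]
        exact hyW' ⟨v, hv⟩
    rw [hV0eq]
    have h1 := Submodule.finrank_add_eq_of_isCompl hc
    have h2' : finrank F W = finrank F V' := e.finrank_eq
    omega

end Cfsg.Agent.Lib.Helper04.OPb
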