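import Mathlib
import Cfsg.Prelude.Def_GeometricClasses
import Cfsg.Agent.Lib.Helper19.OEvenType
import Cfsg.Agent.Lib.Helper50.IsometryDisc

set_option autoImplicit false

/-! # Row S5847, keystone K-OPlus10-X7 (584702, architect helper43): `pair_isometric_iff`. -/

namespace Cfsg.Agent.Lib.Helper04.OPlus10

open Module QuadraticMap Cfsg Cfsg.Geo Cfsg.Agent.Lib.Helper50 Cfsg.Agent.Lib.Helper19.OEvenType

variable {F : Type*} [Field F] [Fintype F] {n : ℕ}

omit [Fintype F] in
/-- Gram determinant of a 2-piece orthogonal decomposition in an adapted basis. -/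
theorem exists_basis_gram_two {k : ℕ} (Q : (Fin n → F) → F) (D : Fin 2 → Submodule F (Fin n → F))
    (hD : IsNondegenerateMDecomposition (QuadraticMap.polar Q) k D)
    (v : ∀ i : Fin 2, Basis (Fin k) F (D i)) :
    ∃ b : Basis (Fin k × Fin 2) F (Fin n → F),
      (Matrix.of fun i j => polar Q (b i) (b j)).det =
        (Matrix.of fun a c => polar Q ((v 0 a : D 0) : Fin n → F) ((v 0 c : D 0) : Fin n → F)).det *
        (Matrix.of fun a c => polar Q ((v 1 a : D 1) : Fin n → F) ((v 1 c : D 1) : Fin n → F)).det := by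
  classical
  have hdec := hD.decomp
  have hint : DirectSum.IsInternal D :=
    DirectSum.isInternal_submodule_of_iSupIndep_of_iSup_eq_top hdec.indep hdec.iSup_eq_top
  let B : Basis (Σ _ : Fin 2, Fin k) F (Fin n → F) := hint.collectedBasis v
  let eq : (Σ _ : Fin 2, Fin k) ≃ Fin k × Fin 2 :=
    (Equiv.sigmaEquivProd (Fin 2) (Fin k)).trans (Equiv.prodComm _ _)
  let b : Basis (Fin k × Fin 2) F (Fin n → F) := B.reindex eq
  have hb : ∀ (a : Fin k) (i : Fin 2), b (a, i) = ((v i a : D i) : Fin n → F) := by
    intro a i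
    show (B.reindex eq) (a, i) = _
    rw [Basis.reindex_apply]
    show B ⟨i, a⟩ = _
    rw [show B = hint.collectedBasis v from rfl, DirectSum.IsInternal.collectedBasis_coe]
  let G : Fin 2 → Matrix (Fin k) (Fin k) F := fun i =>
    Matrix.of fun a c => polar Q ((v i a : D i) : Fin n → F) ((v i c : D i) : Fin n → F)
  refine ⟨b, ?_⟩
  have hG : (Matrix.of fun i j => polar Q (b i) (b j)) = Matrix.blockDiagonal G := by
    ext ⟨a, i⟩ ⟨c, j⟩
    rw [Matrix.of_apply, hb, hb, Matrix.blockDiagonal_apply]
    by_cases hij : i = j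
    · subst hij
      rw [if_pos rfl]
      rfl
    · rw [if_neg hij]
      exact hD.orthogonal i j hij _ (v i a).2 _ (v j c).2
  rw [hG, Matrix.det_blockDiagonal, Fin.prod_univ_two]

/-- **K-OPlus10-X7** (584702). -/
theorem pair_isometric_iff (h2 : (2 : F) ≠ 0) {M : ℕ} (hn : n = 2 * M) (hM : Odd M) (Q : (Fin n → F) → F)
    (hQ : IsNondegenerateQuadraticForm Q) (hplus : IsPlusTypeOn Q ⊤)
    (D : Fin 2 → Submodule F (Fin n → F)) (hD : IsNondegenerateMDecomposition (QuadraticMap.polar Q) M D) :
    AreIsometricFor Q (D 0) (D 1) ↔ Fintype.card F % 4 = 1 := by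
  classical
  have hodd : Fintype.card F % 2 = 1 := by
    apply FiniteField.odd_card_of_char_ne_two
    intro h
    apply h2
    have hc : CharP F 2 := by rw [← h]; exact ringChar.charP F
    have := CharP.cast_eq_zero F 2
    simpa using this
  constructor
  · intro hiso
    have hOD : IsOrthogonalMDecomposition Q M D := by
      refine ⟨hD, ?_⟩
      have h00 : ∀ i, AreIsometricFor Q (D i) (D i) :=
        fun i => ⟨LinearEquiv.refl F _, fun _ => rfl⟩
      have h10 : AreIsometricFor Q (D 1) (D 0) := by
        obtain ⟨e, he⟩ := hiso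
        refine ⟨e.symm, fun w => ?_⟩
        have := he (e.symm w)
        rw [LinearEquiv.apply_symm_apply] at this
        exact this.symm
      intro i j
      fin_cases i <;> fin_cases j
      · exact h00 0
      · exact hiso
      · exact h10
      · exact h00 1
    have := (isPlusTypeOn_top_iff_of_even_decomposition_of_odd Q hQ h2 hn hM D hOD even_two).mp hplus
    omega
  · intro hq
    have hdec := hD.decomp
    let v : ∀ i : Fin 2, Basis (Fin M) F (D i) :=
      fun i => Module.finBasisOfFinrankEq F (D i) (hdec.finrank_eq i)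
    obtain ⟨b, hb⟩ := exists_basis_gram_two Q D hD v
    have hcrit := (isPlusTypeOn_top_iff_gram Q hQ h2 hn b).mp hplus
    have hsqM : IsSquare ((-1 : F) ^ M) := (isSquare_neg_one_pow_iff M).mpr (Or.inr (by omega))
    have hsq := hcrit.mpr hsqM
    rw [hb] at hsq
    let L : ∀ i : Fin 2, (Fin M → F) →ₗ[F] (Fin n → F) := fun i =>
      (D i).subtype ∘ₗ ((v i).equivFun.symm : (Fin M → F) →ₗ[F] D i)
    let Qi : ∀ i : Fin 2, QuadraticForm F (Fin M → F) := fun i => (geoForm Q hQ).comp (L i)
    have hQi : ∀ i (x : Fin M → F), Qi i x = Q (((v i).equivFun.symm x : D i) : Fin n → F) :=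
      fun i x => rfl
    have hLapp : ∀ i (x : Fin M → F), L i x = (((v i).equivFun.symm x : D i) : Fin n → F) :=
      fun i x => rfl
    have hpol : ∀ i (x y : Fin M → F), polar (⇑(Qi i)) x y = polar Q (L i x) (L i y) := by
      intro i x y
      unfold polar
      rw [hQi, hQi, hQi, hLapp, hLapp, map_add, Submodule.coe_add]
    have hLsingle : ∀ i (a : Fin M), L i (Pi.single a 1) = ((v i a : D i) : Fin n → F) := by
      intro i a
      rw [hLapp]
      congr 1
      rw [Basis.equivFun_symm_apply]
      simp [Pi.single_apply]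
    have hdisc : ∀ i, disc (Qi i) = (Matrix.of fun a c =>
        polar Q ((v i a : D i) : Fin n → F) ((v i c : D i) : Fin n → F)).det := by
      intro i
      unfold disc
      congr 1
      ext a c
      rw [Matrix.of_apply, Matrix.of_apply, hpol, hLsingle, hLsingle]
    have hQND : ∀ i, QND (Qi i) := by
      intro i x hx
      by_contra hx0
      have hLx : L i x ∈ D i := ((v i).equivFun.symm x).2
      have hLx0 : L i x ≠ 0 := by
        intro h
        apply hx0
        have h' : ((v i).equivFun.symm x : D i) = 0 := Subtype.ext h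
        exact (LinearEquiv.map_eq_zero_iff _).mp h'
      obtain ⟨-, y, hy, hne⟩ := hD.nondegenerate i _ hLx hLx0
      apply hne
      have := hx ((v i).equivFun ⟨y, hy⟩)
      rw [hpol] at this
      have e : L i ((v i).equivFun ⟨y, hy⟩) = y := by
        rw [hLapp, LinearEquiv.symm_apply_apply]
      rw [e] at this
      exact this
    rw [← hdisc 0, ← hdisc 1] at hsq
    obtain ⟨g, hg⟩ := isometric_of_disc h2 (Qi 0) (Qi 1) (hQND 0) (hQND 1) hsq
    refine ⟨(v 0).equivFun ≪≫ₗ g ≪≫ₗ (v 1).equivFun.symm, fun w => ?_⟩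
    have := hg ((v 0).equivFun w)
    rw [hQi, hQi, LinearEquiv.symm_apply_apply] at this
    exact this

end Cfsg.Agent.Lib.Helper04.OPlus10
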