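import Mathlib

/-!
# KEYSTONE 597316 K-OTs-O16a `arith_fix_plus` (architect helper99, S5973/S5987 pack): pure arithmetic
-/

set_option autoImplicit false

namespace Cfsg.Agent.Lib.Helper04.OTs

/-- O16a (597316). -/
theorem arith_fix_plus (d m i t : ℕ) (hi : 1 ≤ i) (ht : 1 ≤ t) (hm : 1 ≤ m) (hmd : m < d)
    (hcrit : (Odd i ∧ i ≤ m ∧ 2 * (m % i) ≤ (2 * d) % (2 * i)) ∨
      (Even i ∧ i ≤ m ∧ t + 2 * (m / i) ≤ (2 * d) / i ∧
        ((2 * (m % i) ≤ i ∧ (2 * d) % i = 0 ∧ Odd ((2 * d) / i) ∧ t + 2 * (m / i) < (2 * d) / i) ∨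
         (2 * (m % i) ≤ (2 * d) % i ∧ Even ((2 * d) / i)) ∨
         (2 * (m % i) < (2 * d) % i ∧ Odd ((2 * d) / i))))) :
    (Odd i → ∀ j, 1 ≤ j → 2 * (i * j) ≤ 2 * d →
      ∃ b s, m = i * b + s ∧ b ≤ j ∧ 2 * s ≤ 2 * d - 2 * (i * j)) ∧
    (Even i → ∀ j, 1 ≤ j → i * j ≤ 2 * d → (Odd j → i * j + 2 ≤ 2 * d) →
      ∃ b s, m = i * b + s ∧ (b = 0 ∨ 2 * b + t ≤ j + 1) ∧ 2 * s ≤ 2 * d - i * j ∧
        (Odd j → 2 * s + 2 ≤ 2 * d - i * j)) := by
  constructor
  · intro hodd j hj hjd
    rcases hcrit with ⟨-, him, hc⟩ | ⟨hev, -⟩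
    swap
    · exact absurd hodd (Nat.not_odd_iff_even.mpr hev)
    have e1 : i * (m / i) + m % i = m := Nat.div_add_mod m i
    have hρlt : m % i < i := Nat.mod_lt _ hi
    have e2 : 2 * i * ((2 * d) / (2 * i)) + (2 * d) % (2 * i) = 2 * d := Nat.div_add_mod (2 * d) (2 * i)
    have hRlt : (2 * d) % (2 * i) < 2 * i := Nat.mod_lt _ (by omega)
    generalize m / i = μ at *
    generalize m % i = ρ at *
    generalize (2 * d) / (2 * i) = Q at *
    generalize (2 * d) % (2 * i) = R at *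
    by_cases hjμ : j ≤ μ
    · have h1 : i * j ≤ i * μ := Nat.mul_le_mul_left i hjμ
      refine ⟨j, m - i * j, by omega, le_rfl, by omega⟩
    · have hjQ : j ≤ Q := by
        by_contra h
        push Not at h
        have h2 : 2 * i * (Q + 1) ≤ 2 * i * j := Nat.mul_le_mul_left _ h
        nlinarith
      have h3 : 2 * i * j ≤ 2 * i * Q := Nat.mul_le_mul_left _ hjQ
      have h4 : 2 * (i * j) = 2 * i * j := by ring
      refine ⟨μ, ρ, e1.symm, by omega, by omega⟩
  · intro hev j hj hjd hjodd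
    rcases hcrit with ⟨hodd, -⟩ | ⟨-, him, htD, hc⟩
    · exact absurd hodd (Nat.not_odd_iff_even.mpr hev)
    obtain ⟨i', hi'⟩ := hev
    have e1 : i * (m / i) + m % i = m := Nat.div_add_mod m i
    have hρlt : m % i < i := Nat.mod_lt _ hi
    have e2 : i * ((2 * d) / i) + (2 * d) % i = 2 * d := Nat.div_add_mod (2 * d) i
    have hRlt : (2 * d) % i < i := Nat.mod_lt _ hi
    simp only [Nat.odd_iff, Nat.even_iff] at hc hjodd ⊢
    generalize m / i = μ at *
    generalize m % i = ρ at *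
    generalize (2 * d) / i = D at *
    generalize (2 * d) % i = R at *
    have hi2 : 2 ≤ i := by omega
    have hRev : R % 2 = 0 := by
      have : i * D = 2 * (i' * D) := by rw [hi']; ring
      omega
    have hjD : j ≤ D := by
      by_contra h
      push Not at h
      have h2 : i * (D + 1) ≤ i * j := Nat.mul_le_mul_left _ h
      nlinarith
    obtain ⟨b, hb1, hb2, hb3⟩ : ∃ b, b ≤ μ ∧ b ≤ (j + 1 - t) / 2 ∧ (b = μ ∨ b = (j + 1 - t) / 2) :=
      ⟨min μ ((j + 1 - t) / 2), min_le_left _ _, min_le_right _ _, by omega⟩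
    have hib : i * b ≤ i * μ := Nat.mul_le_mul_left i hb1
    have F1 : i * j ≤ i * D := Nat.mul_le_mul_left i hjD
    have F0 : D ≤ j → i * D ≤ i * j := fun h => Nat.mul_le_mul_left i h
    have F2 : j + 1 ≤ D → i * j + i ≤ i * D := fun h => by
      have := Nat.mul_le_mul_left i h
      linarith
    have F3 : j + 2 ≤ D → i * j + 2 * i ≤ i * D := fun h => by
      have := Nat.mul_le_mul_left i h
      linarith
    have G0 : 2 * μ + j ≤ D + 2 * b → 2 * (i * μ) + i * j ≤ i * D + 2 * (i * b) := fun h => by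
      have := Nat.mul_le_mul_left i h
      linarith
    have G1 : 2 * μ + j + 1 ≤ D + 2 * b → 2 * (i * μ) + i * j + i ≤ i * D + 2 * (i * b) :=
      fun h => by
        have := Nat.mul_le_mul_left i h
        linarith
    have G2 : 2 * μ + j + 2 ≤ D + 2 * b → 2 * (i * μ) + i * j + 2 * i ≤ i * D + 2 * (i * b) :=
      fun h => by
        have := Nat.mul_le_mul_left i h
        linarith
    refine ⟨b, m - i * b, by omega, by omega, ?_, ?_⟩
    · rcases hb3 with hb | hb
      · subst hb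
        rcases hc with hc | hc | hc <;> omega
      · rcases hc with hc | hc | hc <;> omega
    · intro hjo
      have hjodd' := hjodd hjo
      rcases hb3 with hb | hb
      · subst hb
        rcases hc with hc | hc | hc <;> omega
      · rcases hc with hc | hc | hc <;> omega

end Cfsg.Agent.Lib.Helper04.OTs
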