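import Cfsg.Agent.Lib.Helper38.OhP.Defs
import Cfsg.Agent.Lib.Helper26.OhC1
import Cfsg.Agent.Lib.Helper96.OhC0
import Cfsg.Agent.Lib.Helper98.Sy3

/-!
# KEYSTONE 597403 K-OhP-C1 `exists_min_nonDeg_q` (architect helper38, S5974 pack)

A bridge: for `2 ≠ 0` this is `Helper26.Oh.exists_min_nonDeg_symm` (with `Helper96.Oh.even_finrank_of_le_V1`),
for `2 = 0` the polar form is alternating and `Helper98.Sy.exists_min_nonDeg` applies.
-/

set_option autoImplicit false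

namespace Cfsg.Agent.Lib.Helper04.OhP

open Module Cfsg.Agent.Lib.Helper98.Elus Cfsg.Agent.Lib.Helper98.Sy Cfsg.Agent.Lib.Helper38.OhP

universe u
variable {F : Type u} [Field F] {V : Type u} [AddCommGroup V] [Module F V]

/-- LEAF C1 (597403). -/
theorem exists_min_nonDeg_q [Fintype F] [FiniteDimensional F V] (Q : QuadraticForm F V)
    (hV : NonDeg (pB Q) ⊤) (p f : ℕ) [Fact p.Prime] (hF : Fintype.card F = p ^ f)
    (r : ℕ) [Fact r.Prime] (hpr : p ≠ r) (hr2 : r ≠ 2) (hrF : (r : F) ≠ 0) (y : V →ₗ[F] V)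
    (hy : y ^ r = 1) (hiso : QIso Q y)
    (U : Submodule F V) (hUV1 : U ≤ V1 r y) (hU : Inv y U) (hUnd : NonDeg (pB Q) U) (hUne : U ≠ ⊥) :
    ∃ W : Submodule F V, W ≤ U ∧ Inv y W ∧ NonDeg (pB Q) W ∧
      finrank F W = cOf (orderOf ((Fintype.card F : ℕ) : ZMod r)) := by
  by_cases h2 : (2 : F) = 0
  · have hA : (pB Q).IsAlt := fun a => by rw [pB_self, h2, zero_mul]
    exact Cfsg.Agent.Lib.Helper98.Sy.exists_min_nonDeg hA hV p f hF r hpr hr2 hrF y hy hiso.iso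
      U hUV1 hU hUnd hUne
  · exact Cfsg.Agent.Lib.Helper26.Oh.exists_min_nonDeg_symm h2 (pB Q) (pB_symm Q) hV p f hF r hpr
      hr2 hrF y hy hiso.iso
      (fun M hM1 hM hMnd => Cfsg.Agent.Lib.Helper96.Oh.even_finrank_of_le_V1 h2 (pB Q) (pB_symm Q)
        r hr2 hrF y hy hiso.iso M hM1 hM hMnd)
      U hUV1 hU hUnd hUne

end Cfsg.Agent.Lib.Helper04.OhP
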