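import Cfsg.Agent.Lib.Helper38.OhP.Defs
import Cfsg.Agent.Lib.Helper50.MinusLang
import Cfsg.Agent.Lib.Helper50.TypeCriteria
import Cfsg.Agent.Lib.Helper50.PlusForm
import Cfsg.Agent.Lib.Helper42.S2717V5

/-!
# KEYSTONE 597416 K-OhP-D2 `exists_space_of_type` (architect helper38, S5974 pack)

A quadratic space of given even dimension `k ≥ 2` and given type over a finite field (any characteristic):
the standard hyperbolic form `QPlus (k/2) F`, resp. the standard elliptic form `QMinus (k/2 - 1) F 1 ζ`.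
-/

set_option autoImplicit false

namespace Cfsg.Agent.Lib.Helper04.OhP

open Module Cfsg.Agent.Lib.Helper98.Elus Cfsg.Agent.Lib.Helper98.Sy Cfsg.Agent.Lib.Helper38.OhP

universe u
variable {F : Type u} [Field F] {V : Type u} [AddCommGroup V] [Module F V]

theorem nonDeg_top_of_nondegenerate (Q : QuadraticForm F V)
    (h : (QuadraticMap.polarBilin Q).Nondegenerate) : NonDeg (pB Q) ⊤ := by
  intro u _ hu
  exact h.1 u (fun w => hu w Submodule.mem_top)

/-- the standard hyperbolic form is of plus type -/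
theorem plusQ_QPlus (e : ℕ) : PlusQ (Cfsg.Agent.Lib.Helper50.QPlus e F) ⊤ := by
  have hsurj : Function.Surjective (LinearMap.funLeft F F (Sum.inr : Fin e → Fin e ⊕ Fin e)) :=
    LinearMap.funLeft_surjective_of_injective F F _ Sum.inr_injective
  refine ⟨LinearMap.ker (LinearMap.funLeft F F (Sum.inr : Fin e → Fin e ⊕ Fin e)), le_top, ?_, ?_⟩
  · intro v hv
    rw [LinearMap.mem_ker] at hv
    rw [Cfsg.Agent.Lib.Helper50.QPlus_apply]
    refine Finset.sum_eq_zero (fun i _ => ?_)
    have := congrFun hv i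
    rw [LinearMap.funLeft_apply] at this
    rw [this]
    simp
  · have h1 := LinearMap.finrank_range_add_finrank_ker
      (LinearMap.funLeft F F (Sum.inr : Fin e → Fin e ⊕ Fin e))
    rw [LinearMap.range_eq_top.mpr hsurj, finrank_top, Module.finrank_fintype_fun_eq_card,
      Module.finrank_fintype_fun_eq_card, Fintype.card_sum, Fintype.card_fin] at h1
    rw [finrank_top, Module.finrank_fintype_fun_eq_card, Fintype.card_sum, Fintype.card_fin]
    omega

/-- LEAF D2 (597416). -/
theorem exists_space_of_type [Fintype F] (k : ℕ) (hk : Even k) (hk2 : 2 ≤ k) (t : Prop) :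
    ∃ (V : Type u) (_ : AddCommGroup V) (_ : Module F V) (_ : FiniteDimensional F V)
      (Q : QuadraticForm F V), NonDeg (pB Q) ⊤ ∧ finrank F V = k ∧ (PlusQ Q ⊤ ↔ t) := by
  obtain ⟨e, he⟩ := hk
  by_cases ht : t
  · refine ⟨Fin e ⊕ Fin e → F, inferInstance, inferInstance, inferInstance,
      Cfsg.Agent.Lib.Helper50.QPlus e F, ?_, ?_, ?_⟩
    · exact nonDeg_top_of_nondegenerate _ Cfsg.Agent.Lib.Helper50.QPlus_nondegenerate
    · rw [Module.finrank_fintype_fun_eq_card, Fintype.card_sum, Fintype.card_fin]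
      omega
    · exact iff_of_true (plusQ_QPlus e) ht
  · obtain ⟨m, rfl⟩ : ∃ m, e = m + 1 := ⟨e - 1, by omega⟩
    obtain ⟨ζ, hζ⟩ := Cfsg.Agent.Lib.Helper42.S2717K.v5_exists_irred_quadratic (K := F)
    have hab : ∀ z₁ z₂ : F, z₁ ^ 2 + 1 * z₁ * z₂ + ζ * z₂ ^ 2 = 0 → z₁ = 0 ∧ z₂ = 0 := by
      intro z₁ z₂ h
      by_cases hz : z₂ = 0
      · rw [hz] at h
        have : z₁ ^ 2 = 0 := by linear_combination h
        exact ⟨pow_eq_zero_iff (two_ne_zero) |>.mp this, hz⟩
      · exfalso
        apply hζ (z₁ / z₂)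
        field_simp
        linear_combination h
    have hnd := Cfsg.Agent.Lib.Helper50.QMinus_nondeg_of_anis m (1 : F) ζ hab
    have hfin : finrank F ((Fin m ⊕ Fin m) ⊕ Fin 2 → F) = 2 * (m + 1) := by
      rw [Module.finrank_fintype_fun_eq_card, Fintype.card_sum, Fintype.card_sum, Fintype.card_fin,
        Fintype.card_fin]
      omega
    refine ⟨(Fin m ⊕ Fin m) ⊕ Fin 2 → F, inferInstance, inferInstance, inferInstance,
      Cfsg.Agent.Lib.Helper50.QMinus m F 1 ζ, ?_, ?_, ?_⟩
    · exact nonDeg_top_of_nondegenerate _ hnd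
    · rw [hfin]
      omega
    · refine iff_of_false ?_ ht
      rintro ⟨U, -, hU, hUd⟩
      rw [finrank_top, hfin] at hUd
      have hp : Cfsg.Agent.Lib.Helper50.IsPlusType (Cfsg.Agent.Lib.Helper50.QMinus m F 1 ζ) (m + 1) :=
        Cfsg.Agent.Lib.Helper50.plusType_of_totally_singular (m + 1) _
          (Cfsg.Agent.Lib.Helper50.QND_of_nondegenerate _ hnd) hfin U (by omega) hU
      exact Cfsg.Agent.Lib.Helper50.not_plus_of_anis (1 : F) ζ _ m (LinearEquiv.refl F _)
        (fun v => rfl) hab hp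

end Cfsg.Agent.Lib.Helper04.OhP
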