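import Cfsg.Agent.Lib.Helper08.OsElA
import Cfsg.Agent.Lib.Helper27.OsElH
import Cfsg.Agent.Lib.Helper23.OsElG
import Cfsg.Agent.Lib.Helper98.Ti9
import Cfsg.Agent.Lib.Helper98.Sy8
import Cfsg.Agent.Lib.Helper49.PrimeOrderSp
import Cfsg.Agent.Lib.Helper49.PrimeOrderSpCount
import Cfsg.Agent.S2568

/-!
# K-OsEl-J (keystone 597210, helper8's S5972 pack): model 2
(`i` even, `o` pairwise different irreducible blocks, fixed part of dimension `e`).
-/

set_option autoImplicit false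
set_option maxHeartbeats 1600000

namespace Cfsg.Agent.Lib.Helper04.OsEl

open Module Cfsg.Agent.Lib.Helper98.Elus Cfsg.Agent.Lib.Helper98.Sy
open Cfsg.Agent.Lib.Helper08.OsEl

universe u
variable {F : Type u} [Field F]

theorem exists_model2 [Fintype F] (p f : ℕ) [Fact p.Prime] [CharP F p]
    (hF : Fintype.card F = p ^ f) (r : ℕ) [Fact r.Prime] (hpr : p ≠ r) (hr2 : r ≠ 2)
    (hrF : (r : F) ≠ 0) (heven : Even (orderOf ((Fintype.card F : ℕ) : ZMod r))) (o e : ℕ)
    (ho1 : 1 ≤ o) (ho : o ≤ (r - 1) / orderOf ((Fintype.card F : ℕ) : ZMod r)) :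
    ∃ (V : Type u) (_ : AddCommGroup V) (_ : Module F V) (_ : FiniteDimensional F V)
      (B : LinearMap.BilinForm F V) (y : V →ₗ[F] V),
      (∀ u v, B u v = B v u) ∧ NonDeg B ⊤ ∧ Iso B y ∧ y ^ r = 1 ∧ y ≠ 1 ∧
      finrank F V = orderOf ((Fintype.card F : ℕ) : ZMod r) * o + e ∧
      ∀ W : Submodule F V, Inv y W → Ort B W W → 2 * finrank F W ≤ e := by
  classical
  have hr : r.Prime := Fact.out
  have hrp : r ≠ p := Ne.symm hpr
  have hrodd : Odd r := hr.odd_of_ne_two hr2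
  set i := orderOf ((Fintype.card F : ℕ) : ZMod r) with hi
  have hi' : i = orderOf ((p ^ f : ℕ) : ZMod r) := by rw [hi, hF]
  have D := Cfsg.Agent.S2568.factorData hF r i hrp hi'
  have hi1 : 1 ≤ i := D.hi
  set PP := (UniqueFactorizationMonoid.normalizedFactors
    (Polynomial.cyclotomic r F)).toFinset with hPP
  have hmon : ∀ P ∈ PP, P.Monic := by
    intro P hP
    have hP1 := Multiset.mem_toFinset.mp hP
    rw [← UniqueFactorizationMonoid.normalize_normalized_factor P hP1]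
    exact Polynomial.monic_normalize
      (UniqueFactorizationMonoid.irreducible_of_normalized_factor P hP1).ne_zero
  -- the number of factors
  have hcardPP : i * PP.card = r - 1 := by
    have h1 := congrArg Polynomial.natDegree D.prod
    have e1 : (Polynomial.X - 1 : Polynomial F).natDegree = 1 := by
      rw [← Polynomial.C_1]; exact Polynomial.natDegree_X_sub_C 1
    have e2 : (Polynomial.X ^ r - 1 : Polynomial F).natDegree = r := by
      rw [← Polynomial.C_1]; exact Polynomial.natDegree_X_pow_sub_C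
    have e3 : (Polynomial.X - 1 : Polynomial F).Monic := by
      rw [← Polynomial.C_1]; exact Polynomial.monic_X_sub_C 1
    rw [e3.natDegree_mul (Polynomial.monic_prod_of_monic _ _ hmon), e1, e2,
      Polynomial.natDegree_prod_of_monic _ _ hmon,
      Finset.sum_congr rfl (fun P hP => D.deg P hP), Finset.sum_const, smul_eq_mul] at h1
    rw [mul_comm]
    omega
  have ht : (r - 1) / i = PP.card := by
    rw [← hcardPP, Nat.mul_div_cancel_left _ (by omega)]
  rw [ht] at ho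
  obtain ⟨l, hl⟩ := heven
  set d := l * o with hd
  have hd2 : 2 * d = i * o := by rw [hd, hl]; ring
  obtain ⟨S, -, hScard⟩ := Finset.exists_subset_card_eq
    (s := (Finset.univ : Finset PP)) (n := o)
    (by rw [Finset.card_univ, Fintype.card_coe]; exact ho)
  let a : PP → ℕ := fun P => if P ∈ S then 1 else 0
  have ha1 : ∀ P, a P ≤ 1 := by
    intro P
    show (if P ∈ S then 1 else 0) ≤ 1
    split_ifs <;> omega
  have hsuma : ∑ P, a P = o := by
    show ∑ P, (if P ∈ S then 1 else 0) = o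
    rw [Finset.sum_boole, Finset.filter_mem_eq_inter, Finset.univ_inter, hScard]
    rfl
  have hale : i * ∑ P, a P ≤ 2 * d := by
    rw [hsuma, hd2]
  have hPrev : ∀ P : PP, (P : Polynomial F).reverse = (P : Polynomial F) := by
    intro P
    haveI : Fact (Irreducible P.1) := ⟨D.irr P.1 P.2⟩
    apply Cfsg.Agent.Lib.Helper49.reverse_eq_self_of_starP_eq (hmon P.1 P.2)
      (Cfsg.Agent.Lib.Helper49.starP_eq_self_of_even (hmon P.1 P.2) hi (by omega) ⟨l, hl⟩
        (D.dvd_of_mem P.2)) hr.pos (D.dvd_of_mem P.2) (D.X_sub_one_not_dvd P.2)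
  have hpal : ((Polynomial.X - 1 : Polynomial F) ^ (2 * d - i * ∑ P, a P) *
      ∏ P : PP, (P : Polynomial F) ^ a P).reverse =
      (Polynomial.X - 1 : Polynomial F) ^ (2 * d - i * ∑ P, a P) *
      ∏ P : PP, (P : Polynomial F) ^ a P := by
    apply Cfsg.Agent.Lib.Helper49.palin_mul
    · apply Cfsg.Agent.Lib.Helper49.palin_X_sub_one_even
      rw [hsuma, hd2, Nat.sub_self]
      exact ⟨0, rfl⟩
    · apply Cfsg.Agent.Lib.Helper49.palin_prod
      intro P _
      exact Cfsg.Agent.Lib.Helper49.palin_pow (hPrev P) _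
  obtain ⟨x, hx, hκ⟩ := D.exists_sp_realize p hmon hrF d a hale hpal
  set f0 : (Fin d ⊕ Fin d → F) →ₗ[F] (Fin d ⊕ Fin d → F) :=
    Matrix.toLin' (x : Matrix (Fin d ⊕ Fin d) (Fin d ⊕ Fin d) F) with hf0
  have hfin : Module.finrank F (Fin d ⊕ Fin d → F) = 2 * d := by
    rw [Module.finrank_fintype_fun_eq_card, Fintype.card_sum, Fintype.card_fin]
    ring
  have hA := Cfsg.Agent.Lib.Helper98.Sy.stdForm_alt (F := F) d
  have hV := Cfsg.Agent.Lib.Helper98.Sy.stdForm_nonDeg (F := F) d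
  have hiso0 : Iso (stdForm d) f0 := iso_of_mem d _ x.2
  have hxr : ((x ^ r : ↥(Matrix.symplecticGroup (Fin d) F)) :
      Matrix (Fin d ⊕ Fin d) (Fin d ⊕ Fin d) F) = 1 := by
    rw [hx]; rfl
  have hf : f0 ^ r = 1 := by
    rw [hf0, ← Matrix.toLin'_pow, ← SubmonoidClass.coe_pow, hxr, Matrix.toLin'_one]
    rfl
  obtain ⟨hV1d, hbound⟩ := Cfsg.Agent.Lib.Helper98.Ti.finrank_le_of_ti_mult_free hA hV p f hF r
    hpr hr2 hrF f0 hf hiso0 ⟨l, hl⟩ PP D a ha1 hκ
  rw [← hi, hsuma, ← hd2] at hV1d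
  have hs := finrank_V0_add_V1 r hrF f0 hf
  rw [hfin, hV1d] at hs
  have hV0 : finrank F (V0 f0) = 0 := by omega
  have hV1top : V1 r f0 = ⊤ := by
    apply Submodule.eq_top_of_finrank_eq
    rw [hV1d, hfin]
  have hgs : ∀ v, gsum r f0 v = 0 := by
    intro v
    rw [← mem_V1, hV1top]
    trivial
  have hinvtop : Inv f0 (⊤ : Submodule F (Fin d ⊕ Fin d → F)) := fun _ _ => Submodule.mem_top
  have hleV1 : ∀ W : Submodule F (Fin d ⊕ Fin d → F), W ≤ V1 r f0 := by
    intro W
    rw [hV1top]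
    exact le_top
  -- the twisted (symmetric) form
  set B0 := tw (stdForm (F := F) d) r f0 with hB0
  have hB0s : ∀ u v, B0 u v = B0 v u := tw_symm _ hA r hr.pos f0 hf hiso0
  have hB0nd : NonDeg B0 ⊤ :=
    (tw_nonDeg_iff _ r hrodd hrF f0 hf ⊤ hinvtop (hleV1 ⊤)).mpr hV
  have hB0iso : Iso B0 f0 := tw_iso _ r f0 hiso0
  have hfree0 : ∀ Z : Submodule F (Fin d ⊕ Fin d → F), Inv f0 Z → Ort B0 Z Z → Z = ⊥ := by
    intro Z hZ hZo
    have h1 := (tw_ort_iff _ r hrodd hrF f0 hf Z hZ (hleV1 Z)).mp hZo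
    have h2 := hbound Z hZ h1
    rw [hV0] at h2
    apply Submodule.finrank_eq_zero.mp
    omega
  have hne : f0 ≠ 1 := by
    intro h1
    have hd1 : 1 ≤ 2 * d := by
      rw [hd2]
      exact Nat.mul_pos (by omega) (by omega)
    have : V0 f0 = ⊤ := by
      rw [eq_top_iff]
      intro v _
      rw [mem_V0, h1]
      rfl
    rw [this, finrank_top, hfin] at hV0
    omega
  obtain ⟨V', iA, iM, iFD, B', y', hS', hnd', hiso', hy', hne', hfin', hV0', hfree'⟩ :=
    Cfsg.Agent.Lib.Helper27.OsEl.exists_addfix hB0s hB0nd r hrF f0 hf hB0iso hgs e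
  refine ⟨V', iA, iM, iFD, B', y', hS', hnd', hiso', hy', hne' hne, ?_, ?_⟩
  · rw [hfin', hfin, hd2]
  · intro W hW hWo
    have := Cfsg.Agent.Lib.Helper23.OsEl.ts_le_V0_of_free hS' hnd' r hrF y' hy' hiso'
      (hfree' hfree0) W hW hWo
    rw [hV0'] at this
    exact this

end Cfsg.Agent.Lib.Helper04.OsEl
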