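import Mathlib
import Cfsg.Agent.Lib.Helper83.Decompose
import Cfsg.Agent.Lib.Helper83.Linear
import Cfsg.Agent.Lib.Helper05.CharDegree
import Cfsg.Agent.Lib.Helper05.CharSub
import Cfsg.Agent.Lib.Helper84.LinearTwist
import Cfsg.Agent.Lib.Helper05.CharOrtho
import Cfsg.Agent.Lib.Helper04.Orthonormal

/-!
# Characters of degree prime to `p`: basic lemmas
-/

set_option autoImplicit false

namespace Cfsg.Agent.Lib.Helper04

open Cfsg
open scoped ComplexConjugate

universe u

section PPrimeKerBase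

variable {G : Type u} [Group G]

/-- the degree of a character as the sum of the degrees of its constituents. -/
theorem charDegree_eq_sum_irrMult [Fintype G] [Fintype (IrrCharacter G)] {ψ : G → ℂ}
    (hψ : IsCharacter G ψ) :
    charDegree ψ = ∑ χ : IrrCharacter G,
      Cfsg.Agent.Lib.Helper83.irrMult ψ χ * charDegree (χ : G → ℂ) := by
  have h1 := Cfsg.Agent.Lib.Helper83.char_eq_sum_irrMult hψ
  have h2 := congrFun h1 1
  rw [Finset.sum_apply] at h2
  have h3 : (charDegree ψ : ℂ) =
      ((∑ χ : IrrCharacter G,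
        Cfsg.Agent.Lib.Helper83.irrMult ψ χ * charDegree (χ : G → ℂ) : ℕ) : ℂ) := by
    rw [Cfsg.Agent.Lib.Helper83.charDegree_cast hψ, h2]
    push_cast
    apply Finset.sum_congr rfl
    intro φ _
    rw [Pi.smul_apply, smul_eq_mul,
      Cfsg.Agent.Lib.Helper83.charDegree_cast
        (Cfsg.Agent.Lib.Helper83.IrrCharacter_isCharacter φ)]
  exact_mod_cast h3

/-- a character of degree prime to `p` has an irreducible constituent of degree prime to `p`. -/
theorem exists_pprime_constituent [Fintype G] (p : ℕ) {ψ : G → ℂ}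
    (hψ : IsCharacter G ψ) (hd : ¬ p ∣ charDegree ψ) :
    ∃ χ : IrrCharacter G, classInner ψ (χ : G → ℂ) ≠ 0 ∧ ¬ p ∣ charDegree (χ : G → ℂ) := by
  classical
  haveI : Fintype (IrrCharacter G) := Fintype.ofFinite _
  by_contra hcon
  push Not at hcon
  apply hd
  rw [charDegree_eq_sum_irrMult hψ]
  apply Finset.dvd_sum
  intro χ _
  by_cases h0 : Cfsg.Agent.Lib.Helper83.irrMult ψ χ = 0
  · rw [h0, zero_mul]
    exact dvd_zero _
  · apply Dvd.dvd.mul_left
    apply hcon
    rw [← Cfsg.Agent.Lib.Helper83.irrMult_cast hψ]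
    exact_mod_cast h0

/-- in a `p`-group an irreducible character of degree prime to `p` is linear. -/
theorem linear_of_pgroup_of_not_dvd [Finite G] (p : ℕ) [hp : Fact p.Prime] (hP : IsPGroup p G)
    (lam : IrrCharacter G) (hd : ¬ p ∣ charDegree (lam : G → ℂ)) : (lam : G → ℂ) 1 = 1 := by
  obtain ⟨d, hd0, hd1, hd2⟩ := Cfsg.Agent.Lib.Helper05.exists_degree_dvd lam.2
  obtain ⟨k, hk⟩ := IsPGroup.iff_card.mp hP
  rw [hk] at hd2
  obtain ⟨j, hj, rfl⟩ := (Nat.dvd_prime_pow hp.out).mp hd2
  have hcd : charDegree (lam : G → ℂ) = p ^ j := by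
    have : (charDegree (lam : G → ℂ) : ℂ) = ((p ^ j : ℕ) : ℂ) := by
      rw [Cfsg.Agent.Lib.Helper83.charDegree_cast
        (Cfsg.Agent.Lib.Helper83.IrrCharacter_isCharacter lam), hd1]
    exact_mod_cast this
  rw [hcd] at hd
  cases j with
  | zero =>
    rw [hd1]
    simp
  | succ j => exact absurd (dvd_pow_self p (Nat.succ_ne_zero j)) hd

/-- the restriction of a character to a subgroup has the same degree. -/
theorem charDegree_restrict (H : Subgroup G) (χ : G → ℂ) :
    charDegree (fun h : H => χ h) = charDegree χ := by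
  unfold charDegree
  show ⌊(χ ((1 : H) : G)).re⌋₊ = _
  rw [Subgroup.coe_one]

/-- a normal subgroup contained in the derived subgroup of a `p`-subgroup lies in the kernel of
every irreducible character of degree prime to `p`. -/
theorem kernel_of_le_commutator [Finite G] (p : ℕ) [hp : Fact p.Prime]
    (P M : Subgroup G) [hMn : M.Normal] (hP : IsPGroup p P) (hM : M ≤ ⁅P, P⁆)
    (χ : IrrCharacter G) (hd : ¬ p ∣ charDegree (χ : G → ℂ)) :
    ∀ m ∈ M, (χ : G → ℂ) m = (χ : G → ℂ) 1 := by
  classical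
  haveI : Fintype G := Fintype.ofFinite G
  haveI : Fintype P := Fintype.ofFinite P
  haveI : Fintype M := Fintype.ofFinite M
  have hχc := Cfsg.Agent.Lib.Helper83.IrrCharacter_isCharacter χ
  have hχP : IsCharacter P (fun x : P => (χ : G → ℂ) x) :=
    Cfsg.Agent.Lib.Helper83.isCharacter_restrict P hχc
  have hdP : ¬ p ∣ charDegree (fun x : P => (χ : G → ℂ) x) := by
    rw [charDegree_restrict]
    exact hd
  obtain ⟨lam, hlam, hlamd⟩ := exists_pprime_constituent p hχP hdP
  have hlam1 : (lam : P → ℂ) 1 = 1 := linear_of_pgroup_of_not_dvd p hP lam hlamd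
  have hMP : M ≤ P := hM.trans (Subgroup.commutator_le_self P)
  -- the linear constituent is trivial on `M`
  have hlamM : ∀ m : M, (lam : P → ℂ) ⟨m, hMP m.2⟩ = 1 := by
    intro m
    apply Cfsg.Agent.Lib.Helper83.char_deg_one_commutator
      (Cfsg.Agent.Lib.Helper83.IrrCharacter_isCharacter lam) hlam1
    have h1 : (m : G) ∈ ⁅P, P⁆ := hM m.2
    rw [← Subgroup.map_subtype_commutator, Subgroup.mem_map] at h1
    obtain ⟨y, hy, hy2⟩ := h1
    have : y = ⟨m, hMP m.2⟩ := Subtype.ext hy2
    rw [← this]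
    exact hy
  -- the difference is a character
  have hsub : IsCharacter P ((fun x : P => (χ : G → ℂ) x) - (lam : P → ℂ)) :=
    Cfsg.Agent.Lib.Helper05.isCharacter_sub_of_classInner_ne_zero hχP lam.2 hlam
  let e : M →* P := Subgroup.inclusion hMP
  have hsubM : IsCharacter M
      (fun m : M => ((fun x : P => (χ : G → ℂ) x) - (lam : P → ℂ)) (e m)) :=
    Cfsg.Agent.Lib.Helper83.isCharacter_comp_hom e hsub
  obtain ⟨n, hn⟩ := Cfsg.Agent.Lib.Helper83.classInner_char_nat hsubM
    (Cfsg.Agent.Lib.Helper83.isCharacter_one (G := M))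
  have hdecomp : (fun m : M => (χ : G → ℂ) m) =
      (fun m : M => ((fun x : P => (χ : G → ℂ) x) - (lam : P → ℂ)) (e m)) +
        (fun _ : M => (1 : ℂ)) := by
    funext m
    have h2 : (lam : P → ℂ) (e m) = 1 := hlamM m
    simp only [Pi.add_apply, Pi.sub_apply, h2]
    have h3 : ((e m : P) : G) = m := rfl
    rw [h3]
    ring
  have h11 : classInner (fun _ : M => (1 : ℂ)) (fun _ : M => (1 : ℂ)) = 1 := by
    exact Cfsg.Agent.Lib.Helper05.classInner_irr_self
      (Cfsg.Agent.Lib.Helper83.isIrrCharacter_one (G := M))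
  have hne : classInner (fun m : M => (χ : G → ℂ) m) (fun _ : M => (1 : ℂ)) ≠ 0 := by
    rw [hdecomp, classInner_add_left, hn, h11]
    have : ((n : ℂ) + 1) = ((n + 1 : ℕ) : ℂ) := by push_cast; ring
    rw [this]
    exact_mod_cast Nat.succ_ne_zero n
  exact Cfsg.Agent.Lib.Helper84.irr_const_of_classInner_one_ne_zero M χ.2 hne

end PPrimeKerBase

end Cfsg.Agent.Lib.Helper04
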