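import Mathlib
import Cfsg.Agent.Lib.Helper04.GlaubCons
import Cfsg.Agent.Lib.Helper04.GlaubUp
import Cfsg.Agent.Lib.Helper04.IndFun
import Cfsg.Agent.Lib.Helper34.GenChar
import Cfsg.Agent.Lib.Helper84.Clifford
import Cfsg.Agent.Lib.Helper84.CliffordInj

/-!
# Induction and the Clifford correspondence for subgroups of an ambient group
-/

set_option autoImplicit false

namespace Cfsg.Agent.Lib.Helper04

open Cfsg
open scoped ComplexConjugate

section RelSylBase

universe u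

variable {Γ : Type u} [Group Γ]

open Classical in
/-- extension by zero of a function on a subgroup to the ambient group. -/
noncomputable def zext (H : Subgroup Γ) (ψ : H → ℂ) : Γ → ℂ :=
  fun y => if h : y ∈ H then ψ ⟨y, h⟩ else 0

theorem zext_of_mem (H : Subgroup Γ) (ψ : H → ℂ) {y : Γ} (h : y ∈ H) :
    zext H ψ y = ψ ⟨y, h⟩ := by
  unfold zext
  rw [dif_pos h]

theorem zext_of_not_mem (H : Subgroup Γ) (ψ : H → ℂ) {y : Γ} (h : y ∉ H) :
    zext H ψ y = 0 := by
  unfold zext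
  rw [dif_neg h]

theorem zext_coe (H : Subgroup Γ) (ψ : H → ℂ) (y : H) : zext H ψ (y : Γ) = ψ y :=
  zext_of_mem H ψ y.2

/-- the extension by zero of a class function is invariant under conjugation by the subgroup. -/
theorem zext_conj_of_mem (H : Subgroup Γ) {ψ : H → ℂ} (hψ : IsClassFunction H ψ) {t : Γ}
    (ht : t ∈ H) (y : Γ) : zext H ψ (t * y * t⁻¹) = zext H ψ y := by
  by_cases hy : y ∈ H
  · rw [zext_of_mem H ψ hy, zext_of_mem H ψ (H.mul_mem (H.mul_mem ht hy) (H.inv_mem ht))]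
    exact hψ ⟨y, hy⟩ ⟨t, ht⟩
  · have h1 : t * y * t⁻¹ ∉ H := by
      intro h
      apply hy
      have := H.mul_mem (H.mul_mem (H.inv_mem ht) h) ht
      have e : t⁻¹ * (t * y * t⁻¹) * t = y := by group
      rwa [e] at this
    rw [zext_of_not_mem H ψ hy, zext_of_not_mem H ψ h1]

/-- the extension by zero of an invariant function on an invariant subgroup is invariant. -/
theorem zext_conj_of_setInv {H S : Subgroup Γ} (hSH : ∀ s ∈ S, ∀ h ∈ H, s * h * s⁻¹ ∈ H)
    {ψ : H → ℂ} (hψ : SetInv H S ψ) {s : Γ} (hs : s ∈ S) (y : Γ) :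
    zext H ψ (s * y * s⁻¹) = zext H ψ y := by
  by_cases hy : y ∈ H
  · rw [zext_of_mem H ψ hy, zext_of_mem H ψ (hSH s hs y hy)]
    exact hψ s hs ⟨y, hy⟩ ⟨_, hSH s hs y hy⟩ rfl
  · have h1 : s * y * s⁻¹ ∉ H := by
      intro h
      apply hy
      have := hSH s⁻¹ (S.inv_mem hs) _ h
      have e : s⁻¹ * (s * y * s⁻¹) * s⁻¹⁻¹ = y := by group
      rwa [e] at this
    rw [zext_of_not_mem H ψ hy, zext_of_not_mem H ψ h1]

/-- induction of a function from a subgroup `H` to a subgroup `G` of the ambient group. -/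
noncomputable def indTo (G : Subgroup Γ) [Fintype G] {H : Subgroup Γ} (ψ : H → ℂ) : G → ℂ :=
  fun g => (Nat.card H : ℂ)⁻¹ * ∑ x : G, zext H ψ ((x : Γ)⁻¹ * g * x)

theorem indTo_apply (G : Subgroup Γ) [Fintype G] {H : Subgroup Γ} (ψ : H → ℂ) (g : G) :
    indTo G ψ g = (Nat.card H : ℂ)⁻¹ * ∑ x : G, zext H ψ ((x : Γ)⁻¹ * g * x) := rfl

theorem indTo_eq_indFun {G H : Subgroup Γ} [Fintype G] (hHG : H ≤ G) (ψ : H → ℂ) :
    indTo G ψ = indFun (H.subgroupOf G)
      (fun h' : H.subgroupOf G => ψ (Subgroup.subgroupOfEquivOfLe hHG h')) := by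
  funext g
  rw [indTo_apply, indFun_apply, Nat.card_congr (Subgroup.subgroupOfEquivOfLe hHG).toEquiv]
  congr 1
  apply Finset.sum_congr rfl
  intro x _
  by_cases h : (x⁻¹ * g * x : G) ∈ H.subgroupOf G
  · rw [extendByZero_apply_of_mem _ _ _ h]
    have h' : (x : Γ)⁻¹ * g * x ∈ H := Subgroup.mem_subgroupOf.mp h
    rw [zext_of_mem H ψ h']
    rfl
  · rw [extendByZero_apply_not_mem _ _ _ h]
    have h' : (x : Γ)⁻¹ * g * x ∉ H := fun h'' => h (Subgroup.mem_subgroupOf.mpr h'')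
    rw [zext_of_not_mem H ψ h']

theorem isCharacter_indTo {G H : Subgroup Γ} [Fintype G] (hHG : H ≤ G) {ψ : H → ℂ}
    (hψ : IsCharacter H ψ) : IsCharacter G (indTo G ψ) := by
  rw [indTo_eq_indFun hHG]
  exact Cfsg.Agent.Lib.Helper34.isCharacter_indFun _
    (Cfsg.Agent.Lib.Helper83.isCharacter_comp_hom
      (Subgroup.subgroupOfEquivOfLe hHG).toMonoidHom hψ)

/-- Frobenius reciprocity. -/
theorem frobenius_indTo {G H : Subgroup Γ} [Fintype G] [Fintype H] (hHG : H ≤ G) (ψ : H → ℂ)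
    {χ : G → ℂ} (hχ : IsClassFunction G χ) :
    classInner (indTo G ψ) χ = classInner ψ (resTo hHG χ) := by
  classical
  have : Fintype (H.subgroupOf G) := Fintype.ofFinite _
  rw [indTo_eq_indFun hHG, frobenius_reciprocity _ _ _ hχ]
  exact classInner_comp_mulEquiv (Subgroup.subgroupOfEquivOfLe hHG) ψ (resTo hHG χ)

theorem indTo_apply_one {G H : Subgroup Γ} [Fintype G] (hHG : H ≤ G) (ψ : H → ℂ) :
    indTo G ψ 1 = (H.relIndex G : ℂ) * ψ 1 := by
  rw [indTo_eq_indFun hHG, Cfsg.Agent.Lib.Helper85.indFun_apply_one]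
  rfl

end RelSylBase

end Cfsg.Agent.Lib.Helper04
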