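import Mathlib
import Cfsg.Agent.Lib.Helper04.RelSylBase

/-!
# The Clifford correspondence for subgroups of an ambient group
-/

set_option autoImplicit false

namespace Cfsg.Agent.Lib.Helper04

open Cfsg
open scoped ComplexConjugate

section RelSylCliff

universe u

variable {Γ : Type u} [Group Γ]

/-- the stabilizer in `G` of a function on the normal subgroup `N`. -/
def stabIn (G N : Subgroup Γ) (hGN : ∀ g ∈ G, ∀ n ∈ N, g * n * g⁻¹ ∈ N) (θ : N → ℂ) :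
    Subgroup Γ where
  carrier := {g | g ∈ G ∧ ConjRel N g θ θ}
  one_mem' := by
    refine ⟨G.one_mem, ?_⟩
    intro h h' hh
    have : h' = h := by
      apply Subtype.ext
      rw [hh]
      group
    rw [this]
  mul_mem' := by
    rintro a b ⟨ha, hca⟩ ⟨hb, hcb⟩
    refine ⟨G.mul_mem ha hb, ?_⟩
    intro h h' hh
    have h1 : b * (h : Γ) * b⁻¹ ∈ N := hGN b hb h h.2
    rw [← hcb h ⟨_, h1⟩ rfl]
    apply hca ⟨_, h1⟩ h'
    rw [hh]
    show a * b * (h : Γ) * (a * b)⁻¹ = a * (b * h * b⁻¹) * a⁻¹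
    group
  inv_mem' := by
    rintro a ⟨ha, hca⟩
    refine ⟨G.inv_mem ha, ?_⟩
    intro h h' hh
    symm
    apply hca h' h
    rw [hh]
    group

theorem mem_stabIn {G N : Subgroup Γ} {hGN : ∀ g ∈ G, ∀ n ∈ N, g * n * g⁻¹ ∈ N} {θ : N → ℂ}
    {g : Γ} : g ∈ stabIn G N hGN θ ↔ g ∈ G ∧ ConjRel N g θ θ := Iff.rfl

theorem stabIn_le {G N : Subgroup Γ} (hGN : ∀ g ∈ G, ∀ n ∈ N, g * n * g⁻¹ ∈ N) (θ : N → ℂ) :
    stabIn G N hGN θ ≤ G := fun _ h => h.1

theorem le_stabIn {G N : Subgroup Γ} (hNG : N ≤ G) (hGN : ∀ g ∈ G, ∀ n ∈ N, g * n * g⁻¹ ∈ N)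
    {θ : N → ℂ} (hθ : IsClassFunction N θ) : N ≤ stabIn G N hGN θ := by
  intro n hn
  refine ⟨hNG hn, ?_⟩
  intro h h' hh
  have : h' = ⟨n, hn⟩ * h * ⟨n, hn⟩⁻¹ := by
    apply Subtype.ext
    rw [hh]
    rfl
  rw [this]
  exact hθ h ⟨n, hn⟩

variable [Finite Γ]

omit [Finite Γ] in
/-- the stabilizer condition, transported to the subgroup type. -/
theorem conjRel_iff_conjFun {G N : Subgroup Γ} (hNG : N ≤ G)
    (hHn : (N.subgroupOf G).Normal) (θ : N → ℂ) (g : G) :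
    ConjRel N (g : Γ) θ θ ↔ ∀ n : N.subgroupOf G,
      Cfsg.Agent.Lib.Helper84.conjFun (N.subgroupOf G) g
        (fun x : N.subgroupOf G => θ (Subgroup.subgroupOfEquivOfLe hNG x)) n =
        θ (Subgroup.subgroupOfEquivOfLe hNG n) := by
  constructor
  · intro hc n
    rw [Cfsg.Agent.Lib.Helper84.conjFun_apply]
    exact hc (Subgroup.subgroupOfEquivOfLe hNG n)
      (Subgroup.subgroupOfEquivOfLe hNG ⟨g * n * g⁻¹, hHn.conj_mem n n.2 g⟩) rfl
  · intro hc h h' hh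
    have h2 := hc ((Subgroup.subgroupOfEquivOfLe hNG).symm h)
    rw [Cfsg.Agent.Lib.Helper84.conjFun_apply] at h2
    rw [MulEquiv.apply_symm_apply] at h2
    rw [← h2]
    have hcoe : ((((Subgroup.subgroupOfEquivOfLe hNG).symm h : N.subgroupOf G) : G) : Γ) = h :=
      congrArg (fun z : N => (z : Γ)) ((Subgroup.subgroupOfEquivOfLe hNG).apply_symm_apply h)
    have h3 : h' = Subgroup.subgroupOfEquivOfLe hNG
        ⟨g * ((Subgroup.subgroupOfEquivOfLe hNG).symm h : N.subgroupOf G) * g⁻¹,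
          hHn.conj_mem _ ((Subgroup.subgroupOfEquivOfLe hNG).symm h).2 g⟩ := by
      apply Subtype.ext
      rw [hh]
      show (g : Γ) * h * (g : Γ)⁻¹ = (g : Γ) *
        ((((Subgroup.subgroupOfEquivOfLe hNG).symm h : N.subgroupOf G) : G) : Γ) * (g : Γ)⁻¹
      rw [hcoe]
    rw [h3]

section Corr

variable {G N T : Subgroup Γ} [Fintype N] (hNG : N ≤ G)
  (hGN : ∀ g ∈ G, ∀ n ∈ N, g * n * g⁻¹ ∈ N) (θ : IrrCharacter N) (hNT : N ≤ T) (hTG : T ≤ G)
  (hT : ∀ g ∈ G, g ∈ T ↔ ConjRel N g (θ : N → ℂ) (θ : N → ℂ))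

include hNG hGN hNT hTG hT in
/-- **Clifford correspondence**: irreducibility of the induced character and multiplicity. -/
theorem cliff_ind_irr [Fintype G] (ψ : IrrCharacter T)
    (h1 : classInner (resTo hNT (ψ : T → ℂ)) (θ : N → ℂ) ≠ 0) :
    IsIrrCharacter G (indTo G (ψ : T → ℂ)) ∧
      classInner (resTo hNG (indTo G (ψ : T → ℂ))) (θ : N → ℂ) =
        classInner (resTo hNT (ψ : T → ℂ)) (θ : N → ℂ) := by
  classical
  have hHn : (N.subgroupOf G).Normal := ⟨fun n hn g => by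
    rw [Subgroup.mem_subgroupOf] at hn ⊢
    simp only [Subgroup.coe_mul, Subgroup.coe_inv]
    exact hGN g g.2 n hn⟩
  have : Fintype (N.subgroupOf G) := Fintype.ofFinite _
  have : Fintype (T.subgroupOf G) := Fintype.ofFinite _
  let eN : N.subgroupOf G ≃* N := Subgroup.subgroupOfEquivOfLe hNG
  let eT : T.subgroupOf G ≃* T := Subgroup.subgroupOfEquivOfLe hTG
  have hHT₀ : N.subgroupOf G ≤ T.subgroupOf G := by
    intro x hx
    rw [Subgroup.mem_subgroupOf] at hx ⊢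
    exact hNT hx
  set θ₀ : N.subgroupOf G → ℂ := fun x => (θ : N → ℂ) (eN x) with hθ₀
  set ψ₀ : T.subgroupOf G → ℂ := fun x => (ψ : T → ℂ) (eT x) with hψ₀
  have hθ₀i : IsIrrCharacter (N.subgroupOf G) θ₀ :=
    Cfsg.Agent.Lib.Helper84.isIrrCharacter_comp_mulEquiv eN θ.2
  have hψ₀i : IsIrrCharacter (T.subgroupOf G) ψ₀ :=
    Cfsg.Agent.Lib.Helper84.isIrrCharacter_comp_mulEquiv eT ψ.2
  have hT₀ : ∀ g : G, g ∈ T.subgroupOf G ↔
      ∀ n : N.subgroupOf G, Cfsg.Agent.Lib.Helper84.conjFun (N.subgroupOf G) g θ₀ n = θ₀ n := by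
    intro g
    rw [Subgroup.mem_subgroupOf, hT g g.2]
    exact conjRel_iff_conjFun hNG hHn (θ : N → ℂ) g
  have hres : Cfsg.Agent.Lib.Helper84.resFun (N.subgroupOf G) (T.subgroupOf G) hHT₀ ψ₀ =
      fun x : N.subgroupOf G => resTo hNT (ψ : T → ℂ) (eN x) := by
    funext x
    rfl
  have h1' : classInner (Cfsg.Agent.Lib.Helper84.resFun (N.subgroupOf G) (T.subgroupOf G)
      hHT₀ ψ₀) θ₀ ≠ 0 := by
    rw [hres, hθ₀, classInner_comp_mulEquiv eN]
    exact h1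
  refine ⟨?_, ?_⟩
  · rw [indTo_eq_indFun hTG]
    exact Cfsg.Agent.Lib.Helper84.isIrrCharacter_indFun_inertia (N.subgroupOf G)
      (T.subgroupOf G) hHT₀ hθ₀i hT₀ hψ₀i h1'
  · have h2 := Cfsg.Agent.Lib.Helper84.classInner_indFun_inertia (N.subgroupOf G)
      (T.subgroupOf G) hHT₀ hθ₀i hT₀ hψ₀i h1'
    rw [hres, hθ₀, classInner_comp_mulEquiv eN] at h2
    rw [← h2, indTo_eq_indFun hTG]
    have h3 : (fun n : N.subgroupOf G => indFun (T.subgroupOf G) ψ₀ n) =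
        fun n : N.subgroupOf G => resTo hNG (indFun (T.subgroupOf G) ψ₀) (eN n) := by
      funext n
      rfl
    rw [h3, classInner_comp_mulEquiv eN]

include hNG hGN hNT hTG hT in
/-- **Clifford correspondence**: injectivity. -/
theorem cliff_ind_inj [Fintype G] (ψ₁ ψ₂ : IrrCharacter T)
    (c₁ : classInner (resTo hNT (ψ₁ : T → ℂ)) (θ : N → ℂ) ≠ 0)
    (c₂ : classInner (resTo hNT (ψ₂ : T → ℂ)) (θ : N → ℂ) ≠ 0)
    (heq : indTo G (ψ₁ : T → ℂ) = indTo G (ψ₂ : T → ℂ)) : ψ₁ = ψ₂ := by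
  classical
  have hHn : (N.subgroupOf G).Normal := ⟨fun n hn g => by
    rw [Subgroup.mem_subgroupOf] at hn ⊢
    simp only [Subgroup.coe_mul, Subgroup.coe_inv]
    exact hGN g g.2 n hn⟩
  have : Fintype (N.subgroupOf G) := Fintype.ofFinite _
  have : Fintype (T.subgroupOf G) := Fintype.ofFinite _
  let eN : N.subgroupOf G ≃* N := Subgroup.subgroupOfEquivOfLe hNG
  let eT : T.subgroupOf G ≃* T := Subgroup.subgroupOfEquivOfLe hTG
  have hHT₀ : N.subgroupOf G ≤ T.subgroupOf G := by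
    intro x hx
    rw [Subgroup.mem_subgroupOf] at hx ⊢
    exact hNT hx
  set θ₀ : N.subgroupOf G → ℂ := fun x => (θ : N → ℂ) (eN x) with hθ₀
  have hθ₀i : IsIrrCharacter (N.subgroupOf G) θ₀ :=
    Cfsg.Agent.Lib.Helper84.isIrrCharacter_comp_mulEquiv eN θ.2
  have hT₀ : ∀ g : G, g ∈ T.subgroupOf G ↔
      ∀ n : N.subgroupOf G, Cfsg.Agent.Lib.Helper84.conjFun (N.subgroupOf G) g θ₀ n = θ₀ n := by
    intro g
    rw [Subgroup.mem_subgroupOf, hT g g.2]
    exact conjRel_iff_conjFun hNG hHn (θ : N → ℂ) g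
  have key : ∀ ψ : IrrCharacter T,
      classInner (Cfsg.Agent.Lib.Helper84.resFun (N.subgroupOf G) (T.subgroupOf G) hHT₀
        (fun x : T.subgroupOf G => (ψ : T → ℂ) (eT x))) θ₀ =
      classInner (resTo hNT (ψ : T → ℂ)) (θ : N → ℂ) := by
    intro ψ
    have hres : Cfsg.Agent.Lib.Helper84.resFun (N.subgroupOf G) (T.subgroupOf G) hHT₀
        (fun x : T.subgroupOf G => (ψ : T → ℂ) (eT x)) =
        fun x : N.subgroupOf G => resTo hNT (ψ : T → ℂ) (eN x) := by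
      funext x
      rfl
    rw [hres, hθ₀, classInner_comp_mulEquiv eN]
  have h := Cfsg.Agent.Lib.Helper84.indFun_inertia_injective (N.subgroupOf G) (T.subgroupOf G)
    hHT₀ hθ₀i hT₀
    (Cfsg.Agent.Lib.Helper84.isIrrCharacter_comp_mulEquiv eT ψ₁.2)
    (Cfsg.Agent.Lib.Helper84.isIrrCharacter_comp_mulEquiv eT ψ₂.2)
    (by rw [key]; exact c₁) (by rw [key]; exact c₂)
    (by rw [← indTo_eq_indFun hTG, ← indTo_eq_indFun hTG]; exact heq)
  apply Subtype.ext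
  funext t
  have := congrFun h (eT.symm t)
  simpa using this

include hNG hGN hNT hTG hT in
/-- **Clifford correspondence**: surjectivity. -/
theorem cliff_ind_surj [Fintype G] [Fintype T] (χ : IrrCharacter G)
    (hχ : classInner (resTo hNG (χ : G → ℂ)) (θ : N → ℂ) ≠ 0) :
    ∃ ψ : IrrCharacter T, classInner (resTo hNT (ψ : T → ℂ)) (θ : N → ℂ) ≠ 0 ∧
      (χ : G → ℂ) = indTo G (ψ : T → ℂ) := by
  classical
  have : Fintype (IrrCharacter T) := Fintype.ofFinite _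
  have hχc := Cfsg.Agent.Lib.Helper83.IrrCharacter_isCharacter χ
  have hχcl := Cfsg.Agent.Lib.Helper83.char_isClassFunction hχc
  have h1 := rmul_trans hNT hTG hχc θ
  have h2 : rmul (hNT.trans hTG) (χ : G → ℂ) θ ≠ 0 := by
    intro h0
    apply hχ
    have := rmul_cast (hNT.trans hTG) hχc θ
    rw [h0] at this
    simpa using this.symm
  rw [h1] at h2
  obtain ⟨ψ, _, hψ⟩ := Finset.exists_ne_zero_of_sum_ne_zero h2
  have hψ1 : rmul hTG (χ : G → ℂ) ψ ≠ 0 := left_ne_zero_of_mul hψ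
  have hψ2 : rmul hNT (ψ : T → ℂ) θ ≠ 0 := right_ne_zero_of_mul hψ
  have hψc := Cfsg.Agent.Lib.Helper83.IrrCharacter_isCharacter ψ
  have c1 : classInner (resTo hNT (ψ : T → ℂ)) (θ : N → ℂ) ≠ 0 := by
    rw [← rmul_cast hNT hψc]
    exact_mod_cast hψ2
  refine ⟨ψ, c1, ?_⟩
  have hirr := (cliff_ind_irr hNG hGN θ hNT hTG hT ψ c1).1
  have h3 : classInner (indTo G (ψ : T → ℂ)) (χ : G → ℂ) ≠ 0 := by
    rw [frobenius_indTo hTG _ hχcl, ← Cfsg.Agent.Lib.Helper83.classInner_conj_symm,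
      ← rmul_cast hTG hχc]
    simpa using hψ1
  exact (Cfsg.Agent.Lib.Helper84.irr_eq_of_classInner_ne_zero hirr χ.2 h3).symm

end Corr

end RelSylCliff

end Cfsg.Agent.Lib.Helper04
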