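import Mathlib
import Cfsg.Agent.Lib.Helper04.RelSylCliff
import Cfsg.Agent.Lib.Helper85.Gallagher
import Cfsg.Agent.Lib.Helper83.Quotient
import Cfsg.Agent.Lib.Helper80.DetCanon
import Cfsg.Agent.Lib.Helper80.DetCoprime
import Cfsg.Agent.Lib.Helper05.CharDegree

/-!
# Gallagher's theorem and the canonical extension for subgroups of an ambient group
-/

set_option autoImplicit false

namespace Cfsg.Agent.Lib.Helper04

open Cfsg
open scoped ComplexConjugate

section RelSylGall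

universe u

variable {Γ : Type u} [Group Γ]

/-- the subgroup `N` is contained in the kernel of the function `β` on `T`. -/
def KerGe {T : Subgroup Γ} (N : Subgroup Γ) (β : T → ℂ) : Prop :=
  ∀ t : T, (t : Γ) ∈ N → β t = β 1

/-- the determinantal order is invariant under transport along an isomorphism. -/
theorem detOrder_comp_mulEquiv {H K : Type u} [Group H] [Group K] [Finite H] [Finite K]
    (e : H ≃* K) {χ : K → ℂ} (hχ : IsCharacter K χ) :
    detOrder (fun h => χ (e h)) = detOrder χ := by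
  unfold detOrder
  have h1 : detChar (fun h => χ (e h)) = fun h => detChar χ (e h) :=
    Cfsg.Agent.Lib.Helper80.detChar_comp_hom e.toMonoidHom hχ
  rw [h1]
  let φ : (K → ℂ) →* (H → ℂ) :=
    { toFun := fun f => fun h => f (e h)
      map_one' := rfl
      map_mul' := fun _ _ => rfl }
  have hφ : Function.Injective φ := by
    intro f g hfg
    funext k
    have := congrFun hfg (e.symm k)
    simpa [φ] using this
  exact orderOf_injective φ hφ (detChar χ)

variable [Finite Γ]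

section Gall

variable {T N : Subgroup Γ} (hNT : N ≤ T) (hTN : ∀ t ∈ T, ∀ n ∈ N, t * n * t⁻¹ ∈ N)
  {θh : T → ℂ} (hθh : IsIrrCharacter T θh) (hres : IsIrrCharacter N (resTo hNT θh))

omit [Finite Γ] in
theorem normal_subgroupOf_of_conj {T N : Subgroup Γ}
    (hTN : ∀ t ∈ T, ∀ n ∈ N, t * n * t⁻¹ ∈ N) : (N.subgroupOf T).Normal :=
  ⟨fun n hn g => by
    rw [Subgroup.mem_subgroupOf] at hn ⊢
    simp only [Subgroup.coe_mul, Subgroup.coe_inv]
    exact hTN g g.2 n hn⟩

include hTN hθh hres in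
/-- **Gallagher**: products with characters of the quotient are irreducible. -/
theorem gall_irr (β : IrrCharacter T) (hβ : KerGe N (β : T → ℂ)) :
    IsIrrCharacter T (fun t => (β : T → ℂ) t * θh t) := by
  classical
  have : Fintype T := Fintype.ofFinite T
  have hMn : (N.subgroupOf T).Normal := normal_subgroupOf_of_conj hTN
  have : Fintype (N.subgroupOf T) := Fintype.ofFinite _
  let eN : N.subgroupOf T ≃* N := Subgroup.subgroupOfEquivOfLe hNT
  have hχH : IsIrrCharacter (N.subgroupOf T) (fun h : N.subgroupOf T => θh h) :=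
    Cfsg.Agent.Lib.Helper84.isIrrCharacter_comp_mulEquiv eN hres
  have hβ' : ∀ n ∈ N.subgroupOf T, (β : T → ℂ) n = (β : T → ℂ) 1 :=
    fun n hn => hβ n (Subgroup.mem_subgroupOf.mp hn)
  set β₀ : IrrCharacter (T ⧸ N.subgroupOf T) :=
    (Cfsg.Agent.Lib.Helper83.irrQuotientEquiv (N.subgroupOf T)).symm ⟨β, hβ'⟩ with hβ₀
  have h1 := (Cfsg.Agent.Lib.Helper85.gallagher (N.subgroupOf T) hθh hχH).1 β₀
  have h2 : (fun g : T => (β₀ : T ⧸ N.subgroupOf T → ℂ) (QuotientGroup.mk g) * θh g) =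
      fun t => (β : T → ℂ) t * θh t := by
    funext g
    rw [hβ₀, Cfsg.Agent.Lib.Helper83.irrQuotientEquiv_symm_apply]
  rw [← h2]
  exact h1

include hTN hθh hres in
/-- **Gallagher**: injectivity. -/
theorem gall_inj (β β' : IrrCharacter T) (hβ : KerGe N (β : T → ℂ))
    (hβ' : KerGe N (β' : T → ℂ))
    (h : (fun t => (β : T → ℂ) t * θh t) = fun t => (β' : T → ℂ) t * θh t) : β = β' := by
  classical
  have : Fintype T := Fintype.ofFinite T
  have hMn : (N.subgroupOf T).Normal := normal_subgroupOf_of_conj hTN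
  have : Fintype (N.subgroupOf T) := Fintype.ofFinite _
  let eN : N.subgroupOf T ≃* N := Subgroup.subgroupOfEquivOfLe hNT
  have hχH : IsIrrCharacter (N.subgroupOf T) (fun h : N.subgroupOf T => θh h) :=
    Cfsg.Agent.Lib.Helper84.isIrrCharacter_comp_mulEquiv eN hres
  have hk : ∀ n ∈ N.subgroupOf T, (β : T → ℂ) n = (β : T → ℂ) 1 :=
    fun n hn => hβ n (Subgroup.mem_subgroupOf.mp hn)
  have hk' : ∀ n ∈ N.subgroupOf T, (β' : T → ℂ) n = (β' : T → ℂ) 1 :=
    fun n hn => hβ' n (Subgroup.mem_subgroupOf.mp hn)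
  set β₀ : IrrCharacter (T ⧸ N.subgroupOf T) :=
    (Cfsg.Agent.Lib.Helper83.irrQuotientEquiv (N.subgroupOf T)).symm ⟨β, hk⟩ with hβ₀
  set β₀' : IrrCharacter (T ⧸ N.subgroupOf T) :=
    (Cfsg.Agent.Lib.Helper83.irrQuotientEquiv (N.subgroupOf T)).symm ⟨β', hk'⟩ with hβ₀'
  have h2 : (fun g : T => (β₀ : T ⧸ N.subgroupOf T → ℂ) (QuotientGroup.mk g) * θh g) =
      fun t => (β : T → ℂ) t * θh t := by
    funext g
    rw [hβ₀, Cfsg.Agent.Lib.Helper83.irrQuotientEquiv_symm_apply]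
  have h2' : (fun g : T => (β₀' : T ⧸ N.subgroupOf T → ℂ) (QuotientGroup.mk g) * θh g) =
      fun t => (β' : T → ℂ) t * θh t := by
    funext g
    rw [hβ₀', Cfsg.Agent.Lib.Helper83.irrQuotientEquiv_symm_apply]
  have h3 := Cfsg.Agent.Lib.Helper85.gallagher_inner (N.subgroupOf T) hθh hχH β₀ β₀'
  have h4 : β₀ = β₀' := by
    by_contra hne
    rw [if_neg hne, h2, h2', ← h] at h3
    have h5 := Cfsg.Agent.Lib.Helper83.irr_inner_self
      (⟨_, gall_irr hNT hTN hθh hres β hβ⟩ : IrrCharacter T)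
    rw [h3] at h5
    exact zero_ne_one h5
  have h5 := (Cfsg.Agent.Lib.Helper83.irrQuotientEquiv (N.subgroupOf T)).symm.injective h4
  exact congrArg Subtype.val h5

include hTN hθh hres in
/-- **Gallagher**: surjectivity. -/
theorem gall_surj [Fintype N] (ψ : IrrCharacter T)
    (h : classInner (resTo hNT (ψ : T → ℂ)) (resTo hNT θh) ≠ 0) :
    ∃ β : IrrCharacter T, KerGe N (β : T → ℂ) ∧
      (ψ : T → ℂ) = fun t => (β : T → ℂ) t * θh t := by
  classical
  have : Fintype T := Fintype.ofFinite T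
  have hMn : (N.subgroupOf T).Normal := normal_subgroupOf_of_conj hTN
  have : Fintype (N.subgroupOf T) := Fintype.ofFinite _
  let eN : N.subgroupOf T ≃* N := Subgroup.subgroupOfEquivOfLe hNT
  have hχH : IsIrrCharacter (N.subgroupOf T) (fun h : N.subgroupOf T => θh h) :=
    Cfsg.Agent.Lib.Helper84.isIrrCharacter_comp_mulEquiv eN hres
  have h' : classInner (fun h : N.subgroupOf T => (ψ : T → ℂ) h)
      (fun h : N.subgroupOf T => θh h) ≠ 0 := by
    have := classInner_comp_mulEquiv eN (resTo hNT (ψ : T → ℂ)) (resTo hNT θh)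
    rw [← this] at h
    exact h
  obtain ⟨β₀, hβ₀⟩ := (Cfsg.Agent.Lib.Helper85.gallagher (N.subgroupOf T) hθh hχH).2
    (ψ : T → ℂ) ψ.2 h'
  refine ⟨(Cfsg.Agent.Lib.Helper83.irrQuotientEquiv (N.subgroupOf T) β₀).1, ?_, ?_⟩
  · intro t ht
    exact (Cfsg.Agent.Lib.Helper83.irrQuotientEquiv (N.subgroupOf T) β₀).2 t
      (Subgroup.mem_subgroupOf.mpr ht)
  · rw [hβ₀]
    funext t
    rw [Cfsg.Agent.Lib.Helper83.irrQuotientEquiv_apply]

end Gall

section Canon

variable {T N : Subgroup Γ} (hNT : N ≤ T) (hTN : ∀ t ∈ T, ∀ n ∈ N, t * n * t⁻¹ ∈ N)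

include hTN in
/-- **the canonical extension** of an invariant irreducible character of a normal subgroup of
order coprime to its index. -/
theorem exists_canon_ext (θ : IrrCharacter N) (hinv : ∀ t ∈ T, ConjRel N t (θ : N → ℂ) (θ : N → ℂ))
    (hcop : (Nat.card N).Coprime (N.relIndex T)) :
    ∃ θh : T → ℂ, IsIrrCharacter T θh ∧ resTo hNT θh = (θ : N → ℂ) ∧
      (N.relIndex T).Coprime (detOrder θh) ∧
      ∀ θh' : T → ℂ, IsIrrCharacter T θh' → resTo hNT θh' = (θ : N → ℂ) →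
        (N.relIndex T).Coprime (detOrder θh') → θh' = θh := by
  classical
  have hMn : (N.subgroupOf T).Normal := normal_subgroupOf_of_conj hTN
  let eN : N.subgroupOf T ≃* N := Subgroup.subgroupOfEquivOfLe hNT
  set θ₀ : N.subgroupOf T → ℂ := fun x => (θ : N → ℂ) (eN x) with hθ₀
  have hθ₀i : IsIrrCharacter (N.subgroupOf T) θ₀ :=
    Cfsg.Agent.Lib.Helper84.isIrrCharacter_comp_mulEquiv eN θ.2
  have hinv₀ : ∀ (g : T) (n : N.subgroupOf T),
      θ₀ ⟨g * n * g⁻¹, hMn.conj_mem (n : T) n.2 g⟩ = θ₀ n := by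
    intro g n
    exact hinv g g.2 (eN n) (eN ⟨g * n * g⁻¹, hMn.conj_mem (n : T) n.2 g⟩) rfl
  obtain ⟨d, hd0, hd1, hd2⟩ := Cfsg.Agent.Lib.Helper05.exists_degree_dvd hθ₀i
  have hcard : Nat.card (N.subgroupOf T) = Nat.card N := Nat.card_congr eN.toEquiv
  have hidx : (N.subgroupOf T).index = N.relIndex T := rfl
  have hcop₀ : Nat.Coprime (N.subgroupOf T).index (detOrder θ₀ * d) := by
    rw [hidx]
    have hc : (N.relIndex T).Coprime (Nat.card (N.subgroupOf T)) := by
      rw [hcard]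
      exact hcop.symm
    apply Nat.Coprime.mul_right
    · exact Nat.Coprime.coprime_dvd_right (Cfsg.Agent.Lib.Helper80.detOrder_dvd_card θ₀) hc
    · exact Nat.Coprime.coprime_dvd_right hd2 hc
  obtain ⟨χ, ⟨hχ, hχres, hχdet⟩, huniq⟩ :=
    Cfsg.Agent.Lib.Helper80.exists_canonical_ext (N.subgroupOf T) θ₀ hθ₀i hinv₀ d hd1 hcop₀
  have hcopχ : (N.relIndex T).Coprime (detOrder χ) := by
    rw [hχdet, ← hidx]
    exact Nat.Coprime.coprime_mul_right_right hcop₀
  refine ⟨χ, hχ, ?_, hcopχ, ?_⟩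
  · funext n
    have := hχres (eN.symm n)
    rw [hθ₀] at this
    simp only [MulEquiv.apply_symm_apply] at this
    rw [← this]
    rfl
  · intro θh' hθh' hres' hcop'
    apply huniq θh' hθh'
    · intro n
      have := congrFun hres' (eN n)
      exact this
    · rw [hidx]
      exact hcop'

/-- the canonical extension is invariant under conjugation by elements normalizing `T` and `N`
and fixing `θ`. -/
theorem canon_ext_conjRel (θ : IrrCharacter N) {θh : T → ℂ} (hθh : IsIrrCharacter T θh)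
    (hres : resTo hNT θh = (θ : N → ℂ)) (hcopd : (N.relIndex T).Coprime (detOrder θh))
    (huniq : ∀ θh' : T → ℂ, IsIrrCharacter T θh' → resTo hNT θh' = (θ : N → ℂ) →
        (N.relIndex T).Coprime (detOrder θh') → θh' = θh)
    (x : Γ) (hxT : ∀ t ∈ T, x * t * x⁻¹ ∈ T) (hxT' : ∀ t ∈ T, x⁻¹ * t * x ∈ T)
    (hxN : ∀ n ∈ N, x * n * x⁻¹ ∈ N)
    (hxθ : ConjRel N x (θ : N → ℂ) (θ : N → ℂ)) : ConjRel T x θh θh := by
  set θh' : T → ℂ := fun t => θh (conjAut T x hxT hxT' t) with hθh'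
  have h1 : IsIrrCharacter T θh' :=
    Cfsg.Agent.Lib.Helper84.isIrrCharacter_comp_mulEquiv (conjAut T x hxT hxT') hθh
  have h2 : resTo hNT θh' = (θ : N → ℂ) := by
    funext n
    have h3 : x * (n : Γ) * x⁻¹ ∈ N := hxN n n.2
    have h4 : resTo hNT θh' n = resTo hNT θh ⟨x * n * x⁻¹, h3⟩ := rfl
    rw [h4, hres]
    exact hxθ n ⟨_, h3⟩ rfl
  have h3 : detOrder θh' = detOrder θh :=
    detOrder_comp_mulEquiv (conjAut T x hxT hxT') (Cfsg.Agent.Lib.Helper83.isCharacter_of_irr hθh)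
  have h4 := huniq θh' h1 h2 (by rw [h3]; exact hcopd)
  intro t t' ht
  have h5 := congrFun h4 t
  rw [← h5, hθh']
  congr 1
  apply Subtype.ext
  rw [ht]
  rfl

end Canon

end RelSylGall

end Cfsg.Agent.Lib.Helper04
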