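import Mathlib
import Cfsg.Agent.Lib.Helper04.RelSylGall
import Cfsg.Agent.Lib.Helper83.Constituent
import Cfsg.Agent.Lib.Helper83.Linear
import Cfsg.Agent.Lib.Helper05.CharSub

/-!
# Equivariance of induction, Clifford and Gallagher correspondences under conjugation
-/

set_option autoImplicit false

namespace Cfsg.Agent.Lib.Helper04

open Cfsg
open scoped ComplexConjugate

section RelSylEquiv

universe u

variable {Γ : Type u} [Group Γ]

/-- closure under conjugation by inverses. -/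
theorem conj_inv_mem {S H : Subgroup Γ} (h : ∀ s ∈ S, ∀ g ∈ H, s * g * s⁻¹ ∈ H) {s : Γ}
    (hs : s ∈ S) : ∀ g ∈ H, s⁻¹ * g * s ∈ H := by
  intro g hg
  have := h s⁻¹ (S.inv_mem hs) g hg
  rwa [inv_inv] at this

/-- extension by zero is compatible with conjugation. -/
theorem zext_conjRel {H : Subgroup Γ} {x : Γ} (hx : ∀ h ∈ H, x * h * x⁻¹ ∈ H)
    (hx' : ∀ h ∈ H, x⁻¹ * h * x ∈ H) {ψ ψ' : H → ℂ} (h : ConjRel H x ψ ψ') (y : Γ) :
    zext H ψ' (x * y * x⁻¹) = zext H ψ y := by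
  by_cases hy : y ∈ H
  · rw [zext_of_mem H ψ hy, zext_of_mem H ψ' (hx y hy)]
    exact h ⟨y, hy⟩ ⟨_, hx y hy⟩ rfl
  · have h1 : x * y * x⁻¹ ∉ H := by
      intro h2
      apply hy
      have := hx' _ h2
      have e : x⁻¹ * (x * y * x⁻¹) * x = y := by group
      rwa [e] at this
    rw [zext_of_not_mem H ψ hy, zext_of_not_mem H ψ' h1]

/-- induction is compatible with conjugation. -/
theorem indTo_conjRel {G H : Subgroup Γ} [Fintype G] {x : Γ} (hxG : ∀ g ∈ G, x * g * x⁻¹ ∈ G)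
    (hxG' : ∀ g ∈ G, x⁻¹ * g * x ∈ G) (hxH : ∀ h ∈ H, x * h * x⁻¹ ∈ H)
    (hxH' : ∀ h ∈ H, x⁻¹ * h * x ∈ H) {ψ ψ' : H → ℂ} (h : ConjRel H x ψ ψ') :
    ConjRel G x (indTo G ψ) (indTo G ψ') := by
  intro g g' hg
  rw [indTo_apply, indTo_apply]
  congr 1
  rw [← Equiv.sum_comp (conjAut G x hxG hxG').toEquiv]
  apply Finset.sum_congr rfl
  intro y _
  have e1 : (((conjAut G x hxG hxG').toEquiv y : G) : Γ) = x * y * x⁻¹ := rfl
  rw [e1, hg]
  have e : (x * (y : Γ) * x⁻¹)⁻¹ * (x * g * x⁻¹) * (x * y * x⁻¹) =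
      x * ((y : Γ)⁻¹ * g * y) * x⁻¹ := by group
  rw [e, zext_conjRel hxH hxH' h]

/-- the induced function of an invariant function is invariant. -/
theorem setInv_indTo {G H S : Subgroup Γ} [Fintype G]
    (hSG : ∀ s ∈ S, ∀ g ∈ G, s * g * s⁻¹ ∈ G) (hSH : ∀ s ∈ S, ∀ h ∈ H, s * h * s⁻¹ ∈ H)
    {ψ : H → ℂ} (hψ : SetInv H S ψ) : SetInv G S (indTo G ψ) := by
  intro s hs
  exact indTo_conjRel (hSG s hs) (conj_inv_mem hSG hs) (hSH s hs) (conj_inv_mem hSH hs) (hψ s hs)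

/-- pointwise products of conjugate functions are conjugate. -/
theorem ConjRel.mul {H : Subgroup Γ} {x : Γ} {α α' β β' : H → ℂ} (h1 : ConjRel H x α α')
    (h2 : ConjRel H x β β') :
    ConjRel H x (fun t => α t * β t) (fun t => α' t * β' t) := by
  intro h h' hh
  show α' h' * β' h' = α h * β h
  rw [h1 h h' hh, h2 h h' hh]

/-- conjugation by an element fixing `θ` preserves the stabilizer of `θ`. -/
theorem stabIn_conj_mem {G N : Subgroup Γ} (hGN : ∀ g ∈ G, ∀ n ∈ N, g * n * g⁻¹ ∈ N)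
    {θ : N → ℂ} {x : Γ} (hxG : ∀ g ∈ G, x * g * x⁻¹ ∈ G) (hxN : ∀ n ∈ N, x * n * x⁻¹ ∈ N)
    (hxN' : ∀ n ∈ N, x⁻¹ * n * x ∈ N) (hxθ : ConjRel N x θ θ) {t : Γ}
    (ht : t ∈ stabIn G N hGN θ) : x * t * x⁻¹ ∈ stabIn G N hGN θ := by
  refine ⟨hxG t ht.1, ?_⟩
  intro h h' hh
  have m1 : x⁻¹ * (h : Γ) * x ∈ N := hxN' h h.2
  have m2 : t * (x⁻¹ * (h : Γ) * x) * t⁻¹ ∈ N := hGN t ht.1 _ m1
  have e1 : θ h = θ ⟨_, m1⟩ := by
    apply hxθ ⟨_, m1⟩ h
    show (h : Γ) = x * (x⁻¹ * (h : Γ) * x) * x⁻¹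
    group
  have e2 : θ ⟨_, m2⟩ = θ ⟨_, m1⟩ := ht.2 ⟨_, m1⟩ ⟨_, m2⟩ rfl
  have e3 : θ h' = θ ⟨_, m2⟩ := by
    apply hxθ ⟨_, m2⟩ h'
    rw [hh]
    show x * t * x⁻¹ * (h : Γ) * (x * t * x⁻¹)⁻¹ = x * (t * (x⁻¹ * (h : Γ) * x) * t⁻¹) * x⁻¹
    group
  rw [e3, e2, ← e1]

variable [Finite Γ]

/-- a character whose restriction to a subgroup is irreducible is irreducible. -/
theorem irr_of_resTo_irr {D N : Subgroup Γ} (hND : N ≤ D) {ψ : D → ℂ} (hψ : IsCharacter D ψ)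
    (h : IsIrrCharacter N (resTo hND ψ)) : IsIrrCharacter D ψ := by
  classical
  have : Fintype D := Fintype.ofFinite _
  have : Fintype N := Fintype.ofFinite _
  set θ : IrrCharacter N := ⟨resTo hND ψ, h⟩ with hθ
  have h1 : ψ 1 ≠ 0 := Cfsg.Agent.Lib.Helper83.irr_degree_ne_zero θ
  obtain ⟨χ, hχ⟩ := Cfsg.Agent.Lib.Helper83.exists_constituent hψ h1
  have hχc := Cfsg.Agent.Lib.Helper83.IrrCharacter_isCharacter χ
  have hρ : IsCharacter D (ψ - (χ : D → ℂ)) :=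
    Cfsg.Agent.Lib.Helper05.isCharacter_sub_of_classInner_ne_zero hψ χ.2 hχ
  have hχN : IsCharacter N (resTo hND (χ : D → ℂ)) := isCharacter_resTo hND hχc
  have hχ1 : resTo hND (χ : D → ℂ) 1 ≠ 0 := Cfsg.Agent.Lib.Helper83.irr_degree_ne_zero χ
  obtain ⟨φ, hφ⟩ := Cfsg.Agent.Lib.Helper83.exists_constituent hχN hχ1
  have hφc := Cfsg.Agent.Lib.Helper83.IrrCharacter_isCharacter φ
  have hsum : resTo hND ψ = resTo hND (χ : D → ℂ) + resTo hND (ψ - (χ : D → ℂ)) := by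
    funext n
    simp only [resTo_apply, Pi.add_apply, Pi.sub_apply]
    ring
  obtain ⟨a, ha⟩ := Cfsg.Agent.Lib.Helper83.classInner_char_nat hχN hφc
  obtain ⟨b, hb⟩ := Cfsg.Agent.Lib.Helper83.classInner_char_nat (isCharacter_resTo hND hρ) hφc
  have h2 : classInner (θ : N → ℂ) (φ : N → ℂ) ≠ 0 := by
    show classInner (resTo hND ψ) (φ : N → ℂ) ≠ 0
    rw [hsum, Cfsg.Agent.Lib.Helper83.classInner_add_left, ha, hb]
    rw [ha] at hφ
    have ha0 : a ≠ 0 := by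
      intro h0
      apply hφ
      rw [h0, Nat.cast_zero]
    have : a + b ≠ 0 := by omega
    exact_mod_cast this
  have h3 : θ = φ := Cfsg.Agent.Lib.Helper83.irr_eq_of_classInner_ne_zero h2
  have h4 : IsCharacter N (resTo hND (χ : D → ℂ) - (θ : N → ℂ)) :=
    Cfsg.Agent.Lib.Helper05.isCharacter_sub_of_classInner_ne_zero hχN θ.2 (by rw [h3]; exact hφ)
  obtain ⟨n, hn⟩ := Cfsg.Agent.Lib.Helper83.char_one_eq_nat h4
  have h5 : (charDegree (χ : D → ℂ) : ℂ) = (charDegree ψ : ℂ) + n := by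
    rw [Cfsg.Agent.Lib.Helper83.charDegree_cast hχc, Cfsg.Agent.Lib.Helper83.charDegree_cast hψ]
    have h6 : (χ : D → ℂ) 1 - ψ 1 = n := hn
    linear_combination h6
  have h6 : charDegree ψ ≤ charDegree (χ : D → ℂ) := by
    have : charDegree (χ : D → ℂ) = charDegree ψ + n := by exact_mod_cast h5
    omega
  have h7 := Cfsg.Agent.Lib.Helper83.eq_of_constituent_of_degree_le hψ χ hχ h6
  rw [h7]
  exact χ.2

/-- an irreducible character with `Q` in its kernel is constant on the cosets of `Q`. -/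
theorem kerGe_coset_eq {D Q : Subgroup Γ} (hDQ : ∀ d ∈ D, ∀ q ∈ Q, d * q * d⁻¹ ∈ Q)
    (γ : IrrCharacter D) (hγ : KerGe Q (γ : D → ℂ)) (d d' : D)
    (h : (d' : Γ)⁻¹ * (d : Γ) ∈ Q) : (γ : D → ℂ) d' = (γ : D → ℂ) d := by
  have hMn : (Q.subgroupOf D).Normal := normal_subgroupOf_of_conj hDQ
  have hk : ∀ n ∈ Q.subgroupOf D, (γ : D → ℂ) n = (γ : D → ℂ) 1 :=
    fun n hn => hγ n (Subgroup.mem_subgroupOf.mp hn)
  rw [← Cfsg.Agent.Lib.Helper83.irrQuotientEquiv_symm_apply (Q.subgroupOf D) ⟨γ, hk⟩ d',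
    ← Cfsg.Agent.Lib.Helper83.irrQuotientEquiv_symm_apply (Q.subgroupOf D) ⟨γ, hk⟩ d]
  have e : (QuotientGroup.mk d' : D ⧸ Q.subgroupOf D) = QuotientGroup.mk d := by
    rw [QuotientGroup.eq, Subgroup.mem_subgroupOf]
    simpa using h
  rw [e]

end RelSylEquiv

end Cfsg.Agent.Lib.Helper04
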