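import Mathlib
import Cfsg.Agent.Lib.Helper04.PPrimeKerBase
import Cfsg.Agent.Lib.Helper04.GlaubCons
import Cfsg.Agent.Lib.Helper04.RelSylEquiv
import Cfsg.Agent.Lib.Helper04.Basis
import Cfsg.Agent.S4444

/-!
# Characters of degree prime to `p`: invariant constituents and fixed-point-free actions
-/

set_option autoImplicit false

namespace Cfsg.Agent.Lib.Helper04

open Cfsg
open scoped ComplexConjugate

universe u

section PPrimeKerGlaub

variable {G : Type u} [Group G]

/-- the restriction of a class function to a subgroup is related to itself under conjugation. -/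
theorem conjRel_restrict_self (N : Subgroup G) {χ : G → ℂ} (hχ : IsClassFunction G χ) (x : G) :
    ConjRel N x (fun n : N => χ n) (fun n : N => χ n) := by
  intro h h' hh
  show χ (h' : G) = χ (h : G)
  rw [hh]
  exact hχ h x

/-- a character of degree prime to `p` has a `P`-invariant irreducible constituent on every subgroup
normalized by the `p`-subgroup `P`. -/
theorem exists_inv_constituent [Finite G] (p : ℕ) [hp : Fact p.Prime] (N P : Subgroup G) [Fintype N]
    (hP : IsPGroup p P) (hPN : ∀ x ∈ P, ∀ n ∈ N, x * n * x⁻¹ ∈ N)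
    {χ : G → ℂ} (hχ : IsCharacter G χ) (hd : ¬ p ∣ charDegree χ) :
    ∃ φ : IrrCharacter N, classInner (fun n : N => χ n) (φ : N → ℂ) ≠ 0 ∧
      SetInv N P (φ : N → ℂ) := by
  classical
  haveI : Fintype (IrrCharacter N) := Fintype.ofFinite _
  have hχN : IsCharacter N (fun n : N => χ n) :=
    Cfsg.Agent.Lib.Helper83.isCharacter_restrict N hχ
  have hdeg := charDegree_eq_sum_irrMult hχN
  rw [charDegree_restrict] at hdeg
  obtain ⟨k, hk⟩ := IsPGroup.iff_card.mp hP
  have hpow : ∀ t : P, irrAct N P hPN (t ^ (p ^ k)) = 1 := by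
    intro t
    rw [← hk, pow_card_eq_one', map_one]
  have hw : ∀ (t : P) (ξ : IrrCharacter N),
      Cfsg.Agent.Lib.Helper83.irrMult (fun n : N => χ n) (irrAct N P hPN t ξ) *
        charDegree ((irrAct N P hPN t ξ : IrrCharacter N) : N → ℂ) =
      Cfsg.Agent.Lib.Helper83.irrMult (fun n : N => χ n) ξ * charDegree (ξ : N → ℂ) := by
    intro t ξ
    have hrel := irrAct_conjRel N P hPN t ξ
    have h1 : Cfsg.Agent.Lib.Helper83.irrMult (fun n : N => χ n) (irrAct N P hPN t ξ) =
        Cfsg.Agent.Lib.Helper83.irrMult (fun n : N => χ n) ξ := by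
      have h2 : classInner (fun n : N => χ n) ((irrAct N P hPN t ξ : IrrCharacter N) : N → ℂ) =
          classInner (fun n : N => χ n) (ξ : N → ℂ) :=
        ConjRel.classInner_eq (hPN t t.2) (conj_inv_mem hPN t.2)
          (conjRel_restrict_self N (Cfsg.Agent.Lib.Helper83.char_isClassFunction hχ) t) hrel
      have h3 : (Cfsg.Agent.Lib.Helper83.irrMult (fun n : N => χ n) (irrAct N P hPN t ξ) : ℂ) =
          (Cfsg.Agent.Lib.Helper83.irrMult (fun n : N => χ n) ξ : ℂ) := by
        rw [Cfsg.Agent.Lib.Helper83.irrMult_cast hχN, Cfsg.Agent.Lib.Helper83.irrMult_cast hχN, h2]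
      exact_mod_cast h3
    have h4 : charDegree ((irrAct N P hPN t ξ : IrrCharacter N) : N → ℂ) =
        charDegree (ξ : N → ℂ) := by
      have h5 : ((irrAct N P hPN t ξ : IrrCharacter N) : N → ℂ) 1 = (ξ : N → ℂ) 1 := by
        apply hrel 1 1
        simp
      have h6 : (charDegree ((irrAct N P hPN t ξ : IrrCharacter N) : N → ℂ) : ℂ) =
          (charDegree (ξ : N → ℂ) : ℂ) := by
        rw [Cfsg.Agent.Lib.Helper83.charDegree_cast
            (Cfsg.Agent.Lib.Helper83.IrrCharacter_isCharacter _),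
          Cfsg.Agent.Lib.Helper83.charDegree_cast
            (Cfsg.Agent.Lib.Helper83.IrrCharacter_isCharacter _), h5]
      exact_mod_cast h6
    rw [h1, h4]
  have hsum := sum_modEq_sum_fixed_hom p k (irrAct N P hPN) hpow
    (fun ξ => Cfsg.Agent.Lib.Helper83.irrMult (fun n : N => χ n) ξ * charDegree (ξ : N → ℂ)) hw
  rw [← hdeg] at hsum
  by_contra hcon
  push Not at hcon
  have h0 : ∑ ξ ∈ Finset.univ.filter (fun ξ : IrrCharacter N => ∀ t, irrAct N P hPN t ξ = ξ),
      Cfsg.Agent.Lib.Helper83.irrMult (fun n : N => χ n) ξ * charDegree (ξ : N → ℂ) = 0 := by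
    apply Finset.sum_eq_zero
    intro ξ hξ
    have hfix := (Finset.mem_filter.mp hξ).2
    have hinv : SetInv N P (ξ : N → ℂ) := (irrAct_fixed_iff N P hPN ξ).mp hfix
    have hz : Cfsg.Agent.Lib.Helper83.irrMult (fun n : N => χ n) ξ = 0 := by
      by_contra h
      apply hcon ξ _ hinv
      rw [← Cfsg.Agent.Lib.Helper83.irrMult_cast hχN]
      exact_mod_cast h
    rw [hz, zero_mul]
  rw [h0] at hsum
  exact hd ((Nat.modEq_zero_iff_dvd).mp hsum)

/-- the trivial group has only one irreducible character. -/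
theorem subsingleton_irr_of_subsingleton (C : Type u) [Group C] [Finite C] [Subsingleton C] :
    Subsingleton (IrrCharacter C) := by
  haveI : Fintype C := Fintype.ofFinite C
  have h1 : Nat.card (IrrCharacter C) = Nat.card (ConjClasses C) :=
    Cfsg.Agent.Lib.Helper04.card_irr_eq_card_conjClasses
  have h2 : Nat.card (ConjClasses C) = 1 := by
    haveI : Subsingleton (ConjClasses C) := by
      constructor
      intro a b
      obtain ⟨a, rfl⟩ := ConjClasses.exists_rep a
      obtain ⟨b, rfl⟩ := ConjClasses.exists_rep b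
      rw [Subsingleton.elim a b]
    haveI : Nonempty (ConjClasses C) := ⟨ConjClasses.mk 1⟩
    exact Nat.card_unique
  rw [h2] at h1
  haveI : Finite (IrrCharacter C) := Nat.finite_of_card_ne_zero (by rw [h1]; exact one_ne_zero)
  exact (Nat.card_eq_one_iff_unique.mp h1).1

/-- when a `p`-group acts without fixed points on a group of order prime to `p`, the only
invariant irreducible character is the trivial one. -/
theorem eq_one_of_setInv_of_fixed_point_free [Finite G] (p : ℕ) [hp : Fact p.Prime]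
    (N S : Subgroup G) (hS : IsPGroup p S) (hSN : ∀ s ∈ S, ∀ n ∈ N, s * n * s⁻¹ ∈ N)
    (hcop : (Nat.card N).Coprime (Nat.card S))
    (hfix : N ⊓ Subgroup.centralizer (S : Set G) = ⊥) (φ : IrrCharacter N)
    (hφ : SetInv N S (φ : N → ℂ)) : ∀ n : N, (φ : N → ℂ) n = 1 := by
  classical
  haveI : Fintype G := Fintype.ofFinite G
  haveI : Fintype N := Fintype.ofFinite N
  set C : Subgroup G := N ⊓ Subgroup.centralizer (S : Set G) with hC
  haveI : Fintype C := Fintype.ofFinite C
  have hCN : C ≤ N := inf_le_left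
  haveI : Subsingleton C := by
    rw [hfix]
    infer_instance
  haveI : Subsingleton (IrrCharacter C) := subsingleton_irr_of_subsingleton C
  obtain ⟨h1, _, h3, _⟩ := Cfsg.Agent.S4444.result N S hSN hcop p hp.out hS C hC hCN
  have htriv : SetInv N S ((Cfsg.Agent.Lib.Helper83.trivChar N : IrrCharacter N) : N → ℂ) := by
    intro s _ g g' _
    rfl
  obtain ⟨β, ⟨m, hm1, hm2⟩, _⟩ := h1 φ hφ
  obtain ⟨β', ⟨m', hm1', hm2'⟩, _⟩ := h1 (Cfsg.Agent.Lib.Helper83.trivChar N) htriv
  have hβ : β' = β := Subsingleton.elim _ _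
  rw [hβ] at hm1'
  have := h3 φ (Cfsg.Agent.Lib.Helper83.trivChar N) hφ htriv β m m' hm1 hm2 hm1' hm2'
  intro n
  rw [this]
  rfl

end PPrimeKerGlaub

end Cfsg.Agent.Lib.Helper04
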