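import Mathlib
import Cfsg.Agent.Lib.Helper04.PPrimeKerBase
import Cfsg.Agent.Lib.Helper04.IndFun
import Cfsg.Agent.Lib.Helper34.GenChar
import Cfsg.Agent.Lib.Helper83.Constituent
import Cfsg.Agent.Lib.Helper82.CharSchur
import Cfsg.Agent.Lib.Helper82.CharBasic

/-!
# Characters of degree prime to `p` separate the `p'`-elements centralizing a Sylow subgroup
-/

set_option autoImplicit false

namespace Cfsg.Agent.Lib.Helper04

open Cfsg
open scoped ComplexConjugate

universe u

section PPrimeKerInt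

/-- a natural number which is `f` times an algebraic integer is divisible by `f`. -/
theorem natCast_dvd_of_eq_mul_integral {n f : ℕ} {z : ℂ} (hz : IsIntegral ℤ z)
    (h : (n : ℂ) = (f : ℂ) * z) : f ∣ n := by
  rcases Nat.eq_zero_or_pos f with hf | hf
  · subst hf
    rw [Nat.cast_zero, zero_mul] at h
    have : n = 0 := by exact_mod_cast h
    rw [this]
  · have hf' : (f : ℂ) ≠ 0 := by exact_mod_cast hf.ne'
    have hz' : z = (((n : ℚ) / (f : ℚ) : ℚ) : ℂ) := by
      push_cast
      rw [h]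
      field_simp
    rw [hz'] at hz
    have h1 : IsIntegral ℤ ((n : ℚ) / (f : ℚ) : ℚ) := by
      have := (isIntegral_algebraMap_iff (R := ℤ) (A := ℚ) (B := ℂ)
        (algebraMap ℚ ℂ).injective (x := ((n : ℚ) / (f : ℚ) : ℚ))).1
      exact this (by simpa using hz)
    obtain ⟨k, hk⟩ := IsIntegrallyClosed.isIntegral_iff.1 h1
    have hf'' : (f : ℚ) ≠ 0 := by exact_mod_cast hf.ne'
    have h2 : (n : ℚ) = (f : ℚ) * (k : ℚ) := by
      have : ((k : ℤ) : ℚ) = (n : ℚ) / (f : ℚ) := by simpa using hk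
      rw [this]
      field_simp
    have h3 : (n : ℤ) = (f : ℤ) * k := by exact_mod_cast h2
    have h4 : (f : ℤ) ∣ (n : ℤ) := ⟨k, h3⟩
    exact_mod_cast h4

variable {G : Type u} [Group G] [Finite G] (p : ℕ) [hp : Fact p.Prime] (P : Sylow p G)

/-- the value of an irreducible character of degree divisible by `p` at an element centralizing a
Sylow `p`-subgroup is divisible by `p`. -/
theorem exists_integral_mul_of_dvd_degree (c : G)
    (hcP : c ∈ Subgroup.centralizer ((P : Subgroup G) : Set G)) (χ : IrrCharacter G)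
    (hd : p ∣ charDegree (χ : G → ℂ)) :
    ∃ z : ℂ, IsIntegral ℤ z ∧ (χ : G → ℂ) c = (p : ℂ) * z := by
  classical
  obtain ⟨d', hd'⟩ := hd
  have hχc := Cfsg.Agent.Lib.Helper83.IrrCharacter_isCharacter χ
  have hdeg : (χ : G → ℂ) 1 = (p : ℂ) * (d' : ℂ) := by
    rw [← Cfsg.Agent.Lib.Helper83.charDegree_cast hχc, hd']
    push_cast
    ring
  have hω := Cfsg.Agent.Lib.Helper82.IsIrrCharacter.isIntegral_centralChar χ.2 c
  have hPle : (P : Subgroup G) ≤ Subgroup.centralizer ({c} : Set G) := by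
    intro x hx
    rw [Subgroup.mem_centralizer_iff]
    intro y hy
    rw [Set.mem_singleton_iff] at hy
    subst hy
    exact ((Subgroup.mem_centralizer_iff.mp hcP) x hx).symm
  have hclp : ¬ p ∣ (Subgroup.centralizer ({c} : Set G)).index := fun h =>
    P.not_dvd_index (dvd_trans h (Subgroup.index_dvd_of_le hPle))
  have hcoprime : IsCoprime (((Subgroup.centralizer ({c} : Set G)).index : ℕ) : ℤ) (p : ℤ) := by
    rw [Nat.isCoprime_iff_coprime]
    exact ((Nat.Prime.coprime_iff_not_dvd hp.out).mpr hclp).symm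
  obtain ⟨a, b, hab⟩ := hcoprime
  have hχ1 : (χ : G → ℂ) 1 ≠ 0 := by
    obtain ⟨d, hd0, hd1, _⟩ := Cfsg.Agent.Lib.Helper05.exists_degree_dvd χ.2
    rw [hd1]
    exact_mod_cast hd0.ne'
  have hωeq : (((Subgroup.centralizer ({c} : Set G)).index : ℕ) : ℂ) * (χ : G → ℂ) c =
      centralChar (χ : G → ℂ) c * (χ : G → ℂ) 1 := by
    unfold centralChar
    field_simp
  have hab' : (a : ℂ) * (((Subgroup.centralizer ({c} : Set G)).index : ℕ) : ℂ) +
      (b : ℂ) * (p : ℂ) = 1 := by exact_mod_cast hab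
  refine ⟨(a : ℂ) * centralChar (χ : G → ℂ) c * (d' : ℂ) + (b : ℂ) * (χ : G → ℂ) c, ?_, ?_⟩
  · apply IsIntegral.add
    · exact IsIntegral.mul (IsIntegral.mul (isIntegral_intCast a) hω) (isIntegral_natCast d')
    · exact IsIntegral.mul (isIntegral_intCast b)
        (Cfsg.Agent.Lib.Helper82.IsCharacter.isIntegral hχc c)
  · calc (χ : G → ℂ) c
        = ((a : ℂ) * (((Subgroup.centralizer ({c} : Set G)).index : ℕ) : ℂ) +
            (b : ℂ) * (p : ℂ)) * (χ : G → ℂ) c := by rw [hab', one_mul]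
      _ = (a : ℂ) * ((((Subgroup.centralizer ({c} : Set G)).index : ℕ) : ℂ) * (χ : G → ℂ) c) +
            (b : ℂ) * (p : ℂ) * (χ : G → ℂ) c := by ring
      _ = (a : ℂ) * (centralChar (χ : G → ℂ) c * ((p : ℂ) * (d' : ℂ))) +
            (b : ℂ) * (p : ℂ) * (χ : G → ℂ) c := by rw [hωeq, hdeg]
      _ = _ := by ring

/-- **separation**: a nontrivial `p'`-element centralizing a Sylow `p`-subgroup lies outside the
kernel of some irreducible character of degree prime to `p`. -/
theorem exists_pprime_irr_ne_of_centralizes (c : G) (hc1 : c ≠ 1) (hcop : (orderOf c).Coprime p)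
    (hcP : c ∈ Subgroup.centralizer ((P : Subgroup G) : Set G)) :
    ∃ χ : IrrCharacter G, ¬ p ∣ charDegree (χ : G → ℂ) ∧ (χ : G → ℂ) c ≠ (χ : G → ℂ) 1 := by
  classical
  haveI : Fintype G := Fintype.ofFinite G
  haveI : Fintype (IrrCharacter G) := Fintype.ofFinite _
  by_contra hcon
  push Not at hcon
  set π : G → ℂ := indFun (P : Subgroup G) (fun _ => (1 : ℂ)) with hπ
  have hπc : IsCharacter G π :=
    Cfsg.Agent.Lib.Helper34.isCharacter_indFun _ Cfsg.Agent.Lib.Helper83.isCharacter_one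
  have hπ0 : π c = 0 := by
    rw [hπ, indFun_apply]
    have : ∑ x : G, extendByZero (P : Subgroup G) (fun _ => (1 : ℂ)) (x⁻¹ * c * x) = 0 := by
      apply Finset.sum_eq_zero
      intro x _
      apply extendByZero_apply_not_mem
      intro hx
      obtain ⟨k, hk⟩ := P.2 ⟨x⁻¹ * c * x, hx⟩
      have h1 : (x⁻¹ * c * x) ^ (p ^ k) = 1 := by
        have := congrArg Subtype.val hk
        simpa using this
      have h2 : c ^ (p ^ k) = 1 := by
        have h3 : (x⁻¹ * c * x) ^ (p ^ k) = x⁻¹ * c ^ (p ^ k) * x := by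
          have := conj_pow (a := x⁻¹) (b := c) (i := p ^ k)
          rw [inv_inv] at this
          exact this
        rw [h3] at h1
        have : c ^ (p ^ k) = x * (x⁻¹ * c ^ (p ^ k) * x) * x⁻¹ := by group
        rw [this, h1]
        group
      have h4 : orderOf c ∣ p ^ k := orderOf_dvd_of_pow_eq_one h2
      have h5 : orderOf c = 1 := Nat.Coprime.eq_one_of_dvd (hcop.pow_right k) h4
      exact hc1 (orderOf_eq_one_iff.mp h5)
    rw [this, mul_zero]
  have hdec := Cfsg.Agent.Lib.Helper83.char_eq_sum_irrMult hπc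
  have hsumc : ∑ χ : IrrCharacter G,
      (Cfsg.Agent.Lib.Helper83.irrMult π χ : ℂ) * (χ : G → ℂ) c = 0 := by
    have := congrFun hdec c
    rw [Finset.sum_apply, hπ0] at this
    rw [this]
    apply Finset.sum_congr rfl
    intro χ _
    rw [Pi.smul_apply, smul_eq_mul]
  have hsum1 : ∑ χ : IrrCharacter G,
      (Cfsg.Agent.Lib.Helper83.irrMult π χ : ℂ) * (χ : G → ℂ) 1 =
        (((P : Subgroup G).index : ℕ) : ℂ) := by
    have := congrFun hdec 1
    rw [Finset.sum_apply] at this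
    have h1 : π 1 = (((P : Subgroup G).index : ℕ) : ℂ) := by
      rw [hπ, Cfsg.Agent.Lib.Helper83.indFun_one_eq, mul_one]
    rw [← h1, this]
    apply Finset.sum_congr rfl
    intro χ _
    rw [Pi.smul_apply, smul_eq_mul]
  have hterm : ∀ χ : IrrCharacter G, ∃ w : ℂ, IsIntegral ℤ w ∧
      (Cfsg.Agent.Lib.Helper83.irrMult π χ : ℂ) * ((χ : G → ℂ) 1 - (χ : G → ℂ) c) =
        (p : ℂ) * w := by
    intro χ
    by_cases hd : p ∣ charDegree (χ : G → ℂ)
    · obtain ⟨z, hz1, hz2⟩ := exists_integral_mul_of_dvd_degree p P c hcP χ hd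
      obtain ⟨d', hd'⟩ := hd
      have hχc := Cfsg.Agent.Lib.Helper83.IrrCharacter_isCharacter χ
      have hdeg : (χ : G → ℂ) 1 = (p : ℂ) * (d' : ℂ) := by
        rw [← Cfsg.Agent.Lib.Helper83.charDegree_cast hχc, hd']
        push_cast
        ring
      refine ⟨(Cfsg.Agent.Lib.Helper83.irrMult π χ : ℂ) * ((d' : ℂ) - z), ?_, ?_⟩
      · exact IsIntegral.mul (isIntegral_natCast _) (IsIntegral.sub (isIntegral_natCast _) hz1)
      · rw [hz2, hdeg]
        ring
    · refine ⟨0, isIntegral_zero, ?_⟩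
      rw [hcon χ hd, sub_self, mul_zero, mul_zero]
  choose w hw1 hw2 using hterm
  have hfinal : (((P : Subgroup G).index : ℕ) : ℂ) = (p : ℂ) * ∑ χ : IrrCharacter G, w χ := by
    rw [Finset.mul_sum]
    have h1 : ∑ χ : IrrCharacter G, (p : ℂ) * w χ = ∑ χ : IrrCharacter G,
        (Cfsg.Agent.Lib.Helper83.irrMult π χ : ℂ) * ((χ : G → ℂ) 1 - (χ : G → ℂ) c) :=
      Finset.sum_congr rfl (fun χ _ => (hw2 χ).symm)
    rw [h1]
    simp only [mul_sub, Finset.sum_sub_distrib, hsumc, hsum1, sub_zero]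
  have hdvd : p ∣ (P : Subgroup G).index :=
    natCast_dvd_of_eq_mul_integral (IsIntegral.sum _ (fun χ _ => hw1 χ)) hfinal
  exact P.not_dvd_index hdvd

end PPrimeKerInt

end Cfsg.Agent.Lib.Helper04
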