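import Mathlib
import Cfsg.Agent.Lib.Helper04.PPrimeKerInt
import Cfsg.Agent.Lib.Helper03.PGroupFrattini
import Cfsg.Agent.Lib.Helper13.Basic
import Cfsg.Agent.Lib.Helper14.Tate
import Cfsg.Agent.Lib.Helper80.IndDegree
import Cfsg.Agent.Lib.Helper83.Quotient
import Cfsg.Agent.Lib.Helper83.CharMisc
import Cfsg.Agent.Lib.Helper05.CharOrtho

/-!
# The intersection of the kernels of the characters of degree prime to `p`
-/

set_option autoImplicit false

namespace Cfsg.Agent.Lib.Helper04

open Cfsg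
open scoped ComplexConjugate

universe u

section PPrimeKerInf

/-- the intersection of the kernels of the irreducible characters of degree prime to `p`. -/
noncomputable def pprimeKer (p : ℕ) (G : Type u) [Group G] [Finite G] : Subgroup G :=
  ⨅ χ : {χ : IrrCharacter G // ¬ p ∣ charDegree (χ : G → ℂ)},
    Cfsg.Agent.Lib.Helper83.charKer (Cfsg.Agent.Lib.Helper83.IrrCharacter_isCharacter χ.1)

variable {G : Type u} [Group G] [Finite G] (p : ℕ)

theorem mem_pprimeKer (g : G) : g ∈ pprimeKer p G ↔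
    ∀ χ : IrrCharacter G, ¬ p ∣ charDegree (χ : G → ℂ) → (χ : G → ℂ) g = (χ : G → ℂ) 1 := by
  unfold pprimeKer
  rw [Subgroup.mem_iInf]
  constructor
  · intro h χ hχ
    exact (Cfsg.Agent.Lib.Helper83.mem_charKer _ g).mp (h ⟨χ, hχ⟩)
  · intro h χ
    exact (Cfsg.Agent.Lib.Helper83.mem_charKer _ g).mpr (h χ.1 χ.2)

instance pprimeKer_normal : (pprimeKer p G).Normal := by
  unfold pprimeKer
  exact Subgroup.normal_iInf_normal (fun χ => Cfsg.Agent.Lib.Helper83.charKer_normal _)

variable [hp : Fact p.Prime] (P : Sylow p G)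

/-- the kernel meets the Sylow subgroup inside its derived subgroup. -/
theorem pprimeKer_inf_sylow_le :
    pprimeKer p G ⊓ (P : Subgroup G) ≤ ⁅(P : Subgroup G), (P : Subgroup G)⁆ := by
  classical
  haveI : Fintype G := Fintype.ofFinite G
  haveI : Fintype (P : Subgroup G) := Fintype.ofFinite _
  intro x hx
  obtain ⟨hxK, hxP⟩ := Subgroup.mem_inf.mp hx
  by_contra hxc
  have hx' : (⟨x, hxP⟩ : (P : Subgroup G)) ∉ commutator (P : Subgroup G) := by
    intro h
    apply hxc
    rw [← Subgroup.map_subtype_commutator]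
    exact ⟨⟨x, hxP⟩, h, rfl⟩
  obtain ⟨lam, hlam1, hlamx⟩ :=
    Cfsg.Agent.Lib.Helper83.exists_linear_ne_one_of_not_mem_commutator hx'
  have hlamc := Cfsg.Agent.Lib.Helper83.IrrCharacter_isCharacter lam
  set ψ : G → ℂ := indFun (P : Subgroup G) (lam : ↥(P : Subgroup G) → ℂ) with hψ
  have hψc : IsCharacter G ψ := Cfsg.Agent.Lib.Helper34.isCharacter_indFun _ hlamc
  have hψ1 : ψ 1 = (((P : Subgroup G).index : ℕ) : ℂ) := by
    rw [hψ, Cfsg.Agent.Lib.Helper83.indFun_one_eq, hlam1, mul_one]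
  have hψd : ¬ p ∣ charDegree ψ := by
    have : charDegree ψ = (P : Subgroup G).index := by
      have h := Cfsg.Agent.Lib.Helper83.charDegree_cast hψc
      rw [hψ1] at h
      exact_mod_cast h
    rw [this]
    exact P.not_dvd_index
  obtain ⟨χ, hχ1, hχd⟩ := exists_pprime_constituent p hψc hψd
  have hχc := Cfsg.Agent.Lib.Helper83.IrrCharacter_isCharacter χ
  have hfrob : classInner ψ (χ : G → ℂ) =
      classInner (lam : ↥(P : Subgroup G) → ℂ) (fun h : (P : Subgroup G) => (χ : G → ℂ) h) :=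
    frobenius_reciprocity (P : Subgroup G) (lam : ↥(P : Subgroup G) → ℂ) (χ : G → ℂ)
      (Cfsg.Agent.Lib.Helper83.char_isClassFunction hχc)
  rw [hfrob] at hχ1
  have hχ2 : classInner (fun h : (P : Subgroup G) => (χ : G → ℂ) h)
      (lam : ↥(P : Subgroup G) → ℂ) ≠ 0 := by
    rw [← Cfsg.Agent.Lib.Helper05.classInner_conj_symm]
    intro h
    apply hχ1
    have := congrArg conj h
    simpa using this
  have hker := Cfsg.Agent.Lib.Helper80.constituent_ker
    (Cfsg.Agent.Lib.Helper83.isCharacter_restrict (P : Subgroup G) hχc) lam.2 hχ2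
    (l := ⟨x, hxP⟩) (by
      show (χ : G → ℂ) x = (χ : G → ℂ) ((1 : (P : Subgroup G)) : G)
      rw [Subgroup.coe_one]
      exact (mem_pprimeKer p x).mp hxK χ hχd)
  rw [hlam1] at hker
  exact hlamx hker

/-- **the kernel lies in `N P'`**, where `N` is the largest normal subgroup on which the Sylow
subgroup acts without fixed points. -/
theorem pprimeKer_le (N : Subgroup G)
    (hmax : ∀ L : Subgroup G, L.Normal →
      L ⊓ Subgroup.centralizer ((P : Subgroup G) : Set G) = ⊥ → L ≤ N) :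
    pprimeKer p G ≤ N ⊔ ⁅(P : Subgroup G), (P : Subgroup G)⁆ := by
  classical
  have hKn : (pprimeKer p G).Normal := pprimeKer_normal p
  have h1 := pprimeKer_inf_sylow_le p P
  have hfr : pprimeKer p G ⊓ (P : Subgroup G) ≤
      (frattini (P : Subgroup G)).map (P : Subgroup G).subtype := by
    refine h1.trans ?_
    rw [← Subgroup.map_subtype_commutator]
    exact Subgroup.map_mono (Cfsg.Agent.Lib.Helper03.commutator_le_frattini_of_isPGroup P.2)
  obtain ⟨T, hTn, hTK, _, hT2, j, hj⟩ :=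
    Cfsg.Agent.Lib.Helper14.tate_aux P (Nat.card (pprimeKer p G)) (pprimeKer p G) hKn rfl hfr
  have hT3 : T ⊓ Subgroup.centralizer ((P : Subgroup G) : Set G) = ⊥ := by
    rw [Subgroup.eq_bot_iff_forall]
    intro c hc
    by_contra hc1
    obtain ⟨hcT, hcP⟩ := Subgroup.mem_inf.mp hc
    obtain ⟨χ, hχd, hχc⟩ := exists_pprime_irr_ne_of_centralizes p P c hc1 (hT2 c hcT) hcP
    exact hχc ((mem_pprimeKer p c).mp (hTK hcT) χ hχd)
  have hTN : T ≤ N := hmax T hTn hT3
  set R : Subgroup G := T ⊔ (pprimeKer p G ⊓ (P : Subgroup G)) with hR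
  have hTR : T ≤ R := le_sup_left
  have hRK : R ≤ pprimeKer p G := sup_le hTK inf_le_left
  have hidx1 : T.relIndex (pprimeKer p G) = T.relIndex R * R.relIndex (pprimeKer p G) :=
    (Subgroup.relIndex_mul_relIndex T R (pprimeKer p G) hTR hRK).symm
  have hd1 : R.relIndex (pprimeKer p G) ∣ p ^ j := by
    rw [← hj, hidx1]
    exact dvd_mul_left _ _
  have hQR : pprimeKer p G ⊓ (P : Subgroup G) ≤ R := le_sup_right
  have hidx2 : (pprimeKer p G ⊓ (P : Subgroup G)).relIndex (pprimeKer p G) =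
      (pprimeKer p G ⊓ (P : Subgroup G)).relIndex R * R.relIndex (pprimeKer p G) :=
    (Subgroup.relIndex_mul_relIndex _ R (pprimeKer p G) hQR hRK).symm
  have hsyl : ¬ p ∣ (pprimeKer p G ⊓ (P : Subgroup G)).relIndex (pprimeKer p G) := by
    rw [Subgroup.inf_relIndex_left]
    exact Cfsg.Agent.Lib.Helper13.not_dvd_relIndex_of_normal p (P : Subgroup G) (pprimeKer p G)
      P.not_dvd_index
  have hd2 : R.relIndex (pprimeKer p G) ∣
      (pprimeKer p G ⊓ (P : Subgroup G)).relIndex (pprimeKer p G) := by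
    rw [hidx2]
    exact dvd_mul_left _ _
  have hone : R.relIndex (pprimeKer p G) = 1 := by
    obtain ⟨i, _, hi2⟩ := (Nat.dvd_prime_pow hp.out).mp hd1
    cases i with
    | zero => simpa using hi2
    | succ i =>
      exfalso
      apply hsyl
      refine dvd_trans ?_ hd2
      rw [hi2]
      exact dvd_pow_self p (Nat.succ_ne_zero i)
  have hKR : pprimeKer p G ≤ R := Subgroup.relIndex_eq_one.mp hone
  exact hKR.trans (sup_le_sup hTN h1)

end PPrimeKerInf

end Cfsg.Agent.Lib.Helper04
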