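import Mathlib
import Cfsg.Agent.Lib.Helper04.PPrimeKerGlaub
import Cfsg.Agent.Lib.Helper03.PGroupNormal
import Cfsg.Agent.Lib.Helper14.Tate
import Cfsg.Agent.Lib.Helper83.Quotient

/-!
# Characters of degree prime to `p`: the core of `N P'` lies in their kernels
-/

set_option autoImplicit false

namespace Cfsg.Agent.Lib.Helper04

open Cfsg
open scoped ComplexConjugate

universe u

section PPrimeKerSup

variable {G : Type u} [Group G] [Finite G] (p : ℕ) [hp : Fact p.Prime] (P : Sylow p G)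
  (N : Subgroup G) [hNn : N.Normal]

include hp in
/-- a normal subgroup on which the Sylow subgroup acts without fixed points meets it trivially. -/
theorem inf_sylow_eq_bot_of_fixed_point_free
    (hN : N ⊓ Subgroup.centralizer ((P : Subgroup G) : Set G) = ⊥) :
    N ⊓ (P : Subgroup G) = ⊥ := by
  by_contra hne
  have hQ : N.subgroupOf (P : Subgroup G) ≠ ⊥ := by
    intro h
    rw [Subgroup.subgroupOf_eq_bot] at h
    exact hne (disjoint_iff.mp h)
  obtain ⟨z, hzN, hzc, hz1⟩ :=
    Cfsg.Agent.Lib.Helper03.exists_mem_center_of_normal_ne_bot P.2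
      (N.subgroupOf (P : Subgroup G)) hQ
  have h1 : (z : G) ∈ N := Subgroup.mem_subgroupOf.mp hzN
  have h2 : (z : G) ∈ Subgroup.centralizer ((P : Subgroup G) : Set G) := by
    rw [Subgroup.mem_centralizer_iff]
    intro x hx
    have h3 := Subgroup.mem_center_iff.mp hzc ⟨x, hx⟩
    exact congrArg Subtype.val h3
  have h4 : (z : G) ∈ N ⊓ Subgroup.centralizer ((P : Subgroup G) : Set G) := ⟨h1, h2⟩
  rw [hN, Subgroup.mem_bot] at h4
  exact hz1 (Subtype.ext h4)

include hp in
/-- a normal subgroup meeting the Sylow subgroup trivially has order prime to `p`. -/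
theorem coprime_card_of_inf_sylow_eq_bot (h0 : N ⊓ (P : Subgroup G) = ⊥) :
    (Nat.card N).Coprime (Nat.card (P : Subgroup G)) := by
  obtain ⟨k, hk⟩ := IsPGroup.iff_card.mp P.2
  rw [hk]
  apply Nat.Coprime.pow_right
  rw [Nat.coprime_comm, Nat.Prime.coprime_iff_not_dvd hp.out]
  intro hdvd
  obtain ⟨x, hx⟩ := exists_prime_orderOf_dvd_card' p hdvd
  have h1 := Cfsg.Agent.Lib.Helper14.coprime_orderOf_of_inf_sylow_eq_bot P N h0 x.2
  have h2 : orderOf (x : G) = p := by
    rw [Subgroup.orderOf_coe]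
    exact hx
  rw [h2] at h1
  exact hp.out.one_lt.ne' ((Nat.coprime_self p).mp h1)

/-- **step A**: a normal subgroup on which the Sylow subgroup acts without fixed points lies in
the kernel of every irreducible character of degree prime to `p`. -/
theorem kernel_of_fixed_point_free
    (hN : N ⊓ Subgroup.centralizer ((P : Subgroup G) : Set G) = ⊥)
    (χ : IrrCharacter G) (hd : ¬ p ∣ charDegree (χ : G → ℂ)) :
    ∀ n ∈ N, (χ : G → ℂ) n = (χ : G → ℂ) 1 := by
  classical
  haveI : Fintype G := Fintype.ofFinite G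
  haveI : Fintype N := Fintype.ofFinite N
  have h0 := inf_sylow_eq_bot_of_fixed_point_free p P N hN
  have hcop := coprime_card_of_inf_sylow_eq_bot p P N h0
  have hPN : ∀ x ∈ (P : Subgroup G), ∀ n ∈ N, x * n * x⁻¹ ∈ N :=
    fun x _ n hn => hNn.conj_mem n hn x
  have hχc := Cfsg.Agent.Lib.Helper83.IrrCharacter_isCharacter χ
  obtain ⟨φ, hφ1, hφ2⟩ := exists_inv_constituent p N (P : Subgroup G) P.2 hPN hχc hd
  have hφ3 := eq_one_of_setInv_of_fixed_point_free p N (P : Subgroup G) P.2 hPN hcop hN φ hφ2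
  have hφ4 : (φ : N → ℂ) = fun _ => 1 := funext hφ3
  rw [hφ4] at hφ1
  exact Cfsg.Agent.Lib.Helper84.irr_const_of_classInner_one_ne_zero N χ.2 hφ1

/-- **the core of `N P'` lies in the kernel** of every irreducible character of degree prime
to `p`. -/
theorem kernel_of_core
    (hN : N ⊓ Subgroup.centralizer ((P : Subgroup G) : Set G) = ⊥)
    (χ : IrrCharacter G) (hd : ¬ p ∣ charDegree (χ : G → ℂ)) :
    ∀ g ∈ (N ⊔ ⁅(P : Subgroup G), (P : Subgroup G)⁆).normalCore,
      (χ : G → ℂ) g = (χ : G → ℂ) 1 := by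
  classical
  have hA := kernel_of_fixed_point_free p P N hN χ hd
  set χq : IrrCharacter (G ⧸ N) :=
    (Cfsg.Agent.Lib.Helper83.irrQuotientEquiv N).symm ⟨χ, hA⟩ with hχq
  have hval : ∀ g : G, (χq : G ⧸ N → ℂ) (QuotientGroup.mk g) = (χ : G → ℂ) g := fun g =>
    Cfsg.Agent.Lib.Helper83.irrQuotientEquiv_symm_apply N ⟨χ, hA⟩ g
  have hval1 : (χq : G ⧸ N → ℂ) 1 = (χ : G → ℂ) 1 := by
    rw [← hval 1, QuotientGroup.mk_one]
  have hdq : ¬ p ∣ charDegree (χq : G ⧸ N → ℂ) := by
    unfold charDegree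
    rw [hval1]
    exact hd
  set Pq : Subgroup (G ⧸ N) := (P : Subgroup G).map (QuotientGroup.mk' N) with hPq
  have hPqp : IsPGroup p Pq := IsPGroup.map P.2 _
  set Mq : Subgroup (G ⧸ N) :=
    ((N ⊔ ⁅(P : Subgroup G), (P : Subgroup G)⁆).normalCore).map (QuotientGroup.mk' N) with hMq
  haveI : Mq.Normal :=
    Subgroup.Normal.map (Subgroup.normalCore_normal _) _ (QuotientGroup.mk'_surjective N)
  have hMqle : Mq ≤ ⁅Pq, Pq⁆ := by
    have h1 : Mq ≤ (N ⊔ ⁅(P : Subgroup G), (P : Subgroup G)⁆).map (QuotientGroup.mk' N) :=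
      Subgroup.map_mono (Subgroup.normalCore_le _)
    rw [Subgroup.map_sup, QuotientGroup.map_mk'_self, bot_sup_eq, Subgroup.map_commutator] at h1
    exact h1
  have hB := kernel_of_le_commutator p Pq Mq hPqp hMqle χq hdq
  intro g hg
  rw [← hval g, ← hval1]
  apply hB
  exact Subgroup.mem_map_of_mem _ hg

end PPrimeKerSup

end Cfsg.Agent.Lib.Helper04
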