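import Mathlib
import Cfsg.Agent.S4591
import Cfsg.Agent.Lib.Helper04.PPrimeKerSup
import Cfsg.Agent.Lib.Helper79.PSolvPrincipal
import Cfsg.Agent.Lib.Helper21.QuotBlock2
import Cfsg.Agent.Lib.Helper14.Tate
import Cfsg.Agent.Lib.Helper03.PGroupFrattini
import Cfsg.Agent.Lib.Helper01.PPrimeCore
import Cfsg.Agent.Lib.Helper29.PCore
import Cfsg.Agent.Lib.Helper83.Quotient

/-!
# Characters of degree prime to `p` in the principal block of a `p`-solvable group
-/

set_option autoImplicit false

namespace Cfsg.Agent.Lib.Helper04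

open Cfsg
open scoped ComplexConjugate

universe u

section PrincipalPQ

variable {H : Type u} [Group H] [Finite H] (p : ℕ) [hp : Fact p.Prime]

include hp in
/-- when `O_{p'}(H) = 1`, a normal subgroup on which a Sylow subgroup acts without fixed points
is trivial. -/
theorem le_bot_of_fixed_point_free_of_core (hcore : pPrimeCore p H = ⊥) (P : Sylow p H)
    (L : Subgroup H) (hL : L.Normal)
    (h : L ⊓ Subgroup.centralizer ((P : Subgroup H) : Set H) = ⊥) : L ≤ ⊥ := by
  haveI := hL
  have h0 := inf_sylow_eq_bot_of_fixed_point_free p P L h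
  have hc := coprime_card_of_inf_sylow_eq_bot p P L h0
  obtain ⟨k, hk⟩ := IsPGroup.iff_card.mp P.2
  have hc' : (Nat.card L).Coprime p := by
    rw [Nat.coprime_comm, Nat.Prime.coprime_iff_not_dvd hp.out]
    intro hdvd
    obtain ⟨x, hx⟩ := exists_prime_orderOf_dvd_card' p hdvd
    have h1 := Cfsg.Agent.Lib.Helper14.coprime_orderOf_of_inf_sylow_eq_bot P L h0 x.2
    have h2 : orderOf (x : H) = p := by
      rw [Subgroup.orderOf_coe]
      exact hx
    rw [h2] at h1
    exact hp.out.one_lt.ne' ((Nat.coprime_self p).mp h1)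
  rw [← hcore]
  exact Cfsg.Agent.Lib.Helper01.le_pPrimeCore hL hc'

include hp in
/-- a subgroup all of whose elements have order prime to `p` has order prime to `p`. -/
theorem coprime_card_of_forall_coprime_orderOf (T : Subgroup H)
    (hT : ∀ x ∈ T, (orderOf x).Coprime p) : (Nat.card T).Coprime p := by
  rw [Nat.coprime_comm, Nat.Prime.coprime_iff_not_dvd hp.out]
  intro hdvd
  obtain ⟨x, hx⟩ := exists_prime_orderOf_dvd_card' p hdvd
  have h1 := hT x x.2
  have h2 : orderOf (x : H) = p := by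
    rw [Subgroup.orderOf_coe]
    exact hx
  rw [h2] at h1
  exact hp.out.one_lt.ne' ((Nat.coprime_self p).mp h1)

include hp in
/-- **no `p'`-section above the core of `P'`** when `O_{p'}(H) = 1`. -/
theorem le_core_of_coprime_relIndex (hcore : pPrimeCore p H = ⊥) (P : Sylow p H)
    (L : Subgroup H) (hL : L.Normal)
    (hBL : (⁅(P : Subgroup H), (P : Subgroup H)⁆).normalCore ≤ L)
    (hcop : ((⁅(P : Subgroup H), (P : Subgroup H)⁆).normalCore.relIndex L).Coprime p) :
    L ≤ (⁅(P : Subgroup H), (P : Subgroup H)⁆).normalCore := by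
  classical
  set B : Subgroup H := (⁅(P : Subgroup H), (P : Subgroup H)⁆).normalCore with hB
  have hBP' : B ≤ ⁅(P : Subgroup H), (P : Subgroup H)⁆ := Subgroup.normalCore_le _
  have hBP : B ≤ (P : Subgroup H) := hBP'.trans (Subgroup.commutator_le_self _)
  -- `L ∩ P ≤ B`
  have hLPB : L ⊓ (P : Subgroup H) ≤ B := by
    have hle1 : B ≤ L ⊓ (P : Subgroup H) := le_inf hBL hBP
    have hle2 : L ⊓ (P : Subgroup H) ≤ L := inf_le_left
    have hmul := Subgroup.relIndex_mul_relIndex B (L ⊓ (P : Subgroup H)) L hle1 hle2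
    have hd1 : B.relIndex (L ⊓ (P : Subgroup H)) ∣ B.relIndex L := by
      rw [← hmul]
      exact dvd_mul_right _ _
    have hd2 : B.relIndex (L ⊓ (P : Subgroup H)) ∣ Nat.card (L ⊓ (P : Subgroup H) : Subgroup H) :=
      Subgroup.relIndex_dvd_card _ _
    have hpg : IsPGroup p (L ⊓ (P : Subgroup H) : Subgroup H) := P.2.to_le inf_le_right
    obtain ⟨k, hk⟩ := IsPGroup.iff_card.mp hpg
    rw [hk] at hd2
    obtain ⟨i, _, hi2⟩ := (Nat.dvd_prime_pow hp.out).mp hd2
    have hone : B.relIndex (L ⊓ (P : Subgroup H)) = 1 := by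
      cases i with
      | zero => simpa using hi2
      | succ i =>
        exfalso
        have hpd : p ∣ B.relIndex L := by
          refine dvd_trans ?_ hd1
          rw [hi2]
          exact dvd_pow_self p (Nat.succ_ne_zero i)
        have := Nat.Coprime.eq_one_of_dvd hcop.symm hpd
        exact hp.out.one_lt.ne' this
    exact Subgroup.relIndex_eq_one.mp hone
  have hfr : L ⊓ (P : Subgroup H) ≤
      (frattini (P : Subgroup H)).map (P : Subgroup H).subtype := by
    refine (hLPB.trans hBP').trans ?_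
    rw [← Subgroup.map_subtype_commutator]
    exact Subgroup.map_mono (Cfsg.Agent.Lib.Helper03.commutator_le_frattini_of_isPGroup P.2)
  obtain ⟨T, hTn, hTL, _, hT2, j, hj⟩ :=
    Cfsg.Agent.Lib.Helper14.tate_aux P (Nat.card L) L hL rfl hfr
  have hTc : (Nat.card T).Coprime p := coprime_card_of_forall_coprime_orderOf p T hT2
  have hTbot : T = ⊥ := by
    have := Cfsg.Agent.Lib.Helper01.le_pPrimeCore hTn hTc
    rw [hcore] at this
    exact le_bot_iff.mp this
  have hLcard : Nat.card L = p ^ j := by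
    rw [← hj, hTbot, Subgroup.relIndex_bot_left]
  have hd : B.relIndex L ∣ p ^ j := by
    rw [← hLcard]
    exact Subgroup.relIndex_dvd_card _ _
  obtain ⟨i, _, hi2⟩ := (Nat.dvd_prime_pow hp.out).mp hd
  have hone : B.relIndex L = 1 := by
    cases i with
    | zero => simpa using hi2
    | succ i =>
      exfalso
      have hpd : p ∣ B.relIndex L := by
        rw [hi2]
        exact dvd_pow_self p (Nat.succ_ne_zero i)
      have := Nat.Coprime.eq_one_of_dvd hcop.symm hpd
      exact hp.out.one_lt.ne' this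
  exact Subgroup.relIndex_eq_one.mp hone

include hp in
/-- the core of `P'` is proper when `p` divides the order. -/
theorem card_eq_one_of_core_commutator_eq_top (P : Sylow p H)
    (htop : (⁅(P : Subgroup H), (P : Subgroup H)⁆).normalCore = ⊤) : Subsingleton H := by
  have h1 : ⁅(P : Subgroup H), (P : Subgroup H)⁆ = ⊤ :=
    top_le_iff.mp (htop ▸ Subgroup.normalCore_le _)
  have h2 : (P : Subgroup H) = ⊤ := top_le_iff.mp (h1 ▸ Subgroup.commutator_le_self _)
  have hpg : IsPGroup p H := by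
    have := P.2
    rw [h2] at this
    exact this.of_equiv Subgroup.topEquiv
  haveI : Group.IsNilpotent H := hpg.isNilpotent
  by_contra hns
  rw [not_subsingleton_iff_nontrivial] at hns
  have hlt := IsSolvable.commutator_lt_top_of_nontrivial H
  rw [commutator_def, ← h2] at hlt
  rw [h1] at hlt
  rw [h2] at hlt
  exact lt_irrefl _ hlt

end PrincipalPQ

section PrincipalSide

variable {G : Type u} [Group G] [Finite G] (p : ℕ) [hp : Fact p.Prime]

/-- the preimage in `G` of the core of `P̄'` in `G / O_{p'}(G)`. -/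
noncomputable def ppKer (P : Sylow p (G ⧸ pPrimeCore p G)) : Subgroup G :=
  ((⁅(P : Subgroup (G ⧸ pPrimeCore p G)), (P : Subgroup (G ⧸ pPrimeCore p G))⁆).normalCore).comap
    (QuotientGroup.mk' (pPrimeCore p G))

instance ppKer_normal (P : Sylow p (G ⧸ pPrimeCore p G)) : (ppKer p P).Normal := by
  unfold ppKer
  infer_instance

theorem mem_ppKer (P : Sylow p (G ⧸ pPrimeCore p G)) (g : G) :
    g ∈ ppKer p P ↔ (QuotientGroup.mk g : G ⧸ pPrimeCore p G) ∈
      (⁅(P : Subgroup (G ⧸ pPrimeCore p G)), (P : Subgroup (G ⧸ pPrimeCore p G))⁆).normalCore :=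
  Iff.rfl

include hp in
/-- **the common kernel of the characters of degree prime to `p` in the principal block** of a
`p`-solvable group. -/
theorem mem_ppKer_iff (hps : IsPSolvable p G) (M : Ideal AlgInt) (hM : IsPModular p M)
    (P : Sylow p (G ⧸ pPrimeCore p G)) (g : G) :
    g ∈ ppKer p P ↔ ∀ χ : IrrCharacter G,
      (χ ∈ principalBlock M G ∧ ¬ p ∣ charDegree (χ : G → ℂ)) →
        (χ : G → ℂ) g = (χ : G → ℂ) 1 := by
  classical
  have hcore : pPrimeCore p (G ⧸ pPrimeCore p G) = ⊥ :=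
    Cfsg.Agent.Lib.Helper29.pPrimeCore_quotient_eq_bot p
  have hN : (⊥ : Subgroup (G ⧸ pPrimeCore p G)) ⊓
      Subgroup.centralizer ((P : Subgroup (G ⧸ pPrimeCore p G)) : Set (G ⧸ pPrimeCore p G)) = ⊥ :=
    bot_inf_eq _
  have hmax : ∀ L : Subgroup (G ⧸ pPrimeCore p G), L.Normal →
      L ⊓ Subgroup.centralizer ((P : Subgroup (G ⧸ pPrimeCore p G)) : Set (G ⧸ pPrimeCore p G)) = ⊥ →
      L ≤ ⊥ := fun L hL h => le_bot_of_fixed_point_free_of_core p hcore P L hL h
  have hE := Cfsg.Agent.S4591.result p P ⊥ hN hmax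
  rw [bot_sup_eq] at hE
  rw [mem_ppKer, ← SetLike.mem_coe, ← hE, Set.mem_setOf_eq]
  constructor
  · rintro h1 χ ⟨hχB, hχd⟩
    have hker := Cfsg.Agent.Lib.Helper79.principalBlock_ker p M hM χ hχB
    have hψ : ∀ x : G, (((Cfsg.Agent.Lib.Helper83.irrQuotientEquiv (pPrimeCore p G)).symm ⟨χ, hker⟩ :
        IrrCharacter (G ⧸ pPrimeCore p G)) : G ⧸ pPrimeCore p G → ℂ) (QuotientGroup.mk x) =
        (χ : G → ℂ) x :=
      Cfsg.Agent.Lib.Helper83.irrQuotientEquiv_symm_apply (pPrimeCore p G) ⟨χ, hker⟩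
    have hdeg := Cfsg.Agent.Lib.Helper21.charDegree_irrQuotientEquiv (pPrimeCore p G)
      ((Cfsg.Agent.Lib.Helper83.irrQuotientEquiv (pPrimeCore p G)).symm ⟨χ, hker⟩)
    rw [Equiv.apply_symm_apply] at hdeg
    have h2 := h1 ((Cfsg.Agent.Lib.Helper83.irrQuotientEquiv (pPrimeCore p G)).symm ⟨χ, hker⟩)
      (by rw [← hdeg]; exact hχd)
    rw [← hψ g, ← hψ 1]
    exact h2
  · intro h2 ψ hψd
    have hχ : ∀ x : G, (((Cfsg.Agent.Lib.Helper83.irrQuotientEquiv (pPrimeCore p G) ψ).1 :
        IrrCharacter G) : G → ℂ) x = (ψ : G ⧸ pPrimeCore p G → ℂ) (QuotientGroup.mk x) :=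
      Cfsg.Agent.Lib.Helper83.irrQuotientEquiv_apply (pPrimeCore p G) ψ
    have hker := (Cfsg.Agent.Lib.Helper83.irrQuotientEquiv (pPrimeCore p G) ψ).2
    have hB := Cfsg.Agent.Lib.Helper79.mem_principalBlock_of_ker p M hM hps _ hker
    have hdeg := Cfsg.Agent.Lib.Helper21.charDegree_irrQuotientEquiv (pPrimeCore p G) ψ
    have h3 := h2 _ ⟨hB, by rw [hdeg]; exact hψd⟩
    rw [hχ g, hχ 1] at h3
    exact h3

include hp in
/-- no normal `p'`-section sits directly above `ppKer`. -/
theorem le_ppKer_of_coprime_relIndex (P : Sylow p (G ⧸ pPrimeCore p G))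
    (Y : Subgroup G) (hY : Y.Normal) (hKY : ppKer p P ≤ Y)
    (hcop : ((ppKer p P).relIndex Y).Coprime p) : Y ≤ ppKer p P := by
  have hcore : pPrimeCore p (G ⧸ pPrimeCore p G) = ⊥ :=
    Cfsg.Agent.Lib.Helper29.pPrimeCore_quotient_eq_bot p
  have hsurj : Function.Surjective (QuotientGroup.mk' (pPrimeCore p G)) :=
    QuotientGroup.mk'_surjective _
  have hLn : (Y.map (QuotientGroup.mk' (pPrimeCore p G))).Normal :=
    hY.map _ hsurj
  have hBL : (⁅(P : Subgroup (G ⧸ pPrimeCore p G)),
      (P : Subgroup (G ⧸ pPrimeCore p G))⁆).normalCore ≤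
      Y.map (QuotientGroup.mk' (pPrimeCore p G)) := by
    have := Subgroup.map_mono (f := QuotientGroup.mk' (pPrimeCore p G)) hKY
    unfold ppKer at this
    rwa [Subgroup.map_comap_eq_self_of_surjective hsurj] at this
  have hrel : (⁅(P : Subgroup (G ⧸ pPrimeCore p G)),
      (P : Subgroup (G ⧸ pPrimeCore p G))⁆).normalCore.relIndex
      (Y.map (QuotientGroup.mk' (pPrimeCore p G))) = (ppKer p P).relIndex Y := by
    unfold ppKer
    rw [Subgroup.relIndex_comap]
  have hle := le_core_of_coprime_relIndex p hcore P _ hLn hBL (by rw [hrel]; exact hcop)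
  intro y hy
  rw [mem_ppKer]
  exact hle (Subgroup.mem_map_of_mem _ hy)

include hp in
/-- `ppKer` is proper when `p` divides the order of `G`. -/
theorem ppKer_ne_top (hdvd : p ∣ Nat.card G) (P : Sylow p (G ⧸ pPrimeCore p G)) :
    ppKer p P ≠ ⊤ := by
  intro htop
  have hsurj : Function.Surjective (QuotientGroup.mk' (pPrimeCore p G)) :=
    QuotientGroup.mk'_surjective _
  have h1 : (⁅(P : Subgroup (G ⧸ pPrimeCore p G)),
      (P : Subgroup (G ⧸ pPrimeCore p G))⁆).normalCore = ⊤ := by
    rw [eq_top_iff]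
    intro x _
    obtain ⟨g, rfl⟩ := hsurj x
    have : g ∈ ppKer p P := by rw [htop]; exact Subgroup.mem_top g
    exact (mem_ppKer p P g).mp this
  have hsub := card_eq_one_of_core_commutator_eq_top p P h1
  have hA : pPrimeCore p G = ⊤ := by
    rw [eq_top_iff]
    intro g _
    have : (QuotientGroup.mk g : G ⧸ pPrimeCore p G) = 1 := Subsingleton.elim _ _
    exact (QuotientGroup.eq_one_iff g).mp this
  have hcop := Cfsg.Agent.Lib.Helper01.pPrimeCore_card_coprime (G := G) p
  rw [hA, Subgroup.card_top] at hcop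
  have := Nat.Coprime.eq_one_of_dvd hcop.symm hdvd
  exact hp.out.one_lt.ne' this

end PrincipalSide

end Cfsg.Agent.Lib.Helper04
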