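import Mathlib
import Cfsg.Agent.Lib.Helper49.RSU3Defs

/-!
# Pack K-RSU3 (S2283), leaf L17 (keystone 228317): `span_eight`
-/

set_option autoImplicit false
set_option linter.unusedSectionVars false
set_option linter.unusedVariables false

namespace Cfsg.Agent.Lib.Helper04.RSU3

open Matrix Cfsg.Agent.Lib.Helper49.StSU Cfsg.Agent.Lib.Helper49.RSU3

variable {F : Type*} [Field F] [Fintype F] {q : ℕ}

/-- L17 -/
theorem span_eight (hq8 : q = 8) (hF : Fintype.card F = q ^ 2) (μ : F) (hμ : orderOf μ = q + 1)
    (c : F) (hc : c ^ 4 ≠ c) (S : Set F) (h1 : (1 : F) ∈ S)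
    (hadd : ∀ a ∈ S, ∀ b ∈ S, a + b ∈ S) (hmul1 : ∀ a ∈ S, μ ^ 3 * a ∈ S)
    (hmul2 : ∀ a ∈ S, c * a ∈ S) : ∀ x : F, x ∈ S := by
  classical
  subst hq8
  have hcard : Fintype.card F = 64 := by rw [hF]; norm_num
  have hNcard : Nat.card F = 64 := by rw [Nat.card_eq_fintype_card, hcard]
  -- characteristic 2
  have h64 : ((64 : ℕ) : F) = 0 := by
    rw [← hcard]; exact FiniteField.cast_card_eq_zero F
  have h2 : (2 : F) = 0 := by
    have : (2 : F) ^ 6 = 0 := by
      have e : ((64 : ℕ) : F) = (2 : F) ^ 6 := by norm_num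
      rw [← e]; exact h64
    exact pow_eq_zero_iff (by norm_num) |>.1 this
  have hneg : ∀ x : F, -x = x := by
    intro x
    have : x + x = 0 := by rw [← two_mul, h2, zero_mul]
    exact neg_eq_of_add_eq_zero_left this
  have h0 : (0 : F) ∈ S := by
    have : (1 : F) + 1 = 0 := by rw [one_add_one_eq_two, h2]
    rw [← this]; exact hadd 1 h1 1 h1
  -- ω = μ^3 has ω^3 = 1, ω ≠ 1
  set ω : F := μ ^ 3 with hω
  have hω3 : ω ^ 3 = 1 := by
    rw [hω, ← pow_mul]
    have : μ ^ orderOf μ = 1 := pow_orderOf_eq_one μ
    rw [hμ] at this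
    exact this
  have hω1 : ω ≠ 1 := by
    intro h
    have : orderOf μ ∣ 3 := orderOf_dvd_of_pow_eq_one h
    rw [hμ] at this
    have := Nat.le_of_dvd (by norm_num) this
    omega
  have hω0 : ω ≠ 0 := by
    intro h
    rw [h] at hω3
    norm_num at hω3
  -- the multiplier subring
  let R : Subring F :=
    { carrier := {x | ∀ s ∈ S, x * s ∈ S}
      mul_mem' := fun {x y} hx hy s hs => by rw [mul_assoc]; exact hx _ (hy s hs)
      one_mem' := fun s hs => by rw [one_mul]; exact hs
      add_mem' := fun {x y} hx hy s hs => by rw [add_mul]; exact hadd _ (hx s hs) _ (hy s hs)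
      zero_mem' := fun s hs => by rw [zero_mul]; exact h0
      neg_mem' := fun {x} hx s hs => by rw [hneg]; exact hx s hs }
  have hRmem : ∀ x : F, x ∈ R ↔ ∀ s ∈ S, x * s ∈ S := fun x => Iff.rfl
  have hpowR : ∀ (x : F), x ∈ R → ∀ n : ℕ, x ^ n ∈ R := fun x hx n => R.pow_mem hx n
  let A : Subfield F :=
    { R with
      inv_mem' := by
        intro x hx
        by_cases hx0 : x = 0
        · rw [hx0, _root_.inv_zero]; exact R.zero_mem
        · have h63 : x ^ 63 = 1 := by
            have := FiniteField.pow_card_sub_one_eq_one x hx0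
            rw [hcard] at this
            exact this
          have : x⁻¹ = x ^ 62 := by
            apply inv_eq_of_mul_eq_one_right
            rw [← pow_succ', h63]
          rw [this]
          exact hpowR x hx 62 }
  have hAmem : ∀ x : F, x ∈ A ↔ ∀ s ∈ S, x * s ∈ S := fun x => Iff.rfl
  have hωA : ω ∈ A := (hAmem ω).2 (fun s hs => hmul1 s hs)
  have hcA : c ∈ A := (hAmem c).2 (fun s hs => hmul2 s hs)
  -- cardinality of A
  set n := Nat.card ↥A with hn
  have hn_dvd : n ∣ 64 := by
    have := AddSubgroup.card_addSubgroup_dvd_card (A.toSubring.toAddSubgroup)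
    rw [hNcard] at this
    exact this
  have hn_units : n - 1 ∣ 63 := by
    have hinj : Function.Injective (Units.map (A.subtype : ↥A →+* F).toMonoidHom) :=
      Units.map_injective (by
        intro a b hab
        exact Subtype.ext hab)
    have := Subgroup.card_dvd_of_injective _ hinj
    rw [Nat.card_units, Nat.card_units, hNcard] at this
    exact this
  have hpowA : ∀ x : F, x ∈ A → x ^ n = x := by
    intro x hx
    have e : Fintype.card ↥A = n := by rw [hn, Nat.card_eq_fintype_card]
    have h := FiniteField.pow_card (⟨x, hx⟩ : ↥A)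
    rw [e] at h
    have h' := congrArg Subtype.val h
    simpa using h'
  have hn64 : n = 64 := by
    have hle : n ≤ 64 := Nat.le_of_dvd (by norm_num) hn_dvd
    have hpos : 0 < n := Nat.pos_of_dvd_of_pos hn_dvd (by norm_num)
    interval_cases n
    all_goals first
      | rfl
      | (exfalso; revert hn_dvd; decide)
      | (exfalso; revert hn_units; decide)
      | skip
    · -- n = 2
      exfalso
      have := hpowA ω hωA
      have h' : ω * (ω - 1) = 0 := by rw [mul_sub, mul_one, ← pow_two, this, sub_self]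
      rcases mul_eq_zero.1 h' with h | h
      · exact hω0 h
      · exact hω1 (sub_eq_zero.1 h)
    · -- n = 4
      exfalso
      exact hc (hpowA c hcA)
    · -- n = 8
      exfalso
      have := hpowA ω hωA
      have h8 : ω ^ 8 = ω ^ 2 := by
        calc ω ^ 8 = (ω ^ 3) ^ 2 * ω ^ 2 := by ring
          _ = ω ^ 2 := by rw [hω3, one_pow, one_mul]
      rw [h8] at this
      have h' : ω * (ω - 1) = 0 := by rw [mul_sub, mul_one, ← pow_two, this, sub_self]
      rcases mul_eq_zero.1 h' with h | h
      · exact hω0 h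
      · exact hω1 (sub_eq_zero.1 h)
  -- A = everything
  have hsurj : Function.Surjective (A.subtype : ↥A → F) := by
    have hinj : Function.Injective (A.subtype : ↥A → F) := Subtype.val_injective
    have hcardeq : Fintype.card ↥A = Fintype.card F := by
      rw [hcard, ← Nat.card_eq_fintype_card]; exact hn64
    exact ((Fintype.bijective_iff_injective_and_card _).2 ⟨hinj, hcardeq⟩).2
  intro x
  obtain ⟨a, ha⟩ := hsurj x
  have hxA : x ∈ A := by rw [← ha]; exact a.2
  have := (hAmem x).1 hxA 1 h1
  rwa [mul_one] at this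

end Cfsg.Agent.Lib.Helper04.RSU3
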