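import Mathlib
import Cfsg.Agent.Lib.Helper04.RelSylEquiv

/-!
# The composite of the Gallagher and Clifford correspondences

For `N ⊴ G`, `θ ∈ Irr(N)` with stabilizer `T` in `G` and an extension `θh` of `θ` to `T`, the map
`β ↦ (β θh)^G` is a bijection from the irreducible characters of `T` with `N` in the kernel onto
the irreducible characters of `G` over `θ`, compatible with conjugation.
-/

set_option autoImplicit false

namespace Cfsg.Agent.Lib.Helper04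

open Cfsg
open scoped ComplexConjugate

section RelSylBij

universe u

variable {Γ : Type u} [Group Γ] [Finite Γ]

section Corr

variable {G N T : Subgroup Γ} [Fintype N] (hNG : N ≤ G)
  (hGN : ∀ g ∈ G, ∀ n ∈ N, g * n * g⁻¹ ∈ N) (θ : IrrCharacter N) (hNT : N ≤ T) (hTG : T ≤ G)
  (hT : ∀ g ∈ G, g ∈ T ↔ ConjRel N g (θ : N → ℂ) (θ : N → ℂ))

include hNG hGN hNT hTG hT in
/-- the Clifford correspondent of a character fixed by `x` is fixed by `x`. -/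
theorem cliff_corr_conjRel [Fintype G] (ψ : IrrCharacter T)
    (h1 : classInner (resTo hNT (ψ : T → ℂ)) (θ : N → ℂ) ≠ 0) {x : Γ}
    (hxG : ∀ g ∈ G, x * g * x⁻¹ ∈ G) (hxG' : ∀ g ∈ G, x⁻¹ * g * x ∈ G)
    (hxT : ∀ t ∈ T, x * t * x⁻¹ ∈ T) (hxT' : ∀ t ∈ T, x⁻¹ * t * x ∈ T)
    (hxN : ∀ n ∈ N, x * n * x⁻¹ ∈ N) (hxN' : ∀ n ∈ N, x⁻¹ * n * x ∈ N)
    (hxθ : ConjRel N x (θ : N → ℂ) (θ : N → ℂ))
    (hχ : ConjRel G x (indTo G (ψ : T → ℂ)) (indTo G (ψ : T → ℂ))) :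
    ConjRel T x (ψ : T → ℂ) (ψ : T → ℂ) := by
  obtain ⟨ψ', hψ'⟩ := exists_conjRel T x hxT hxT' ψ
  have h2 : classInner (resTo hNT (ψ' : T → ℂ)) (θ : N → ℂ) ≠ 0 := by
    have := ConjRel.classInner_eq hxN hxN' (hψ'.restrict hNT) hxθ
    rw [show resTo hNT (ψ' : T → ℂ) = fun c : N => (ψ' : T → ℂ) ⟨c, hNT c.2⟩ from rfl, this]
    exact h1
  have h3 : indTo G (ψ' : T → ℂ) = indTo G (ψ : T → ℂ) := by
    have h4 := indTo_conjRel hxG hxG' hxT hxT' hψ'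
    exact ConjRel.unique hxG' h4 hχ
  have h5 := cliff_ind_inj hNG hGN θ hNT hTG hT ψ' ψ h2 h1 h3
  rw [h5] at hψ'
  exact hψ'

variable {θh : T → ℂ} (hθh : IsIrrCharacter T θh) (hres : resTo hNT θh = (θ : N → ℂ))

include hres in
/-- the product `β θh` lies over `θ`. -/
theorem gall_over (β : IrrCharacter T) (hβ : KerGe N (β : T → ℂ)) :
    classInner (resTo hNT (fun t => (β : T → ℂ) t * θh t)) (θ : N → ℂ) ≠ 0 := by
  have h1 : resTo hNT (fun t => (β : T → ℂ) t * θh t) = ((β : T → ℂ) 1) • (θ : N → ℂ) := by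
    funext n
    rw [resTo_apply, Pi.smul_apply, smul_eq_mul, hβ ⟨n, hNT n.2⟩ n.2, ← hres, resTo_apply]
  rw [h1, Cfsg.Agent.Lib.Helper83.classInner_smul_left, Cfsg.Agent.Lib.Helper83.irr_inner_self,
    mul_one]
  exact Cfsg.Agent.Lib.Helper83.irr_degree_ne_zero β

include hNG hGN hTG hT hθh hres in
/-- `(β θh)^G` is irreducible and lies over `θ`. -/
theorem ind_gall_irr [Fintype G] (β : IrrCharacter T) (hβ : KerGe N (β : T → ℂ)) :
    IsIrrCharacter G (indTo G (fun t => (β : T → ℂ) t * θh t)) ∧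
      classInner (resTo hNG (indTo G (fun t => (β : T → ℂ) t * θh t))) (θ : N → ℂ) ≠ 0 := by
  have hTN : ∀ t ∈ T, ∀ n ∈ N, t * n * t⁻¹ ∈ N := fun t ht => hGN t (hTG ht)
  have hresI : IsIrrCharacter N (resTo hNT θh) := by rw [hres]; exact θ.2
  have h1 := gall_irr hNT hTN hθh hresI β hβ
  have h2 := gall_over θ hNT hres β hβ
  have h3 := cliff_ind_irr hNG hGN θ hNT hTG hT ⟨_, h1⟩ h2
  exact ⟨h3.1, by rw [h3.2]; exact h2⟩

include hNG hGN hTG hT hθh hres in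
/-- injectivity of `β ↦ (β θh)^G`. -/
theorem ind_gall_inj [Fintype G] (β β' : IrrCharacter T) (hβ : KerGe N (β : T → ℂ))
    (hβ' : KerGe N (β' : T → ℂ))
    (h : indTo G (fun t => (β : T → ℂ) t * θh t) = indTo G (fun t => (β' : T → ℂ) t * θh t)) :
    β = β' := by
  have hTN : ∀ t ∈ T, ∀ n ∈ N, t * n * t⁻¹ ∈ N := fun t ht => hGN t (hTG ht)
  have hresI : IsIrrCharacter N (resTo hNT θh) := by rw [hres]; exact θ.2
  have h1 := gall_irr hNT hTN hθh hresI β hβ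
  have h1' := gall_irr hNT hTN hθh hresI β' hβ'
  have h2 := gall_over θ hNT hres β hβ
  have h2' := gall_over θ hNT hres β' hβ'
  have h3 := cliff_ind_inj hNG hGN θ hNT hTG hT ⟨_, h1⟩ ⟨_, h1'⟩ h2 h2' h
  exact gall_inj hNT hTN hθh hresI β β' hβ hβ' (congrArg Subtype.val h3)

include hNG hGN hTG hT hθh hres in
/-- surjectivity of `β ↦ (β θh)^G`. -/
theorem ind_gall_surj [Fintype G] [Fintype T] (χ : IrrCharacter G)
    (hχ : classInner (resTo hNG (χ : G → ℂ)) (θ : N → ℂ) ≠ 0) :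
    ∃ β : IrrCharacter T, KerGe N (β : T → ℂ) ∧
      (χ : G → ℂ) = indTo G (fun t => (β : T → ℂ) t * θh t) := by
  have hTN : ∀ t ∈ T, ∀ n ∈ N, t * n * t⁻¹ ∈ N := fun t ht => hGN t (hTG ht)
  have hresI : IsIrrCharacter N (resTo hNT θh) := by rw [hres]; exact θ.2
  obtain ⟨ψ, hψ1, hψ2⟩ := cliff_ind_surj hNG hGN θ hNT hTG hT χ hχ
  obtain ⟨β, hβ, hβ2⟩ := gall_surj hNT hTN hθh hresI ψ (by rw [hres]; exact hψ1)
  exact ⟨β, hβ, by rw [hψ2, hβ2]⟩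

include hGN hTG hθh hres in
/-- the Gallagher factor of a product fixed by `x` is fixed by `x`. -/
theorem gall_factor_conjRel (β : IrrCharacter T) (hβ : KerGe N (β : T → ℂ)) {x : Γ}
    (hxT : ∀ t ∈ T, x * t * x⁻¹ ∈ T) (hxT' : ∀ t ∈ T, x⁻¹ * t * x ∈ T)
    (hxN' : ∀ n ∈ N, x⁻¹ * n * x ∈ N)
    (hxθh : ConjRel T x θh θh)
    (hψ : ConjRel T x (fun t => (β : T → ℂ) t * θh t) (fun t => (β : T → ℂ) t * θh t)) :
    ConjRel T x (β : T → ℂ) (β : T → ℂ) := by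
  have hTN : ∀ t ∈ T, ∀ n ∈ N, t * n * t⁻¹ ∈ N := fun t ht => hGN t (hTG ht)
  have hresI : IsIrrCharacter N (resTo hNT θh) := by rw [hres]; exact θ.2
  obtain ⟨β', hβ'⟩ := exists_conjRel T x hxT hxT' β
  have h1 : (β' : T → ℂ) 1 = (β : T → ℂ) 1 := by
    apply hβ' 1 1
    simp
  have hk : KerGe N (β' : T → ℂ) := by
    intro t ht
    have m1 : x⁻¹ * (t : Γ) * x ∈ T := hxT' t t.2
    have m2 : x⁻¹ * (t : Γ) * x ∈ N := hxN' t ht
    have h2 : (β' : T → ℂ) t = (β : T → ℂ) ⟨_, m1⟩ := by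
      apply hβ' ⟨_, m1⟩ t
      show (t : Γ) = x * (x⁻¹ * (t : Γ) * x) * x⁻¹
      group
    rw [h2, h1]
    exact hβ ⟨_, m1⟩ m2
  have h3 : ConjRel T x (fun t => (β : T → ℂ) t * θh t) (fun t => (β' : T → ℂ) t * θh t) :=
    hβ'.mul hxθh
  have h4 := ConjRel.unique hxT' h3 hψ
  have h5 := gall_inj hNT hTN hθh hresI β' β hk hβ h4
  rw [h5] at hβ'
  exact hβ'

include hNG hGN hTG hT hθh hres in
/-- if `(β θh)^G` is fixed by `x` then so is `β`. -/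
theorem ind_gall_conjRel_down [Fintype G] (β : IrrCharacter T) (hβ : KerGe N (β : T → ℂ)) {x : Γ}
    (hxG : ∀ g ∈ G, x * g * x⁻¹ ∈ G) (hxG' : ∀ g ∈ G, x⁻¹ * g * x ∈ G)
    (hxT : ∀ t ∈ T, x * t * x⁻¹ ∈ T) (hxT' : ∀ t ∈ T, x⁻¹ * t * x ∈ T)
    (hxN : ∀ n ∈ N, x * n * x⁻¹ ∈ N) (hxN' : ∀ n ∈ N, x⁻¹ * n * x ∈ N)
    (hxθ : ConjRel N x (θ : N → ℂ) (θ : N → ℂ)) (hxθh : ConjRel T x θh θh)
    (hχ : ConjRel G x (indTo G (fun t => (β : T → ℂ) t * θh t))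
      (indTo G (fun t => (β : T → ℂ) t * θh t))) :
    ConjRel T x (β : T → ℂ) (β : T → ℂ) := by
  have hTN : ∀ t ∈ T, ∀ n ∈ N, t * n * t⁻¹ ∈ N := fun t ht => hGN t (hTG ht)
  have hresI : IsIrrCharacter N (resTo hNT θh) := by rw [hres]; exact θ.2
  have h1 := gall_irr hNT hTN hθh hresI β hβ
  have h2 := gall_over θ hNT hres β hβ
  have h3 := cliff_corr_conjRel hNG hGN θ hNT hTG hT ⟨_, h1⟩ h2 hxG hxG' hxT hxT' hxN hxN' hxθ hχ
  exact gall_factor_conjRel hGN θ hNT hTG hθh hres β hβ hxT hxT' hxN' hxθh h3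

omit [Finite Γ] [Fintype N] in
/-- if `β` and `θh` are fixed by `x` then so is `(β θh)^G`. -/
theorem ind_gall_conjRel_up [Fintype G] {β : T → ℂ} {x : Γ}
    (hxG : ∀ g ∈ G, x * g * x⁻¹ ∈ G) (hxG' : ∀ g ∈ G, x⁻¹ * g * x ∈ G)
    (hxT : ∀ t ∈ T, x * t * x⁻¹ ∈ T) (hxT' : ∀ t ∈ T, x⁻¹ * t * x ∈ T)
    (hxθh : ConjRel T x θh θh) (hβ : ConjRel T x β β) :
    ConjRel G x (indTo G (fun t => β t * θh t)) (indTo G (fun t => β t * θh t)) :=
  indTo_conjRel hxG hxG' hxT hxT' (hβ.mul hxθh)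

end Corr

end RelSylBij

end Cfsg.Agent.Lib.Helper04
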