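import Mathlib
import Cfsg.Agent.Lib.Helper04.OrbitSum
import Cfsg.Agent.Lib.Helper04.GlaubCons
import Cfsg.Agent.Lib.Helper83.Quotient

/-!
# Fixed point congruences modulo a normal subgroup

A `p`-group `P` acts on the finite group `K` stabilizing the subgroup `Q`. A weight function on `K`
that is constant on the cosets of `Q` and on the orbits of `P` has sum `|Q| s`, and its sum over the
elements whose coset is fixed by `P` is `|Q| s'` with `s ≡ s' (mod p)`.
-/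

set_option autoImplicit false

namespace Cfsg.Agent.Lib.Helper04

open Cfsg

section RelSylFix

universe u

/-- summing a function of the coset. -/
theorem sum_comp_quotient_mk_nat {K : Type u} [Group K] [Fintype K] (Q : Subgroup K)
    [Fintype (K ⧸ Q)] (F : K ⧸ Q → ℕ) :
    ∑ g : K, F (QuotientGroup.mk g) = Nat.card Q * ∑ x : K ⧸ Q, F x := by
  have h := Cfsg.Agent.Lib.Helper83.sum_comp_quotient_mk Q (fun x => (F x : ℂ))
  have h2 : ((∑ g : K, F (QuotientGroup.mk g) : ℕ) : ℂ) =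
      ((Nat.card Q * ∑ x : K ⧸ Q, F x : ℕ) : ℂ) := by
    push_cast
    exact h
  exact_mod_cast h2

/-- **fixed point congruence modulo a subgroup**, for a group of automorphisms. -/
theorem sum_modEq_mod_subgroup (p : ℕ) [Fact p.Prime] {K : Type u} [Group K] [Fintype K]
    (Q : Subgroup K) {P : Type*} [Group P] (hP : IsPGroup p P) (φ : P →* MulAut K)
    (hφQ : ∀ x : P, ∀ q ∈ Q, φ x q ∈ Q) (w : K → ℕ) (hwQ : ∀ k : K, ∀ q ∈ Q, w (k * q) = w k)
    (hwP : ∀ (x : P) (k : K), w (φ x k) = w k)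
    [DecidablePred fun k : K => ∀ x : P, k⁻¹ * φ x k ∈ Q] :
    ∃ s s' : ℕ, ∑ k : K, w k = Nat.card Q * s ∧
      (∑ k : K, if (∀ x : P, k⁻¹ * φ x k ∈ Q) then w k else 0) = Nat.card Q * s' ∧
      s ≡ s' [MOD p] := by
  classical
  have : Fintype (K ⧸ Q) := Fintype.ofFinite _
  -- the weight on the cosets
  set W : K ⧸ Q → ℕ := fun ξ => w ξ.out with hW
  have hWmk : ∀ k : K, W (QuotientGroup.mk k) = w k := by
    intro k
    obtain ⟨h, hh⟩ := QuotientGroup.mk_out_eq_mul Q k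
    rw [hW]
    show w (QuotientGroup.mk k : K ⧸ Q).out = w k
    rw [hh]
    exact hwQ k h h.2
  -- the action on the cosets
  set act : P → K ⧸ Q → K ⧸ Q := fun x ξ => QuotientGroup.mk (φ x ξ.out) with hact
  have hactmk : ∀ (x : P) (k : K), act x (QuotientGroup.mk k) = QuotientGroup.mk (φ x k) := by
    intro x k
    obtain ⟨h, hh⟩ := QuotientGroup.mk_out_eq_mul Q k
    rw [hact]
    show (QuotientGroup.mk (φ x (QuotientGroup.mk k : K ⧸ Q).out) : K ⧸ Q) = _
    rw [hh, map_mul, QuotientGroup.eq]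
    rw [mul_inv_rev, mul_assoc, inv_mul_cancel, mul_one]
    exact Q.inv_mem (hφQ x h h.2)
  have hact1 : ∀ ξ, act 1 ξ = ξ := by
    intro ξ
    obtain ⟨k, rfl⟩ := QuotientGroup.mk_surjective ξ
    rw [hactmk, map_one, MulAut.one_apply]
  have hactmul : ∀ x y ξ, act (x * y) ξ = act x (act y ξ) := by
    intro x y ξ
    obtain ⟨k, rfl⟩ := QuotientGroup.mk_surjective ξ
    have e1 := hactmk y k
    have e2 := hactmk x (φ y k)
    have e3 := hactmk (x * y) k
    rw [e3, e1, e2, map_mul, MulAut.mul_apply]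
  have hWact : ∀ x ξ, W (act x ξ) = W ξ := by
    intro x ξ
    obtain ⟨k, rfl⟩ := QuotientGroup.mk_surjective ξ
    rw [hactmk, hWmk, hWmk, hwP]
  have key := sum_modEq_sum_fixed (P := P) act W hP hact1 hactmul hWact
  refine ⟨∑ ξ, W ξ, ∑ ξ ∈ Finset.univ.filter (fun ξ => ∀ x, act x ξ = ξ), W ξ, ?_, ?_, key⟩
  · rw [← sum_comp_quotient_mk_nat Q W]
    apply Finset.sum_congr rfl
    intro k _
    rw [hWmk]
  · rw [Finset.sum_filter, ← sum_comp_quotient_mk_nat Q
      (fun ξ => if (∀ x, act x ξ = ξ) then W ξ else 0)]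
    apply Finset.sum_congr rfl
    intro k _
    have hiff : (∀ x : P, k⁻¹ * φ x k ∈ Q) ↔
        ∀ x, act x (QuotientGroup.mk k : K ⧸ Q) = QuotientGroup.mk k := by
      constructor
      · intro h x
        rw [hactmk, QuotientGroup.eq]
        have := Q.inv_mem (h x)
        rwa [mul_inv_rev, inv_inv] at this
      · intro h x
        have := h x
        rw [hactmk, QuotientGroup.eq] at this
        have := Q.inv_mem this
        rwa [mul_inv_rev, inv_inv] at this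
    by_cases hk : ∀ x : P, k⁻¹ * φ x k ∈ Q
    · rw [if_pos hk, if_pos (hiff.mp hk), hWmk]
    · rw [if_neg hk, if_neg (fun h => hk (hiff.mpr h))]

/-- a sum over a subgroup as a sum over the group. -/
theorem sum_subgroup_eq_sum_ite_nat {K : Type u} [Group K] [Fintype K] (N : Subgroup K)
    [Fintype N] [DecidablePred (· ∈ N)] (F : K → ℕ) :
    ∑ n : N, F (n : K) = ∑ x : K, if x ∈ N then F x else 0 := by
  rw [← Finset.sum_filter]
  exact (Finset.sum_subtype (Finset.univ.filter (fun x => x ∈ N)) (by simp) F).symm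

variable {Γ : Type u} [Group Γ]

/-- **fixed point congruence modulo a normal subgroup**, for subgroups of an ambient group. -/
theorem sum_modEq_mod_normal (p : ℕ) [Fact p.Prime] (K Q P C : Subgroup Γ) [Fintype K]
    [Fintype C] (hQK : Q ≤ K) (hKQ : ∀ k ∈ K, ∀ q ∈ Q, k * q * k⁻¹ ∈ Q) (hP : IsPGroup p P)
    (hPK : ∀ x ∈ P, ∀ k ∈ K, x * k * x⁻¹ ∈ K) (hPQ : ∀ x ∈ P, ∀ q ∈ Q, x * q * x⁻¹ ∈ Q)
    (hCK : C ≤ K) (hC : ∀ k : Γ, k ∈ C ↔ k ∈ K ∧ ∀ x ∈ P, x * k * x⁻¹ * k⁻¹ ∈ Q)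
    (w : Γ → ℕ) (hwQ : ∀ k ∈ K, ∀ q ∈ Q, w (k * q) = w k)
    (hwP : ∀ x ∈ P, ∀ k ∈ K, w (x * k * x⁻¹) = w k) :
    ∃ s s' : ℕ, ∑ k : K, w k = Nat.card Q * s ∧ ∑ c : C, w c = Nat.card Q * s' ∧
      s ≡ s' [MOD p] := by
  classical
  have hcardQ : Nat.card (Q.subgroupOf K) = Nat.card Q :=
    Nat.card_congr (Subgroup.subgroupOfEquivOfLe hQK).toEquiv
  obtain ⟨s, s', h1, h2, h3⟩ := sum_modEq_mod_subgroup p (Q.subgroupOf K) hP (conjAutHom K P hPK)
    (by
      intro x q hq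
      rw [Subgroup.mem_subgroupOf] at hq ⊢
      rw [conjAutHom_apply]
      exact hPQ x x.2 q hq)
    (fun k : K => w k)
    (by
      intro k q hq
      exact hwQ k k.2 q (Subgroup.mem_subgroupOf.mp hq))
    (by
      intro x k
      show w ((conjAutHom K P hPK x k : K) : Γ) = w k
      rw [conjAutHom_apply]
      exact hwP x x.2 k k.2)
  rw [hcardQ] at h1 h2
  refine ⟨s, s', h1, ?_, h3⟩
  rw [← h2]
  have : Fintype (C.subgroupOf K) := Fintype.ofFinite _
  have e1 : ∑ c : C, w c = ∑ c : C.subgroupOf K, w ((c : K) : Γ) :=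
    (Equiv.sum_comp (Subgroup.subgroupOfEquivOfLe hCK).toEquiv (fun c : C => w c)).symm
  rw [e1, sum_subgroup_eq_sum_ite_nat (C.subgroupOf K) (fun k : K => w k)]
  apply Finset.sum_congr rfl
  intro k _
  have hiff : k ∈ C.subgroupOf K ↔
      ∀ x : P, k⁻¹ * conjAutHom K P hPK x k ∈ Q.subgroupOf K := by
    rw [Subgroup.mem_subgroupOf, hC]
    constructor
    · rintro ⟨_, h⟩ x
      rw [Subgroup.mem_subgroupOf]
      show (k : Γ)⁻¹ * ((conjAutHom K P hPK x k : K) : Γ) ∈ Q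
      rw [conjAutHom_apply]
      have h4 := hKQ (k : Γ)⁻¹ (K.inv_mem k.2) _ (h x x.2)
      have e : (k : Γ)⁻¹ * ((x : Γ) * k * (x : Γ)⁻¹ * (k : Γ)⁻¹) * (k : Γ)⁻¹⁻¹ =
          (k : Γ)⁻¹ * ((x : Γ) * k * (x : Γ)⁻¹) := by group
      rwa [e] at h4
    · intro h
      refine ⟨k.2, ?_⟩
      intro x hx
      have h4 := h ⟨x, hx⟩
      rw [Subgroup.mem_subgroupOf] at h4
      have h5 : (k : Γ)⁻¹ * (x * k * x⁻¹) ∈ Q := h4
      have h6 := hKQ (k : Γ) k.2 _ h5
      have e : (k : Γ) * ((k : Γ)⁻¹ * (x * k * x⁻¹)) * (k : Γ)⁻¹ = x * k * x⁻¹ * (k : Γ)⁻¹ := by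
        group
      rwa [e] at h6
  by_cases hk : k ∈ C.subgroupOf K
  · rw [if_pos hk, if_pos (hiff.mp hk)]
  · rw [if_neg hk, if_neg (fun h => hk (hiff.mpr h))]

end RelSylFix

end Cfsg.Agent.Lib.Helper04
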