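import Mathlib
import Cfsg.Agent.Lib.Helper04.RelSylBase
import Cfsg.Agent.Lib.Helper04.RelSylFix

/-!
# A Mackey-type congruence

For `P`-invariant characters `ψ` of `T ≤ K` and `ξ` of `C ≤ K`, where `C / Q` is the fixed point
subgroup of the `p`-group `P` on `K / Q`, the multiplicity `[(ψ^K)_C, ξ]` is congruent modulo `p`
to `[ψ_{T ∩ C}, ξ_{T ∩ C}]`.
-/

set_option autoImplicit false

namespace Cfsg.Agent.Lib.Helper04

open Cfsg
open scoped ComplexConjugate

section RelSylMackey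

universe u

variable {Γ : Type u} [Group Γ]

/-- the conjugate subgroup `{y | k⁻¹ y k ∈ T}`. -/
def conjSub (T : Subgroup Γ) (k : Γ) : Subgroup Γ where
  carrier := {y | k⁻¹ * y * k ∈ T}
  one_mem' := by
    show k⁻¹ * 1 * k ∈ T
    rw [mul_one, inv_mul_cancel]
    exact T.one_mem
  mul_mem' := by
    intro a b ha hb
    show k⁻¹ * (a * b) * k ∈ T
    have : k⁻¹ * (a * b) * k = (k⁻¹ * a * k) * (k⁻¹ * b * k) := by group
    rw [this]
    exact T.mul_mem ha hb
  inv_mem' := by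
    intro a ha
    show k⁻¹ * a⁻¹ * k ∈ T
    have : k⁻¹ * a⁻¹ * k = (k⁻¹ * a * k)⁻¹ := by group
    rw [this]
    exact T.inv_mem ha

theorem mem_conjSub {T : Subgroup Γ} {k y : Γ} : y ∈ conjSub T k ↔ k⁻¹ * y * k ∈ T := Iff.rfl

theorem card_eq_card_mul_relIndex [Finite Γ] {H K : Subgroup Γ} (hHK : H ≤ K) :
    Nat.card K = Nat.card H * H.relIndex K := by
  have h := Subgroup.card_mul_index (H.subgroupOf K)
  rw [Nat.card_congr (Subgroup.subgroupOfEquivOfLe hHK).toEquiv] at h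
  exact h.symm

variable [Fintype Γ]

/-- a sum over a subgroup of a function on the ambient group vanishing outside the subgroup. -/
theorem sum_eq_sum_subgroup (H : Subgroup Γ) [Fintype H] (f : Γ → ℂ)
    (hf : ∀ g, g ∉ H → f g = 0) : ∑ g : Γ, f g = ∑ h : H, f h := by
  classical
  rw [← Finset.sum_subtype (Finset.univ.filter (fun g => g ∈ H)) (by simp) f, Finset.sum_filter]
  apply Finset.sum_congr rfl
  intro g _
  by_cases hg : g ∈ H
  · rw [if_pos hg]
  · rw [if_neg hg, hf g hg]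

/-- the Mackey term. -/
noncomputable def mackTerm (T C : Subgroup Γ) (ψ : T → ℂ) (ξ : C → ℂ) (k : Γ) : ℂ :=
  ∑ g : Γ, zext T ψ (k⁻¹ * g * k) * conj (zext C ξ g)

/-- the multiplicity of `ξ` in the restriction of the induced function, as a sum of Mackey
terms. -/
theorem card_mul_classInner_indTo {K T C : Subgroup Γ} [Fintype K] [Fintype C] (hCK : C ≤ K)
    (ψ : T → ℂ) (ξ : C → ℂ) :
    (Nat.card T : ℂ) * (Nat.card C : ℂ) * classInner (resTo hCK (indTo K ψ)) ξ =
      ∑ k : K, mackTerm T C ψ ξ k := by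
  have hT0 : (Nat.card T : ℂ) ≠ 0 := by
    have : Nat.card T ≠ 0 := Nat.card_pos.ne'
    exact_mod_cast this
  have hC0 : (Nat.card C : ℂ) ≠ 0 := by
    have : Nat.card C ≠ 0 := Nat.card_pos.ne'
    exact_mod_cast this
  have h1 : ∀ k : K, mackTerm T C ψ ξ k =
      ∑ c : C, zext T ψ ((k : Γ)⁻¹ * c * k) * conj (ξ c) := by
    intro k
    unfold mackTerm
    rw [sum_eq_sum_subgroup C]
    · apply Finset.sum_congr rfl
      intro c _
      rw [zext_coe]
    · intro g hg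
      rw [zext_of_not_mem C ξ hg, map_zero, mul_zero]
  simp only [h1]
  rw [Finset.sum_comm]
  unfold classInner
  have h2 : ∀ c : C, resTo hCK (indTo K ψ) c * conj (ξ c) =
      (Nat.card T : ℂ)⁻¹ * ∑ k : K, zext T ψ ((k : Γ)⁻¹ * c * k) * conj (ξ c) := by
    intro c
    rw [resTo_apply, indTo_apply, mul_assoc, Finset.sum_mul]
  simp only [h2]
  rw [← Finset.mul_sum]
  field_simp

variable {T C : Subgroup Γ} {ψ : T → ℂ} {ξ : C → ℂ}

/-- invariance of the Mackey term under right translation by `T`. -/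
theorem mackTerm_mul_right (hψ : IsClassFunction T ψ) (k : Γ) {t : Γ} (ht : t ∈ T) :
    mackTerm T C ψ ξ (k * t) = mackTerm T C ψ ξ k := by
  unfold mackTerm
  apply Finset.sum_congr rfl
  intro g _
  have e : (k * t)⁻¹ * g * (k * t) = t⁻¹ * (k⁻¹ * g * k) * t⁻¹⁻¹ := by group
  rw [e, zext_conj_of_mem T hψ (T.inv_mem ht)]

/-- invariance of the Mackey term under left translation by `C`. -/
theorem mackTerm_mul_left (hξ : IsClassFunction C ξ) (k : Γ) {c : Γ} (hc : c ∈ C) :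
    mackTerm T C ψ ξ (c * k) = mackTerm T C ψ ξ k := by
  unfold mackTerm
  rw [← Equiv.sum_comp (MulAut.conj c).toEquiv]
  apply Finset.sum_congr rfl
  intro g _
  have e1 : (MulAut.conj c).toEquiv g = c * g * c⁻¹ := rfl
  rw [e1]
  have e : (c * k)⁻¹ * (c * g * c⁻¹) * (c * k) = k⁻¹ * g * k := by group
  rw [e, zext_conj_of_mem C hξ hc]

/-- invariance of the Mackey term under conjugation by `P`. -/
theorem mackTerm_conj {P : Subgroup Γ} (hPT : ∀ x ∈ P, ∀ t ∈ T, x * t * x⁻¹ ∈ T)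
    (hPC : ∀ x ∈ P, ∀ c ∈ C, x * c * x⁻¹ ∈ C) (hψP : SetInv T P ψ) (hξP : SetInv C P ξ)
    (k : Γ) {x : Γ} (hx : x ∈ P) :
    mackTerm T C ψ ξ (x * k * x⁻¹) = mackTerm T C ψ ξ k := by
  unfold mackTerm
  rw [← Equiv.sum_comp (MulAut.conj x).toEquiv]
  apply Finset.sum_congr rfl
  intro g _
  have e1 : (MulAut.conj x).toEquiv g = x * g * x⁻¹ := rfl
  rw [e1]
  have e : (x * k * x⁻¹)⁻¹ * (x * g * x⁻¹) * (x * k * x⁻¹) = x * (k⁻¹ * g * k) * x⁻¹ := by group
  rw [e, zext_conj_of_setInv hPT hψP hx, zext_conj_of_setInv hPC hξP hx]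

/-- the Mackey term as an inner product over `C ∩ T^k`. -/
theorem mackTerm_eq_card_mul (hψ : IsCharacter T ψ) (hξ : IsCharacter C ξ) (k : Γ) :
    ∃ n : ℕ, mackTerm T C ψ ξ k = (Nat.card (C ⊓ conjSub T k : Subgroup Γ) : ℂ) * n := by
  classical
  set Ck : Subgroup Γ := C ⊓ conjSub T k with hCk
  have : Fintype Ck := Fintype.ofFinite _
  let φk : Ck →* T :=
    { toFun := fun y => ⟨k⁻¹ * y * k, (Subgroup.mem_inf.mp y.2).2⟩
      map_one' := by
        apply Subtype.ext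
        show k⁻¹ * ((1 : Ck) : Γ) * k = 1
        rw [Subgroup.coe_one, mul_one, inv_mul_cancel]
      map_mul' := by
        intro a b
        apply Subtype.ext
        show k⁻¹ * ((a * b : Ck) : Γ) * k = (k⁻¹ * a * k) * (k⁻¹ * b * k)
        rw [Subgroup.coe_mul]
        group }
  have hψk : IsCharacter Ck (fun y => ψ (φk y)) :=
    Cfsg.Agent.Lib.Helper83.isCharacter_comp_hom φk hψ
  have hξk : IsCharacter Ck (resTo (inf_le_left : Ck ≤ C) ξ) := isCharacter_resTo _ hξ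
  obtain ⟨n, hn⟩ := Cfsg.Agent.Lib.Helper83.classInner_char_nat hψk hξk
  refine ⟨n, ?_⟩
  rw [← hn]
  unfold mackTerm classInner
  have hCk0 : (Nat.card Ck : ℂ) ≠ 0 := by
    have : Nat.card Ck ≠ 0 := Nat.card_pos.ne'
    exact_mod_cast this
  rw [← mul_assoc, mul_inv_cancel₀ hCk0, one_mul, sum_eq_sum_subgroup Ck]
  · apply Finset.sum_congr rfl
    intro y _
    have hy1 : (y : Γ) ∈ C := (Subgroup.mem_inf.mp y.2).1
    have hy2 : k⁻¹ * (y : Γ) * k ∈ T := (Subgroup.mem_inf.mp y.2).2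
    rw [zext_of_mem T ψ hy2, zext_of_mem C ξ hy1]
    rfl
  · intro g hg
    by_cases h1 : g ∈ C
    · have h2 : k⁻¹ * g * k ∉ T := fun h => hg (Subgroup.mem_inf.mpr ⟨h1, h⟩)
      rw [zext_of_not_mem T ψ h2, zero_mul]
    · rw [zext_of_not_mem C ξ h1, map_zero, mul_zero]

/-- the Mackey term at the identity. -/
theorem mackTerm_one {D : Subgroup Γ} [Fintype D] (hDT : D ≤ T) (hDC : D ≤ C)
    (hD : ∀ y : Γ, y ∈ D ↔ y ∈ T ∧ y ∈ C) :
    mackTerm T C ψ ξ 1 = (Nat.card D : ℂ) * classInner (resTo hDT ψ) (resTo hDC ξ) := by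
  unfold mackTerm classInner
  have hD0 : (Nat.card D : ℂ) ≠ 0 := by
    have : Nat.card D ≠ 0 := Nat.card_pos.ne'
    exact_mod_cast this
  rw [← mul_assoc, mul_inv_cancel₀ hD0, one_mul, sum_eq_sum_subgroup D]
  · apply Finset.sum_congr rfl
    intro y _
    have e : (1 : Γ)⁻¹ * (y : Γ) * 1 = y := by group
    rw [e, zext_of_mem T ψ (hDT y.2), zext_of_mem C ξ (hDC y.2)]
    rfl
  · intro g hg
    have e : (1 : Γ)⁻¹ * g * 1 = g := by group
    rw [e]
    by_cases h1 : g ∈ C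
    · have h2 : g ∉ T := fun h => hg ((hD g).mpr ⟨h, h1⟩)
      rw [zext_of_not_mem T ψ h2, zero_mul]
    · rw [zext_of_not_mem C ξ h1, map_zero, mul_zero]

end RelSylMackey

end Cfsg.Agent.Lib.Helper04
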