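import Mathlib
import Cfsg.Agent.Lib.Helper04.RelSylMackey

/-!
# The Mackey-type congruence, main statement
-/

set_option autoImplicit false

namespace Cfsg.Agent.Lib.Helper04

open Cfsg
open scoped ComplexConjugate

section RelSylMackeyMain

universe u

variable {Γ : Type u} [Group Γ] [Fintype Γ]

set_option maxHeartbeats 1000000 in
/-- **the Mackey-type congruence.** -/
theorem mackey_modEq (p : ℕ) [hp : Fact p.Prime] (K T C D Q P : Subgroup Γ)
    [Fintype K] [Fintype T] [Fintype C] [Fintype D]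
    (hTK : T ≤ K) (hCK : C ≤ K) (hDT : D ≤ T) (hDC : D ≤ C)
    (hD : ∀ y : Γ, y ∈ D ↔ y ∈ T ∧ y ∈ C) (hQD : Q ≤ D)
    (hKQ : ∀ k ∈ K, ∀ q ∈ Q, k * q * k⁻¹ ∈ Q) (hcop : ¬ p ∣ Q.relIndex K)
    (hP : IsPGroup p P) (hPK : ∀ x ∈ P, ∀ k ∈ K, x * k * x⁻¹ ∈ K)
    (hPT : ∀ x ∈ P, ∀ t ∈ T, x * t * x⁻¹ ∈ T) (hPC : ∀ x ∈ P, ∀ c ∈ C, x * c * x⁻¹ ∈ C)
    (hPQ : ∀ x ∈ P, ∀ q ∈ Q, x * q * x⁻¹ ∈ Q)
    (hC : ∀ k : Γ, k ∈ C ↔ k ∈ K ∧ ∀ x ∈ P, x * k * x⁻¹ * k⁻¹ ∈ Q)
    {ψ : T → ℂ} (hψ : IsCharacter T ψ) (hψP : SetInv T P ψ)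
    {ξ : C → ℂ} (hξ : IsCharacter C ξ) (hξP : SetInv C P ξ) :
    ∃ m m' : ℕ, classInner (resTo hCK (indTo K ψ)) ξ = (m : ℂ) ∧
      classInner (resTo hDT ψ) (resTo hDC ξ) = (m' : ℂ) ∧ m ≡ m' [MOD p] := by
  classical
  have hψcl := Cfsg.Agent.Lib.Helper83.char_isClassFunction hψ
  have hξcl := Cfsg.Agent.Lib.Helper83.char_isClassFunction hξ
  have hQT : Q ≤ T := hQD.trans hDT
  have hQC : Q ≤ C := hQD.trans hDC
  have hQK : Q ≤ K := hQT.trans hTK
  obtain ⟨m, hm⟩ := Cfsg.Agent.Lib.Helper83.classInner_char_nat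
    (isCharacter_resTo hCK (isCharacter_indTo hTK hψ)) hξ
  obtain ⟨m', hm'⟩ := Cfsg.Agent.Lib.Helper83.classInner_char_nat
    (isCharacter_resTo hDT hψ) (isCharacter_resTo hDC hξ)
  refine ⟨m, m', hm, hm', ?_⟩
  have hQ0 : 0 < Nat.card Q := Nat.card_pos
  have hQ0' : (Nat.card Q : ℂ) ≠ 0 := by exact_mod_cast hQ0.ne'
  -- the weights
  have hex : ∀ k : Γ, k ∈ K → ∃ n : ℕ, mackTerm T C ψ ξ k = (Nat.card Q : ℂ) * n := by
    intro k hk
    obtain ⟨n, hn⟩ := mackTerm_eq_card_mul hψ hξ k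
    have hle : Q ≤ C ⊓ conjSub T k := by
      intro q hq
      rw [Subgroup.mem_inf, mem_conjSub]
      refine ⟨hQC hq, hQT ?_⟩
      have := hKQ k⁻¹ (K.inv_mem hk) q hq
      rwa [inv_inv] at this
    obtain ⟨r, hr⟩ := Subgroup.card_dvd_of_le hle
    refine ⟨r * n, ?_⟩
    rw [hn, hr]
    push_cast
    ring
  set w : Γ → ℕ := fun k => if hk : k ∈ K then Classical.choose (hex k hk) else 0 with hw
  have hwspec : ∀ k ∈ K, mackTerm T C ψ ξ k = (Nat.card Q : ℂ) * (w k : ℂ) := by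
    intro k hk
    rw [hw]
    simp only [dif_pos hk]
    exact Classical.choose_spec (hex k hk)
  have hweq : ∀ k ∈ K, ∀ k' ∈ K, mackTerm T C ψ ξ k = mackTerm T C ψ ξ k' → w k = w k' := by
    intro k hk k' hk' h
    rw [hwspec k hk, hwspec k' hk'] at h
    have := mul_left_cancel₀ hQ0' h
    exact_mod_cast this
  have hwQ : ∀ k ∈ K, ∀ q ∈ Q, w (k * q) = w k := by
    intro k hk q hq
    exact hweq _ (K.mul_mem hk (hQK hq)) _ hk (mackTerm_mul_right hψcl k (hQT hq))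
  have hwP : ∀ x ∈ P, ∀ k ∈ K, w (x * k * x⁻¹) = w k := by
    intro x hx k hk
    exact hweq _ (hPK x hx k hk) _ hk (mackTerm_conj hPT hPC hψP hξP k hx)
  obtain ⟨s, s', h1, h2, h3⟩ := sum_modEq_mod_normal p K Q P C hQK hKQ hP hPK hPQ hCK hC w hwQ hwP
  -- the second congruence, for `T` and `D`
  have hD' : ∀ t : Γ, t ∈ D ↔ t ∈ T ∧ ∀ x ∈ P, x * t * x⁻¹ * t⁻¹ ∈ Q := by
    intro t
    rw [hD, hC]
    constructor
    · rintro ⟨h1, _, h3⟩
      exact ⟨h1, h3⟩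
    · rintro ⟨h1, h3⟩
      exact ⟨h1, hTK h1, h3⟩
  obtain ⟨t1, d1, h4, h5, h6⟩ := sum_modEq_mod_normal p T Q P D hQT
    (fun k hk q hq => hKQ k (hTK hk) q hq) hP hPT hPQ hDT hD' (fun _ => 1)
    (fun _ _ _ _ => rfl) (fun _ _ _ _ => rfl)
  have hcardT : Nat.card T = Nat.card Q * t1 := by
    rw [← h4]
    simp
  have hcardD : Nat.card D = Nat.card Q * d1 := by
    rw [← h5]
    simp
  obtain ⟨c1, hcardC⟩ := Subgroup.card_dvd_of_le hQC
  -- `p` does not divide `t1`, `c1`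
  have hcardK := card_eq_card_mul_relIndex hQK
  have ht1 : ¬ p ∣ t1 := by
    intro h
    apply hcop
    have h7 : Nat.card T ∣ Nat.card K := Subgroup.card_dvd_of_le hTK
    rw [hcardT, hcardK] at h7
    exact dvd_trans h (Nat.dvd_of_mul_dvd_mul_left hQ0 h7)
  have hc1 : ¬ p ∣ c1 := by
    intro h
    apply hcop
    have h7 : Nat.card C ∣ Nat.card K := Subgroup.card_dvd_of_le hCK
    rw [hcardC, hcardK] at h7
    exact dvd_trans h (Nat.dvd_of_mul_dvd_mul_left hQ0 h7)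
  -- first equation
  have E1 : t1 * c1 * m = s := by
    have h7 := card_mul_classInner_indTo hCK ψ ξ
    rw [hm] at h7
    have h8 : ∑ k : K, mackTerm T C ψ ξ k = ((Nat.card Q * (Nat.card Q * s) : ℕ) : ℂ) := by
      rw [← h1]
      push_cast
      rw [Finset.mul_sum]
      apply Finset.sum_congr rfl
      intro k _
      exact hwspec k k.2
    rw [h8, hcardT, hcardC] at h7
    have h9 : Nat.card Q * t1 * (Nat.card Q * c1) * m = Nat.card Q * (Nat.card Q * s) := by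
      exact_mod_cast h7
    have h10 : Nat.card Q * (Nat.card Q * (t1 * c1 * m)) = Nat.card Q * (Nat.card Q * s) := by
      rw [← h9]
      ring
    exact Nat.eq_of_mul_eq_mul_left hQ0 (Nat.eq_of_mul_eq_mul_left hQ0 h10)
  -- second equation
  have E2 : c1 * d1 * m' = s' := by
    have h7 : ∑ c : C, mackTerm T C ψ ξ c = (Nat.card C : ℂ) * mackTerm T C ψ ξ 1 := by
      have h8 : ∀ c : C, mackTerm T C ψ ξ c = mackTerm T C ψ ξ 1 := by
        intro c
        have := mackTerm_mul_left (T := T) (ψ := ψ) hξcl 1 c.2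
        rwa [mul_one] at this
      simp only [h8]
      rw [Finset.sum_const, Finset.card_univ, nsmul_eq_mul, Nat.card_eq_fintype_card]
    have h8 : ∑ c : C, mackTerm T C ψ ξ c = ((Nat.card Q * (Nat.card Q * s') : ℕ) : ℂ) := by
      rw [← h2]
      push_cast
      rw [Finset.mul_sum]
      apply Finset.sum_congr rfl
      intro c _
      exact hwspec c (hCK c.2)
    rw [h8, mackTerm_one hDT hDC hD, hm', hcardC, hcardD] at h7
    have h9 : Nat.card Q * (Nat.card Q * s') = Nat.card Q * c1 * (Nat.card Q * d1 * m') := by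
      exact_mod_cast h7
    have h10 : Nat.card Q * (Nat.card Q * (c1 * d1 * m')) = Nat.card Q * (Nat.card Q * s') := by
      rw [h9]
      ring
    exact Nat.eq_of_mul_eq_mul_left hQ0 (Nat.eq_of_mul_eq_mul_left hQ0 h10)
  -- conclusion
  rw [← E1, ← E2] at h3
  have h7 : t1 * c1 * m ≡ t1 * c1 * m' [MOD p] := by
    refine h3.trans ?_
    have : c1 * d1 * m' = d1 * (c1 * m') := by ring
    rw [this]
    have : t1 * c1 * m' = t1 * (c1 * m') := by ring
    rw [this]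
    exact (h6.symm).mul_right _
  have hcop' : Nat.gcd p (t1 * c1) = 1 := by
    have hp' := hp.out
    exact Nat.Coprime.mul_right ((Nat.Prime.coprime_iff_not_dvd hp').mpr ht1)
      ((Nat.Prime.coprime_iff_not_dvd hp').mpr hc1)
  exact Nat.ModEq.cancel_left_of_coprime hcop' h7

end RelSylMackeyMain

end Cfsg.Agent.Lib.Helper04
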