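import Mathlib
import Cfsg.Agent.Lib.Helper04.CharTransport
import Cfsg.Agent.Lib.Helper83.Quotient
import Cfsg.Agent.Lib.Helper33.IrrComp

/-!
# Transport of irreducible characters along a surjective homomorphism
-/

set_option autoImplicit false

namespace Cfsg.Agent.Lib.Helper04

open Cfsg
open scoped ComplexConjugate

section RelSylSurj

universe u

variable {A B : Type u} [Group A] [Group B] (f : A →* B) (hf : Function.Surjective f)

include hf in
/-- an irreducible character of `A` trivial on the kernel of the surjection `f` descends. -/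
theorem exists_irr_of_surjective [Finite A] (α : IrrCharacter A)
    (hα : ∀ a : A, f a = 1 → (α : A → ℂ) a = (α : A → ℂ) 1) :
    ∃ β : IrrCharacter B, ∀ a : A, (β : B → ℂ) (f a) = (α : A → ℂ) a := by
  classical
  have : Finite B := Finite.of_surjective f hf
  let e : A ⧸ f.ker ≃* B := QuotientGroup.quotientKerEquivOfSurjective f hf
  have hk : ∀ n ∈ f.ker, (α : A → ℂ) n = (α : A → ℂ) 1 := fun n hn => hα n hn
  obtain ⟨ψ, hψ, hψ'⟩ := Cfsg.Agent.Lib.Helper83.exists_isIrrCharacter_quotient f.ker α.2 hk
  refine ⟨⟨fun b => ψ (e.symm b), Cfsg.Agent.Lib.Helper84.isIrrCharacter_comp_mulEquiv e.symm hψ⟩, ?_⟩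
  intro a
  show ψ (e.symm (f a)) = _
  have h1 : e (QuotientGroup.mk a) = f a := rfl
  rw [← h1, MulEquiv.symm_apply_apply]
  exact hψ' a

include hf in
/-- the inner product is invariant under inflation along a surjection. -/
theorem classInner_comp_surjective [Fintype A] [Fintype B] (φ ψ : B → ℂ) :
    classInner (fun a => φ (f a)) (fun a => ψ (f a)) = classInner φ ψ := by
  classical
  let e : A ⧸ f.ker ≃* B := QuotientGroup.quotientKerEquivOfSurjective f hf
  have : Fintype (A ⧸ f.ker) := Fintype.ofFinite _
  have h1 : (fun a => φ (f a)) = fun a : A => (fun x => φ (e x)) (QuotientGroup.mk a) := by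
    funext a
    rfl
  have h2 : (fun a => ψ (f a)) = fun a : A => (fun x => ψ (e x)) (QuotientGroup.mk a) := by
    funext a
    rfl
  rw [h1, h2]
  exact (Cfsg.Agent.Lib.Helper83.classInner_comp_mk f.ker (fun x => φ (e x))
    (fun x => ψ (e x))).trans (classInner_comp_mulEquiv e φ ψ)

include hf in
theorem comp_surjective_injective {φ ψ : B → ℂ}
    (h : (fun a => φ (f a)) = fun a => ψ (f a)) : φ = ψ := by
  funext b
  obtain ⟨a, rfl⟩ := hf b
  exact congrFun h a

end RelSylSurj

end Cfsg.Agent.Lib.Helper04
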