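import Mathlib
import Cfsg.Agent.Lib.Helper04.RelSylGall
import Cfsg.Agent.Lib.Helper04.RelSylSurj
import Cfsg.Agent.Lib.Helper04.GlaubInd
import Cfsg.Agent.Lib.Helper04.GlaubEquiv

/-!
# The Glauberman correspondence for a `p`-group acting on a `p'`-section

`P` is a `p`-group normalizing `T` and its normal subgroup `Q` of index prime to `p`; `D / Q` is the
fixed point subgroup of `P` on `T / Q`. The `P`-invariant irreducible characters of `T` with `Q` in
the kernel correspond to the irreducible characters of `D` with `Q` in the kernel.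
-/

set_option autoImplicit false

namespace Cfsg.Agent.Lib.Helper04

open Cfsg
open scoped ComplexConjugate

section RelSylQuot

universe u

variable {Γ : Type u} [Group Γ] [Finite Γ]

/-- conjugation invariance in both directions, from one direction for a subgroup. -/
theorem le_normalizer_of_conj {H Q : Subgroup Γ} (h : ∀ x ∈ H, ∀ q ∈ Q, x * q * x⁻¹ ∈ Q) :
    H ≤ Subgroup.normalizer (Q : Set Γ) := by
  intro x hx
  rw [Subgroup.mem_normalizer_iff]
  intro q
  constructor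
  · intro hq
    exact h x hx q hq
  · intro hq
    have := h x⁻¹ (H.inv_mem hx) _ hq
    have e : x⁻¹ * (x * q * x⁻¹) * x⁻¹⁻¹ = q := by group
    rwa [e] at this

set_option maxHeartbeats 1600000 in
/-- **the inflated Glauberman correspondence.** -/
theorem glaub_inflated (p : ℕ) [hp : Fact p.Prime] (T Q P D : Subgroup Γ) [Fintype D]
    (hTQ : ∀ t ∈ T, ∀ q ∈ Q, t * q * t⁻¹ ∈ Q) (hcop : ¬ p ∣ Q.relIndex T)
    (hP : IsPGroup p P) (hPT : ∀ x ∈ P, ∀ t ∈ T, x * t * x⁻¹ ∈ T)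
    (hPQ : ∀ x ∈ P, ∀ q ∈ Q, x * q * x⁻¹ ∈ Q) (hDT : D ≤ T)
    (hD : ∀ t : Γ, t ∈ D ↔ t ∈ T ∧ ∀ x ∈ P, x * t * x⁻¹ * t⁻¹ ∈ Q) :
    ∃ F : {β : IrrCharacter T // SetInv T P (β : T → ℂ) ∧ KerGe Q (β : T → ℂ)} →
        {γ : IrrCharacter D // KerGe Q (γ : D → ℂ)},
      Function.Bijective F ∧
      ∀ (β : {β : IrrCharacter T // SetInv T P (β : T → ℂ) ∧ KerGe Q (β : T → ℂ)})
        (γ : IrrCharacter D), ∃ m : ℕ,
        classInner (resTo hDT (β.1 : T → ℂ)) (γ : D → ℂ) = (m : ℂ) ∧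
        ((γ = (F β).1 ∧ ((m : ℤ) ≡ 1 [ZMOD p] ∨ (m : ℤ) ≡ -1 [ZMOD p])) ∨
          (γ ≠ (F β).1 ∧ p ∣ m)) := by
  classical
  have hTNn : T ≤ Subgroup.normalizer (Q : Set Γ) := le_normalizer_of_conj hTQ
  have hPNn : P ≤ Subgroup.normalizer (Q : Set Γ) := le_normalizer_of_conj hPQ
  have hQ'n : (Q.subgroupOf (Subgroup.normalizer (Q : Set Γ))).Normal := inferInstance
  -- the projection
  let π : Subgroup.normalizer (Q : Set Γ) →*
      Subgroup.normalizer (Q : Set Γ) ⧸ Q.subgroupOf (Subgroup.normalizer (Q : Set Γ)) :=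
    QuotientGroup.mk' _
  have hπ1 : ∀ y : Subgroup.normalizer (Q : Set Γ), π y = 1 ↔ (y : Γ) ∈ Q := by
    intro y
    show (QuotientGroup.mk y : _ ⧸ Q.subgroupOf (Subgroup.normalizer (Q : Set Γ))) = 1 ↔ _
    rw [QuotientGroup.eq_one_iff, Subgroup.mem_subgroupOf]
  set Tb : Subgroup (Subgroup.normalizer (Q : Set Γ) ⧸
      Q.subgroupOf (Subgroup.normalizer (Q : Set Γ))) :=
    (T.subgroupOf (Subgroup.normalizer (Q : Set Γ))).map π with hTb
  set Pb : Subgroup (Subgroup.normalizer (Q : Set Γ) ⧸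
      Q.subgroupOf (Subgroup.normalizer (Q : Set Γ))) :=
    (P.subgroupOf (Subgroup.normalizer (Q : Set Γ))).map π with hPb
  set Cb : Subgroup (Subgroup.normalizer (Q : Set Γ) ⧸
      Q.subgroupOf (Subgroup.normalizer (Q : Set Γ))) :=
    Tb ⊓ Subgroup.centralizer (Pb : Set _) with hCb
  have hCbTb : Cb ≤ Tb := inf_le_left
  have : Fintype Cb := Fintype.ofFinite _
  have : Fintype Tb := Fintype.ofFinite _
  have : Fintype T := Fintype.ofFinite _
  -- membership helpers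
  have hmemTb : ∀ t : T, π (Subgroup.inclusion hTNn t) ∈ Tb := by
    intro t
    exact ⟨Subgroup.inclusion hTNn t, Subgroup.mem_subgroupOf.mpr t.2, rfl⟩
  have hmemPb : ∀ x : P, π (Subgroup.inclusion hPNn x) ∈ Pb := by
    intro x
    exact ⟨Subgroup.inclusion hPNn x, Subgroup.mem_subgroupOf.mpr x.2, rfl⟩
  have hTb_ex : ∀ g ∈ Tb, ∃ t : T, π (Subgroup.inclusion hTNn t) = g := by
    rintro g ⟨y, hy, rfl⟩
    exact ⟨⟨(y : Γ), Subgroup.mem_subgroupOf.mp hy⟩, rfl⟩
  have hPb_ex : ∀ s ∈ Pb, ∃ x : P, π (Subgroup.inclusion hPNn x) = s := by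
    rintro g ⟨y, hy, rfl⟩
    exact ⟨⟨(y : Γ), Subgroup.mem_subgroupOf.mp hy⟩, rfl⟩
  -- `Pb` normalizes `Tb`
  have hnorm : ∀ s ∈ Pb, ∀ g ∈ Tb, s * g * s⁻¹ ∈ Tb := by
    intro s hs g hg
    obtain ⟨x, rfl⟩ := hPb_ex s hs
    obtain ⟨t, rfl⟩ := hTb_ex g hg
    have h1 : (x : Γ) * t * (x : Γ)⁻¹ ∈ T := hPT x x.2 t t.2
    have h2 : π (Subgroup.inclusion hPNn x) * π (Subgroup.inclusion hTNn t) *
        (π (Subgroup.inclusion hPNn x))⁻¹ = π (Subgroup.inclusion hTNn ⟨_, h1⟩) := by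
      rw [← map_inv, ← map_mul, ← map_mul]
      congr 1
    rw [h2]
    exact hmemTb _
  -- the homomorphisms
  let πT : T →* Tb := (π.comp (Subgroup.inclusion hTNn)).codRestrict Tb hmemTb
  have hπT_coe : ∀ t : T, ((πT t : Tb) : _ ⧸ Q.subgroupOf (Subgroup.normalizer (Q : Set Γ))) =
      π (Subgroup.inclusion hTNn t) := fun t => rfl
  have hπTsurj : Function.Surjective πT := by
    rintro ⟨g, hg⟩
    obtain ⟨t, ht⟩ := hTb_ex g hg
    exact ⟨t, Subtype.ext ht⟩
  have hπT1 : ∀ t : T, πT t = 1 ↔ (t : Γ) ∈ Q := by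
    intro t
    constructor
    · intro h
      have h1 : π (Subgroup.inclusion hTNn t) = 1 := congrArg Subtype.val h
      exact (hπ1 _).mp h1
    · intro h
      apply Subtype.ext
      exact (hπ1 (Subgroup.inclusion hTNn t)).mpr h
  have hmemCb : ∀ d : D, π (Subgroup.inclusion hTNn ⟨(d : Γ), hDT d.2⟩) ∈ Cb := by
    intro d
    rw [hCb, Subgroup.mem_inf]
    refine ⟨hmemTb _, ?_⟩
    rw [Subgroup.mem_centralizer_iff]
    intro s hs
    obtain ⟨x, rfl⟩ := hPb_ex s hs
    have h1 := ((hD d).mp d.2).2 x x.2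
    have h2 : π (Subgroup.inclusion hPNn x * Subgroup.inclusion hTNn ⟨(d : Γ), hDT d.2⟩ *
        (Subgroup.inclusion hPNn x)⁻¹ * (Subgroup.inclusion hTNn ⟨(d : Γ), hDT d.2⟩)⁻¹) = 1 := by
      rw [hπ1]
      exact h1
    rw [map_mul, map_mul, map_mul, map_inv, map_inv] at h2
    have h3 := mul_inv_eq_one.mp h2
    have h4 := mul_inv_eq_iff_eq_mul.mp h3
    exact h4
  let πD : D →* Cb :=
    (π.comp ((Subgroup.inclusion hTNn).comp (Subgroup.inclusion hDT))).codRestrict Cb hmemCb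
  have hπD_coe : ∀ d : D, ((πD d : Cb) : _ ⧸ Q.subgroupOf (Subgroup.normalizer (Q : Set Γ))) =
      π (Subgroup.inclusion hTNn ⟨(d : Γ), hDT d.2⟩) := fun d => rfl
  have hπDsurj : Function.Surjective πD := by
    rintro ⟨c, hc⟩
    obtain ⟨t, ht⟩ := hTb_ex c hc.1
    have htD : (t : Γ) ∈ D := by
      rw [hD]
      refine ⟨t.2, ?_⟩
      intro x hx
      have h1 := (Subgroup.mem_centralizer_iff.mp hc.2) _ (hmemPb ⟨x, hx⟩)
      rw [← ht] at h1
      have h2 : π (Subgroup.inclusion hPNn ⟨x, hx⟩ * Subgroup.inclusion hTNn t *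
          (Subgroup.inclusion hPNn ⟨x, hx⟩)⁻¹ * (Subgroup.inclusion hTNn t)⁻¹) = 1 := by
        rw [map_mul, map_mul, map_mul, map_inv, map_inv, h1]
        group
      rw [hπ1] at h2
      exact h2
    refine ⟨⟨(t : Γ), htD⟩, ?_⟩
    apply Subtype.ext
    exact ht
  have hπD1 : ∀ d : D, (d : Γ) ∈ Q → πD d = 1 := by
    intro d hd
    apply Subtype.ext
    rw [hπD_coe]
    exact (hπ1 _).mpr hd
  have hπD1' : ∀ d : D, πD d = 1 → (d : Γ) ∈ Q := by
    intro d hd
    have h1 := congrArg Subtype.val hd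
    rw [hπD_coe] at h1
    exact (hπ1 _).mp h1
  have hπTD : ∀ d : D, πT ⟨(d : Γ), hDT d.2⟩ = ⟨(πD d : Cb), hCbTb (πD d).2⟩ := fun d => rfl
  -- cardinalities
  have hcardTb : Nat.card Tb = Q.relIndex T := by
    have e := QuotientGroup.quotientKerEquivOfSurjective πT hπTsurj
    rw [← Nat.card_congr e.toEquiv, ← Subgroup.index_eq_card]
    have hker : πT.ker = Q.subgroupOf T := by
      ext t
      rw [MonoidHom.mem_ker, hπT1, Subgroup.mem_subgroupOf]
    rw [hker]
    rfl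
  have hcopT : (Nat.card Tb).Coprime p := by
    rw [hcardTb]
    exact ((Nat.Prime.coprime_iff_not_dvd hp.out).mpr hcop).symm
  have hPbp : IsPGroup p Pb := (hP.comap_subtype).map π
  obtain ⟨k, hk⟩ := IsPGroup.iff_card.mp hPbp
  have hcorr : GlaubCorr p Tb Pb Cb hCbTb := by
    apply glaub_rel p k Tb Pb ⊥ Cb hCbTb hnorm (fun _ => hcopT) bot_le
    · intro s _ t ht
      rw [Subgroup.mem_bot] at ht ⊢
      rw [ht]
      group
    · intro t ht g _
      rw [Subgroup.mem_bot] at ht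
      rw [ht, one_mul, mul_one]
    · rw [Subgroup.relIndex_bot_left, hk]
    · rfl
  obtain ⟨f, hfbij, hfm⟩ := hcorr
  -- invariance transfer
  have hinv_up : ∀ (β : T → ℂ) (b : Tb → ℂ), (∀ t, b (πT t) = β t) → SetInv T P β →
      SetInv Tb Pb b := by
    intro β b hb hβ s hs g g' hgg'
    obtain ⟨x, rfl⟩ := hPb_ex s hs
    obtain ⟨t, ht⟩ := hπTsurj g
    have h1 : (x : Γ) * t * (x : Γ)⁻¹ ∈ T := hPT x x.2 t t.2
    have h2 : g' = πT ⟨_, h1⟩ := by
      apply Subtype.ext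
      rw [hgg', ← ht, hπT_coe, hπT_coe, ← map_inv, ← map_mul, ← map_mul]
      congr 1
    rw [h2, ← ht, hb, hb]
    exact hβ x x.2 t ⟨_, h1⟩ rfl
  have hinv_down : ∀ (b : Tb → ℂ), SetInv Tb Pb b → SetInv T P (fun t => b (πT t)) := by
    intro b hb x hx t t' htt'
    apply hb (π (Subgroup.inclusion hPNn ⟨x, hx⟩)) (hmemPb ⟨x, hx⟩) (πT t) (πT t')
    rw [hπT_coe, hπT_coe, ← map_inv, ← map_mul, ← map_mul]
    congr 1
    apply Subtype.ext
    exact htt'
  -- descending characters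
  have hexT : ∀ β : {β : IrrCharacter T // SetInv T P (β : T → ℂ) ∧ KerGe Q (β : T → ℂ)},
      ∃ b : {b : IrrCharacter Tb // SetInv Tb Pb (b : Tb → ℂ)},
        ∀ t, (b.1 : Tb → ℂ) (πT t) = (β.1 : T → ℂ) t := by
    intro β
    obtain ⟨b, hb⟩ := exists_irr_of_surjective πT hπTsurj β.1
      (fun t ht => β.2.2 t ((hπT1 t).mp ht))
    exact ⟨⟨b, hinv_up _ _ hb β.2.1⟩, hb⟩
  choose bar hbar using hexT
  have hexD : ∀ γ : IrrCharacter D, KerGe Q (γ : D → ℂ) →
      ∃ c : IrrCharacter Cb, ∀ d, (c : Cb → ℂ) (πD d) = (γ : D → ℂ) d := by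
    intro γ hγ
    exact exists_irr_of_surjective πD hπDsurj γ (fun d hd => hγ d (hπD1' d hd))
  have hkerD : ∀ c : IrrCharacter Cb, KerGe Q (fun d : D => (c : Cb → ℂ) (πD d)) := by
    intro c d hd
    show (c : Cb → ℂ) (πD d) = (c : Cb → ℂ) (πD 1)
    rw [hπD1 d hd, map_one]
  have hresβ : ∀ β : {β : IrrCharacter T // SetInv T P (β : T → ℂ) ∧ KerGe Q (β : T → ℂ)},
      resTo hDT (β.1 : T → ℂ) = fun d : D => resTo hCbTb ((bar β).1 : Tb → ℂ) (πD d) := by
    intro β
    funext d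
    rw [resTo_apply, ← hbar β, hπTD]
    rfl
  refine ⟨fun β => ⟨⟨fun d => (f (bar β) : Cb → ℂ) (πD d),
    Cfsg.Agent.Lib.Helper33.isIrrCharacter_comp_of_surjective πD hπDsurj (f (bar β)).2⟩,
    hkerD _⟩, ⟨?_, ?_⟩, ?_⟩
  · -- injective
    intro β₁ β₂ h
    have h1 : (fun d => (f (bar β₁) : Cb → ℂ) (πD d)) = fun d => (f (bar β₂) : Cb → ℂ) (πD d) :=
      congrArg (fun z => (z.1 : IrrCharacter D).1) h
    have h2 : f (bar β₁) = f (bar β₂) :=
      Subtype.ext (comp_surjective_injective πD hπDsurj h1)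
    have h3 := hfbij.1 h2
    apply Subtype.ext
    apply Subtype.ext
    funext t
    rw [← hbar β₁, ← hbar β₂, h3]
  · -- surjective
    intro γ
    obtain ⟨c, hc⟩ := hexD γ.1 γ.2
    obtain ⟨b, hb⟩ := hfbij.2 c
    have hβirr : IsIrrCharacter T (fun t => (b.1 : Tb → ℂ) (πT t)) :=
      Cfsg.Agent.Lib.Helper33.isIrrCharacter_comp_of_surjective πT hπTsurj b.1.2
    have hβker : KerGe Q (fun t : T => (b.1 : Tb → ℂ) (πT t)) := by
      intro t ht
      show (b.1 : Tb → ℂ) (πT t) = (b.1 : Tb → ℂ) (πT 1)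
      rw [(hπT1 t).mpr ht, map_one]
    refine ⟨⟨⟨_, hβirr⟩, hinv_down _ b.2, hβker⟩, ?_⟩
    have h1 : bar ⟨⟨_, hβirr⟩, hinv_down _ b.2, hβker⟩ = b := by
      apply Subtype.ext
      apply Subtype.ext
      apply comp_surjective_injective πT hπTsurj
      funext t
      exact hbar ⟨⟨_, hβirr⟩, hinv_down _ b.2, hβker⟩ t
    apply Subtype.ext
    apply Subtype.ext
    funext d
    show (f (bar ⟨⟨_, hβirr⟩, hinv_down _ b.2, hβker⟩) : Cb → ℂ) (πD d) = _
    rw [h1, hb, hc]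
  · -- multiplicities
    intro β γ
    by_cases hγ : KerGe Q (γ : D → ℂ)
    · obtain ⟨c, hc⟩ := hexD γ hγ
      obtain ⟨m, hm1, hm2⟩ := hfm (bar β) c
      refine ⟨m, ?_, ?_⟩
      · rw [hresβ β]
        have h1 : (γ : D → ℂ) = fun d => (c : Cb → ℂ) (πD d) := by
          funext d
          exact (hc d).symm
        rw [h1, classInner_comp_surjective πD hπDsurj]
        exact hm1
      · have hiff : γ = (⟨fun d => (f (bar β) : Cb → ℂ) (πD d),
            Cfsg.Agent.Lib.Helper33.isIrrCharacter_comp_of_surjective πD hπDsurj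
              (f (bar β)).2⟩ : IrrCharacter D) ↔ c = f (bar β) := by
          constructor
          · intro h
            apply Subtype.ext
            apply comp_surjective_injective πD hπDsurj
            funext d
            rw [hc]
            exact congrFun (congrArg Subtype.val h) d
          · intro h
            apply Subtype.ext
            funext d
            rw [← hc, h]
        rcases hm2 with ⟨h1, h2⟩ | ⟨h1, h2⟩
        · exact Or.inl ⟨hiff.mpr h1, h2⟩
        · exact Or.inr ⟨fun h => h1 (hiff.mp h), h2⟩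
    · refine ⟨0, ?_, Or.inr ⟨?_, dvd_zero p⟩⟩
      · rw [hresβ β]
        have : Fintype (IrrCharacter Cb) := Fintype.ofFinite _
        have hρ : IsCharacter Cb (resTo hCbTb ((bar β).1 : Tb → ℂ)) :=
          isCharacter_resTo hCbTb (Cfsg.Agent.Lib.Helper83.IrrCharacter_isCharacter _)
        have h1 := Cfsg.Agent.Lib.Helper83.char_eq_sum_irrMult hρ
        have h2 : (fun d : D => resTo hCbTb ((bar β).1 : Tb → ℂ) (πD d)) =
            ∑ c : IrrCharacter Cb,
              (Cfsg.Agent.Lib.Helper83.irrMult (resTo hCbTb ((bar β).1 : Tb → ℂ)) c : ℂ) •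
                (fun d : D => (c : Cb → ℂ) (πD d)) := by
          funext d
          conv_lhs => rw [h1]
          simp only [Finset.sum_apply, Pi.smul_apply]
        rw [h2, Cfsg.Agent.Lib.Helper83.classInner_sum_left, Nat.cast_zero]
        apply Finset.sum_eq_zero
        intro c _
        rw [Cfsg.Agent.Lib.Helper83.classInner_smul_left]
        have h3 := Cfsg.Agent.Lib.Helper83.irr_orthonormal
          (⟨fun d : D => (c : Cb → ℂ) (πD d),
            Cfsg.Agent.Lib.Helper33.isIrrCharacter_comp_of_surjective πD hπDsurj c.2⟩ :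
            IrrCharacter D) γ
        have hne : (⟨fun d : D => (c : Cb → ℂ) (πD d),
            Cfsg.Agent.Lib.Helper33.isIrrCharacter_comp_of_surjective πD hπDsurj c.2⟩ :
            IrrCharacter D) ≠ γ := by
          intro h
          apply hγ
          rw [← h]
          exact hkerD c
        rw [if_neg hne] at h3
        rw [h3, mul_zero]
      · intro h
        apply hγ
        rw [h]
        exact hkerD _
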