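import Mathlib
import Cfsg.Agent.Lib.Helper04.RelSylBij
import Cfsg.Agent.Lib.Helper04.RelSylQuot
import Cfsg.Agent.Lib.Helper04.RelSylMackeyMain

/-!
# The relative correspondence over a fixed invariant character of the normal Sylow subgroup
-/

set_option autoImplicit false

namespace Cfsg.Agent.Lib.Helper04

open Cfsg
open scoped ComplexConjugate

section RelSylLocal

universe u

variable {Γ : Type u} [Group Γ] [Fintype Γ]

/-- multiplicities of products with a fixed character, modulo `p`. -/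
theorem mult_step (p : ℕ) [hp : Fact p.Prime] {T C D : Subgroup Γ} [Fintype D] (hDT : D ≤ T)
    (hDC : D ≤ C) {β θh : T → ℂ} (hβ : IsCharacter T β) (hθh : IsCharacter T θh) {ξ : C → ℂ}
    (hξ : IsCharacter C ξ) (γ0 : IrrCharacter D)
    (H : ∀ γ : IrrCharacter D, ∃ m : ℕ, classInner (resTo hDT β) (γ : D → ℂ) = (m : ℂ) ∧
      ((γ = γ0 ∧ ((m : ℤ) ≡ 1 [ZMOD p] ∨ (m : ℤ) ≡ -1 [ZMOD p])) ∨ (γ ≠ γ0 ∧ p ∣ m))) :
    ∃ m' n0 a0 : ℕ, classInner (resTo hDT (fun t => β t * θh t)) (resTo hDC ξ) = (m' : ℂ) ∧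
      ((n0 : ℤ) ≡ 1 [ZMOD p] ∨ (n0 : ℤ) ≡ -1 [ZMOD p]) ∧
      classInner (fun d => (γ0 : D → ℂ) d * resTo hDT θh d) (resTo hDC ξ) = (a0 : ℂ) ∧
      m' ≡ n0 * a0 [MOD p] := by
  classical
  have : Fintype (IrrCharacter D) := Fintype.ofFinite _
  have hβD := isCharacter_resTo hDT hβ
  have hθhD := isCharacter_resTo hDT hθh
  have hξD := isCharacter_resTo hDC hξ
  have hdec := Cfsg.Agent.Lib.Helper83.char_eq_sum_irrMult hβD
  set n : IrrCharacter D → ℕ := fun γ => Cfsg.Agent.Lib.Helper83.irrMult (resTo hDT β) γ with hn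
  have hncast : ∀ γ, (n γ : ℂ) = classInner (resTo hDT β) (γ : D → ℂ) :=
    fun γ => Cfsg.Agent.Lib.Helper83.irrMult_cast hβD γ
  have hex : ∀ γ : IrrCharacter D, ∃ a : ℕ,
      classInner (fun d => (γ : D → ℂ) d * resTo hDT θh d) (resTo hDC ξ) = (a : ℂ) := fun γ =>
    Cfsg.Agent.Lib.Helper83.classInner_char_nat
      (Cfsg.Agent.Lib.Helper83.isCharacter_mul
        (Cfsg.Agent.Lib.Helper83.IrrCharacter_isCharacter γ) hθhD) hξD
  choose a ha using hex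
  have hprod : resTo hDT (fun t => β t * θh t) =
      ∑ γ : IrrCharacter D, (n γ : ℂ) • (fun d => (γ : D → ℂ) d * resTo hDT θh d) := by
    funext d
    have h1 := congrFun hdec d
    rw [Finset.sum_apply] at h1
    rw [Finset.sum_apply]
    have h2 : resTo hDT (fun t => β t * θh t) d = resTo hDT β d * resTo hDT θh d := rfl
    rw [h2, h1, Finset.sum_mul]
    apply Finset.sum_congr rfl
    intro γ _
    simp only [Pi.smul_apply, smul_eq_mul]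
    ring
  have hkey : classInner (resTo hDT (fun t => β t * θh t)) (resTo hDC ξ) =
      ((∑ γ : IrrCharacter D, n γ * a γ : ℕ) : ℂ) := by
    rw [hprod, Cfsg.Agent.Lib.Helper83.classInner_sum_left]
    push_cast
    apply Finset.sum_congr rfl
    intro γ _
    rw [Cfsg.Agent.Lib.Helper83.classInner_smul_left, ha]
  refine ⟨∑ γ : IrrCharacter D, n γ * a γ, n γ0, a γ0, hkey, ?_, ha γ0, ?_⟩
  · obtain ⟨m, hm, hcase⟩ := H γ0
    have hmn : m = n γ0 := by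
      have : (m : ℂ) = (n γ0 : ℂ) := by rw [← hm, hncast]
      exact_mod_cast this
    rcases hcase with ⟨_, h⟩ | ⟨h, _⟩
    · rw [← hmn]; exact h
    · exact absurd rfl h
  · rw [← Finset.add_sum_erase _ _ (Finset.mem_univ γ0)]
    have hdvd : p ∣ ∑ γ ∈ Finset.univ.erase γ0, n γ * a γ := by
      apply Finset.dvd_sum
      intro γ hγ
      have hne : γ ≠ γ0 := Finset.ne_of_mem_erase hγ
      obtain ⟨m, hm, hcase⟩ := H γ
      have hmn : m = n γ := by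
        have : (m : ℂ) = (n γ : ℂ) := by rw [← hm, hncast]
        exact_mod_cast this
      rcases hcase with ⟨h, _⟩ | ⟨_, h⟩
      · exact absurd h hne
      · rw [← hmn]; exact Dvd.dvd.mul_right h _
    have h0 : ∑ γ ∈ Finset.univ.erase γ0, n γ * a γ ≡ 0 [MOD p] :=
      (Nat.modEq_zero_iff_dvd).mpr hdvd
    have := Nat.ModEq.add_left (n γ0 * a γ0) h0
    rwa [add_zero] at this

set_option maxHeartbeats 1600000 in
/-- **the correspondence over a fixed `P`-invariant `θ ∈ Irr(Q)`.** -/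
theorem local_corr (p : ℕ) [hp : Fact p.Prime] (K Q P C : Subgroup Γ) [Fintype K] [Fintype C]
    [Fintype Q] (hQK : Q ≤ K) (hQC : Q ≤ C) (hKQ : ∀ k ∈ K, ∀ q ∈ Q, k * q * k⁻¹ ∈ Q)
    (hQp : ∃ a : ℕ, Nat.card Q = p ^ a) (hcop : ¬ p ∣ Q.relIndex K)
    (hP : IsPGroup p P) (hPK : ∀ x ∈ P, ∀ k ∈ K, x * k * x⁻¹ ∈ K)
    (hPQ : ∀ x ∈ P, ∀ q ∈ Q, x * q * x⁻¹ ∈ Q) (hPC : ∀ x ∈ P, ∀ c ∈ C, x * c * x⁻¹ ∈ C)
    (hCK : C ≤ K) (hC : ∀ k : Γ, k ∈ C ↔ k ∈ K ∧ ∀ x ∈ P, x * k * x⁻¹ * k⁻¹ ∈ Q)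
    (θ : IrrCharacter Q) (hθP : SetInv Q P (θ : Q → ℂ)) :
    ∃ (ι : Type u) (a : ι → IrrCharacter K) (b : ι → IrrCharacter C),
      Function.Injective b ∧ (∀ i, SetInv K P (a i : K → ℂ)) ∧ (∀ i, SetInv C P (b i : C → ℂ)) ∧
      (∀ i, classInner (resTo hQC (b i : C → ℂ)) (θ : Q → ℂ) ≠ 0) ∧
      (∀ χ : IrrCharacter K, SetInv K P (χ : K → ℂ) →
        classInner (resTo hQK (χ : K → ℂ)) (θ : Q → ℂ) ≠ 0 → ∃ i, a i = χ) ∧
      (∀ ξ : IrrCharacter C, classInner (resTo hQC (ξ : C → ℂ)) (θ : Q → ℂ) ≠ 0 →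
        ∃ i, b i = ξ) ∧
      (∀ i, ∀ ξ : IrrCharacter C, SetInv C P (ξ : C → ℂ) → ∃ m : ℕ,
        classInner (resTo hCK (a i : K → ℂ)) (ξ : C → ℂ) = (m : ℂ) ∧
        ((ξ = b i ∧ ((m : ℤ) ≡ 1 [ZMOD p] ∨ (m : ℤ) ≡ -1 [ZMOD p])) ∨ (ξ ≠ b i ∧ p ∣ m))) := by
  classical
  have hθc := Cfsg.Agent.Lib.Helper83.IrrCharacter_isCharacter θ
  have hθcl := Cfsg.Agent.Lib.Helper83.char_isClassFunction hθc
  -- the groups
  set T : Subgroup Γ := stabIn K Q hKQ (θ : Q → ℂ) with hTdef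
  have hTK : T ≤ K := stabIn_le hKQ _
  have hQT : Q ≤ T := le_stabIn hQK hKQ hθcl
  set D : Subgroup Γ := T ⊓ C with hDdef
  have hDT : D ≤ T := inf_le_left
  have hDC : D ≤ C := inf_le_right
  have hQD : Q ≤ D := le_inf hQT hQC
  have : Fintype T := Fintype.ofFinite _
  have : Fintype D := Fintype.ofFinite _
  have hTQ : ∀ t ∈ T, ∀ q ∈ Q, t * q * t⁻¹ ∈ Q := fun t ht => hKQ t (hTK ht)
  have hCQ : ∀ c ∈ C, ∀ q ∈ Q, c * q * c⁻¹ ∈ Q := fun c hc => hKQ c (hCK hc)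
  have hDQ : ∀ d ∈ D, ∀ q ∈ Q, d * q * d⁻¹ ∈ Q := fun d hd => hTQ d (hDT hd)
  have hPT : ∀ x ∈ P, ∀ t ∈ T, x * t * x⁻¹ ∈ T := fun x hx t ht =>
    stabIn_conj_mem hKQ (hPK x hx) (hPQ x hx) (conj_inv_mem hPQ hx) (hθP x hx) ht
  have hPD : ∀ x ∈ P, ∀ d ∈ D, x * d * x⁻¹ ∈ D := fun x hx d hd =>
    Subgroup.mem_inf.mpr ⟨hPT x hx d (Subgroup.mem_inf.mp hd).1,
      hPC x hx d (Subgroup.mem_inf.mp hd).2⟩
  have hTstab : ∀ g ∈ K, g ∈ T ↔ ConjRel Q g (θ : Q → ℂ) (θ : Q → ℂ) :=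
    fun g hg => ⟨fun h => h.2, fun h => ⟨hg, h⟩⟩
  have hDstab : ∀ g ∈ C, g ∈ D ↔ ConjRel Q g (θ : Q → ℂ) (θ : Q → ℂ) := fun g hg =>
    ⟨fun h => (Subgroup.mem_inf.mp h).1.2, fun h => Subgroup.mem_inf.mpr ⟨⟨hCK hg, h⟩, hg⟩⟩
  have hD : ∀ y : Γ, y ∈ D ↔ y ∈ T ∧ y ∈ C := fun y => Subgroup.mem_inf
  have hD' : ∀ t : Γ, t ∈ D ↔ t ∈ T ∧ ∀ x ∈ P, x * t * x⁻¹ * t⁻¹ ∈ Q := by
    intro t
    rw [hD, hC]
    constructor
    · rintro ⟨h1, _, h3⟩
      exact ⟨h1, h3⟩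
    · rintro ⟨h1, h3⟩
      exact ⟨h1, hTK h1, h3⟩
  -- arithmetic
  have hrel : Q.relIndex T * T.relIndex K = Q.relIndex K :=
    Subgroup.relIndex_mul_relIndex _ _ _ hQT hTK
  have hcopT : ¬ p ∣ Q.relIndex T := fun h => hcop (hrel ▸ Dvd.dvd.mul_right h _)
  obtain ⟨a0, ha0⟩ := hQp
  have hcop' : (Nat.card Q).Coprime (Q.relIndex T) := by
    rw [ha0]
    exact Nat.Coprime.pow_left _ ((Nat.Prime.coprime_iff_not_dvd hp.out).mpr hcopT)
  -- the canonical extension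
  obtain ⟨θh, hθh, hres, hcopd, huniq⟩ := exists_canon_ext hQT hTQ θ (fun t ht => ht.2) hcop'
  have hθhc := Cfsg.Agent.Lib.Helper83.isCharacter_of_irr hθh
  have hθhP : ∀ x ∈ P, ConjRel T x θh θh := fun x hx =>
    canon_ext_conjRel hQT θ hθh hres hcopd huniq x (hPT x hx) (conj_inv_mem hPT hx) (hPQ x hx)
      (hθP x hx)
  set θhD : D → ℂ := resTo hDT θh with hθhD
  have hresD : resTo hQD θhD = (θ : Q → ℂ) := by
    rw [hθhD, resTo_resTo]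
    exact hres
  have hθhDi : IsIrrCharacter D θhD :=
    irr_of_resTo_irr hQD (isCharacter_resTo hDT hθhc) (by rw [hresD]; exact θ.2)
  have hθhDP : ∀ x ∈ P, ConjRel D x θhD θhD := fun x hx => (hθhP x hx).restrict hDT
  -- the Glauberman correspondence on the quotient
  obtain ⟨F, hFbij, hFm⟩ := glaub_inflated p T Q P D hTQ hcopT hP hPT hPQ hDT hD'
  have hFP : ∀ i, SetInv D P ((F i).1 : D → ℂ) := by
    intro i x hx d d' hd
    apply kerGe_coset_eq hDQ (F i).1 (F i).2 d d'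
    rw [hd]
    have h1 := ((hD' (d : Γ)⁻¹).mp (D.inv_mem d.2)).2 x hx
    have e : (x * (d : Γ) * x⁻¹)⁻¹ * d = x * (d : Γ)⁻¹ * x⁻¹ * ((d : Γ)⁻¹)⁻¹ := by group
    rw [e]
    exact h1
  -- the maps
  let a : {β : IrrCharacter T // SetInv T P (β : T → ℂ) ∧ KerGe Q (β : T → ℂ)} →
      IrrCharacter K := fun i =>
    ⟨indTo K (fun t => (i.1 : T → ℂ) t * θh t),
      (ind_gall_irr hQK hKQ θ hQT hTK hTstab hθh hres i.1 i.2.2).1⟩
  let b : {β : IrrCharacter T // SetInv T P (β : T → ℂ) ∧ KerGe Q (β : T → ℂ)} →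
      IrrCharacter C := fun i =>
    ⟨indTo C (fun d => ((F i).1 : D → ℂ) d * θhD d),
      (ind_gall_irr hQC hCQ θ hQD hDC hDstab hθhDi hresD (F i).1 (F i).2).1⟩
  have hb : ∀ i, (b i : C → ℂ) = indTo C (fun d => ((F i).1 : D → ℂ) d * θhD d) := fun _ => rfl
  refine ⟨_, a, b, ?_, ?_, ?_, ?_, ?_, ?_, ?_⟩
  · intro i j hij
    have h1 : indTo C (fun d => ((F i).1 : D → ℂ) d * θhD d) =
        indTo C (fun d => ((F j).1 : D → ℂ) d * θhD d) := congrArg Subtype.val hij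
    have h2 := ind_gall_inj hQC hCQ θ hQD hDC hDstab hθhDi hresD (F i).1 (F j).1 (F i).2 (F j).2 h1
    exact hFbij.1 (Subtype.ext h2)
  · intro i x hx
    exact ind_gall_conjRel_up (hPK x hx) (conj_inv_mem hPK hx) (hPT x hx) (conj_inv_mem hPT hx)
      (hθhP x hx) (i.2.1 x hx)
  · intro i x hx
    exact ind_gall_conjRel_up (hPC x hx) (conj_inv_mem hPC hx) (hPD x hx) (conj_inv_mem hPD hx)
      (hθhDP x hx) (hFP i x hx)
  · intro i
    exact (ind_gall_irr hQC hCQ θ hQD hDC hDstab hθhDi hresD (F i).1 (F i).2).2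
  · intro χ hχP hχθ
    obtain ⟨β, hβ, hβ2⟩ := ind_gall_surj hQK hKQ θ hQT hTK hTstab hθh hres χ hχθ
    have hβP : SetInv T P (β : T → ℂ) := fun x hx =>
      ind_gall_conjRel_down hQK hKQ θ hQT hTK hTstab hθh hres β hβ (hPK x hx)
        (conj_inv_mem hPK hx) (hPT x hx) (conj_inv_mem hPT hx) (hPQ x hx) (conj_inv_mem hPQ hx)
        (hθP x hx) (hθhP x hx) (by rw [← hβ2]; exact hχP x hx)
    exact ⟨⟨β, hβP, hβ⟩, Subtype.ext hβ2.symm⟩
  · intro ξ hξθ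
    obtain ⟨γ, hγ, hγ2⟩ := ind_gall_surj hQC hCQ θ hQD hDC hDstab hθhDi hresD ξ hξθ
    obtain ⟨i, hi⟩ := hFbij.2 ⟨γ, hγ⟩
    refine ⟨i, Subtype.ext ?_⟩
    rw [hb, hi, hγ2]
  · intro i ξ hξP
    have hi1c := Cfsg.Agent.Lib.Helper83.IrrCharacter_isCharacter i.1
    have hψ : IsCharacter T (fun t => (i.1 : T → ℂ) t * θh t) :=
      Cfsg.Agent.Lib.Helper83.isCharacter_mul hi1c hθhc
    have hψP : SetInv T P (fun t => (i.1 : T → ℂ) t * θh t) :=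
      fun x hx => ConjRel.mul (show ConjRel T x (i.1 : T → ℂ) (i.1 : T → ℂ) from i.2.1 x hx)
        (hθhP x hx)
    have hξc := Cfsg.Agent.Lib.Helper83.IrrCharacter_isCharacter ξ
    obtain ⟨m, m', hm, hm', hmm⟩ := mackey_modEq p K T C D Q P hTK hCK hDT hDC hD hQD hKQ hcop hP
      hPK hPT hPC hPQ hC hψ hψP hξc hξP
    obtain ⟨m'', n0, a1, h1, h2, h3, h4⟩ := mult_step p hDT hDC hi1c hθhc hξc (F i).1 (hFm i)
    have hm'' : m'' = m' := by
      have : (m'' : ℂ) = (m' : ℂ) := by rw [← h1, ← hm']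
      exact_mod_cast this
    have h5 : classInner (b i : C → ℂ) (ξ : C → ℂ) = (a1 : ℂ) := by
      rw [hb, frobenius_indTo hDC _ (Cfsg.Agent.Lib.Helper83.char_isClassFunction hξc)]
      exact h3
    rw [Cfsg.Agent.Lib.Helper83.irr_orthonormal] at h5
    refine ⟨m, hm, ?_⟩
    rw [hm''] at h4
    have h6 : m ≡ n0 * a1 [MOD p] := hmm.trans h4
    by_cases hξb : ξ = b i
    · left
      refine ⟨hξb, ?_⟩
      rw [if_pos hξb.symm] at h5
      have ha1 : a1 = 1 := by exact_mod_cast h5.symm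
      rw [ha1, mul_one] at h6
      have h7 : (m : ℤ) ≡ (n0 : ℤ) [ZMOD p] := Int.natCast_modEq_iff.mpr h6
      rcases h2 with h2 | h2
      · left; exact h7.trans h2
      · right; exact h7.trans h2
    · right
      refine ⟨hξb, ?_⟩
      rw [if_neg (fun h => hξb h.symm)] at h5
      have ha1 : a1 = 0 := by exact_mod_cast h5.symm
      rw [ha1, mul_zero] at h6
      exact (Nat.modEq_zero_iff_dvd).mp h6

end RelSylLocal

end Cfsg.Agent.Lib.Helper04
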