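import Mathlib
import Cfsg.Agent.Lib.Helper04.RelSylLocal
import Cfsg.Agent.S4447

/-!
# The relative correspondence for a `p`-group acting on a group with a normal Sylow `p`-subgroup
-/

set_option autoImplicit false

namespace Cfsg.Agent.Lib.Helper04

open Cfsg
open scoped ComplexConjugate

section RelSylGlobal

universe u

variable {Γ : Type u} [Group Γ] [Fintype Γ]

omit [Fintype Γ] in
/-- `p`-elements of a group with a normal subgroup of index prime to `p` lie in that subgroup. -/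
theorem mem_of_pow_eq_one_of_not_dvd_relIndex [Finite Γ] (p : ℕ) [hp : Fact p.Prime]
    {K Q : Subgroup Γ} (hKQ : ∀ k ∈ K, ∀ q ∈ Q, k * q * k⁻¹ ∈ Q) (hcop : ¬ p ∣ Q.relIndex K)
    {y : Γ} (hy : y ∈ K) {n : ℕ} (hyn : y ^ (p ^ n) = 1) : y ∈ Q := by
  have hMn : (Q.subgroupOf K).Normal := normal_subgroupOf_of_conj hKQ
  have h0 : (⟨y, hy⟩ : K) ^ (p ^ n) = 1 := by
    apply Subtype.ext
    rw [Subgroup.coe_pow]
    exact hyn
  have h1 : ((⟨y, hy⟩ : K) : K ⧸ Q.subgroupOf K) ^ (p ^ n) = 1 := by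
    rw [← QuotientGroup.mk_pow, h0]
    rfl
  have h2 : orderOf ((⟨y, hy⟩ : K) : K ⧸ Q.subgroupOf K) ∣ p ^ n := orderOf_dvd_of_pow_eq_one h1
  have h3 : orderOf ((⟨y, hy⟩ : K) : K ⧸ Q.subgroupOf K) ∣ Q.relIndex K := orderOf_dvd_natCard _
  have h5 : (p ^ n).Coprime (Q.relIndex K) :=
    Nat.Coprime.pow_left _ ((Nat.Prime.coprime_iff_not_dvd hp.out).mpr hcop)
  have h6 : orderOf ((⟨y, hy⟩ : K) : K ⧸ Q.subgroupOf K) = 1 :=
    Nat.eq_one_of_dvd_coprimes h5 h2 h3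
  have h7 : ((⟨y, hy⟩ : K) : K ⧸ Q.subgroupOf K) = 1 := orderOf_eq_one_iff.mp h6
  have h8 : (⟨y, hy⟩ : K) ∈ Q.subgroupOf K := (QuotientGroup.eq_one_iff _).mp h7
  exact Subgroup.mem_subgroupOf.mp h8

omit [Fintype Γ] in
/-- a subgroup normalizing `K` normalizes its normal Sylow `p`-subgroup. -/
theorem conj_mem_normal_sylow [Finite Γ] (p : ℕ) [hp : Fact p.Prime] {K Q P : Subgroup Γ}
    (hQK : Q ≤ K) (hKQ : ∀ k ∈ K, ∀ q ∈ Q, k * q * k⁻¹ ∈ Q)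
    (hQp : ∃ a : ℕ, Nat.card Q = p ^ a) (hcop : ¬ p ∣ Q.relIndex K)
    (hPK : ∀ x ∈ P, ∀ k ∈ K, x * k * x⁻¹ ∈ K) : ∀ x ∈ P, ∀ q ∈ Q, x * q * x⁻¹ ∈ Q := by
  intro x hx q hq
  obtain ⟨a, ha⟩ := hQp
  apply mem_of_pow_eq_one_of_not_dvd_relIndex p hKQ hcop (hPK x hx q (hQK hq)) (n := a)
  have h1 : q ^ (p ^ a) = 1 := by
    have h2 := pow_card_eq_one' (G := Q) (x := (⟨q, hq⟩ : Q))
    rw [ha] at h2
    have h3 := congrArg Subtype.val h2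
    rw [Subgroup.coe_pow] at h3
    exact h3
  rw [conj_pow, h1, mul_one, mul_inv_cancel]

omit [Fintype Γ] in
/-- `P` normalizes the preimage of the fixed points. -/
theorem conj_mem_fix {K Q P C : Subgroup Γ}
    (hPK : ∀ x ∈ P, ∀ k ∈ K, x * k * x⁻¹ ∈ K)
    (hC : ∀ k : Γ, k ∈ C ↔ k ∈ K ∧ ∀ x ∈ P, x * k * x⁻¹ * k⁻¹ ∈ Q) :
    ∀ x ∈ P, ∀ c ∈ C, x * c * x⁻¹ ∈ C := by
  intro x hx c hc
  rw [hC] at hc ⊢
  refine ⟨hPK x hx c hc.1, ?_⟩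
  intro y hy
  have h1 := hc.2 (y * x) (P.mul_mem hy hx)
  have h2 := Q.inv_mem (hc.2 x hx)
  have h3 := Q.mul_mem h1 h2
  have e : y * (x * c * x⁻¹) * y⁻¹ * (x * c * x⁻¹)⁻¹ =
      (y * x) * c * (y * x)⁻¹ * c⁻¹ * (x * c * x⁻¹ * c⁻¹)⁻¹ := by group
  rw [e]
  exact h3

/-- an invariant irreducible character lies over an invariant irreducible character of the
normal Sylow subgroup. -/
theorem exists_inv_under (p : ℕ) [hp : Fact p.Prime] (G Q P : Subgroup Γ) [Fintype G] [Fintype Q]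
    (hQG : Q ≤ G) (hGQ : ∀ g ∈ G, ∀ q ∈ Q, g * q * g⁻¹ ∈ Q) (hcop : ¬ p ∣ Q.relIndex G)
    (hP : IsPGroup p P) (hPG : ∀ x ∈ P, ∀ g ∈ G, x * g * x⁻¹ ∈ G)
    (hPQ : ∀ x ∈ P, ∀ q ∈ Q, x * q * x⁻¹ ∈ Q) (χ : IrrCharacter G)
    (hχ : SetInv G P (χ : G → ℂ)) :
    ∃ θ : IrrCharacter Q, classInner (resTo hQG (χ : G → ℂ)) (θ : Q → ℂ) ≠ 0 ∧
      SetInv Q P (θ : Q → ℂ) := by
  haveI : (Q.subgroupOf G).Normal := normal_subgroupOf_of_conj hGQ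
  obtain ⟨k, hk⟩ := IsPGroup.iff_card.mp hP
  have hc : (Q.relIndex G).Coprime (Nat.card P) := by
    rw [hk]
    exact (Nat.Coprime.pow_left k ((Nat.Prime.coprime_iff_not_dvd hp.out).mpr hcop)).symm
  have hs : Group.IsSolvable P := by
    haveI := hP.isNilpotent
    infer_instance
  exact Cfsg.Agent.S4447.result G P Q hPG hQG hPQ hc (Or.inl hs) χ hχ

/-- degrees modulo `p`. -/
theorem degree_congr (p : ℕ) [hp : Fact p.Prime] (K P C : Subgroup Γ) [Fintype K] [Fintype C]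
    (hCK : C ≤ K) (hP : IsPGroup p P) (hPC : ∀ x ∈ P, ∀ c ∈ C, x * c * x⁻¹ ∈ C)
    (χ : IrrCharacter K) (hχP : SetInv K P (χ : K → ℂ)) (ξ0 : IrrCharacter C)
    (hξ0 : SetInv C P (ξ0 : C → ℂ))
    (H : ∀ ξ : IrrCharacter C, SetInv C P (ξ : C → ℂ) → ∃ m : ℕ,
      classInner (resTo hCK (χ : K → ℂ)) (ξ : C → ℂ) = (m : ℂ) ∧
      ((ξ = ξ0 ∧ ((m : ℤ) ≡ 1 [ZMOD p] ∨ (m : ℤ) ≡ -1 [ZMOD p])) ∨ (ξ ≠ ξ0 ∧ p ∣ m))) :
    (charDegree (ξ0 : C → ℂ) : ℤ) ≡ (charDegree (χ : K → ℂ) : ℤ) [ZMOD p] ∨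
      (charDegree (ξ0 : C → ℂ) : ℤ) ≡ -(charDegree (χ : K → ℂ) : ℤ) [ZMOD p] := by
  classical
  have : Fintype (IrrCharacter C) := Fintype.ofFinite _
  have hχc := Cfsg.Agent.Lib.Helper83.IrrCharacter_isCharacter χ
  -- the degree as a sum
  have hdeg : charDegree (χ : K → ℂ) =
      ∑ φ : IrrCharacter C, rmul hCK (χ : K → ℂ) φ * charDegree (φ : C → ℂ) := by
    have h1 := Cfsg.Agent.Lib.Helper83.char_eq_sum_irrMult (isCharacter_resTo hCK hχc)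
    have h2 := congrFun h1 1
    rw [Finset.sum_apply] at h2
    have h3 : (charDegree (χ : K → ℂ) : ℂ) =
        ((∑ φ : IrrCharacter C, rmul hCK (χ : K → ℂ) φ * charDegree (φ : C → ℂ) : ℕ) : ℂ) := by
      rw [Cfsg.Agent.Lib.Helper83.charDegree_cast hχc]
      have h4 : resTo hCK (χ : K → ℂ) 1 = (χ : K → ℂ) 1 := rfl
      rw [← h4, h2]
      push_cast
      apply Finset.sum_congr rfl
      intro φ _
      rw [Pi.smul_apply, smul_eq_mul,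
        Cfsg.Agent.Lib.Helper83.charDegree_cast
          (Cfsg.Agent.Lib.Helper83.IrrCharacter_isCharacter φ)]
      rfl
    exact_mod_cast h3
  obtain ⟨k, hk⟩ := IsPGroup.iff_card.mp hP
  have hpow : ∀ t : P, irrAct C P hPC (t ^ (p ^ k)) = 1 := by
    intro t
    rw [← hk, pow_card_eq_one', map_one]
  have hw : ∀ (t : P) (ξ : IrrCharacter C),
      rmul hCK (χ : K → ℂ) (irrAct C P hPC t ξ) * charDegree ((irrAct C P hPC t ξ : IrrCharacter C) : C → ℂ) =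
        rmul hCK (χ : K → ℂ) ξ * charDegree (ξ : C → ℂ) := by
    intro t ξ
    have hrel := irrAct_conjRel C P hPC t ξ
    have h1 : rmul hCK (χ : K → ℂ) (irrAct C P hPC t ξ) = rmul hCK (χ : K → ℂ) ξ := by
      have h2 : classInner (resTo hCK (χ : K → ℂ)) ((irrAct C P hPC t ξ : IrrCharacter C) : C → ℂ) =
          classInner (resTo hCK (χ : K → ℂ)) (ξ : C → ℂ) :=
        ConjRel.classInner_eq (hPC t t.2) (conj_inv_mem hPC t.2)
          (ConjRel.restrict hCK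
            (show ConjRel K (t : Γ) (χ : K → ℂ) (χ : K → ℂ) from hχP t t.2)) hrel
      have h3 : (rmul hCK (χ : K → ℂ) (irrAct C P hPC t ξ) : ℂ) = (rmul hCK (χ : K → ℂ) ξ : ℂ) := by
        rw [rmul_cast hCK hχc, rmul_cast hCK hχc, h2]
      exact_mod_cast h3
    have h4 : charDegree ((irrAct C P hPC t ξ : IrrCharacter C) : C → ℂ) =
        charDegree (ξ : C → ℂ) := by
      have h5 : ((irrAct C P hPC t ξ : IrrCharacter C) : C → ℂ) 1 = (ξ : C → ℂ) 1 := by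
        apply hrel 1 1
        simp
      have h6 : (charDegree ((irrAct C P hPC t ξ : IrrCharacter C) : C → ℂ) : ℂ) =
          (charDegree (ξ : C → ℂ) : ℂ) := by
        rw [Cfsg.Agent.Lib.Helper83.charDegree_cast
            (Cfsg.Agent.Lib.Helper83.IrrCharacter_isCharacter _),
          Cfsg.Agent.Lib.Helper83.charDegree_cast
            (Cfsg.Agent.Lib.Helper83.IrrCharacter_isCharacter _), h5]
      exact_mod_cast h6
    rw [h1, h4]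
  have hsum := sum_modEq_sum_fixed_hom p k (irrAct C P hPC) hpow
    (fun ξ => rmul hCK (χ : K → ℂ) ξ * charDegree (ξ : C → ℂ)) hw
  rw [← hdeg] at hsum
  have hmem : ξ0 ∈ Finset.univ.filter (fun ξ : IrrCharacter C => ∀ t, irrAct C P hPC t ξ = ξ) := by
    rw [Finset.mem_filter]
    exact ⟨Finset.mem_univ _, (irrAct_fixed_iff C P hPC ξ0).mpr hξ0⟩
  rw [← Finset.add_sum_erase _ _ hmem] at hsum
  have hdvd : p ∣ ∑ ξ ∈ (Finset.univ.filter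
      (fun ξ : IrrCharacter C => ∀ t, irrAct C P hPC t ξ = ξ)).erase ξ0,
      rmul hCK (χ : K → ℂ) ξ * charDegree (ξ : C → ℂ) := by
    apply Finset.dvd_sum
    intro ξ hξ
    have hne : ξ ≠ ξ0 := Finset.ne_of_mem_erase hξ
    have hfix := (Finset.mem_filter.mp (Finset.mem_of_mem_erase hξ)).2
    have hinv : SetInv C P (ξ : C → ℂ) := (irrAct_fixed_iff C P hPC ξ).mp hfix
    obtain ⟨m, hm, hcase⟩ := H ξ hinv
    rw [rmul_eq_of_classInner hCK hχc ξ hm]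
    rcases hcase with ⟨h, _⟩ | ⟨_, h⟩
    · exact absurd h hne
    · exact Dvd.dvd.mul_right h _
  have h0 : ∑ ξ ∈ (Finset.univ.filter
      (fun ξ : IrrCharacter C => ∀ t, irrAct C P hPC t ξ = ξ)).erase ξ0,
      rmul hCK (χ : K → ℂ) ξ * charDegree (ξ : C → ℂ) ≡ 0 [MOD p] :=
    (Nat.modEq_zero_iff_dvd).mpr hdvd
  have h1 : charDegree (χ : K → ℂ) ≡ rmul hCK (χ : K → ℂ) ξ0 * charDegree (ξ0 : C → ℂ) [MOD p] := by
    have := Nat.ModEq.add_left (rmul hCK (χ : K → ℂ) ξ0 * charDegree (ξ0 : C → ℂ)) h0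
    rw [add_zero] at this
    exact hsum.trans this
  obtain ⟨m, hm, hcase⟩ := H ξ0 hξ0
  rw [rmul_eq_of_classInner hCK hχc ξ0 hm] at h1
  have h2 : (charDegree (χ : K → ℂ) : ℤ) ≡ (m : ℤ) * (charDegree (ξ0 : C → ℂ) : ℤ) [ZMOD p] := by
    have := Int.natCast_modEq_iff.mpr h1
    push_cast at this
    exact this
  rcases hcase with ⟨_, h | h⟩ | ⟨h, _⟩
  · left
    have h3 := h.mul_right (charDegree (ξ0 : C → ℂ) : ℤ)
    rw [one_mul] at h3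
    exact (h2.trans h3).symm
  · right
    have h3 := h.mul_right (charDegree (ξ0 : C → ℂ) : ℤ)
    have h4 : (charDegree (χ : K → ℂ) : ℤ) ≡ -(charDegree (ξ0 : C → ℂ) : ℤ) [ZMOD p] := by
      have := h2.trans h3
      simpa using this
    have h5 := h4.neg
    rw [neg_neg] at h5
    exact h5.symm
  · exact absurd rfl h

set_option maxHeartbeats 1600000 in
/-- **the relative correspondence.** -/
theorem rel_syl_corr (p : ℕ) [hp : Fact p.Prime] (K Q P C : Subgroup Γ) [Fintype K] [Fintype C]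
    [Fintype Q] (hQK : Q ≤ K) (hKQ : ∀ k ∈ K, ∀ q ∈ Q, k * q * k⁻¹ ∈ Q)
    (hQp : ∃ a : ℕ, Nat.card Q = p ^ a) (hcop : ¬ p ∣ Q.relIndex K)
    (hP : IsPGroup p P) (hPK : ∀ x ∈ P, ∀ k ∈ K, x * k * x⁻¹ ∈ K)
    (hCK : C ≤ K) (hC : ∀ k : Γ, k ∈ C ↔ k ∈ K ∧ ∀ x ∈ P, x * k * x⁻¹ * k⁻¹ ∈ Q) :
    ∃ f : {χ : IrrCharacter K // SetInv K P (χ : K → ℂ)} →
        {ξ : IrrCharacter C // SetInv C P (ξ : C → ℂ)},
      Function.Bijective f ∧ ∀ χ,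
        (∀ ξ : {ξ : IrrCharacter C // SetInv C P (ξ : C → ℂ)}, ∃ m : ℕ,
          classInner (resTo hCK (χ.1 : K → ℂ)) (ξ.1 : C → ℂ) = (m : ℂ) ∧
          ((ξ = f χ ∧ ((m : ℤ) ≡ 1 [ZMOD p] ∨ (m : ℤ) ≡ -1 [ZMOD p])) ∨ (ξ ≠ f χ ∧ p ∣ m))) ∧
        ((charDegree ((f χ).1 : C → ℂ) : ℤ) ≡ (charDegree (χ.1 : K → ℂ) : ℤ) [ZMOD p] ∨
          (charDegree ((f χ).1 : C → ℂ) : ℤ) ≡ -(charDegree (χ.1 : K → ℂ) : ℤ) [ZMOD p]) := by
  classical
  have hPQ := conj_mem_normal_sylow p hQK hKQ hQp hcop hPK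
  have hPC := conj_mem_fix hPK hC
  have hQC : Q ≤ C := by
    intro q hq
    rw [hC]
    refine ⟨hQK hq, ?_⟩
    intro x hx
    exact Q.mul_mem (hPQ x hx q hq) (Q.inv_mem hq)
  have hCQ : ∀ c ∈ C, ∀ q ∈ Q, c * q * c⁻¹ ∈ Q := fun c hc => hKQ c (hCK hc)
  have hcopC : ¬ p ∣ Q.relIndex C := by
    have hrel := Subgroup.relIndex_mul_relIndex _ _ _ hQC hCK
    exact fun h => hcop (hrel ▸ Dvd.dvd.mul_right h _)
  -- the candidate
  have key1 : ∀ χ : {χ : IrrCharacter K // SetInv K P (χ : K → ℂ)},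
      ∃ ξ0 : {ξ : IrrCharacter C // SetInv C P (ξ : C → ℂ)},
      ∀ ξ : {ξ : IrrCharacter C // SetInv C P (ξ : C → ℂ)}, ∃ m : ℕ,
        classInner (resTo hCK (χ.1 : K → ℂ)) (ξ.1 : C → ℂ) = (m : ℂ) ∧
        ((ξ = ξ0 ∧ ((m : ℤ) ≡ 1 [ZMOD p] ∨ (m : ℤ) ≡ -1 [ZMOD p])) ∨ (ξ ≠ ξ0 ∧ p ∣ m)) := by
    intro χ
    obtain ⟨θ, hθ1, hθ2⟩ := exists_inv_under p K Q P hQK hKQ hcop hP hPK hPQ χ.1 χ.2
    obtain ⟨ι, a, b, hbinj, haP, hbP, hbθ, hasurj, hbsurj, hmult⟩ :=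
      local_corr p K Q P C hQK hQC hKQ hQp hcop hP hPK hPQ hPC hCK hC θ hθ2
    obtain ⟨i, hi⟩ := hasurj χ.1 χ.2 hθ1
    refine ⟨⟨b i, hbP i⟩, ?_⟩
    intro ξ
    obtain ⟨m, hm, hcase⟩ := hmult i ξ.1 ξ.2
    refine ⟨m, by rw [← hi]; exact hm, ?_⟩
    rcases hcase with ⟨h1, h2⟩ | ⟨h1, h2⟩
    · left; exact ⟨Subtype.ext h1, h2⟩
    · right; exact ⟨fun h => h1 (congrArg Subtype.val h), h2⟩
  choose f hf using key1
  -- uniqueness
  have huniq : ∀ (χ : {χ : IrrCharacter K // SetInv K P (χ : K → ℂ)})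
      (ξ : {ξ : IrrCharacter C // SetInv C P (ξ : C → ℂ)}) (m : ℕ),
      classInner (resTo hCK (χ.1 : K → ℂ)) (ξ.1 : C → ℂ) = (m : ℂ) → ¬ p ∣ m → ξ = f χ := by
    intro χ ξ m hm hnd
    obtain ⟨m', hm', hcase⟩ := hf χ ξ
    have hmm : m' = m := by
      have : (m' : ℂ) = (m : ℂ) := by rw [← hm', hm]
      exact_mod_cast this
    rcases hcase with ⟨h, _⟩ | ⟨_, h⟩
    · exact h
    · rw [hmm] at h; exact absurd h hnd
  -- the local data determine `f`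
  have hfloc : ∀ {ι : Type u} (a : ι → IrrCharacter K) (b : ι → IrrCharacter C)
      (haP : ∀ i, SetInv K P (a i : K → ℂ)) (hbP : ∀ i, SetInv C P (b i : C → ℂ))
      (_ : ∀ i, ∀ ξ : IrrCharacter C, SetInv C P (ξ : C → ℂ) → ∃ m : ℕ,
        classInner (resTo hCK (a i : K → ℂ)) (ξ : C → ℂ) = (m : ℂ) ∧
        ((ξ = b i ∧ ((m : ℤ) ≡ 1 [ZMOD p] ∨ (m : ℤ) ≡ -1 [ZMOD p])) ∨ (ξ ≠ b i ∧ p ∣ m)))
      (i : ι), f ⟨a i, haP i⟩ = ⟨b i, hbP i⟩ := by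
    intro ι a b haP hbP hmult i
    obtain ⟨m, hm, hcase⟩ := hmult i (b i) (hbP i)
    have hnd : ¬ p ∣ m := by
      rcases hcase with ⟨_, h⟩ | ⟨h, _⟩
      · exact not_dvd_of_pm_one h
      · exact absurd rfl h
    exact (huniq ⟨a i, haP i⟩ ⟨b i, hbP i⟩ m hm hnd).symm
  refine ⟨f, ⟨?_, ?_⟩, ?_⟩
  · -- injectivity
    intro χ1 χ2 h12
    obtain ⟨θ1, hθ1, hθ1P⟩ := exists_inv_under p K Q P hQK hKQ hcop hP hPK hPQ χ1.1 χ1.2
    obtain ⟨ι, a, b, hbinj, haP, hbP, hbθ, hasurj, hbsurj, hmult⟩ :=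
      local_corr p K Q P C hQK hQC hKQ hQp hcop hP hPK hPQ hPC hCK hC θ1 hθ1P
    obtain ⟨i1, hi1⟩ := hasurj χ1.1 χ1.2 hθ1
    have e1 : f χ1 = ⟨b i1, hbP i1⟩ := by
      have := hfloc a b haP hbP hmult i1
      rw [← this]
      congr 1
      exact Subtype.ext hi1.symm
    obtain ⟨θ2, hθ2, hθ2P⟩ := exists_inv_under p K Q P hQK hKQ hcop hP hPK hPQ χ2.1 χ2.2
    obtain ⟨ι', a', b', hbinj', haP', hbP', hbθ', hasurj', hbsurj', hmult'⟩ :=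
      local_corr p K Q P C hQK hQC hKQ hQp hcop hP hPK hPQ hPC hCK hC θ2 hθ2P
    obtain ⟨i2, hi2⟩ := hasurj' χ2.1 χ2.2 hθ2
    have e2 : f χ2 = ⟨b' i2, hbP' i2⟩ := by
      have := hfloc a' b' haP' hbP' hmult' i2
      rw [← this]
      congr 1
      exact Subtype.ext hi2.symm
    have e3 : b i1 = b' i2 := by
      have := e1.symm.trans (h12.trans e2)
      exact congrArg Subtype.val this
    -- `χ2` lies over `θ1`
    have h1 := hbθ i1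
    have h2 := hbθ' i2
    rw [← e3] at h2
    obtain ⟨g, hg, hgc⟩ := cliff_conj hQC hCQ (b i1) θ1 θ2 h1 h2
    have h3 : classInner (resTo hQK (χ2.1 : K → ℂ)) (θ1 : Q → ℂ) ≠ 0 := by
      rw [classInner_resTo_conj hQK hKQ (Cfsg.Agent.Lib.Helper83.char_isClassFunction
        (Cfsg.Agent.Lib.Helper83.IrrCharacter_isCharacter χ2.1)) (hCK hg) hgc]
      exact hθ2
    obtain ⟨j, hj⟩ := hasurj χ2.1 χ2.2 h3
    have e4 : f χ2 = ⟨b j, hbP j⟩ := by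
      have := hfloc a b haP hbP hmult j
      rw [← this]
      congr 1
      exact Subtype.ext hj.symm
    have e5 : b j = b i1 := by
      have := e4.symm.trans (h12.symm.trans e1)
      exact congrArg Subtype.val this
    have e6 : j = i1 := hbinj e5
    apply Subtype.ext
    rw [← hi1, ← hj, e6]
  · -- surjectivity
    intro ξ
    obtain ⟨θ, hθ1, hθP⟩ := exists_inv_under p C Q P hQC hCQ hcopC hP hPC hPQ ξ.1 ξ.2
    obtain ⟨ι, a, b, hbinj, haP, hbP, hbθ, hasurj, hbsurj, hmult⟩ :=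
      local_corr p K Q P C hQK hQC hKQ hQp hcop hP hPK hPQ hPC hCK hC θ hθP
    obtain ⟨i, hi⟩ := hbsurj ξ.1 hθ1
    refine ⟨⟨a i, haP i⟩, ?_⟩
    rw [hfloc a b haP hbP hmult i]
    exact Subtype.ext hi
  · intro χ
    refine ⟨hf χ, ?_⟩
    apply degree_congr p K P C hCK hP hPC χ.1 χ.2 (f χ).1 (f χ).2
    intro ξ hξ
    obtain ⟨m, hm, hcase⟩ := hf χ ⟨ξ, hξ⟩
    refine ⟨m, hm, ?_⟩
    rcases hcase with ⟨h1, h2⟩ | ⟨h1, h2⟩
    · left; exact ⟨congrArg Subtype.val h1, h2⟩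
    · right; exact ⟨fun h => h1 (Subtype.ext h), h2⟩

end RelSylGlobal

end Cfsg.Agent.Lib.Helper04
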