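import Mathlib
import Cfsg.Prelude.Def_Balance
import Cfsg.Agent.Lib.Helper30.Layer

set_option autoImplicit false

/-! # S1305 keystone K6b (architect helper29): the rank count in the diagonal case. -/

namespace Cfsg.Agent.Lib.Helper04.S1305K

open Cfsg

section

variable {X : Type*} [Group X]

/-- A component is not commutative. -/
theorem not_comm_of_isComponent {J : Subgroup X} (hJ : IsComponent J) :
    ¬ ∀ x ∈ J, ∀ y ∈ J, x * y = y * x := by
  intro h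
  have hperf := Cfsg.Agent.Lib.Helper30.component_perfect hJ
  have h2 : ⁅J, J⁆ = ⊥ := by
    rw [Subgroup.commutator_eq_bot_iff_le_centralizer]
    intro x hx
    rw [Subgroup.mem_centralizer_iff]
    intro y hy
    exact h y hy x hx
  rw [hperf] at h2
  exact Cfsg.Agent.Lib.Helper30.component_ne_bot hJ h2

theorem conj_mem_map_iff (J : Subgroup X) (β z : X) :
    z ∈ J.map (MulAut.conj β).toMonoidHom ↔ β⁻¹ * z * β ∈ J := by
  constructor
  · rintro ⟨x, hx, rfl⟩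
    simp only [MulEquiv.coe_toMonoidHom, MulAut.conj_apply]
    have : β⁻¹ * (β * x * β⁻¹) * β = x := by group
    rw [this]; exact hx
  · intro h
    refine ⟨β⁻¹ * z * β, h, ?_⟩
    simp only [MulEquiv.coe_toMonoidHom, MulAut.conj_apply]
    group

theorem mem_normalizer_of_map_conj_eq (J : Subgroup X) (β : X)
    (h : J.map (MulAut.conj β).toMonoidHom = J) : β ∈ Subgroup.normalizer (J : Set X) := by
  rw [Subgroup.mem_normalizer_iff'']
  intro z
  have hz := Subgroup.ext_iff.mp h z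
  rw [conj_mem_map_iff] at hz
  exact hz.symm

/-- The product of two elementwise commuting subgroups. -/
def prodSub (H₁ H₂ : Subgroup X) (h12 : ∀ x ∈ H₁, ∀ y ∈ H₂, x * y = y * x) : Subgroup X where
  carrier := {z | ∃ x ∈ H₁, ∃ y ∈ H₂, z = x * y}
  one_mem' := ⟨1, H₁.one_mem, 1, H₂.one_mem, by simp⟩
  mul_mem' := by
    rintro _ _ ⟨x, hx, y, hy, rfl⟩ ⟨x', hx', y', hy', rfl⟩
    refine ⟨x * x', H₁.mul_mem hx hx', y * y', H₂.mul_mem hy hy', ?_⟩
    have h := h12 x' hx' y hy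
    calc x * y * (x' * y') = x * (y * x') * y' := by group
      _ = x * (x' * y) * y' := by rw [← h]
      _ = x * x' * (y * y') := by group
  inv_mem' := by
    rintro _ ⟨x, hx, y, hy, rfl⟩
    refine ⟨x⁻¹, H₁.inv_mem hx, y⁻¹, H₂.inv_mem hy, ?_⟩
    have h := h12 x⁻¹ (H₁.inv_mem hx) y⁻¹ (H₂.inv_mem hy)
    rw [mul_inv_rev, ← h]

theorem mem_prodSub (H₁ H₂ : Subgroup X) (h12 : ∀ x ∈ H₁, ∀ y ∈ H₂, x * y = y * x) (z : X) :
    z ∈ prodSub H₁ H₂ h12 ↔ ∃ x ∈ H₁, ∃ y ∈ H₂, z = x * y := Iff.rfl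

/-- For `β ∈ B`, the conjugate `J^β` is `J` or `J^a`. -/
theorem conj_eq_or_eq (a : X) (ha : a * a = 1) (J K B : Subgroup X) (hJc : IsComponent J)
    (hJ : ∀ x ∈ J, ∀ y ∈ J, x * (a * y * a⁻¹) = (a * y * a⁻¹) * x)
    (hKJ : ∀ x ∈ J, x * (a * x * a⁻¹) ∈ K)
    (hBa : ∀ β ∈ B, a * β = β * a) (hBK : B ≤ Subgroup.centralizer (K : Set X))
    (β : X) (hβ : β ∈ B) :
    J.map (MulAut.conj β).toMonoidHom = J ∨
      J.map (MulAut.conj β).toMonoidHom = J.map (MulAut.conj a).toMonoidHom := by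
  by_contra hcon
  push Not at hcon
  obtain ⟨h1, h2⟩ := hcon
  have hainv : a⁻¹ = a := inv_eq_of_mul_eq_one_right ha
  have hJβ := Cfsg.Agent.Lib.Helper30.isComponent_conj β hJc
  have hJβa := Cfsg.Agent.Lib.Helper30.isComponent_conj a hJβ
  have h3 : (J.map (MulAut.conj β).toMonoidHom).map (MulAut.conj a).toMonoidHom ≠ J := by
    intro h
    apply h2
    ext z
    have hz := Subgroup.ext_iff.mp h (a⁻¹ * z * a)
    rw [conj_mem_map_iff, conj_mem_map_iff] at hz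
    rw [conj_mem_map_iff, conj_mem_map_iff]
    have e : β⁻¹ * (a⁻¹ * (a⁻¹ * z * a) * a) * β = β⁻¹ * z * β := by
      rw [hainv]
      have : a * (a * z * a) * a = (a * a) * z * (a * a) := by group
      rw [this, ha]; simp
    rw [e] at hz
    exact hz
  have c1 := Cfsg.Agent.Lib.Helper30.component_commute hJβ hJc h1
  have c2 := Cfsg.Agent.Lib.Helper30.component_commute hJβa hJc h3
  rw [Subgroup.commutator_eq_bot_iff_le_centralizer] at c1 c2
  apply not_comm_of_isComponent hJc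
  intro x hx y hy
  have hk := hKJ x hx
  have hβk := (Subgroup.mem_centralizer_iff.mp (hBK hβ)) _ hk
  have hu_mem : β * x * β⁻¹ ∈ J.map (MulAut.conj β).toMonoidHom := ⟨x, hx, rfl⟩
  have hv_mem : a * (β * x * β⁻¹) * a⁻¹ ∈
      (J.map (MulAut.conj β).toMonoidHom).map (MulAut.conj a).toMonoidHom := ⟨_, hu_mem, rfl⟩
  have hab := hBa β hβ
  have e2 : a * (β * x * β⁻¹) * a⁻¹ = β * (a * x * a⁻¹) * β⁻¹ := by
    calc a * (β * x * β⁻¹) * a⁻¹ = (a * β) * x * (a * β)⁻¹ := by group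
      _ = (β * a) * x * (β * a)⁻¹ := by rw [hab]
      _ = β * (a * x * a⁻¹) * β⁻¹ := by group
  have hk_eq : x * (a * x * a⁻¹) = (β * x * β⁻¹) * (a * (β * x * β⁻¹) * a⁻¹) := by
    rw [e2]
    calc x * (a * x * a⁻¹) = (x * (a * x * a⁻¹)) * β * β⁻¹ := by group
      _ = β * (x * (a * x * a⁻¹)) * β⁻¹ := by rw [hβk]
      _ = _ := by group
  have hcu := Subgroup.mem_centralizer_iff.mp (c1 hu_mem) y hy
  have hcv := Subgroup.mem_centralizer_iff.mp (c2 hv_mem) y hy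
  have hky : y * (x * (a * x * a⁻¹)) = (x * (a * x * a⁻¹)) * y := by
    rw [hk_eq]
    calc y * ((β * x * β⁻¹) * (a * (β * x * β⁻¹) * a⁻¹))
        = (y * (β * x * β⁻¹)) * (a * (β * x * β⁻¹) * a⁻¹) := (mul_assoc _ _ _).symm
      _ = ((β * x * β⁻¹) * y) * (a * (β * x * β⁻¹) * a⁻¹) := by rw [hcu]
      _ = (β * x * β⁻¹) * (y * (a * (β * x * β⁻¹) * a⁻¹)) := mul_assoc _ _ _
      _ = (β * x * β⁻¹) * ((a * (β * x * β⁻¹) * a⁻¹) * y) := by rw [hcv]
      _ = _ := (mul_assoc _ _ _).symm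
  have hJyx := hJ y hy x hx
  have : y * x * (a * x * a⁻¹) = x * y * (a * x * a⁻¹) := by
    calc y * x * (a * x * a⁻¹) = y * (x * (a * x * a⁻¹)) := mul_assoc _ _ _
      _ = (x * (a * x * a⁻¹)) * y := hky
      _ = x * ((a * x * a⁻¹) * y) := mul_assoc _ _ _
      _ = x * (y * (a * x * a⁻¹)) := by rw [hJyx]
      _ = _ := (mul_assoc _ _ _).symm
  exact (mul_right_cancel this).symm

end

/-- **K6b**. The rank count in the diagonal case. -/
theorem exists_big_elemAb {X : Type*} [Group X] [Finite X] (a : X) (ha : a * a = 1) (J K B : Subgroup X)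
    (hJc : IsComponent J)
    (hJ : ∀ x ∈ J, ∀ y ∈ J, x * (a * y * a⁻¹) = (a * y * a⁻¹) * x)
    (hKeq : ∀ k, k ∈ K ↔ ∃ x ∈ J, k = x * (a * x * a⁻¹))
    (hinj : ∀ x ∈ J, x * (a * x * a⁻¹) = 1 → x = 1)
    (hrk : ¬ PRankLE 2 1 ↥K)
    (hB : IsElementaryAbelian 2 B) (haB : a ∈ B) (hBK : B ≤ Subgroup.centralizer (K : Set X)) :
    ∃ A : Subgroup X, A ≤ Subgroup.centralizer (J : Set X) ∧ IsElementaryAbelian 2 A ∧
      2 * Nat.card B ≤ Nat.card A := by
  classical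
  have hainv : a⁻¹ = a := inv_eq_of_mul_eq_one_right ha
  have hKJ : ∀ x ∈ J, x * (a * x * a⁻¹) ∈ K := fun x hx => (hKeq _).mpr ⟨x, hx, rfl⟩
  have hBc : ∀ u ∈ B, ∀ v ∈ B, u * v = v * u := by
    intro u hu v hv
    have := hB.1.is_comm.comm (⟨u, hu⟩ : ↥B) ⟨v, hv⟩
    exact congrArg Subtype.val this
  have hBa : ∀ β ∈ B, a * β = β * a := fun β hβ => hBc a haB β hβ
  have hφmul : ∀ x ∈ J, ∀ y ∈ J,
      (x * y) * (a * (x * y) * a⁻¹) = (x * (a * x * a⁻¹)) * (y * (a * y * a⁻¹)) := by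
    intro x hx y hy
    have h := hJ y hy x hx
    calc (x * y) * (a * (x * y) * a⁻¹) = x * (y * (a * x * a⁻¹)) * (a * y * a⁻¹) := by group
      _ = x * ((a * x * a⁻¹) * y) * (a * y * a⁻¹) := by rw [h]
      _ = _ := by group
  let φ' : ↥J →* X := MonoidHom.mk' (fun x => (x : X) * (a * (x : X) * a⁻¹)) (by
    intro x y
    simp only [Subgroup.coe_mul]
    exact hφmul x x.2 y y.2)
  have hφ'inj : Function.Injective φ' := by
    rw [injective_iff_map_eq_one]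
    intro x hx
    exact Subtype.ext (hinj x x.2 hx)
  have hφinj : ∀ x ∈ J, ∀ y ∈ J, x * (a * x * a⁻¹) = y * (a * y * a⁻¹) → x = y := by
    intro x hx y hy h
    have : φ' ⟨x, hx⟩ = φ' ⟨y, hy⟩ := h
    exact congrArg Subtype.val (hφ'inj this)
  let ψ : ↥J →* X := (MulAut.conj a).toMonoidHom.comp J.subtype
  have hψinj : Function.Injective ψ := by
    intro x y h
    apply Subtype.ext
    exact (MulAut.conj a).injective h
  -- the elementary abelian subgroup of `K` of order `> 2`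
  unfold PRankLE at hrk
  push Not at hrk
  obtain ⟨A₀, hA₀c, hA₀e, hA₀card⟩ := hrk
  have h4 : 4 ≤ Nat.card A₀ := by
    have : Fact (Nat.Prime 2) := ⟨Nat.prime_two⟩
    have hp : IsPGroup 2 ↥A₀ := by
      intro g
      refine ⟨1, ?_⟩
      have := hA₀e g g.2
      apply Subtype.ext
      simpa using this
    obtain ⟨n, hn⟩ := hp.exists_card_eq
    rw [hn] at hA₀card ⊢
    have h2n : 2 ≤ n := by
      by_contra hlt
      push Not at hlt
      have : 2 ^ n ≤ 2 ^ 1 := Nat.pow_le_pow_right (by norm_num) (by omega)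
      omega
    calc 4 = 2 ^ 2 := by norm_num
      _ ≤ 2 ^ n := Nat.pow_le_pow_right (by norm_num) h2n
  obtain ⟨A₀', hA₀'def⟩ : ∃ A₀' : Subgroup X, A₀' = A₀.map K.subtype := ⟨_, rfl⟩
  have hA₀'card : Nat.card A₀' = Nat.card A₀ := by
    rw [hA₀'def]; exact Subgroup.card_map_of_injective K.subtype_injective
  have hA₀'K : A₀' ≤ K := by
    rw [hA₀'def]
    rintro _ ⟨z, _, rfl⟩; exact z.2
  have hA₀'comm : ∀ u ∈ A₀', ∀ v ∈ A₀', u * v = v * u := by
    rw [hA₀'def]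
    rintro _ ⟨u, hu, rfl⟩ _ ⟨v, hv, rfl⟩
    have h1 := hA₀c.is_comm.comm (⟨u, hu⟩ : ↥A₀) ⟨v, hv⟩
    have h2 : u * v = v * u := congrArg Subtype.val h1
    simpa using congrArg Subtype.val h2
  have hA₀'exp : ∀ u ∈ A₀', u ^ 2 = 1 := by
    rw [hA₀'def]
    rintro _ ⟨u, hu, rfl⟩
    have := hA₀e u hu
    simpa using congrArg Subtype.val this
  obtain ⟨A₁, hA₁def⟩ : ∃ A₁ : Subgroup ↥J, A₁ = A₀'.comap φ' := ⟨_, rfl⟩
  have hA₁map : A₁.map φ' = A₀' := by
    rw [hA₁def]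
    apply Subgroup.map_comap_eq_self
    intro z hz
    obtain ⟨x, hx, rfl⟩ := (hKeq z).mp (hA₀'K hz)
    exact ⟨⟨x, hx⟩, rfl⟩
  have hA₁card : Nat.card A₁ = Nat.card A₀' := by
    have := Subgroup.card_map_of_injective (K := A₁) hφ'inj
    rw [hA₁map] at this
    exact this.symm
  obtain ⟨A₂, hA₂def⟩ : ∃ A₂ : Subgroup X, A₂ = A₁.map ψ := ⟨_, rfl⟩
  have hA₂card : Nat.card A₂ = Nat.card A₁ := by
    rw [hA₂def]; exact Subgroup.card_map_of_injective hψinj
  have hA₂mem : ∀ y ∈ A₂, ∃ x ∈ J, y = a * x * a⁻¹ ∧ x * (a * x * a⁻¹) ∈ A₀' := by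
    rw [hA₂def]
    rintro _ ⟨x, hx, rfl⟩
    rw [hA₁def] at hx
    exact ⟨x, x.2, rfl, hx⟩
  have hA₁comm : ∀ x ∈ J, ∀ x' ∈ J, x * (a * x * a⁻¹) ∈ A₀' → x' * (a * x' * a⁻¹) ∈ A₀' →
      x * x' = x' * x := by
    intro x hx x' hx' h h'
    have e := hA₀'comm _ h _ h'
    rw [← hφmul x hx x' hx', ← hφmul x' hx' x hx] at e
    exact hφinj _ (J.mul_mem hx hx') _ (J.mul_mem hx' hx) e
  have hA₁exp : ∀ x ∈ J, x * (a * x * a⁻¹) ∈ A₀' → x * x = 1 := by
    intro x hx h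
    have e := hA₀'exp _ h
    rw [pow_two, ← hφmul x hx x hx] at e
    exact hinj _ (J.mul_mem hx hx) e
  -- the stabilizer of `J` in `B`
  obtain ⟨B₀, hB₀def⟩ : ∃ B₀ : Subgroup X, B₀ = B ⊓ Subgroup.normalizer (J : Set X) := ⟨_, rfl⟩
  have hB₀B : ∀ β ∈ B₀, β ∈ B := by
    rw [hB₀def]; intro β hβ; exact (Subgroup.mem_inf.mp hβ).1
  have hB₀N : ∀ β ∈ B₀, β ∈ Subgroup.normalizer (J : Set X) := by
    rw [hB₀def]; intro β hβ; exact (Subgroup.mem_inf.mp hβ).2
  have hB₀mk : ∀ β ∈ B, β ∈ Subgroup.normalizer (J : Set X) → β ∈ B₀ := by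
    rw [hB₀def]; intro β h1 h2; exact Subgroup.mem_inf.mpr ⟨h1, h2⟩
  have hB₀dich : ∀ β ∈ B, β ∈ B₀ ∨ a * β ∈ B₀ := by
    intro β hβ
    rcases conj_eq_or_eq a ha J K B hJc hJ hKJ hBa hBK β hβ with h | h
    · left; exact hB₀mk β hβ (mem_normalizer_of_map_conj_eq J β h)
    · right
      refine hB₀mk _ (B.mul_mem haB hβ) (mem_normalizer_of_map_conj_eq J _ ?_)
      ext z
      rw [conj_mem_map_iff]
      have hz := Subgroup.ext_iff.mp h (a⁻¹ * z * a)
      rw [conj_mem_map_iff, conj_mem_map_iff] at hz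
      have e1 : (a * β)⁻¹ * z * (a * β) = β⁻¹ * (a⁻¹ * z * a) * β := by group
      have e2 : a⁻¹ * (a⁻¹ * z * a) * a = z := by
        rw [hainv]
        have : a * (a * z * a) * a = (a * a) * z * (a * a) := by group
        rw [this, ha]; simp
      rw [e1, hz, e2]
  have hBcard : Nat.card B ≤ 2 * Nat.card B₀ := by
    have hsub : (B : Set X) ⊆ (B₀ : Set X) ∪ (fun z => a * z) '' (B₀ : Set X) := by
      intro β hβ
      rcases hB₀dich β hβ with h | h
      · left; exact h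
      · right
        refine ⟨a * β, h, ?_⟩
        show a * (a * β) = β
        rw [← mul_assoc, ha, one_mul]
    have h1 : Nat.card B = (B : Set X).ncard := Nat.card_coe_set_eq (B : Set X)
    have h2 : Nat.card B₀ = (B₀ : Set X).ncard := Nat.card_coe_set_eq (B₀ : Set X)
    rw [h1, h2]
    calc (B : Set X).ncard ≤ ((B₀ : Set X) ∪ (fun z => a * z) '' (B₀ : Set X)).ncard :=
          Set.ncard_le_ncard hsub (Set.toFinite _)
      _ ≤ (B₀ : Set X).ncard + ((fun z => a * z) '' (B₀ : Set X)).ncard := Set.ncard_union_le _ _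
      _ ≤ (B₀ : Set X).ncard + (B₀ : Set X).ncard :=
          Nat.add_le_add_left (Set.ncard_image_le (Set.toFinite _)) _
      _ = 2 * (B₀ : Set X).ncard := by ring
  have hB₀J : ∀ β ∈ B₀, ∀ x ∈ J, β * x * β⁻¹ = x := by
    intro β hβ x hx
    have hβB : β ∈ B := hB₀B β hβ
    have hβN := (Subgroup.mem_normalizer_iff.mp (hB₀N β hβ) x).mp hx
    apply hφinj _ hβN _ hx
    have hab := hBa β hβB
    have hk := hKJ x hx
    have hβk := (Subgroup.mem_centralizer_iff.mp (hBK hβB)) _ hk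
    have e2 : a * (β * x * β⁻¹) * a⁻¹ = β * (a * x * a⁻¹) * β⁻¹ := by
      calc a * (β * x * β⁻¹) * a⁻¹ = (a * β) * x * (a * β)⁻¹ := by group
        _ = (β * a) * x * (β * a)⁻¹ := by rw [hab]
        _ = β * (a * x * a⁻¹) * β⁻¹ := by group
    rw [e2]
    calc β * x * β⁻¹ * (β * (a * x * a⁻¹) * β⁻¹) = β * (x * (a * x * a⁻¹)) * β⁻¹ := by group
      _ = (x * (a * x * a⁻¹)) * β * β⁻¹ := by rw [hβk]
      _ = _ := by group
  have hB₀Ja : ∀ β ∈ B₀, ∀ x ∈ J, β * (a * x * a⁻¹) = (a * x * a⁻¹) * β := by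
    intro β hβ x hx
    have hab := hBa β (hB₀B β hβ)
    have h := hB₀J β hβ x hx
    have e2 : β * (a * x * a⁻¹) * β⁻¹ = a * x * a⁻¹ := by
      calc β * (a * x * a⁻¹) * β⁻¹ = (β * a) * x * (β * a)⁻¹ := by group
        _ = (a * β) * x * (a * β)⁻¹ := by rw [hab]
        _ = a * (β * x * β⁻¹) * a⁻¹ := by group
        _ = _ := by rw [h]
    calc β * (a * x * a⁻¹) = β * (a * x * a⁻¹) * β⁻¹ * β := by group
      _ = _ := by rw [e2]
  have hint : ∀ β ∈ B₀, β ∈ A₂ → β = 1 := by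
    intro β hβ hβA
    obtain ⟨x, hx, hβx, -⟩ := hA₂mem β hβA
    have hab := hBa β (hB₀B β hβ)
    have hxe : β = x := by
      have : a * β = a * x := by
        rw [hab, hβx]; group
      exact mul_left_cancel this
    have h2 := hB.2 β (hB₀B β hβ)
    rw [hxe]
    apply hinj x hx
    rw [← hβx, ← hxe, ← pow_two]; exact h2
  have hcomm12 : ∀ β ∈ B₀, ∀ y ∈ A₂, β * y = y * β := by
    intro β hβ y hy
    obtain ⟨x, hx, rfl, -⟩ := hA₂mem y hy
    exact hB₀Ja β hβ x hx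
  have hA₂comm : ∀ y ∈ A₂, ∀ y' ∈ A₂, y * y' = y' * y := by
    intro y hy y' hy'
    obtain ⟨x, hx, rfl, hxA⟩ := hA₂mem y hy
    obtain ⟨x', hx', rfl, hxA'⟩ := hA₂mem y' hy'
    have := hA₁comm x hx x' hx' hxA hxA'
    calc a * x * a⁻¹ * (a * x' * a⁻¹) = a * (x * x') * a⁻¹ := by group
      _ = a * (x' * x) * a⁻¹ := by rw [this]
      _ = _ := by group
  have hA₂exp : ∀ y ∈ A₂, y * y = 1 := by
    intro y hy
    obtain ⟨x, hx, rfl, hxA⟩ := hA₂mem y hy
    have := hA₁exp x hx hxA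
    calc a * x * a⁻¹ * (a * x * a⁻¹) = a * (x * x) * a⁻¹ := by group
      _ = 1 := by rw [this]; group
  refine ⟨prodSub B₀ A₂ hcomm12, ?_, ⟨?_, ?_⟩, ?_⟩
  · rintro _ ⟨β, hβ, y, hy, rfl⟩
    rw [Subgroup.mem_centralizer_iff]
    intro w hw
    obtain ⟨x, hx, rfl, -⟩ := hA₂mem y hy
    have h1 : β * w = w * β := by
      have := hB₀J β hβ w hw
      calc β * w = β * w * β⁻¹ * β := by group
        _ = w * β := by rw [this]
    have h2 := hJ w hw x hx
    calc w * (β * (a * x * a⁻¹)) = (w * β) * (a * x * a⁻¹) := by group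
      _ = (β * w) * (a * x * a⁻¹) := by rw [h1]
      _ = β * (w * (a * x * a⁻¹)) := by group
      _ = β * ((a * x * a⁻¹) * w) := by rw [h2]
      _ = _ := by group
  · refine ⟨⟨?_⟩⟩
    rintro ⟨_, β, hβ, y, hy, rfl⟩ ⟨_, β', hβ', y', hy', rfl⟩
    apply Subtype.ext
    show β * y * (β' * y') = β' * y' * (β * y)
    have c1 := hBc β (hB₀B β hβ) β' (hB₀B β' hβ')
    have c2 := hcomm12 β' hβ' y hy
    have c3 := hcomm12 β hβ y' hy'
    have c4 := hA₂comm y hy y' hy'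
    calc β * y * (β' * y') = β * (y * β') * y' := by group
      _ = β * (β' * y) * y' := by rw [c2]
      _ = (β * β') * (y * y') := by group
      _ = (β' * β) * (y' * y) := by rw [c1, c4]
      _ = β' * (β * y') * y := by group
      _ = β' * (y' * β) * y := by rw [c3]
      _ = _ := by group
  · rintro _ ⟨β, hβ, y, hy, rfl⟩
    have c2 := hcomm12 β hβ y hy
    have hβ2 : β * β = 1 := by
      have := hB.2 β (hB₀B β hβ)
      rwa [pow_two] at this
    have hy2 := hA₂exp y hy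
    rw [pow_two]
    calc β * y * (β * y) = β * (y * β) * y := by group
      _ = β * (β * y) * y := by rw [c2]
      _ = (β * β) * (y * y) := by group
      _ = 1 := by rw [hβ2, hy2, one_mul]
  · have hinj2 : Function.Injective (fun p : ↥B₀ × ↥A₂ =>
        (⟨(p.1 : X) * (p.2 : X), ⟨p.1, p.1.2, p.2, p.2.2, rfl⟩⟩ : ↥(prodSub B₀ A₂ hcomm12))) := by
      rintro ⟨⟨β, hβ⟩, ⟨y, hy⟩⟩ ⟨⟨β', hβ'⟩, ⟨y', hy'⟩⟩ h
      have h' : β * y = β' * y' := congrArg Subtype.val h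
      have hmem : β'⁻¹ * β = y' * y⁻¹ := by
        calc β'⁻¹ * β = β'⁻¹ * (β * y) * y⁻¹ := by group
          _ = β'⁻¹ * (β' * y') * y⁻¹ := by rw [h']
          _ = _ := by group
      have h1 : β'⁻¹ * β = 1 := by
        apply hint _ (B₀.mul_mem (B₀.inv_mem hβ') hβ)
        rw [hmem]; exact A₂.mul_mem hy' (A₂.inv_mem hy)
      have hββ' : β' = β := inv_mul_eq_one.mp h1
      subst hββ'
      have : y = y' := mul_left_cancel h'
      subst this
      rfl
    have hcard := Nat.card_le_card_of_injective _ hinj2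
    rw [Nat.card_prod] at hcard
    have hA₂4 : 4 ≤ Nat.card A₂ := by rw [hA₂card, hA₁card, hA₀'card]; exact h4
    calc 2 * Nat.card B ≤ 2 * (2 * Nat.card B₀) := by omega
      _ = Nat.card B₀ * 4 := by ring
      _ ≤ Nat.card B₀ * Nat.card A₂ := Nat.mul_le_mul_left _ hA₂4
      _ ≤ _ := hcard

end Cfsg.Agent.Lib.Helper04.S1305K
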