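import Mathlib
import Cfsg.Agent.Lib.Helper49.SemisimpleConj

/-!
# K-S2719-Dt (keystone 271902, architect helper19): determinant of a matrix whose square is a
nonsquare scalar (general index type; same proof as `Helper49.det_of_sq_eq_nonsquare`).
-/

set_option autoImplicit false

namespace Cfsg.Agent.Lib.Helper04.S2719K

open Polynomial

theorem det_of_sq_nonsquare {F : Type*} [Field F] {ι : Type*} [Fintype ι] [DecidableEq ι] (n : ℕ)
    (hcard : Fintype.card ι = 2 * n) (M : Matrix ι ι F) (lam : F) (hlam : ¬ IsSquare lam)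
    (hM : M * M = lam • (1 : Matrix ι ι F)) : M.det = (-lam) ^ n := by
  classical
  have hirr : Irreducible (X ^ 2 - C lam : F[X]) := by
    apply X_pow_sub_C_irreducible_of_prime Nat.prime_two
    intro b hb
    exact hlam ⟨b, by rw [← hb, pow_two]⟩
  have haev : aeval M (X ^ 2 - C lam : F[X]) = 0 := by
    rw [map_sub, map_pow, aeval_X, aeval_C, pow_two, hM, Algebra.algebraMap_eq_smul_one, sub_self]
  have hdvd := Cfsg.Agent.Lib.Helper49.charpoly_dvd_pow_of_aeval_eq_zero M _ haev
  obtain ⟨j, -, hj⟩ := (dvd_prime_pow hirr.prime _).mp hdvd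
  have hmonic : (X ^ 2 - C lam : F[X]).Monic := monic_X_pow_sub_C lam (by norm_num)
  have hcp : M.charpoly = (X ^ 2 - C lam : F[X]) ^ j :=
    eq_of_monic_of_associated (Matrix.charpoly_monic M) (hmonic.pow j) hj
  have hdeg := Matrix.charpoly_natDegree_eq_dim M
  rw [hcp, natDegree_pow, natDegree_X_pow_sub_C, hcard] at hdeg
  have hjn : j = n := by omega
  subst hjn
  rw [Matrix.det_eq_sign_charpoly_coeff, hcp, hcard, coeff_zero_eq_eval_zero, eval_pow,
    eval_sub, eval_pow, eval_X, eval_C, pow_mul]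
  simp

end Cfsg.Agent.Lib.Helper04.S2719K
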