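import Mathlib
import Cfsg.Prelude.Def_GeometricClasses
import Cfsg.Agent.Lib.Helper49.SubfieldGrp

/-!
# K-SF pack (S5965, architect helper4): `SL_n(q)` versus the subfield subgroup `GL_n(q₀) · Z`,
elements of odd prime order `r ≠ p`.  Shared definitions and the Frobenius criterion.

`σ a = a ^ q₀` is the generator of `Gal(F / F₀)`.  If a conjugate of `x` lies in the subfield
group then `x.map σ` and `lam • x` have the same characteristic polynomial for some `lam ≠ 0`.
-/

set_option autoImplicit false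
open scoped MatrixGroups

namespace Cfsg.Agent.Lib.Helper04.SF

open Matrix Polynomial

section Basic

variable {F : Type*} [Field F]

/-- there is an element of `PSL_n(F)` of order `r` (represented in `SL_n`) none of whose
`GL`-conjugates lies in the subfield group -/
def Derange (F₀ : Subfield F) (n r : ℕ) : Prop :=
  ∃ x : Matrix.SpecialLinearGroup (Fin n) F,
    (∃ z : F, ((x ^ r : Matrix.SpecialLinearGroup (Fin n) F) : Matrix (Fin n) (Fin n) F) =
      z • (1 : Matrix (Fin n) (Fin n) F)) ∧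
    (∀ z : F, (x : Matrix (Fin n) (Fin n) F) ≠ z • (1 : Matrix (Fin n) (Fin n) F)) ∧
    ∀ g : GL (Fin n) F, g⁻¹ * Matrix.SpecialLinearGroup.toGL x * g ∉
      Cfsg.Geo.subfieldSubgroup F₀ (1 : GL (Fin n) F)

end Basic

section Fin

variable {F : Type*} [Field F] [Fintype F]

/-- elements of the subfield are fixed by `a ↦ a ^ q₀` -/
theorem pow_card_of_mem (F₀ : Subfield F) {q₀ : ℕ} (hF₀ : Nat.card ↥F₀ = q₀) {a : F}
    (ha : a ∈ F₀) : a ^ q₀ = a := by
  have hq₀ : 1 ≤ q₀ := by
    rw [← hF₀]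
    exact Nat.card_pos
  rcases eq_or_ne a 0 with rfl | ha0
  · exact zero_pow (by omega)
  · have h1 := Cfsg.Agent.Lib.Helper49.subfield_pow_card_sub_one F₀ hF₀ ha ha0
    calc a ^ q₀ = a ^ (q₀ - 1 + 1) := by congr 1; omega
      _ = a := by rw [pow_succ, h1, one_mul]

/-- the fixed points of `a ↦ a ^ q₀` are exactly the subfield -/
theorem mem_of_pow_card (F₀ : Subfield F) {q₀ : ℕ} (hF₀ : Nat.card ↥F₀ = q₀) {a : F}
    (ha : a ^ q₀ = a) : a ∈ F₀ := by
  classical
  have hq₀ : 2 ≤ q₀ := by
    rw [← hF₀]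
    exact Finite.one_lt_card
  set f : F[X] := X ^ q₀ - X with hf
  have hf0 : f ≠ 0 := FiniteField.X_pow_card_sub_X_ne_zero F (by omega)
  have hdeg : f.natDegree = q₀ := FiniteField.X_pow_card_sub_X_natDegree_eq F (by omega)
  -- the subfield gives `q₀` roots
  let S : Finset F := Finset.univ.filter fun b => b ∈ F₀
  have hScard : S.card = q₀ := by
    rw [← hF₀, Nat.card_eq_fintype_card, ← Fintype.card_subtype]
  have hSroots : S ⊆ f.roots.toFinset := by
    intro b hb
    rw [Multiset.mem_toFinset, mem_roots hf0, IsRoot.def, hf, eval_sub, eval_pow, eval_X,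
      pow_card_of_mem F₀ hF₀ (Finset.mem_filter.mp hb).2, sub_self]
  have hle : f.roots.toFinset.card ≤ q₀ := by
    calc f.roots.toFinset.card ≤ Multiset.card f.roots := Multiset.toFinset_card_le _
      _ ≤ f.natDegree := card_roots' f
      _ = q₀ := hdeg
  have heq : S = f.roots.toFinset :=
    Finset.eq_of_subset_of_card_le hSroots (by rw [hScard]; exact hle)
  have : a ∈ f.roots.toFinset := by
    rw [Multiset.mem_toFinset, mem_roots hf0, IsRoot.def, hf, eval_sub, eval_pow, eval_X, ha,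
      sub_self]
  rw [← heq] at this
  exact (Finset.mem_filter.mp this).2

/-- the Frobenius `a ↦ a ^ q₀` as a ring homomorphism -/
theorem exists_sigma (p : ℕ) [Fact p.Prime] [CharP F p] (F₀ : Subfield F) {q₀ : ℕ}
    (hF₀ : Nat.card ↥F₀ = q₀) : ∃ σ : F →+* F, ∀ a, σ a = a ^ q₀ := by
  classical
  letI : Fintype ↥F₀ := Fintype.ofFinite _
  haveI : CharP ↥F₀ p := by
    have h := (RingHom.charP_iff (F₀.subtype : ↥F₀ →+* F) F₀.subtype_injective p).mpr
      (inferInstance : CharP F p)
    exact h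
  obtain ⟨e, -, he⟩ := FiniteField.card ↥F₀ p
  rw [← Nat.card_eq_fintype_card, hF₀] at he
  refine ⟨iterateFrobenius F p (e : ℕ), fun a => ?_⟩
  rw [iterateFrobenius_def, he]

variable (F₀ : Subfield F) {q₀ : ℕ} (hF₀ : Nat.card ↥F₀ = q₀) {n : ℕ}

include hF₀

/-- **Frobenius criterion.**  If a `GL`-conjugate of `x` lies in the subfield group then
`(charpoly x).map σ = charpoly (lam • x)` for some `lam ≠ 0`. -/
theorem sigma_crit (σ : F →+* F) (hσ : ∀ a, σ a = a ^ q₀) (x g : GL (Fin n) F)
    (h : g⁻¹ * x * g ∈ Cfsg.Geo.subfieldSubgroup F₀ (1 : GL (Fin n) F)) :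
    ∃ lam : F, lam ≠ 0 ∧ (x : Matrix (Fin n) (Fin n) F).charpoly.map σ =
      (lam • (x : Matrix (Fin n) (Fin n) F)).charpoly := by
  obtain ⟨A, hA, c, hc⟩ := (Cfsg.Agent.Lib.Helper49.mem_subfieldSubgroup_one_iff F₀ _).mp h
  have hc0 : (c : F) ≠ 0 := c.ne_zero
  have hσc0 : σ (c : F) ≠ 0 := by
    rw [hσ]
    exact pow_ne_zero _ hc0
  set y : Matrix (Fin n) (Fin n) F := ((g⁻¹ * x * g : GL (Fin n) F) : Matrix (Fin n) (Fin n) F)
    with hy
  have hyx : ∀ N : Matrix (Fin n) (Fin n) F,
      ((g⁻¹ : GL (Fin n) F).val * N * g.val).charpoly = N.charpoly := by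
    intro N
    have := Matrix.charpoly_units_conj' g N
    rwa [← Matrix.coe_units_inv] at this
  have hy1 : y = (g⁻¹ : GL (Fin n) F).val * (x : Matrix (Fin n) (Fin n) F) * g.val := by
    rw [hy, Units.val_mul, Units.val_mul]
  -- `A` is fixed by `σ`
  have hAσ : (A : Matrix (Fin n) (Fin n) F).map σ = (A : Matrix (Fin n) (Fin n) F) := by
    ext i j
    rw [Matrix.map_apply, hσ]
    exact pow_card_of_mem F₀ hF₀ (Cfsg.Agent.Lib.Helper49.entries_of_mem_range_map F₀ A hA i j)
  have hyσ : y.map σ = (σ (c : F) / (c : F)) • y := by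
    rw [hc]
    ext i j
    have := congrFun (congrFun hAσ i) j
    rw [Matrix.map_apply] at this
    simp only [Matrix.map_apply, Matrix.smul_apply, smul_eq_mul, map_mul]
    rw [this]
    field_simp
  refine ⟨σ (c : F) / (c : F), div_ne_zero hσc0 hc0, ?_⟩
  have h1 : (y.map σ).charpoly = y.charpoly.map σ := Matrix.charpoly_map y σ
  have h2 : y.charpoly = (x : Matrix (Fin n) (Fin n) F).charpoly := by
    rw [hy1, hyx]
  have h3 : ((σ (c : F) / (c : F)) • y).charpoly =
      ((σ (c : F) / (c : F)) • (x : Matrix (Fin n) (Fin n) F)).charpoly := by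
    rw [hy1, ← Matrix.smul_mul, ← Matrix.mul_smul, hyx]
  rw [← h2, ← h1, hyσ, h3]

/-- **diagonal criterion.** -/
theorem diag_crit [DecidableEq F] (d : Fin n → F) (x g : GL (Fin n) F)
    (hx : (x : Matrix (Fin n) (Fin n) F) = Matrix.diagonal d)
    (h : g⁻¹ * x * g ∈ Cfsg.Geo.subfieldSubgroup F₀ (1 : GL (Fin n) F)) :
    ∃ lam : F, lam ≠ 0 ∧ ∀ β : F,
      (Finset.univ.filter fun j : Fin n => d j ^ q₀ = β).card =
        (Finset.univ.filter fun j : Fin n => lam * d j = β).card := by
  obtain ⟨p, hp⟩ := CharP.exists F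
  haveI : Fact p.Prime := ⟨by
    rcases CharP.char_is_prime_or_zero F p with h | h
    · exact h
    · exfalso
      subst h
      haveI : CharZero F := CharP.charP_to_charZero F
      exact not_finite F⟩
  obtain ⟨σ, hσ⟩ := exists_sigma p F₀ hF₀
  obtain ⟨lam, hlam0, hlam⟩ := sigma_crit F₀ hF₀ σ hσ x g h
  refine ⟨lam, hlam0, fun β => ?_⟩
  have e1 : lam • (x : Matrix (Fin n) (Fin n) F) = Matrix.diagonal (fun j => lam * d j) := by
    rw [hx]
    ext i j
    by_cases hij : i = j
    · subst hij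
      simp
    · simp [hij]
  rw [e1, hx, Matrix.charpoly_diagonal, Matrix.charpoly_diagonal, Polynomial.map_prod] at hlam
  have e2 : ∀ j : Fin n, (X - C (d j) : F[X]).map σ = X - C (d j ^ q₀) := by
    intro j
    rw [Polynomial.map_sub, map_X, map_C, hσ]
  rw [Finset.prod_congr rfl (fun j _ => e2 j)] at hlam
  have r1 : (∏ j : Fin n, (X - C (d j ^ q₀) : F[X])).roots =
      Multiset.map (fun j : Fin n => d j ^ q₀) Finset.univ.val := by
    have := roots_multiset_prod_X_sub_C (Multiset.map (fun j : Fin n => d j ^ q₀) Finset.univ.val)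
    rw [Multiset.map_map] at this
    exact this
  have r2 : (∏ j : Fin n, (X - C (lam * d j) : F[X])).roots =
      Multiset.map (fun j : Fin n => lam * d j) Finset.univ.val := by
    have := roots_multiset_prod_X_sub_C (Multiset.map (fun j : Fin n => lam * d j) Finset.univ.val)
    rw [Multiset.map_map] at this
    exact this
  have r3 : Multiset.map (fun j : Fin n => d j ^ q₀) Finset.univ.val =
      Multiset.map (fun j : Fin n => lam * d j) Finset.univ.val := by
    rw [← r1, ← r2, hlam]
  have := congrArg (Multiset.count β) r3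
  rw [Multiset.count_map, Multiset.count_map] at this
  rw [Finset.card_def, Finset.card_def, Finset.filter_val, Finset.filter_val]
  convert this using 2 <;>
  · apply Multiset.filter_congr
    intro j _
    exact eq_comm

/-- generic reduction for diagonal derangements -/
theorem diag_core [DecidableEq F] (d : Fin n → F) (hdet : ∏ k, d k = 1)
    (hns : ∃ a b, d a ≠ d b)
    (hno : ∀ lam : F, lam ≠ 0 → (∀ β : F,
      (Finset.univ.filter fun j : Fin n => d j ^ q₀ = β).card =
        (Finset.univ.filter fun j : Fin n => lam * d j = β).card) → False) :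
    ∃ x : Matrix.SpecialLinearGroup (Fin n) F,
      (x : Matrix (Fin n) (Fin n) F) = Matrix.diagonal d ∧
      (∀ z : F, (x : Matrix (Fin n) (Fin n) F) ≠ z • (1 : Matrix (Fin n) (Fin n) F)) ∧
      ∀ g : GL (Fin n) F, g⁻¹ * Matrix.SpecialLinearGroup.toGL x * g ∉
        Cfsg.Geo.subfieldSubgroup F₀ (1 : GL (Fin n) F) := by
  have hdet' : (Matrix.diagonal d).det = 1 := by
    rw [Matrix.det_diagonal, hdet]
  refine ⟨⟨Matrix.diagonal d, hdet'⟩, rfl, ?_, ?_⟩
  · intro z hz
    obtain ⟨a, b, hab⟩ := hns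
    change Matrix.diagonal d = _ at hz
    have ea := congrFun (congrFun hz a) a
    have eb := congrFun (congrFun hz b) b
    simp at ea eb
    exact hab (ea.trans eb.symm)
  · intro g hg
    obtain ⟨lam, hlam0, hlam⟩ := diag_crit F₀ hF₀ d _ g rfl hg
    exact hno lam hlam0 hlam

end Fin

end Cfsg.Agent.Lib.Helper04.SF
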