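import Mathlib
import Cfsg.Prelude.Def_GeometricClasses
import Cfsg.Agent.Lib.Helper95.Transvection

/-!
# K-SLMax-N6: `SL_n` (`n ≥ 3`) does not normalise a symplectic-type group `R` of class 6
-/

set_option autoImplicit false

namespace Cfsg.Agent.Lib.Helper04.SLMax

open Cfsg Cfsg.Geo Cfsg.Agent.Lib.Helper95
open scoped Matrix MatrixGroups
open Polynomial

/-- descent: a nonzero vector killed by `∏ (G - ζ)` yields an eigenvector. -/
theorem exists_eigen_of_prod {F : Type*} [Field F] {V : Type*} [AddCommGroup V] [Module F V]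
    (G : V →ₗ[F] V) (S : Finset F) (u : V) (hu : u ≠ 0)
    (h : (aeval G (∏ ζ ∈ S, (X - C ζ))) u = 0) :
    ∃ ζ ∈ S, ∃ f : V, f ≠ 0 ∧ G f = ζ • f := by
  classical
  induction S using Finset.induction_on with
  | empty =>
    rw [Finset.prod_empty, map_one] at h
    exact absurd h hu
  | insert ζ S hζ ih =>
    rw [Finset.prod_insert hζ, map_mul, Module.End.mul_apply] at h
    by_cases hf : (aeval G (∏ ζ ∈ S, (X - C ζ))) u = 0
    · obtain ⟨ζ', hζ', f, hf0, hGf⟩ := ih hf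
      exact ⟨ζ', Finset.mem_insert_of_mem hζ', f, hf0, hGf⟩
    · refine ⟨ζ, Finset.mem_insert_self _ _, _, hf, ?_⟩
      rw [map_sub, aeval_X, aeval_C, LinearMap.sub_apply, Module.algebraMap_end_apply] at h
      exact sub_eq_zero.mp h

/-- an endomorphism of finite order `N`, over a field containing a primitive `N`-th root of unity,
which is not scalar has two eigenvectors with distinct (nonzero) eigenvalues. -/
theorem exists_two_eigen {F : Type*} [Field F] {V : Type*} [AddCommGroup V] [Module F V]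
    (G : V →ₗ[F] V) (N : ℕ) (hN : 0 < N) (ζ : F) (hζ : IsPrimitiveRoot ζ N)
    (hGN : G ^ N = 1) (hns : ∀ c : F, ∃ w : V, G w ≠ c • w) (hV : ∃ u : V, u ≠ 0) :
    ∃ (a b : F) (f₀ f₁ : V), a ≠ b ∧ a ≠ 0 ∧ b ≠ 0 ∧ f₀ ≠ 0 ∧ f₁ ≠ 0 ∧ G f₀ = a • f₀ ∧
      G f₁ = b • f₁ := by
  classical
  have hprod := X_pow_sub_one_eq_prod hN hζ
  have hzero : aeval G (X ^ N - 1 : F[X]) = 0 := by
    rw [map_sub, map_pow, aeval_X, map_one, hGN, sub_self]
  have hne0 : ∀ a ∈ nthRootsFinset N (1 : F), a ≠ 0 := by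
    intro a ha ha0
    rw [mem_nthRootsFinset hN] at ha
    rw [ha0, zero_pow hN.ne'] at ha
    exact zero_ne_one ha
  obtain ⟨u, hu⟩ := hV
  obtain ⟨a, ha, f₀, hf₀, hGf₀⟩ := exists_eigen_of_prod G (nthRootsFinset N (1 : F)) u hu (by
    rw [← hprod, hzero]; rfl)
  obtain ⟨w, hw⟩ := hns a
  have hw' : G w - a • w ≠ 0 := sub_ne_zero.mpr hw
  obtain ⟨b, hb, f₁, hf₁, hGf₁⟩ := exists_eigen_of_prod G ((nthRootsFinset N (1 : F)).erase a)
    (G w - a • w) hw' (by
      have h1 : (aeval G (X - C a)) w = G w - a • w := by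
        rw [map_sub, aeval_X, aeval_C, LinearMap.sub_apply, Module.algebraMap_end_apply]
      rw [← h1, ← Module.End.mul_apply, ← map_mul, mul_comm,
        show (X - C a) * ∏ ζ ∈ (nthRootsFinset N (1 : F)).erase a, (X - C ζ)
          = ∏ ζ ∈ nthRootsFinset N (1 : F), (X - C ζ) from
          Finset.mul_prod_erase _ (fun ζ => X - C ζ) ha, ← hprod, hzero]
      rfl)
  refine ⟨a, b, f₀, f₁, ?_, hne0 a ha, hne0 b (Finset.mem_of_mem_erase hb), hf₀, hf₁, hGf₀, hGf₁⟩
  exact (Finset.ne_of_mem_erase hb).symm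

variable {ι : Type} [Fintype ι] [DecidableEq ι] {F : Type*} [Field F]

lemma tvMat_mul_tvMat' (φ v ψ w : ι → F) (h : φ ⬝ᵥ w = 0) :
    tvMat φ v * tvMat ψ w = 1 + (Matrix.vecMulVec v φ + Matrix.vecMulVec w ψ) := by
  unfold tvMat
  rw [Matrix.add_mul, Matrix.mul_add, Matrix.mul_add, Matrix.one_mul, Matrix.one_mul, Matrix.mul_one,
    Matrix.vecMulVec_mul_vecMulVec, h, zero_smul]
  have : Matrix.vecMulVec v (0 : ι → F) = 0 := by
    ext i j; simp [Matrix.vecMulVec]
  rw [this, add_zero]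
  abel

lemma conj_tvMat (A B : Matrix ι ι F) (hAB : A * B = 1) (φ v : ι → F) :
    A * tvMat φ v * B = tvMat (φ ᵥ* B) (A *ᵥ v) := by
  unfold tvMat
  rw [Matrix.mul_add, Matrix.add_mul, Matrix.mul_one, hAB, Matrix.mul_vecMulVec, Matrix.vecMulVec_mul]

lemma one_add_pow_of_sq_zero (M : Matrix ι ι F) (hM : M * M = 0) (k : ℕ) :
    (1 + M) ^ k = 1 + k • M := by
  induction k with
  | zero => simp
  | succ k ih =>
    rw [pow_succ, ih, Matrix.add_mul, Matrix.mul_add, Matrix.mul_add, Matrix.one_mul, Matrix.one_mul,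
      Matrix.mul_one, smul_mul_assoc, hM, smul_zero, add_zero, succ_nsmul]
    abel

variable [Fintype F] {n : ℕ}

/-- K-SLMax-N6. -/
theorem sl_not_le_subgroupNormalizer (hn : 3 ≤ n) {r : ℕ} (R : Subgroup (GL (Fin n) F))
    (hR : IsLinearSymplecticTypeData r R) :
    ¬ specialLinear (Fin n) F ≤ subgroupNormalizer R := by
  classical
  intro hle
  obtain ⟨p, e, hrp, hmin, hcases⟩ := hR.field
  obtain ⟨hp, hchar, hcard, hdvd, _⟩ := hmin
  have hrprime := hR.symplecticType.prime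
  obtain ⟨N, hNdef⟩ : ∃ N, N = r * Nat.gcd 2 r := ⟨_, rfl⟩
  have hZN : Nat.card (Subgroup.center R) = N := by
    rcases hcases with ⟨hodd, _, hZ, _⟩ | ⟨h2, _, hZ, _⟩ | ⟨_, _, hι, _⟩
    · have : Nat.gcd 2 r = 1 := Nat.coprime_two_left.mpr hodd
      rw [hZ, hNdef, this, mul_one]
    · rw [hZ, hNdef, h2]; norm_num
    · rw [Fintype.card_fin] at hι; omega
  have hNpos : 0 < N := by
    rw [hNdef]
    exact Nat.mul_pos hrprime.pos (Nat.gcd_pos_of_pos_left _ (by norm_num))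
  have hexp : ∀ g ∈ R, ((g : GL (Fin n) F) : Matrix (Fin n) (Fin n) F) ^ N = 1 := by
    intro g hg
    have h1 : (⟨g, hg⟩ : R) ^ Monoid.exponent R = 1 := Monoid.pow_exponent_eq_one _
    rw [hR.symplecticType.exponent_eq, ← hNdef] at h1
    have h2 : g ^ N = 1 := by
      have := congrArg Subtype.val h1
      simpa using this
    rw [← Units.val_pow_eq_pow_val, h2, Units.val_one]
  -- a primitive N-th root of unity
  have hdvd' : N ∣ Fintype.card Fˣ := by
    rw [Fintype.card_units, hcard, ← hZN]; exact hdvd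
  obtain ⟨a0, ha0⟩ : ∃ a : Fˣ, orderOf a = N := by
    have h1 := IsCyclic.card_orderOf_eq_totient (α := Fˣ) hdvd'
    have hpos : 0 < (Finset.univ.filter (fun a : Fˣ => orderOf a = N)).card := by
      rw [h1]; exact Nat.totient_pos.mpr hNpos
    obtain ⟨a, ha⟩ := Finset.card_pos.mp hpos
    exact ⟨a, (Finset.mem_filter.mp ha).2⟩
  have hprim : IsPrimitiveRoot (a0 : F) N := by
    rw [IsPrimitiveRoot.coe_units_iff, ← ha0]; exact IsPrimitiveRoot.orderOf a0
  -- a non-scalar element of R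
  obtain ⟨g, hgR, hgns⟩ : ∃ g ∈ R, ∀ c : F,
      ((g : GL (Fin n) F) : Matrix (Fin n) (Fin n) F) ≠ c • 1 := by
    by_contra hcon
    push Not at hcon
    obtain ⟨c, hc⟩ := hR.absIrred.2 (Matrix.single (⟨0, by omega⟩ : Fin n) (⟨1, by omega⟩ : Fin n) (1 : F)) (by
      rintro s ⟨g, hg, rfl⟩
      obtain ⟨c, hc⟩ := hcon g hg
      simp only [hc, Matrix.mul_smul, Matrix.smul_mul, Matrix.mul_one, Matrix.one_mul])
    have h1 := congrFun (congrFun hc (⟨0, by omega⟩ : Fin n)) (⟨1, by omega⟩ : Fin n)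
    have hne : (⟨0, by omega⟩ : Fin n) ≠ ⟨1, by omega⟩ := by
      intro h; exact absurd (Fin.mk.inj_iff.mp h) (by norm_num)
    simp [Matrix.one_apply, hne] at h1
  set Gm : Matrix (Fin n) (Fin n) F := ((g : GL (Fin n) F) : Matrix (Fin n) (Fin n) F) with hGm
  set Gi : Matrix (Fin n) (Fin n) F := ((g⁻¹ : GL (Fin n) F) : Matrix (Fin n) (Fin n) F) with hGi
  have hGGi : Gm * Gi = 1 := by rw [hGm, hGi, ← Units.val_mul, mul_inv_cancel, Units.val_one]
  have hGiG : Gi * Gm = 1 := by rw [hGm, hGi, ← Units.val_mul, inv_mul_cancel, Units.val_one]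
  -- eigenvectors
  obtain ⟨a, b, f₀, f₁, hab, ha, hb, hf₀, hf₁, hGf₀, hGf₁⟩ :=
    exists_two_eigen (Matrix.toLinAlgEquiv' Gm) N hNpos (a0 : F) hprim
      (by rw [← map_pow, hexp g hgR, map_one])
      (by
        intro c
        by_contra hcon
        push Not at hcon
        apply hgns c
        apply (Matrix.toLinAlgEquiv' (R := F) (n := Fin n)).injective
        apply LinearMap.ext
        intro w
        rw [hcon w, map_smul, map_one]
        rfl)
      ⟨fun _ => 1, by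
        intro h
        have := congrFun h (⟨0, by omega⟩ : Fin n)
        simp at this⟩
  rw [Matrix.toLinAlgEquiv'_apply] at hGf₀ hGf₁
  have hGif₀ : Gi *ᵥ f₀ = a⁻¹ • f₀ := by
    have h1 : Gi *ᵥ (Gm *ᵥ f₀) = f₀ := by rw [Matrix.mulVec_mulVec, hGiG, Matrix.one_mulVec]
    rw [hGf₀, Matrix.mulVec_smul] at h1
    calc Gi *ᵥ f₀ = a⁻¹ • (a • Gi *ᵥ f₀) := by rw [smul_smul, inv_mul_cancel₀ ha, one_smul]
      _ = a⁻¹ • f₀ := by rw [h1]
  have hGif₁ : Gi *ᵥ f₁ = b⁻¹ • f₁ := by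
    have h1 : Gi *ᵥ (Gm *ᵥ f₁) = f₁ := by rw [Matrix.mulVec_mulVec, hGiG, Matrix.one_mulVec]
    rw [hGf₁, Matrix.mulVec_smul] at h1
    calc Gi *ᵥ f₁ = b⁻¹ • (b • Gi *ᵥ f₁) := by rw [smul_smul, inv_mul_cancel₀ hb, one_smul]
      _ = b⁻¹ • f₁ := by rw [h1]
  -- the plane S
  set S : Submodule F (Fin n → F) := Submodule.span F {f₀, f₁} with hS
  have hf₀S : f₀ ∈ S := Submodule.subset_span (by simp)
  have hf₁S : f₁ ∈ S := Submodule.subset_span (by simp)
  obtain ⟨v, hvdef⟩ : ∃ v, v = f₀ + f₁ := ⟨_, rfl⟩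
  have hvS : v ∈ S := by rw [hvdef]; exact S.add_mem hf₀S hf₁S
  have hGv : Gm *ᵥ v = a • f₀ + b • f₁ := by rw [hvdef, Matrix.mulVec_add, hGf₀, hGf₁]
  have hGiv : Gi *ᵥ v = a⁻¹ • f₀ + b⁻¹ • f₁ := by rw [hvdef, Matrix.mulVec_add, hGif₀, hGif₁]
  have hGvS : Gm *ᵥ v ∈ S := by
    rw [hGv]; exact S.add_mem (S.smul_mem _ hf₀S) (S.smul_mem _ hf₁S)
  have hGivS : Gi *ᵥ v ∈ S := by
    rw [hGiv]; exact S.add_mem (S.smul_mem _ hf₀S) (S.smul_mem _ hf₁S)
  have hStop : S ≠ ⊤ := by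
    intro htop
    have h1 : Module.finrank F S ≤ 2 := by
      have := finrank_span_le_card (R := F) ({f₀, f₁} : Set (Fin n → F))
      refine le_trans this ?_
      rw [Set.toFinset_insert, Set.toFinset_singleton]
      exact Finset.card_le_two
    rw [htop, finrank_top, Module.finrank_fin_fun] at h1
    omega
  obtain ⟨u, hu⟩ : ∃ u, u ∉ S := by
    by_contra hcon
    push Not at hcon
    exact hStop (eq_top_iff.mpr fun x _ => hcon x)
  obtain ⟨φ, hφS, hφu⟩ := exists_dotProduct_separating S u hu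
  have hφv : φ ⬝ᵥ v = 0 := hφS v hvS
  -- the transvection
  set t : GL (Fin n) F := tvGL φ v hφv with ht
  have htn : t ∈ Subgroup.normalizer (R : Set (GL (Fin n) F)) := hle (tvGL_mem_specialLinear φ v hφv)
  have hcR : t * g * t⁻¹ * g⁻¹ ∈ R := by
    have h1 := (Subgroup.mem_normalizer_iff.mp htn g).mp hgR
    exact R.mul_mem h1 (R.inv_mem hgR)
  -- the matrix of the commutator
  obtain ⟨φ', hφ'⟩ : ∃ φ' : Fin n → F, φ' = φ ᵥ* Gi := ⟨_, rfl⟩
  obtain ⟨v', hv'⟩ : ∃ v' : Fin n → F, v' = Gm *ᵥ v := ⟨_, rfl⟩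
  have hφv' : φ ⬝ᵥ (-v') = 0 := by
    rw [hv', dotProduct_neg, hφS _ hGvS, neg_zero]
  have hφ'v : φ' ⬝ᵥ v = 0 := by
    rw [hφ', ← Matrix.dotProduct_mulVec]; exact hφS _ hGivS
  have hφ'v' : φ' ⬝ᵥ (-v') = 0 := by
    rw [hφ', hv', dotProduct_neg, ← Matrix.dotProduct_mulVec, Matrix.mulVec_mulVec, hGiG,
      Matrix.one_mulVec, hφv, neg_zero]
  obtain ⟨Nm, hNm⟩ : ∃ Nm : Matrix (Fin n) (Fin n) F,
      Nm = Matrix.vecMulVec v φ + Matrix.vecMulVec (-v') φ' := ⟨_, rfl⟩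
  have hcval : ((t * g * t⁻¹ * g⁻¹ : GL (Fin n) F) : Matrix (Fin n) (Fin n) F) = 1 + Nm := by
    have h1 : ((t * g * t⁻¹ * g⁻¹ : GL (Fin n) F) : Matrix (Fin n) (Fin n) F)
        = tvMat φ v * (Gm * tvMat φ (-v) * Gi) := by
      rw [Units.val_mul, Units.val_mul, Units.val_mul]
      have h2 : ((t⁻¹ : GL (Fin n) F) : Matrix (Fin n) (Fin n) F) = tvMat φ (-v) := rfl
      rw [h2, ht, tvGL_val]
      simp only [Matrix.mul_assoc]
      rfl
    rw [h1, conj_tvMat Gm Gi hGGi, Matrix.mulVec_neg, ← hv', ← hφ', tvMat_mul_tvMat' _ _ _ _ hφv', hNm]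
  have hNsq : Nm * Nm = 0 := by
    have hz : ∀ w : Fin n → F, Matrix.vecMulVec w (0 : Fin n → F) = 0 := by
      intro w; ext i j; simp [Matrix.vecMulVec]
    rw [hNm, Matrix.add_mul, Matrix.mul_add, Matrix.mul_add, Matrix.vecMulVec_mul_vecMulVec,
      Matrix.vecMulVec_mul_vecMulVec, Matrix.vecMulVec_mul_vecMulVec, Matrix.vecMulVec_mul_vecMulVec,
      hφv, hφv', hφ'v, hφ'v', zero_smul, zero_smul, hz, hz, add_zero, add_zero]
  -- the commutator is trivial
  have hc1 : t * g * t⁻¹ * g⁻¹ = 1 := by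
    set c : GL (Fin n) F := t * g * t⁻¹ * g⁻¹ with hc
    have hcp : c ^ p = 1 := by
      apply Units.ext
      rw [Units.val_pow_eq_pow_val, hcval, one_add_pow_of_sq_zero Nm hNsq, Units.val_one]
      have : p • Nm = 0 := by
        rw [← Nat.cast_smul_eq_nsmul F, CharP.cast_eq_zero F p, zero_smul]
      rw [this, add_zero]
    obtain ⟨k, hk⟩ := hR.symplecticType.pGroup ⟨c, hcR⟩
    have hcr : c ^ (r ^ k) = 1 := by
      have := congrArg Subtype.val hk
      simpa using this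
    have hcop : Nat.Coprime p (r ^ k) :=
      Nat.Coprime.pow_right k ((Nat.coprime_primes hp hrprime).mpr (Ne.symm hrp))
    have h3 : orderOf c ∣ 1 := by
      rw [← Nat.Coprime.gcd_eq_one hcop]
      exact Nat.dvd_gcd (orderOf_dvd_of_pow_eq_one hcp) (orderOf_dvd_of_pow_eq_one hcr)
    exact orderOf_eq_one_iff.mp (Nat.dvd_one.mp h3)
  -- so t commutes with g
  have hcomm : t * g = g * t := by
    have h1 : t * g * t⁻¹ = g := by
      have := congrArg (· * g) hc1
      simpa using this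
    calc t * g = t * g * t⁻¹ * t := by group
      _ = g * t := by rw [h1]
  have hcommM : Matrix.vecMulVec v φ * Gm = Gm * Matrix.vecMulVec v φ := by
    have h1 := congrArg (fun x : GL (Fin n) F => (x : Matrix (Fin n) (Fin n) F)) hcomm
    simp only [Units.val_mul] at h1
    rw [ht, tvGL_val] at h1
    unfold tvMat at h1
    rw [Matrix.add_mul, Matrix.mul_add, Matrix.one_mul, Matrix.mul_one] at h1
    exact add_left_cancel h1
  rw [Matrix.vecMulVec_mul, Matrix.mul_vecMulVec] at hcommM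
  have hev := congrArg (fun M : Matrix (Fin n) (Fin n) F => M *ᵥ u) hcommM
  simp only [Matrix.vecMulVec_mulVec, hφu] at hev
  -- hev : op (..) • v = op 1 • (Gm *ᵥ v)
  obtain ⟨a', ha'⟩ : ∃ a' : F, Gm *ᵥ v = a' • v := by
    refine ⟨(φ ᵥ* Gm) ⬝ᵥ u, ?_⟩
    have := hev.symm
    simpa using this
  -- contradiction
  rw [hGv, hvdef, smul_add] at ha'
  have e1 : (a - a') • f₀ + (b - a') • f₁ = 0 := by
    rw [sub_smul, sub_smul]
    have := sub_eq_zero.mpr ha'
    rw [← this]; abel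
  have e2 : (a * (a - a')) • f₀ + (b * (b - a')) • f₁ = 0 := by
    have := congrArg (fun x => Gm *ᵥ x) e1
    simp only [Matrix.mulVec_add, Matrix.mulVec_smul, hGf₀, hGf₁, Matrix.mulVec_zero, smul_smul] at this
    rw [mul_comm a, mul_comm b]; exact this
  have e3 : ((a - b) * (a - a')) • f₀ = 0 := by
    have h1 : (a * (a - a')) • f₀ + (b * (b - a')) • f₁ - b • ((a - a') • f₀ + (b - a') • f₁) = 0 := by
      rw [e1, e2, smul_zero, sub_zero]
    rw [← h1, smul_add, smul_smul, smul_smul, sub_mul]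
    rw [sub_smul]; abel
  have e4 : ((b - a) * (b - a')) • f₁ = 0 := by
    have h1 : (a * (a - a')) • f₀ + (b * (b - a')) • f₁ - a • ((a - a') • f₀ + (b - a') • f₁) = 0 := by
      rw [e1, e2, smul_zero, sub_zero]
    rw [← h1, smul_add, smul_smul, smul_smul, sub_mul]
    rw [sub_smul]; abel
  have h5 : a = a' := by
    rcases smul_eq_zero.mp e3 with h | h
    · rcases mul_eq_zero.mp h with h | h
      · exact absurd (sub_eq_zero.mp h) hab
      · exact sub_eq_zero.mp h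
    · exact absurd h hf₀
  have h6 : b = a' := by
    rcases smul_eq_zero.mp e4 with h | h
    · rcases mul_eq_zero.mp h with h | h
      · exact absurd (sub_eq_zero.mp h).symm hab
      · exact sub_eq_zero.mp h
    · exact absurd h hf₁
  exact hab (h5.trans h6.symm)

end Cfsg.Agent.Lib.Helper04.SLMax
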