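import Mathlib
import Cfsg.Prelude.Def_Classical
import Cfsg.Prelude.Def_GeometricClasses
import Cfsg.Agent.Lib.Helper49.SLUDefs
import Cfsg.Agent.Lib.Helper49.SimInvol
import Cfsg.Agent.Lib.Helper80.AschUONB

/-!
# K-SLU-2 (keystone 598202, pack S5982, architect helper49): `invol_char_two_u`

Characteristic 2, `|F| = q₀²`: every `x ∈ SL_n(F)` with `x²` scalar is `SL`-conjugate into the
similarity group of the standard hermitian form.
-/

set_option autoImplicit false
set_option linter.unusedSectionVars false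

namespace Cfsg.Agent.Lib.Helper04.SLU

open Matrix Module Cfsg.Agent.Lib.Helper49 Cfsg.Agent.Lib.Helper49.SLU

section Block

variable {F : Type*} [Field F]

/-- shift down within a block -/
def shift {m : ℕ} (a : Fin m → F) (j : Fin m) : F :=
  if h : 1 ≤ (j : ℕ) then a ⟨(j : ℕ) - 1, by have := j.2; omega⟩ else 0

/-- a unipotent Jordan block of size at most two preserves the anti-diagonal hermitian form
(characteristic 2) -/
theorem block_invariant [CharP F 2] (q₀ : ℕ) (hq₀ : ∀ x y : F, (x + y) ^ q₀ = x ^ q₀ + y ^ q₀)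
    (hq0 : q₀ ≠ 0) (m : ℕ) (hm1 : 1 ≤ m) (hm2 : m ≤ 2) (a b : Fin m → F) :
    ∑ j : Fin m, (a j + shift a j) * (b (Fin.rev j) + shift b (Fin.rev j)) ^ q₀ =
      ∑ j : Fin m, a j * (b (Fin.rev j)) ^ q₀ := by
  interval_cases m
  · have r0 : Fin.rev (0 : Fin 1) = 0 := rfl
    have s0 : ∀ c : Fin 1 → F, shift c 0 = 0 := fun c => by simp [shift]
    simp only [Fin.sum_univ_one, r0, s0, add_zero]
  · have r0 : Fin.rev (0 : Fin 2) = 1 := rfl
    have r1 : Fin.rev (1 : Fin 2) = 0 := rfl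
    have s0 : ∀ c : Fin 2 → F, shift c 0 = 0 := fun c => by simp [shift]
    have s1 : ∀ c : Fin 2 → F, shift c 1 = c 0 := fun c => by simp [shift]
    rw [Fin.sum_univ_two, Fin.sum_univ_two, r0, r1, s0 a, s1 a, s0 b, s1 b, add_zero, add_zero, hq₀]
    have h2 : (a 0 * (b 0) ^ q₀) + (a 0 * (b 0) ^ q₀) = 0 := CharTwo.add_self_eq_zero _
    linear_combination h2

end Block

section Model

variable {F : Type*} [Field F] [Fintype F] {t : ℕ} (d : Fin t → ℕ)

/-- reversal inside each block -/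
def rev (p : JI d) : JI d := ⟨p.1, Fin.rev p.2⟩

theorem rev_rev (p : JI d) : rev d (rev d p) = p := by
  obtain ⟨k, j⟩ := p
  simp [rev]

/-- reversal as an equivalence -/
def revEquiv : JI d ≃ JI d := ⟨rev d, rev d, rev_rev d, rev_rev d⟩

/-- the anti-diagonal hermitian form on the model space -/
def hform (q₀ : ℕ) (a b : JI d → F) : F := ∑ p, a p * (b (rev d p)) ^ q₀

theorem hform_add_left (q₀ : ℕ) (a a' b : JI d → F) :
    hform d q₀ (a + a') b = hform d q₀ a b + hform d q₀ a' b := by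
  unfold hform
  rw [← Finset.sum_add_distrib]
  apply Finset.sum_congr rfl
  intro p _
  rw [Pi.add_apply]; ring

theorem hform_smul_left (q₀ : ℕ) (c : F) (a b : JI d → F) :
    hform d q₀ (c • a) b = c * hform d q₀ a b := by
  unfold hform
  rw [Finset.mul_sum]
  apply Finset.sum_congr rfl
  intro p _
  rw [Pi.smul_apply, smul_eq_mul]; ring

theorem hform_herm [CharP F 2] (q₀ e : ℕ) (hq : q₀ = 2 ^ e) (hF : Fintype.card F = q₀ ^ 2)
    (a b : JI d → F) : hform d q₀ a b = (hform d q₀ b a) ^ q₀ := by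
  have : Fact (Nat.Prime 2) := ⟨Nat.prime_two⟩
  have hpp : ∀ c : F, (c ^ q₀) ^ q₀ = c := by
    intro c
    rw [← pow_mul, ← sq, ← hF, FiniteField.pow_card]
  unfold hform
  have h1 : (∑ p, b p * (a (rev d p)) ^ q₀) ^ q₀ = ∑ p, (b p * (a (rev d p)) ^ q₀) ^ q₀ := by
    rw [hq]; exact sum_pow_char_pow 2 e Finset.univ _
  rw [h1]
  have h2 : ∑ p, a p * (b (rev d p)) ^ q₀ =
      ∑ p, a (rev d p) * (b (rev d (rev d p))) ^ q₀ :=
    (Equiv.sum_comp (revEquiv d) (fun p => a p * (b (rev d p)) ^ q₀)).symm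
  rw [h2]
  apply Finset.sum_congr rfl
  intro p _
  rw [rev_rev, mul_pow, hpp]; ring

theorem hform_single_right (q₀ : ℕ) (hq0 : q₀ ≠ 0) [DecidableEq (JI d)] (v : JI d → F) (p : JI d) :
    hform d q₀ v (Pi.single (rev d p) 1) = v p := by
  unfold hform
  rw [Finset.sum_eq_single p]
  · rw [Pi.single_eq_same, one_pow, mul_one]
  · intro p' _ hne
    rw [Pi.single_eq_of_ne, zero_pow hq0, mul_zero]
    intro h
    apply hne
    have := congrArg (rev d) h
    rwa [rev_rev, rev_rev] at this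
  · intro h; exact absurd (Finset.mem_univ p) h

theorem hform_single_left (q₀ : ℕ) [DecidableEq (JI d)] (v : JI d → F) (p : JI d) :
    hform d q₀ (Pi.single (rev d p) 1) v = (v p) ^ q₀ := by
  unfold hform
  rw [Finset.sum_eq_single (rev d p)]
  · rw [Pi.single_eq_same, one_mul, rev_rev]
  · intro p' _ hne
    rw [Pi.single_eq_of_ne hne, zero_mul]
  · intro h; exact absurd (Finset.mem_univ _) h

/-- the model unipotent matrix preserves the form -/
theorem hform_invariant [CharP F 2] (q₀ : ℕ) (hq₀ : ∀ x y : F, (x + y) ^ q₀ = x ^ q₀ + y ^ q₀)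
    (hq0 : q₀ ≠ 0) (hd1 : ∀ k, 1 ≤ d k) (hd2 : ∀ k, d k ≤ 2) (a b : JI d → F) :
    hform d q₀ (a + jnil F d a) (b + jnil F d b) = hform d q₀ a b := by
  have e : ∀ (c : JI d → F) (k : Fin t) (j : Fin (d k)),
      (c + jnil F d c) ⟨k, j⟩ = c ⟨k, j⟩ + shift (fun j => c ⟨k, j⟩) j := by
    intro c k j
    rw [Pi.add_apply, jnil_apply]
    rfl
  unfold hform
  rw [Fintype.sum_sigma, Fintype.sum_sigma]
  apply Finset.sum_congr rfl
  intro k _
  have h := block_invariant q₀ hq₀ hq0 (d k) (hd1 k) (hd2 k) (fun j => a ⟨k, j⟩) (fun j => b ⟨k, j⟩)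
  show ∑ j : Fin (d k), (a + jnil F d a) ⟨k, j⟩ * ((b + jnil F d b) ⟨k, Fin.rev j⟩) ^ q₀ =
    ∑ j : Fin (d k), a ⟨k, j⟩ * (b ⟨k, Fin.rev j⟩) ^ q₀
  simp only [e]
  exact h

end Model

section Main

variable {F : Type*} [Field F] [Fintype F]

/-- **K-SLU-2** (598202). -/
theorem invol_char_two_u [CharP F 2] {q₀ : ℕ} (hF : Fintype.card F = q₀ ^ 2) (n : ℕ) (hn : 1 ≤ n)
    (x : GL (Fin n) F) (hx : x ∈ Cfsg.Geo.specialLinear (Fin n) F) (z : F)
    (hz : ((x ^ 2 : GL (Fin n) F) : Matrix (Fin n) (Fin n) F) =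
      z • (1 : Matrix (Fin n) (Fin n) F)) :
    ∃ g ∈ Cfsg.Geo.specialLinear (Fin n) F, g⁻¹ * x * g ∈ CUh n F q₀ := by
  classical
  have : Fact (Nat.Prime 2) := ⟨Nat.prime_two⟩
  have : Nonempty (Fin n) := ⟨⟨0, hn⟩⟩
  -- `q₀` is a power of two
  obtain ⟨e, he⟩ : ∃ e : ℕ, q₀ = 2 ^ e := by
    obtain ⟨m, -, hm⟩ := FiniteField.card F 2
    have hdvd : q₀ ∣ 2 ^ (m : ℕ) := by
      rw [← hm, hF]; exact Dvd.intro_left _ (by ring)
    obtain ⟨j, -, hj⟩ := (Nat.dvd_prime_pow Nat.prime_two).mp hdvd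
    exact ⟨j, hj⟩
  have hq0 : q₀ ≠ 0 := by rw [he]; positivity
  have hadd : ∀ a b : F, (a + b) ^ q₀ = a ^ q₀ + b ^ q₀ := by
    intro a b; rw [he]; exact add_pow_char_pow a b 2 e
  have hxdet : (x : Matrix (Fin n) (Fin n) F).det = 1 := by
    have h1 : Matrix.GeneralLinearGroup.det x = 1 := MonoidHom.mem_ker.mp hx
    have h2 := congrArg (fun c : Fˣ => (c : F)) h1
    simpa using h2
  -- the square root of `z`
  have hinj : Function.Injective (frobenius F 2) := frobenius_inj F 2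
  have hsurj : Function.Surjective (frobenius F 2) := Finite.surjective_of_injective hinj
  obtain ⟨l, hl⟩ := hsurj z
  rw [frobenius_def] at hl
  have hx2 : (x : Matrix (Fin n) (Fin n) F) ^ 2 = z • (1 : Matrix (Fin n) (Fin n) F) := by
    rw [← hz, Units.val_pow_eq_pow_val]
  have hl0 : l ≠ 0 := by
    rintro rfl
    have hz0 : z = 0 := by rw [← hl]; simp
    have h1 : ((x : Matrix (Fin n) (Fin n) F) ^ 2).det = 0 := by
      rw [hx2, hz0, zero_smul, Matrix.det_zero]
    rw [Matrix.det_pow, hxdet, one_pow] at h1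
    exact one_ne_zero h1
  have hudet : (l⁻¹ • (x : Matrix (Fin n) (Fin n) F)).det ≠ 0 := by
    rw [Matrix.det_smul, hxdet, mul_one]
    exact pow_ne_zero _ (inv_ne_zero hl0)
  let u : GL (Fin n) F := Matrix.GeneralLinearGroup.mkOfDetNeZero _ hudet
  have hu : (u : Matrix (Fin n) (Fin n) F) = l⁻¹ • (x : Matrix (Fin n) (Fin n) F) := rfl
  have hxu : (x : Matrix (Fin n) (Fin n) F) = l • (u : Matrix (Fin n) (Fin n) F) := by
    rw [hu, smul_smul, mul_inv_cancel₀ hl0, one_smul]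
  have hup : u ^ 2 = 1 := by
    apply Units.ext
    rw [Units.val_pow_eq_pow_val, hu, _root_.smul_pow, hx2, smul_smul, inv_pow, hl,
      inv_mul_cancel₀, one_smul]
    · rfl
    · rw [← hl]; exact pow_ne_zero _ hl0
  have hup' : ((u : Matrix (Fin n) (Fin n) F) - 1) ^ 2 = 0 := by
    have := (pow_char_pow_eq_one_iff 2 u 1).mp (by rwa [pow_one])
    rwa [pow_one] at this
  obtain ⟨μ, hμ⟩ := exists_hasType u 2 hup'
  have hparts := (hμ.pow_eq_zero_iff 2).mp hup'
  obtain ⟨t, d, b, hd, hb, hdμ⟩ := hμ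
  have hle : ∀ k, d k ≤ 2 := by
    intro k
    apply hparts
    rw [← hdμ]
    exact Multiset.mem_map_of_mem d (Finset.mem_univ_val k)
  have hsum := sum_eq_of_basis d b
  have ht : 0 < t := by
    by_contra h0
    have : t = 0 := by omega
    subst this
    simp at hsum
    omega
  -- the intertwiner with the model
  obtain ⟨Φ, hΦ⟩ := exists_intertwiner (jnil_isJordanBasis (F := F) d) hb (Equiv.refl _)
    (fun k => rfl)
  have hΦs : ∀ v, Φ.symm (nilOf u v) = jnil F d (Φ.symm v) := by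
    intro v
    apply Φ.injective
    rw [LinearEquiv.apply_symm_apply, hΦ, LinearEquiv.apply_symm_apply]
  have huv : ∀ v : Fin n → F, (u : Matrix (Fin n) (Fin n) F) *ᵥ v = v + nilOf u v := by
    intro v
    unfold nilOf
    rw [Matrix.toLin'_apply, Matrix.sub_mulVec, Matrix.one_mulVec]
    abel
  -- the invariant hermitian form
  let f : (Fin n → F) → (Fin n → F) → F := fun v w => hform d q₀ (Φ.symm v) (Φ.symm w)
  have hfu : ∀ v w, f ((u : Matrix (Fin n) (Fin n) F) *ᵥ v) ((u : Matrix (Fin n) (Fin n) F) *ᵥ w) =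
      f v w := by
    intro v w
    show hform d q₀ (Φ.symm _) (Φ.symm _) = hform d q₀ (Φ.symm v) (Φ.symm w)
    rw [huv, huv, map_add, map_add, hΦs, hΦs]
    exact hform_invariant d q₀ hadd hq0 hd hle _ _
  have hf : Cfsg.Geo.IsUnitaryFormPow q₀ f := by
    refine ⟨?_, ?_, ?_, ?_⟩
    · intro v w y
      show hform d q₀ (Φ.symm (v + w)) _ = _
      rw [map_add]; exact hform_add_left d q₀ _ _ _
    · intro c v w
      show hform d q₀ (Φ.symm (c • v)) _ = _
      rw [map_smul]; exact hform_smul_left d q₀ c _ _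
    · intro v w
      exact hform_herm d q₀ e he hF _ _
    · intro v hv
      have hv' : Φ.symm v ≠ 0 := by
        intro h
        apply hv
        have := congrArg Φ h
        rwa [LinearEquiv.apply_symm_apply, map_zero] at this
      obtain ⟨p, hp⟩ : ∃ p, Φ.symm v p ≠ 0 := by
        by_contra hcon
        push Not at hcon
        exact hv' (funext hcon)
      refine ⟨⟨Φ (Pi.single (rev d p) 1), ?_⟩, ⟨Φ (Pi.single (rev d p) 1), ?_⟩⟩
      · show hform d q₀ (Φ.symm (Φ _)) (Φ.symm v) ≠ 0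
        rw [LinearEquiv.symm_apply_apply, hform_single_left]
        exact pow_ne_zero _ hp
      · show hform d q₀ (Φ.symm v) (Φ.symm (Φ _)) ≠ 0
        rw [LinearEquiv.symm_apply_apply, hform_single_right d q₀ hq0]
        exact hp
  -- `x` is a similarity of `f`
  have hfr : ∀ (c : F) (v w : Fin n → F), f v (c • w) = c ^ q₀ * f v w := by
    intro c v w
    rw [hf.herm v (c • w), hf.smul_left, mul_pow, ← hf.herm v w]
  have hll : l * l ^ q₀ ≠ 0 := mul_ne_zero hl0 (pow_ne_zero _ hl0)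
  have hxf : x ∈ Cfsg.Geo.similarityGroup f := by
    refine ⟨Units.mk0 _ hll, fun v w => ?_⟩
    rw [hxu, Matrix.smul_mulVec, Matrix.smul_mulVec, hf.smul_left, hfr, hfu, Units.val_mk0]
    ring
  obtain ⟨B, hB⟩ := Cfsg.Agent.Lib.Helper80.AschU.exists_orthonormal_matrix hF f hf
  have hBx : B⁻¹ * x * B ∈ CUh n F q₀ := conj_mem_of_comp f (Cfsg.hermForm n F q₀) B hB x hxf
  -- determinant adjustment inside the centraliser
  have hBdet : (B : Matrix (Fin n) (Fin n) F).det ≠ 0 :=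
    ((Matrix.isUnit_iff_isUnit_det _).mp B.isUnit).ne_zero
  obtain ⟨w, hw⟩ := exists_block_scaling_two d hle hd ⟨0, ht⟩ _ (inv_ne_zero hBdet)
  obtain ⟨c, hc, hcdet⟩ := exists_commute_det hb w
  have hcx : c * x = x * c := by
    apply Units.ext
    rw [Units.val_mul, Units.val_mul, hxu, Matrix.mul_smul, Matrix.smul_mul]
    congr 1
    have := congrArg (fun y : GL (Fin n) F => (y : Matrix (Fin n) (Fin n) F)) hc
    simpa [Units.val_mul] using this
  refine ⟨c * B, ?_, ?_⟩
  · show c * B ∈ (Matrix.GeneralLinearGroup.det : GL (Fin n) F →* Fˣ).ker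
    rw [MonoidHom.mem_ker]
    apply Units.ext
    rw [Matrix.GeneralLinearGroup.val_det_apply, Units.val_mul, Matrix.det_mul, hcdet, hw,
      inv_mul_cancel₀ hBdet]
    rfl
  · have e1 : c⁻¹ * x * c = x := by
      rw [mul_assoc, ← hcx, ← mul_assoc, inv_mul_cancel, one_mul]
    have e2 : (c * B)⁻¹ * x * (c * B) = B⁻¹ * (c⁻¹ * x * c) * B := by group
    rw [e2, e1]
    exact hBx

end Main

end Cfsg.Agent.Lib.Helper04.SLU
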