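import Mathlib
import Cfsg.Prelude.Def_JordanBlocks
import Cfsg.Agent.Lib.Helper73.UCDefs
import Cfsg.Agent.Lib.Helper73.SPCDefs
import Cfsg.Agent.Lib.Helper21.UCB

/-!
# KEYSTONE 267610 K-SPC-C2 `isUnit_det_shankel_iff` (architect helper73, S2676 pack)

`shankel d c = D * hankel d c` with `D` the diagonal matrix of the signs `(-1)^b`; then K-UC B.
-/

set_option autoImplicit false

namespace Cfsg.Agent.Lib.Helper04.SPC

open Matrix Cfsg.Agent.Lib.Helper73.UC Cfsg.Agent.Lib.Helper73.SPC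

variable {F : Type*} [Field F]

theorem shankel_eq_diagonal_mul {t : ℕ} (d : Fin t → ℕ) (c : CIdx d → F) :
    shankel d c = Matrix.diagonal (fun x : JI d => (-1 : F) ^ (x.2 : ℕ)) * hankel d c := by
  ext x y
  rw [Matrix.diagonal_mul]
  rfl

/-- LEAF C2 (267610). -/
theorem isUnit_det_shankel_iff {t : ℕ} (d : Fin t → ℕ) (hd : ∀ k, 1 ≤ d k) (c : CIdx d → F) :
    IsUnit (shankel d c).det ↔ IsUnit (topC d hd c).det := by
  rw [shankel_eq_diagonal_mul, Matrix.det_mul, Matrix.det_diagonal,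
    ← Cfsg.Agent.Lib.Helper21.UC.isUnit_det_hankel_iff d hd c, IsUnit.mul_iff]
  have hu : IsUnit (∏ x : JI d, (-1 : F) ^ (x.2 : ℕ)) := by
    rw [isUnit_iff_ne_zero]
    exact Finset.prod_ne_zero_iff.mpr (fun x _ => pow_ne_zero _ (neg_ne_zero.mpr one_ne_zero))
  exact and_iff_right hu

end Cfsg.Agent.Lib.Helper04.SPC
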