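import Mathlib
import Cfsg.Agent.Lib.Helper60.SylowConj

set_option autoImplicit false

namespace Cfsg.Agent.Lib.Helper04

section

variable {G : Type*} [Group G] [Finite G] {p : ℕ} [Fact p.Prime]

theorem centralizer_scn_splits (R : Sylow p G) (A : Subgroup G) (hAR : A ≤ (R : Subgroup G))
    (hAn : (R : Subgroup G) ≤ Subgroup.normalizer (A : Set G))
    (hC : (R : Subgroup G) ⊓ Subgroup.centralizer (A : Set G) = A) :
    ∃ H : Subgroup G, H ≤ Subgroup.centralizer (A : Set G) ∧ Nat.Coprime (Nat.card H) p ∧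
      Subgroup.centralizer (A : Set G) ≤ Subgroup.normalizer (H : Set G) ∧ H ⊓ A = ⊥ ∧
      H ⊔ A = Subgroup.centralizer (A : Set G) := by
  set C := Subgroup.centralizer (A : Set G) with hCdef
  have hAC : A ≤ C := by
    intro a ha
    rw [← hC] at ha
    exact ha.2
  have hCN : C ≤ Subgroup.normalizer (A : Set G) := Subgroup.centralizer_le_normalizer _
  -- A' central in C
  set A' : Subgroup C := A.subgroupOf C with hA'
  have hcentral : ∀ a ∈ A', ∀ c : C, c * a = a * c := by
    intro a ha c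
    apply Subtype.ext
    have := Subgroup.mem_centralizer_iff.mp c.2 a.1 (Subgroup.mem_subgroupOf.mp ha)
    simpa using this.symm
  have hA'n : A'.Normal := by
    constructor
    intro a ha c
    rw [hcentral a ha c, mul_inv_cancel_right]
    exact ha
  have hA'p : IsPGroup p A' := by
    have : IsPGroup p A := R.2.to_le hAR
    exact this.comap_subtype
  obtain ⟨S, hS⟩ := hA'p.exists_le_sylow
  -- S equals A'
  have hSA : (S : Subgroup C) = A' := by
    symm
    apply Subgroup.eq_of_le_of_card_ge hS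
    -- conjugate S into A
    have hSp : IsPGroup p ((S : Subgroup C).map C.subtype) := S.2.map _
    have hSN : (S : Subgroup C).map C.subtype ≤ Subgroup.normalizer (A : Set G) := by
      rintro _ ⟨x, _, rfl⟩
      exact hCN x.2
    obtain ⟨h, hhN, hh⟩ := Cfsg.Agent.Lib.Helper60.exists_conj_mem_of_sylow_le R
      (Subgroup.normalizer (A : Set G)) hAn _ hSN hSp
    have hmapsA : ∀ x : (S : Subgroup C), h * (x : C) * h⁻¹ ∈ A := by
      intro x
      rw [← hC]
      refine ⟨hh _ ⟨x.1, x.2, rfl⟩, ?_⟩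
      show h * ((x : C) : G) * h⁻¹ ∈ Subgroup.centralizer (A : Set G)
      rw [Subgroup.mem_centralizer_iff]
      intro a ha
      have ha' : h⁻¹ * a * h ∈ A := by
        have := (Subgroup.mem_normalizer_iff.mp (Subgroup.inv_mem _ hhN) a).mp ha
        simpa using this
      have hcomm := Subgroup.mem_centralizer_iff.mp (x : C).2 _ ha'
      -- hcomm : h⁻¹ * a * h * x = x * (h⁻¹ * a * h)
      calc a * (h * (x : C) * h⁻¹) = h * ((h⁻¹ * a * h) * (x : C)) * h⁻¹ := by group
        _ = h * ((x : C) * (h⁻¹ * a * h)) * h⁻¹ := by rw [hcomm]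
        _ = h * (x : C) * h⁻¹ * a := by group
    have hcardA : Nat.card A' = Nat.card A :=
      Nat.card_congr (Subgroup.subgroupOfEquivOfLe hAC).toEquiv
    rw [hcardA]
    let f : ↥(S : Subgroup C) → A := fun x => ⟨h * ((x : C) : G) * h⁻¹, hmapsA x⟩
    have hf : Function.Injective f := by
      intro x y hxy
      have h1 : h * ((x : C) : G) * h⁻¹ = h * ((y : C) : G) * h⁻¹ := congrArg Subtype.val hxy
      have h2 : ((x : C) : G) = ((y : C) : G) := by
        have := congrArg (fun z => h⁻¹ * z * h) h1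
        simpa [mul_assoc] using this
      exact Subtype.ext (Subtype.ext h2)
    exact Nat.card_le_card_of_injective f hf
  -- coprimality
  have hcop : Nat.Coprime (Nat.card A') A'.index := by
    obtain ⟨k, hk⟩ := IsPGroup.iff_card.mp hA'p
    rw [hk]
    apply Nat.Coprime.pow_left
    rw [Nat.Prime.coprime_iff_not_dvd Fact.out, ← hSA]
    exact S.not_dvd_index
  obtain ⟨H', hH'⟩ := Subgroup.exists_left_complement'_of_coprime hcop
  have hH'n : H'.Normal := by
    constructor
    intro x hx c
    have hc : c ∈ ((H' ⊔ A' : Subgroup C) : Set C) := by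
      rw [hH'.sup_eq_top]; trivial
    rw [Subgroup.mul_normal] at hc
    obtain ⟨y, hy, a, ha, rfl⟩ := hc
    have e : y * a * x * (y * a)⁻¹ = y * x * y⁻¹ := by
      rw [mul_inv_rev, mul_assoc y a x, ← hcentral a ha x]
      group
    rw [e]
    exact H'.mul_mem (H'.mul_mem hy hx) (H'.inv_mem hy)
  refine ⟨H'.map C.subtype, ?_, ?_, ?_, ?_, ?_⟩
  · rintro _ ⟨x, _, rfl⟩
    exact x.2
  · rw [Subgroup.card_map_of_injective C.subtype_injective]
    rw [← hH'.index_eq_card]
    have := S.not_dvd_index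
    rw [hSA] at this
    exact ((Nat.Prime.coprime_iff_not_dvd Fact.out).mpr this).symm
  · intro c hc
    have key : ∀ c : C, ∀ x ∈ H'.map C.subtype, (c : G) * x * (c : G)⁻¹ ∈ H'.map C.subtype := by
      rintro c _ ⟨x, hx, rfl⟩
      exact ⟨c * x * c⁻¹, hH'n.conj_mem x hx c, by simp⟩
    rw [Subgroup.mem_normalizer_iff]
    intro x
    constructor
    · exact fun hx => key ⟨c, hc⟩ x hx
    · intro hx
      have := key ⟨c, hc⟩⁻¹ _ hx
      simpa [mul_assoc] using this
  · rw [eq_bot_iff]
    rintro _ ⟨⟨x, hx, rfl⟩, hxA⟩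
    have hxA' : x ∈ A' := by
      rw [hA', Subgroup.mem_subgroupOf]; exact hxA
    have : x ∈ H' ⊓ A' := ⟨hx, hxA'⟩
    rw [hH'.disjoint.eq_bot] at this
    rw [Subgroup.mem_bot] at this ⊢
    rw [this]; rfl
  · have h1 : A = A'.map C.subtype := by
      rw [hA', Subgroup.map_subgroupOf_eq_of_le hAC]
    rw [h1, ← Subgroup.map_sup, hH'.sup_eq_top, ← MonoidHom.range_eq_map, Subgroup.range_subtype]

end

end Cfsg.Agent.Lib.Helper04
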