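import Mathlib
import Cfsg.Prelude.Def_GeometricClasses
import Cfsg.Prelude.Def_ClassicalGeometry

/-!
# K-SpT-Z (keystone 598013, architect helper86, S5980 pack): a scalar square of a symplectic matrix
is `± 1`.
-/

set_option autoImplicit false

namespace Cfsg.Agent.Lib.Helper04.SpT

open Matrix

variable {F : Type*} [Field F]

theorem sq_scalar_of_mem_spGL (d : ℕ) (hd : 1 ≤ d) (x : GL (Fin d ⊕ Fin d) F) (hx : x ∈ Cfsg.spGL d F) (z : F)
    (hz : ((x ^ 2 : GL (Fin d ⊕ Fin d) F) : Matrix (Fin d ⊕ Fin d) (Fin d ⊕ Fin d) F) =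
      z • (1 : Matrix (Fin d ⊕ Fin d) (Fin d ⊕ Fin d) F)) : z = 1 ∨ z = -1 := by
  have hx2 : x ^ 2 ∈ Cfsg.spGL d F := Subgroup.pow_mem _ hx 2
  let i0 : Fin d := ⟨0, hd⟩
  set u : Fin d ⊕ Fin d → F := Pi.single (Sum.inl i0) 1 with hu
  set v : Fin d ⊕ Fin d → F := Pi.single (Sum.inr i0) 1 with hv
  have h1 := hx2 u v
  change Cfsg.sympForm d F (((x ^ 2 : GL (Fin d ⊕ Fin d) F) : Matrix _ _ F) *ᵥ u)
    (((x ^ 2 : GL (Fin d ⊕ Fin d) F) : Matrix _ _ F) *ᵥ v) = Cfsg.sympForm d F u v at h1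
  rw [hz, Matrix.smul_mulVec, Matrix.smul_mulVec, Matrix.one_mulVec, Matrix.one_mulVec] at h1
  have h2 : Cfsg.sympForm d F u v = -1 := by
    unfold Cfsg.sympForm
    rw [hu, hv, Matrix.mulVec_single_one, single_one_dotProduct]
    simp [Matrix.J, Matrix.fromBlocks]
  have h3 : Cfsg.sympForm d F (z • u) (z • v) = z * z * Cfsg.sympForm d F u v := by
    unfold Cfsg.sympForm
    rw [Matrix.mulVec_smul, smul_dotProduct, dotProduct_smul, smul_eq_mul, smul_eq_mul, mul_assoc]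
  rw [h3, h2] at h1
  have h4 : (z - 1) * (z + 1) = 0 := by linear_combination -h1
  rcases mul_eq_zero.mp h4 with h | h
  · left
    exact sub_eq_zero.mp h
  · right
    exact eq_neg_of_add_eq_zero_left h

end Cfsg.Agent.Lib.Helper04.SpT
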