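import Mathlib
import Cfsg.Agent.Lib.Helper32.Class2
import Cfsg.Agent.Lib.Helper03.PGroupFrattini
import Cfsg.Agent.Lib.Helper72.Frattini

set_option autoImplicit false

namespace Cfsg.Agent.Lib.Helper04

open scoped commutatorElement

section
variable {G : Type*} [Group G]

/-- a normal subgroup fixed pointwise by `A` is central when `G = [G, A]` -/
theorem le_center_of_fixed_normal (A : Subgroup (MulAut G))
    (hGA : Subgroup.closure {x : G | ∃ g : G, ∃ a ∈ A, x = g⁻¹ * a g} = ⊤)
    (H : Subgroup G) [H.Normal] (hfix : ∀ a ∈ A, ∀ h ∈ H, a h = h) :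
    H ≤ Subgroup.center G := by
  intro h hh
  have hle : Subgroup.closure {x : G | ∃ g : G, ∃ a ∈ A, x = g⁻¹ * a g} ≤
      Subgroup.centralizer {h} := by
    rw [Subgroup.closure_le]
    rintro x ⟨g, a, ha, rfl⟩
    rw [SetLike.mem_coe, Subgroup.mem_centralizer_iff]
    intro y hy
    rw [Set.mem_singleton_iff] at hy
    subst hy
    have h1 : a (g * y * g⁻¹) = g * y * g⁻¹ :=
      hfix a ha _ (Subgroup.Normal.conj_mem inferInstance y hh g)
    rw [map_mul, map_mul, map_inv, hfix a ha y hh] at h1
    calc y * (g⁻¹ * a g) = g⁻¹ * (g * y * g⁻¹) * a g := by group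
      _ = g⁻¹ * (a g * y * (a g)⁻¹) * a g := by rw [h1]
      _ = g⁻¹ * a g * y := by group
  rw [hGA] at hle
  rw [Subgroup.mem_center_iff]
  intro g
  have := hle (Subgroup.mem_top g)
  rw [Subgroup.mem_centralizer_iff] at this
  exact (this h rfl).symm

/-- the closure of a pairwise commuting set is commutative -/
theorem isMulCommutative_closure_of_comm (S : Set G) (h : ∀ a ∈ S, ∀ b ∈ S, a * b = b * a) :
    IsMulCommutative (Subgroup.closure S) := by
  have h1 : ∀ s ∈ S, Subgroup.closure S ≤ Subgroup.centralizer {s} := by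
    intro s hs
    rw [Subgroup.closure_le]
    intro t ht
    rw [SetLike.mem_coe, Subgroup.mem_centralizer_iff]
    intro y hy
    rw [Set.mem_singleton_iff] at hy
    subst hy
    exact h y hs t ht
  have h2 : Subgroup.closure S ≤ Subgroup.centralizer (Subgroup.closure S : Set G) := by
    rw [Subgroup.closure_le]
    intro s hs
    rw [SetLike.mem_coe, Subgroup.mem_centralizer_iff]
    intro y hy
    have := h1 s hs hy
    rw [Subgroup.mem_centralizer_iff] at this
    exact (this s rfl).symm
  refine ⟨⟨fun a b => Subtype.ext ?_⟩⟩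
  have := h2 b.2
  rw [Subgroup.mem_centralizer_iff] at this
  exact this a a.2

/-- the closure of a set stable under all automorphisms is characteristic -/
theorem characteristic_closure_of_invariant (S : Set G) (h : ∀ ϕ : G ≃* G, ∀ s ∈ S, ϕ s ∈ S) :
    (Subgroup.closure S).Characteristic := by
  rw [Subgroup.characteristic_iff_map_le]
  intro ϕ
  rw [MonoidHom.map_closure, Subgroup.closure_le]
  rintro _ ⟨s, hs, rfl⟩
  exact Subgroup.subset_closure (h ϕ s hs)

/-- class at most two when characteristic abelian subgroups are central -/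
theorem commutator_le_center_of_char_abelian_central [Group.IsNilpotent G]
    (hcen : ∀ H : Subgroup G, H.Characteristic → IsMulCommutative H → H ≤ Subgroup.center G) :
    commutator G ≤ Subgroup.center G := by
  have step : ∀ m : ℕ, (⊤ : Subgroup G).lowerCentralSeries (m + 3) = ⊥ →
      (⊤ : Subgroup G).lowerCentralSeries (m + 2) = ⊥ := by
    intro m hm
    set N := (⊤ : Subgroup G).lowerCentralSeries (m + 1) with hN
    have hNle : N ≤ commutator G := by
      rw [← Subgroup.top_lowerCentralSeries_one]
      exact Subgroup.lowerCentralSeries_antitone (S := (⊤ : Subgroup G)) (by omega : 1 ≤ m + 1)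
    have h1 : ⁅⁅N, (⊤ : Subgroup G)⁆, (⊤ : Subgroup G)⁆ = ⊥ := by
      rw [← hm]
      rfl
    have h2 : ⁅⁅(⊤ : Subgroup G), N⁆, (⊤ : Subgroup G)⁆ = ⊥ := by
      rw [Subgroup.commutator_comm ⊤ N]; exact h1
    have h3 : ⁅⁅(⊤ : Subgroup G), (⊤ : Subgroup G)⁆, N⁆ = ⊥ :=
      Subgroup.commutator_commutator_eq_bot_of_rotate h2 h1
    have h4 : commutator G ≤ Subgroup.centralizer (N : Set G) := by
      rw [← Subgroup.commutator_eq_bot_iff_le_centralizer]
      exact h3
    have hNc : IsMulCommutative N := by
      refine ⟨⟨fun a b => Subtype.ext ?_⟩⟩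
      have := h4 (hNle b.2)
      rw [Subgroup.mem_centralizer_iff] at this
      exact this a a.2
    have hNchar : N.Characteristic := by rw [hN]; infer_instance
    have hNcen := hcen N hNchar hNc
    have : (⊤ : Subgroup G).lowerCentralSeries (m + 2) = ⁅N, (⊤ : Subgroup G)⁆ := rfl
    rw [this, Subgroup.commutator_top_right_eq_bot_iff_le_center]
    exact hNcen
  have down : ∀ j : ℕ, (⊤ : Subgroup G).lowerCentralSeries (j + 2) = ⊥ →
      (⊤ : Subgroup G).lowerCentralSeries 2 = ⊥ := by
    intro j
    induction j with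
    | zero => exact fun h => h
    | succ j ih => exact fun h => ih (step j h)
  have hL2 : (⊤ : Subgroup G).lowerCentralSeries 2 = ⊥ := by
    have hc := Subgroup.lowerCentralSeries_nilpotencyClass (G := G)
    rcases Nat.lt_or_ge (Group.nilpotencyClass G) 2 with hlt | hge
    · rw [eq_bot_iff, ← hc]
      exact Subgroup.lowerCentralSeries_antitone (S := (⊤ : Subgroup G))
        (by omega : Group.nilpotencyClass G ≤ 2)
    · obtain ⟨j, hj⟩ : ∃ j, Group.nilpotencyClass G = j + 2 := ⟨_, (Nat.sub_add_cancel hge).symm⟩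
      rw [hj] at hc
      exact down j hc
  have : (⊤ : Subgroup G).lowerCentralSeries 2 = ⁅commutator G, (⊤ : Subgroup G)⁆ := by
    rw [← Subgroup.top_lowerCentralSeries_one]; rfl
  rw [this, Subgroup.commutator_top_right_eq_bot_iff_le_center] at hL2
  exact hL2

end

section norm
variable {G : Type*} [Group G] [Finite G]

/-- norm map argument: an element fixed by the coprime group `A` lies in `G'` when `G = [G, A]` -/
theorem mem_commutator_of_fixed {p : ℕ} [Fact p.Prime] (hG : IsPGroup p G)
    (A : Subgroup (MulAut G)) (hA : Nat.Coprime (Nat.card A) p)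
    (hGA : Subgroup.closure {x : G | ∃ g : G, ∃ a ∈ A, x = g⁻¹ * a g} = ⊤)
    (z : G) (hz : ∀ a ∈ A, a z = z) : z ∈ commutator G := by
  classical
  have : Fintype A := Fintype.ofFinite A
  let ν : G →* Abelianization G :=
    ∏ a : A, (Abelianization.of).comp ((a : MulAut G).toMonoidHom)
  have hν : ∀ g, ν g = ∏ a : A, Abelianization.of ((a : MulAut G) g) := by
    intro g
    simp [ν]
  have hinv : ∀ (a₀ : A) g, ν ((a₀ : MulAut G) g) = ν g := by
    intro a₀ g
    rw [hν, hν]
    exact Fintype.prod_equiv (Equiv.mulRight a₀) _ _ (fun a => by simp [MulAut.mul_apply])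
  have hker : ∀ x, ν x = 1 := by
    have hle : Subgroup.closure {x : G | ∃ g : G, ∃ a ∈ A, x = g⁻¹ * a g} ≤ ν.ker := by
      rw [Subgroup.closure_le]
      rintro x ⟨g, a, ha, rfl⟩
      rw [SetLike.mem_coe, MonoidHom.mem_ker, map_mul, map_inv, hinv ⟨a, ha⟩ g, inv_mul_cancel]
    rw [hGA] at hle
    intro x
    exact hle (Subgroup.mem_top x)
  have h1 : (Abelianization.of z) ^ Nat.card A = 1 := by
    rw [← hker z, hν]
    rw [Finset.prod_congr rfl (fun a _ => by rw [hz a a.2])]
    rw [Finset.prod_const, Finset.card_univ, Nat.card_eq_fintype_card]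
  obtain ⟨k, hk⟩ := hG z
  have h2 : (Abelianization.of z) ^ (p ^ k) = 1 := by rw [← map_pow, hk, map_one]
  have h3 : Abelianization.of z = 1 := by
    have hcop : Nat.Coprime (Nat.card A) (p ^ k) := hA.pow_right k
    have := pow_gcd_eq_one.mpr ⟨h1, h2⟩
    rwa [hcop, pow_one] at this
  rw [← Abelianization.ker_of, MonoidHom.mem_ker]
  exact h3

end norm

section expo
variable {G : Type*} [Group G] [Finite G]

theorem pow_mem_center_of_char_abelian_central {p : ℕ} [Fact p.Prime] (hG : IsPGroup p G)
    (hcen : ∀ H : Subgroup G, H.Characteristic → IsMulCommutative H → H ≤ Subgroup.center G)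
    (hcl : commutator G ≤ Subgroup.center G) : ∀ x : G, x ^ p ∈ Subgroup.center G := by
  have hcc : ∀ u v : G, ⁅u, v⁆ ∈ Subgroup.center G := fun u v =>
    hcl (Subgroup.commutator_mem_commutator (Subgroup.mem_top u) (Subgroup.mem_top v))
  have hcomm_all : ∀ u v w : G, Commute ⁅u, v⁆ w := fun u v w =>
    (Subgroup.mem_center_iff.mp (hcc u v) w).symm
  have step : ∀ e : ℕ, (∀ x : G, x ^ p ^ (e + 2) ∈ Subgroup.center G) →
      ∀ x : G, x ^ p ^ (e + 1) ∈ Subgroup.center G := by
    intro e hP
    set n := p ^ (e + 1) with hn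
    have hcomm : ∀ x y : G, x ^ n * y ^ n = y ^ n * x ^ n := by
      intro x y
      have h1 : ⁅x ^ n, y ^ n⁆ = ⁅x, y ^ n⁆ ^ n :=
        Helper32.commutator_pow_left_of_central (y ^ n) x (hcomm_all _ _ _) n
      have h2 : ⁅y ^ n, x⁆ = ⁅y, x⁆ ^ n :=
        Helper32.commutator_pow_left_of_central x y (hcomm_all _ _ _) n
      have h3 : ⁅x, y ^ n⁆ = (⁅y, x⁆ ^ n)⁻¹ := by rw [← h2, commutatorElement_inv]
      have h4 : ⁅y, x⁆ ^ (n * n) = ⁅y ^ (n * n), x⁆ :=
        (Helper32.commutator_pow_left_of_central x y (hcomm_all _ _ _) (n * n)).symm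
      have h5 : y ^ (n * n) ∈ Subgroup.center G := by
        have : n * n = p ^ (e + 2) * p ^ e := by
          rw [hn, ← pow_add, ← pow_add]; congr 1; omega
        rw [this, pow_mul]
        exact Subgroup.pow_mem _ (hP y) _
      have h6 : ⁅y ^ (n * n), x⁆ = 1 := by
        rw [commutatorElement_eq_one_iff_mul_comm]
        exact (Subgroup.mem_center_iff.mp h5 x).symm
      have : ⁅x ^ n, y ^ n⁆ = 1 := by
        rw [h1, h3, inv_pow, ← pow_mul, h4, h6, inv_one]
      exact commutatorElement_eq_one_iff_mul_comm.mp this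
    set S : Set G := {w | ∃ x : G, w = x ^ n} with hS
    have hSc : IsMulCommutative (Subgroup.closure S) :=
      isMulCommutative_closure_of_comm S (by
        rintro _ ⟨x, rfl⟩ _ ⟨y, rfl⟩
        exact hcomm x y)
    have hSchar : (Subgroup.closure S).Characteristic :=
      characteristic_closure_of_invariant S (by
        rintro ϕ _ ⟨x, rfl⟩
        exact ⟨ϕ x, map_pow ϕ x n⟩)
    intro x
    exact hcen _ hSchar hSc (Subgroup.subset_closure ⟨x, rfl⟩)
  obtain ⟨k, hk⟩ := hG.exists_card_eq
  have htop : ∀ x : G, x ^ p ^ (k + 1) ∈ Subgroup.center G := by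
    intro x
    rw [pow_succ, pow_mul, ← hk, pow_card_eq_one', one_pow]
    exact Subgroup.one_mem _
  have down : ∀ j : ℕ, (∀ x : G, x ^ p ^ (j + 1) ∈ Subgroup.center G) →
      ∀ x : G, x ^ p ^ 1 ∈ Subgroup.center G := by
    intro j
    induction j with
    | zero => exact fun h => h
    | succ j ih => exact fun h => ih (step j h)
  intro x
  have := down k htop x
  rwa [pow_one] at this

end expo

section main
variable {G : Type*} [Group G] [Finite G] {p : ℕ} [Fact p.Prime]

theorem special_of_coprime_action (hG : IsPGroup p G) (A : Subgroup (MulAut G))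
    (hA : Nat.Coprime (Nat.card A) p)
    (hGA : Subgroup.closure {x : G | ∃ g : G, ∃ a ∈ A, x = g⁻¹ * a g} = ⊤)
    (hchar : ∀ H : Subgroup G, H.Characteristic → IsMulCommutative H →
      ∀ a ∈ A, ∀ h ∈ H, a h = h) :
    (frattini G = Subgroup.center G ∧ commutator G = Subgroup.center G) ∧
      (∀ g : G, (g ∈ Subgroup.center G ↔ ∀ a ∈ A, a g = g)) := by
  have : Group.IsNilpotent G := hG.isNilpotent
  have hcen : ∀ H : Subgroup G, H.Characteristic → IsMulCommutative H →
      H ≤ Subgroup.center G := by
    intro H hHc hHa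
    exact le_center_of_fixed_normal A hGA H (hchar H hHc hHa)
  have hcl := commutator_le_center_of_char_abelian_central hcen
  have hZfix : ∀ a ∈ A, ∀ z ∈ Subgroup.center G, a z = z :=
    hchar (Subgroup.center G) inferInstance inferInstance
  have hfixG' : ∀ z : G, (∀ a ∈ A, a z = z) → z ∈ commutator G :=
    fun z hz => mem_commutator_of_fixed hG A hA hGA z hz
  have hZG' : Subgroup.center G ≤ commutator G := fun z hz => hfixG' z (fun a ha => hZfix a ha z hz)
  have hcomm_eq : commutator G = Subgroup.center G := le_antisymm hcl hZG'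
  have hpow := pow_mem_center_of_char_abelian_central hG hcen hcl
  refine ⟨⟨?_, hcomm_eq⟩, ?_⟩
  · apply le_antisymm
    · apply Helper72.frattini_le_of_elementary_quotient p (Subgroup.center G) hpow
      intro x y
      exact hcl (Subgroup.commutator_mem_commutator (Subgroup.mem_top x) (Subgroup.mem_top y))
    · rw [← hcomm_eq]
      exact Helper03.commutator_le_frattini_of_isPGroup hG
  · intro g
    constructor
    · intro hg a ha
      exact hZfix a ha g hg
    · intro hg
      exact hcl (hfixG' g hg)

end main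

end Cfsg.Agent.Lib.Helper04
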