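import Cfsg.Agent.Lib.Helper04.StOpF1LCore
import Cfsg.Agent.Lib.Helper59.StOpR0a
import Cfsg.Agent.Lib.Helper56.StOpR0c

/-!
# K-StOp-F1L (keystone 254808, pack K-StOp of S2548): `decomp_cross`, exact spec signature
-/

set_option autoImplicit false
set_option linter.unusedSectionVars false
set_option linter.unusedVariables false

namespace Cfsg.Agent.Lib.Helper04.StOp

open Cfsg Cfsg.Agent.Lib.Helper49.StOp

variable {m : ℕ} {F : Type*} [Field F]

/-- **LEAF F1L (254808).** -/
theorem decomp_cross (hm : 2 ≤ m) (b : OG m F) (hb : b ∈ Bsub m F) :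
    ∃ b' ∈ Bsub m F, ∃ t : F, b = b' * xP m F (prevF hm) (lastF (by omega)) t ∧
      sCross m F (prevF hm) (lastF (by omega)) * b' *
        (sCross m F (prevF hm) (lastF (by omega)))⁻¹ ∈ Bsub m F :=
  decomp_cross_of hm
    (fun t => Cfsg.Agent.Lib.Helper56.StOp.mat_xP (prevF hm) (lastF (by omega)) (prevF_ne_lastF hm) t)
    (Cfsg.Agent.Lib.Helper59.StOp.mat_sCross (prevF hm) (lastF (by omega))) b hb

end Cfsg.Agent.Lib.Helper04.StOp
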