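import Cfsg.Agent.Lib.Helper49.StOpDefs

/-!
# K-StOp-F1L (keystone 254808, pack K-StOp of S2548): `decomp_cross`, core

`B = (B ∩ s B s⁻¹) X_α` for the last simple root `ε_{m-2} + ε_{m-1}` of type `D_m`.  The matrices of
`xP` and of `sCross` (leaves R0c, R0a of the pack) are hypotheses here.
-/

set_option autoImplicit false
set_option linter.unusedSectionVars false
set_option linter.unusedVariables false

namespace Cfsg.Agent.Lib.Helper04.StOp

open Cfsg Cfsg.Agent.Lib.Helper49.StOp Matrix

variable {m : ℕ} {F : Type*} [Field F]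

/-- diagonal entries of a triangular isometry are nonzero -/
theorem f1l_diag_ne_zero (b : OG m F) (hb : b ∈ Bsub m F) (a : OI m) : mat b a a ≠ 0 := by
  have hbi : b⁻¹ ∈ Bsub m F := (Bsub m F).inv_mem hb
  have h1 : (mat b * mat b⁻¹) a a = 1 := by
    rw [mat_mul_mat_inv]
    exact Matrix.one_apply_eq a
  have h2 : (mat b * mat b⁻¹) a a = mat b a a * mat b⁻¹ a a := by
    rw [Matrix.mul_apply]
    apply Finset.sum_eq_single a
    · intro y _ hy
      rcases lt_or_gt_of_ne (fun h => hy (pos_injective m h)) with h | h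
      · rw [(mem_Bsub_iff b).1 hb a y h, zero_mul]
      · rw [(mem_Bsub_iff _).1 hbi y a h, mul_zero]
    · intro h
      exact absurd (Finset.mem_univ a) h
  intro h0
  rw [h2, h0, zero_mul] at h1
  exact zero_ne_one h1

theorem f1l_xPMat_mul (i j : Fin m) (s t : F) :
    xPMat m F i j s * xPMat m F i j t = xPMat m F i j (s + t) := by
  unfold xPMat
  have h1 : (Matrix.single (eI i) (fI j) s : Matrix (OI m) (OI m) F) *
      Matrix.single (eI i) (fI j) t = 0 :=
    Matrix.single_mul_single_of_ne s (eI i) (fI j) (eI i) (by simp) t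
  have h2 : (Matrix.single (eI i) (fI j) s : Matrix (OI m) (OI m) F) *
      Matrix.single (eI j) (fI i) t = 0 :=
    Matrix.single_mul_single_of_ne s (eI i) (fI j) (eI j) (by simp) t
  have h3 : (Matrix.single (eI j) (fI i) s : Matrix (OI m) (OI m) F) *
      Matrix.single (eI i) (fI j) t = 0 :=
    Matrix.single_mul_single_of_ne s (eI j) (fI i) (eI i) (by simp) t
  have h4 : (Matrix.single (eI j) (fI i) s : Matrix (OI m) (OI m) F) *
      Matrix.single (eI j) (fI i) t = 0 :=
    Matrix.single_mul_single_of_ne s (eI j) (fI i) (eI j) (by simp) t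
  rw [Matrix.single_add, Matrix.single_add]
  simp only [mul_add, mul_sub, add_mul, sub_mul, mul_one, one_mul, h1, h2, h3, h4]
  abel

theorem f1l_xPMat_zero (i j : Fin m) : xPMat m F i j 0 = 1 := by
  unfold xPMat
  simp

/-- entries of `M * xPMat i j t` -/
theorem f1l_mul_xPMat (M : Matrix (OI m) (OI m) F) (i j : Fin m) (t : F) (x y : OI m) :
    (M * xPMat m F i j t) x y =
      M x y + (if y = fI j then M x (eI i) * t else 0) - (if y = fI i then M x (eI j) * t else 0) := by
  unfold xPMat
  rw [Matrix.mul_sub, Matrix.mul_add, Matrix.mul_one, Matrix.sub_apply, Matrix.add_apply]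
  congr 1
  · congr 1
    split_ifs with h
    · rw [h, Matrix.mul_single_apply_same]
    · rw [Matrix.mul_single_apply_of_ne _ _ _ _ _ h]
  · split_ifs with h
    · rw [h, Matrix.mul_single_apply_same]
    · rw [Matrix.mul_single_apply_of_ne _ _ _ _ _ h]

theorem f1l_crossE_apply (p l : Fin m) (hpl : p ≠ l) (a : OI m) :
    crossE m p l a = if a = eI p then fI l else if a = fI l then eI p else
      if a = eI l then fI p else if a = fI p then eI l else a := by
  unfold crossE
  rw [Equiv.Perm.mul_apply]
  have hlp : l ≠ p := Ne.symm hpl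
  rcases a with i | i
  · by_cases h1 : i = p
    · subst h1
      simp [Equiv.swap_apply_def, hpl]
    · by_cases h2 : i = l
      · subst h2
        simp [Equiv.swap_apply_def, hpl, hlp]
      · simp [Equiv.swap_apply_def, h1, h2]
  · by_cases h1 : i = p
    · subst h1
      simp [Equiv.swap_apply_def, hpl, hlp]
    · by_cases h2 : i = l
      · subst h2
        simp [Equiv.swap_apply_def, hlp]
      · simp [Equiv.swap_apply_def, h1, h2]

/-- the action of `crossE (m-2) (m-1)` on positions -/
def f1lPosPi (m x : ℕ) : ℕ :=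
  if x = m - 2 then m else if x = m then m - 2 else if x = m - 1 then m + 1 else
    if x = m + 1 then m - 1 else x

section positions

variable (hm : 2 ≤ m)

theorem f1l_pos_ep : pos m (eI (prevF hm)) = m - 2 := rfl

theorem f1l_pos_el : pos m (eI (lastF (by omega : 0 < m))) = m - 1 := rfl

theorem f1l_pos_fl : pos m (fI (lastF (by omega : 0 < m))) = m := by
  show 2 * m - 1 - (m - 1) = m
  omega

theorem f1l_pos_fp : pos m (fI (prevF hm)) = m + 1 := by
  show 2 * m - 1 - (m - 2) = m + 1
  omega

theorem f1l_pos_crossE (a : OI m) :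
    pos m (crossE m (prevF hm) (lastF (by omega : 0 < m)) a) = f1lPosPi m (pos m a) := by
  rw [f1l_crossE_apply _ _ (prevF_ne_lastF hm)]
  have h1 := f1l_pos_ep hm
  have h2 := f1l_pos_el hm
  have h3 := f1l_pos_fl hm
  have h4 := f1l_pos_fp hm
  unfold f1lPosPi
  by_cases c1 : a = eI (prevF hm)
  · rw [if_pos c1, c1, h1, if_pos rfl, h3]
  · rw [if_neg c1]
    have n1 : pos m a ≠ m - 2 := fun h => c1 (pos_injective m (h.trans h1.symm))
    by_cases c2 : a = fI (lastF (by omega : 0 < m))
    · rw [if_pos c2, c2, h3, h1]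
      have : m ≠ m - 2 := by omega
      rw [if_neg this, if_pos rfl]
    · rw [if_neg c2]
      have n2 : pos m a ≠ m := fun h => c2 (pos_injective m (h.trans h3.symm))
      by_cases c3 : a = eI (lastF (by omega : 0 < m))
      · rw [if_pos c3, c3, h2, h4]
        have e1 : m - 1 ≠ m - 2 := by omega
        have e2 : m - 1 ≠ m := by omega
        rw [if_neg e1, if_neg e2, if_pos rfl]
      · rw [if_neg c3]
        have n3 : pos m a ≠ m - 1 := fun h => c3 (pos_injective m (h.trans h2.symm))
        by_cases c4 : a = fI (prevF hm)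
        · rw [if_pos c4, c4, h4, h2]
          have e1 : m + 1 ≠ m - 2 := by omega
          have e2 : m + 1 ≠ m := by omega
          have e3 : m + 1 ≠ m - 1 := by omega
          rw [if_neg e1, if_neg e2, if_neg e3, if_pos rfl]
        · rw [if_neg c4]
          have n4 : pos m a ≠ m + 1 := fun h => c4 (pos_injective m (h.trans h4.symm))
          rw [if_neg n1, if_neg n2, if_neg n3, if_neg n4]

end positions

/-- `Q` vanishes on every column of an isometry -/
theorem f1l_quad_col (g : OG m F) (c : OI m) :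
    ∑ i : Fin m, mat g (eI i) c * mat g (fI i) c = 0 := by
  have h := quad_mulVec g (Pi.single c 1)
  rw [Matrix.mulVec_single_one] at h
  have h0 : Cfsg.quadFormPlus m F (Pi.single c 1) = 0 := by
    unfold Cfsg.quadFormPlus
    apply Finset.sum_eq_zero
    intro i _
    by_cases hc : c = Sum.inl i
    · have h1 : (Pi.single c (1 : F) : OI m → F) (Sum.inr i) = 0 := by
        rw [hc]
        exact Pi.single_eq_of_ne (by simp) _
      rw [h1, mul_zero]
    · have h1 : (Pi.single c (1 : F) : OI m → F) (Sum.inl i) = 0 :=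
        Pi.single_eq_of_ne (Ne.symm hc) _
      rw [h1, zero_mul]
  rw [h0] at h
  exact h

/-- the polar form vanishes on the columns `f_j`, `f_k` of an isometry -/
theorem f1l_polar_col (g : OG m F) (j k : Fin m) :
    ∑ i : Fin m, (mat g (eI i) (fI j) * mat g (fI i) (fI k) +
      mat g (eI i) (fI k) * mat g (fI i) (fI j)) = 0 := by
  have h := quad_mulVec g (Pi.single (fI j) 1 + Pi.single (fI k) 1)
  rw [Matrix.mulVec_add, Matrix.mulVec_single_one, Matrix.mulVec_single_one] at h
  have h0 : Cfsg.quadFormPlus m F (Pi.single (fI j) 1 + Pi.single (fI k) 1) = 0 := by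
    unfold Cfsg.quadFormPlus
    apply Finset.sum_eq_zero
    intro i _
    have h1 : (Pi.single (fI j) (1 : F) + Pi.single (fI k) 1 : OI m → F) (Sum.inl i) = 0 := by
      simp
    rw [h1, zero_mul]
  rw [h0] at h
  have h1 := f1l_quad_col g (fI j)
  have h2 := f1l_quad_col g (fI k)
  have h3 : Cfsg.quadFormPlus m F ((mat g).col (fI j) + (mat g).col (fI k)) =
      (∑ i : Fin m, mat g (eI i) (fI j) * mat g (fI i) (fI j)) +
      (∑ i : Fin m, mat g (eI i) (fI k) * mat g (fI i) (fI k)) +
      ∑ i : Fin m, (mat g (eI i) (fI j) * mat g (fI i) (fI k) +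
        mat g (eI i) (fI k) * mat g (fI i) (fI j)) := by
    unfold Cfsg.quadFormPlus
    simp only [Pi.add_apply, Matrix.col_apply]
    rw [← Finset.sum_add_distrib, ← Finset.sum_add_distrib]
    apply Finset.sum_congr rfl
    intro i _
    ring
  rw [h3, h1, h2, zero_add, zero_add] at h
  exact h

section main

variable (hm : 2 ≤ m)

/-- the three other entries of the `4 × 4` block vanish as soon as `(e_p, f_l)` does -/
theorem f1l_entries (g : OG m F) (hg : g ∈ Bsub m F)
    (z1 : mat g (eI (prevF hm)) (fI (lastF (by omega : 0 < m))) = 0) :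
    mat g (eI (lastF (by omega : 0 < m))) (fI (lastF (by omega : 0 < m))) = 0 ∧
      mat g (eI (lastF (by omega : 0 < m))) (fI (prevF hm)) = 0 ∧
      mat g (eI (prevF hm)) (fI (prevF hm)) = 0 := by
  have hU := (mem_Bsub_iff g).1 hg
  -- upper triangular facts
  have u1 : ∀ i : Fin m, i ≠ lastF (by omega : 0 < m) →
      mat g (fI i) (fI (lastF (by omega : 0 < m))) = 0 := by
    intro i hi
    apply hU
    have hiv : i.val ≠ m - 1 := fun h => hi (Fin.ext h)
    have := i.2
    show 2 * m - 1 - (m - 1) < 2 * m - 1 - i.val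
    omega
  have u2 : ∀ i : Fin m, i ≠ lastF (by omega : 0 < m) → i ≠ prevF hm →
      mat g (fI i) (fI (prevF hm)) = 0 := by
    intro i hi hi'
    apply hU
    have hiv : i.val ≠ m - 1 := fun h => hi (Fin.ext h)
    have hiv' : i.val ≠ m - 2 := fun h => hi' (Fin.ext h)
    have := i.2
    show 2 * m - 1 - (m - 2) < 2 * m - 1 - i.val
    omega
  have hpl := prevF_ne_lastF hm
  -- R3
  have z2 : mat g (eI (lastF (by omega : 0 < m))) (fI (lastF (by omega : 0 < m))) = 0 := by
    have h := f1l_quad_col g (fI (lastF (by omega : 0 < m)))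
    rw [Finset.sum_eq_single (lastF (by omega : 0 < m))] at h
    · exact (mul_eq_zero.mp h).resolve_right (f1l_diag_ne_zero g hg _)
    · intro i _ hi
      rw [u1 i hi, mul_zero]
    · intro h'
      exact absurd (Finset.mem_univ _) h'
  have z3 : mat g (eI (lastF (by omega : 0 < m))) (fI (prevF hm)) = 0 := by
    have h := f1l_polar_col g (lastF (by omega : 0 < m)) (prevF hm)
    rw [Finset.sum_eq_single (lastF (by omega : 0 < m))] at h
    · rw [z2, zero_mul, zero_add] at h
      exact (mul_eq_zero.mp h).resolve_right (f1l_diag_ne_zero g hg _)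
    · intro i _ hi
      rw [u1 i hi, mul_zero, add_zero]
      by_cases hip : i = prevF hm
      · rw [hip, z1, zero_mul]
      · rw [u2 i hi hip, mul_zero]
    · intro h'
      exact absurd (Finset.mem_univ _) h'
  have z4 : mat g (eI (prevF hm)) (fI (prevF hm)) = 0 := by
    have h := f1l_quad_col g (fI (prevF hm))
    rw [Finset.sum_eq_single (prevF hm)] at h
    · exact (mul_eq_zero.mp h).resolve_right (f1l_diag_ne_zero g hg _)
    · intro i _ hi
      by_cases hil : i = lastF (by omega : 0 < m)
      · rw [hil, z3, zero_mul]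
      · rw [u2 i hil hi, mul_zero]
    · intro h'
      exact absurd (Finset.mem_univ _) h'
  exact ⟨z2, z3, z4⟩

/-- conjugation by `sCross (m-2) (m-1)` keeps an upper triangular isometry with vanishing `4 × 4` block
upper triangular -/
theorem f1l_conj_mem
    (hs : mat (sCross m F (prevF hm) (lastF (by omega : 0 < m))) =
      sCrossMat m F (prevF hm) (lastF (by omega : 0 < m)))
    (g : OG m F) (hg : g ∈ Bsub m F)
    (z1 : mat g (eI (prevF hm)) (fI (lastF (by omega : 0 < m))) = 0)
    (z2 : mat g (eI (lastF (by omega : 0 < m))) (fI (lastF (by omega : 0 < m))) = 0)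
    (z3 : mat g (eI (lastF (by omega : 0 < m))) (fI (prevF hm)) = 0)
    (z4 : mat g (eI (prevF hm)) (fI (prevF hm)) = 0) :
    sCross m F (prevF hm) (lastF (by omega : 0 < m)) * g *
      (sCross m F (prevF hm) (lastF (by omega : 0 < m)))⁻¹ ∈ Bsub m F := by
  set s := sCross m F (prevF hm) (lastF (by omega : 0 < m)) with hsdef
  set σ : Equiv.Perm (OI m) := crossE m (prevF hm) (lastF (by omega : 0 < m)) with hσ
  have hgs : (s * g * s⁻¹) * s = s * g := by group
  have hmat : mat (s * g * s⁻¹) * σ.toPEquiv.toMatrix = σ.toPEquiv.toMatrix * mat g := by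
    have h := congrArg mat hgs
    rw [mat_mul, mat_mul s g, hs] at h
    exact h
  rw [PEquiv.mul_toMatrix_toPEquiv, PEquiv.toMatrix_toPEquiv_mul] at hmat
  have hentry : ∀ a c : OI m, mat (s * g * s⁻¹) a c = mat g (σ a) (σ c) := by
    intro a c
    have h := congrFun (congrFun hmat a) (σ c)
    simp only [Matrix.submatrix_apply, id_eq, Equiv.symm_apply_apply] at h
    exact h
  have hU := (mem_Bsub_iff g).1 hg
  rw [mem_Bsub_iff]
  intro a c hca
  rw [hentry]
  have hpa := f1l_pos_crossE hm a
  have hpc := f1l_pos_crossE hm c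
  have hla := pos_lt m a
  have hlc := pos_lt m c
  by_cases hlt : pos m (σ c) < pos m (σ a)
  · exact hU _ _ hlt
  · -- one of the four entries
    have h1 := f1l_pos_ep hm
    have h2 := f1l_pos_el hm
    have h3 := f1l_pos_fl hm
    have h4 := f1l_pos_fp hm
    have hkey : (pos m (σ a) = m - 2 ∨ pos m (σ a) = m - 1) ∧
        (pos m (σ c) = m ∨ pos m (σ c) = m + 1) := by
      rw [hσ] at hlt ⊢
      rw [hpa, hpc] at hlt ⊢
      unfold f1lPosPi at hlt ⊢
      split_ifs at hlt ⊢ <;> omega
    rcases hkey with ⟨ha | ha, hc | hc⟩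
    · rw [pos_injective m (ha.trans h1.symm), pos_injective m (hc.trans h3.symm)]
      exact z1
    · rw [pos_injective m (ha.trans h1.symm), pos_injective m (hc.trans h4.symm)]
      exact z4
    · rw [pos_injective m (ha.trans h2.symm), pos_injective m (hc.trans h3.symm)]
      exact z2
    · rw [pos_injective m (ha.trans h2.symm), pos_injective m (hc.trans h4.symm)]
      exact z3

/-- the root elements `xP p l t` are upper triangular -/
theorem f1l_xPMat_upper (t : F) (x y : OI m) (hxy : pos m y < pos m x) :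
    xPMat m F (prevF hm) (lastF (by omega : 0 < m)) t x y = 0 := by
  have h1 := f1l_pos_ep hm
  have h2 := f1l_pos_el hm
  have h3 := f1l_pos_fl hm
  have h4 := f1l_pos_fp hm
  unfold xPMat
  rw [Matrix.sub_apply, Matrix.add_apply, Matrix.single_apply, Matrix.single_apply]
  have hne : x ≠ y := by
    rintro rfl
    exact lt_irrefl _ hxy
  rw [Matrix.one_apply_ne hne, if_neg, if_neg]
  · simp
  · rintro ⟨h5, h6⟩
    rw [← h5, ← h6, h2, h4] at hxy
    omega
  · rintro ⟨h5, h6⟩
    rw [← h5, ← h6, h1, h3] at hxy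
    omega

/-- **LEAF F1L (254808)**, with the matrices of `xP` and `sCross` as hypotheses. -/
theorem decomp_cross_of
    (hxP : ∀ t : F, mat (xP m F (prevF hm) (lastF (by omega : 0 < m)) t) =
      xPMat m F (prevF hm) (lastF (by omega : 0 < m)) t)
    (hs : mat (sCross m F (prevF hm) (lastF (by omega : 0 < m))) =
      sCrossMat m F (prevF hm) (lastF (by omega : 0 < m)))
    (b : OG m F) (hb : b ∈ Bsub m F) :
    ∃ b' ∈ Bsub m F, ∃ t : F, b = b' * xP m F (prevF hm) (lastF (by omega : 0 < m)) t ∧
      sCross m F (prevF hm) (lastF (by omega : 0 < m)) * b' *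
        (sCross m F (prevF hm) (lastF (by omega : 0 < m)))⁻¹ ∈ Bsub m F := by
  have hd0 : mat b (eI (prevF hm)) (eI (prevF hm)) ≠ 0 := f1l_diag_ne_zero b hb _
  set t : F := mat b (eI (prevF hm)) (fI (lastF (by omega : 0 < m))) /
    mat b (eI (prevF hm)) (eI (prevF hm)) with ht
  have hinv : xP m F (prevF hm) (lastF (by omega : 0 < m)) (-t) *
      xP m F (prevF hm) (lastF (by omega : 0 < m)) t = 1 := by
    apply mat_injective
    rw [mat_mul, hxP, hxP, f1l_xPMat_mul, neg_add_cancel, f1l_xPMat_zero, mat_one]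
  have hxB : xP m F (prevF hm) (lastF (by omega : 0 < m)) (-t) ∈ Bsub m F := by
    rw [mem_Bsub_iff]
    intro x y hxy
    rw [hxP]
    exact f1l_xPMat_upper hm (-t) x y hxy
  have hmem : b * xP m F (prevF hm) (lastF (by omega : 0 < m)) (-t) ∈ Bsub m F :=
    (Bsub m F).mul_mem hb hxB
  refine ⟨b * xP m F (prevF hm) (lastF (by omega : 0 < m)) (-t), hmem, t, ?_, ?_⟩
  · rw [mul_assoc, hinv, mul_one]
  · have z1 : mat (b * xP m F (prevF hm) (lastF (by omega : 0 < m)) (-t))
        (eI (prevF hm)) (fI (lastF (by omega : 0 < m))) = 0 := by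
      rw [mat_mul, hxP, f1l_mul_xPMat, if_pos rfl, if_neg, ht]
      · field_simp
        ring
      · intro h
        have h' : lastF (by omega : 0 < m) = prevF hm := Sum.inr.inj h
        exact prevF_ne_lastF hm h'.symm
    obtain ⟨z2, z3, z4⟩ := f1l_entries hm _ hmem z1
    exact f1l_conj_mem hm hs _ hmem z1 z2 z3 z4

end main

end Cfsg.Agent.Lib.Helper04.StOp
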