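import Cfsg.Agent.Lib.Helper04.StSUF1L

/-!
# K-StSU-C5a0 (keystone 254619, pack K-StSU of S2546): `flagStab_half_subset_B`
(parallel hand by helper4).  Stabilising the first `n/2` steps of the flag implies upper triangular:
`FlagStab j` is the set of elements block triangular for `a ↦ min a j`, hence closed under
inverses, and `(g⁻¹) d a = (g (rev a) (rev d))^q`.
-/

set_option autoImplicit false
set_option linter.unusedSectionVars false
set_option linter.unusedVariables false

namespace Cfsg.Agent.Lib.Helper04.StSU

open Cfsg Cfsg.Agent.Lib.Helper49.StSU Matrix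

variable {n : ℕ} {F : Type*} [Field F] {q : ℕ}

/-- the inverse of a group element: `(g⁻¹) d a = (g (rev a) (rev d))^q` -/
theorem c5a0_inv_apply (ok : Ok n F q) (g : GJ n F q) (d a : Fin n) :
    mat g⁻¹ d a = (mat g (Fin.rev a) (Fin.rev d)) ^ q := by
  classical
  have hleft : (Matrix.of fun d a : Fin n => (mat g (Fin.rev a) (Fin.rev d)) ^ q) * mat g = 1 := by
    ext d c
    rw [Matrix.mul_apply]
    have h := f1l_gram_of_mem ok g c (Fin.rev d)
    unfold f1lGram at h
    simp only [Matrix.of_apply]
    rw [Finset.sum_congr rfl (fun a _ => mul_comm _ _), h, Matrix.one_apply]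
    by_cases hdc : d = c
    · rw [if_pos hdc, if_pos (by rw [hdc])]
    · rw [if_neg hdc, if_neg]
      intro h2
      exact hdc (Fin.rev_injective h2)
  rw [mat_inv, Matrix.inv_eq_left_inv hleft]
  rfl

/-- `FlagStab j` is closed under inverses -/
theorem c5a0_flagStab_inv (j : ℕ) (g : GJ n F q) (hg : g ∈ FlagStab n F q j) :
    g⁻¹ ∈ FlagStab n F q j := by
  have h1 : (mat g).BlockTriangular (fun a : Fin n => min a.val j) := by
    intro r c hrc
    have hrc' : min c.val j < min r.val j := hrc
    apply hg c r
    · omega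
    · rw [Fin.lt_def]; omega
  have h2 := blockTriangular_inv _ g h1
  intro a b haj hab
  apply h2
  show min a.val j < min b.val j
  rw [Fin.lt_def] at hab
  omega

/-- **LEAF C5a0 (254619).** -/
theorem flagStab_half_subset_B (ok : Ok n F q) :
    FlagStab n F q (n / 2) ⊆ (Bsub n F q : Set (GJ n F q)) := by
  intro g hg
  show g ∈ Bsub n F q
  rw [mem_Bsub_iff]
  intro b a hab
  -- `a < b`; to show `mat g b a = 0`
  by_cases ha : a.val < n / 2
  · exact hg a b ha hab
  · have hinv := c5a0_flagStab_inv (n / 2) g hg
    have h1 : mat g⁻¹ (Fin.rev a) (Fin.rev b) = 0 := by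
      apply hinv (Fin.rev b) (Fin.rev a)
      · rw [Fin.val_rev]
        rw [Fin.lt_def] at hab
        have := b.2
        omega
      · exact Fin.rev_lt_rev.mpr hab
    rw [c5a0_inv_apply ok, Fin.rev_rev, Fin.rev_rev] at h1
    exact pow_eq_zero_iff (fun hq => by
      have h0 := f1l_zero_pow ok
      rw [hq, pow_zero] at h0
      exact one_ne_zero h0) |>.mp h1

end Cfsg.Agent.Lib.Helper04.StSU
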