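import Cfsg.Agent.Lib.Helper49.StSUDefs

/-!
# K-StSU-F1L (keystone 254606, pack K-StSU of S2546): `decomp_long`

`B = (B ∩ s B s⁻¹) X_α` for the last simple root, both parities at once: `x` is the central block
(rows and columns `n/2 - 1 .. n - n/2`) of `b` with rows scaled to unit diagonal, extended by the
identity.
-/

set_option autoImplicit false
set_option linter.unusedSectionVars false
set_option linter.unusedVariables false

namespace Cfsg.Agent.Lib.Helper04.StSU

open Cfsg Cfsg.Agent.Lib.Helper49.StSU Matrix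

variable {n : ℕ} {F : Type*} [Field F] {q : ℕ}

theorem f1l_zero_pow (ok : Ok n F q) : (0 : F) ^ q = 0 := by
  have h := ok.frob_add 0 0
  rw [add_zero] at h
  exact left_eq_add.mp h

theorem f1l_frob_sum (ok : Ok n F q) {ι : Type*} (s : Finset ι) (f : ι → F) :
    (∑ i ∈ s, f i) ^ q = ∑ i ∈ s, (f i) ^ q := by
  classical
  induction s using Finset.induction_on with
  | empty => simp [f1l_zero_pow ok]
  | insert a s ha ih => rw [Finset.sum_insert ha, Finset.sum_insert ha, ok.frob_add, ih]

/-- the Gram entries of a matrix for the form `hJ` -/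
def f1lGram (q : ℕ) (M : Matrix (Fin n) (Fin n) F) (c d : Fin n) : F :=
  ∑ a, M a c * (M (Fin.rev a) d) ^ q

theorem f1l_hJ_mulVec (ok : Ok n F q) (M : Matrix (Fin n) (Fin n) F) (u v : Fin n → F) :
    hJ n F q (M *ᵥ u) (M *ᵥ v) = ∑ c, ∑ d, u c * (v d) ^ q * f1lGram q M c d := by
  unfold hJ f1lGram
  simp only [Matrix.mulVec, dotProduct]
  have h1 : ∀ a : Fin n, (∑ d, M (Fin.rev a) d * v d) ^ q =
      ∑ d, (M (Fin.rev a) d) ^ q * (v d) ^ q := by
    intro a
    rw [f1l_frob_sum ok]
    apply Finset.sum_congr rfl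
    intro d _
    rw [mul_pow]
  simp_rw [h1, Finset.sum_mul_sum]
  rw [Finset.sum_comm]
  apply Finset.sum_congr rfl
  intro c _
  rw [Finset.sum_comm]
  apply Finset.sum_congr rfl
  intro d _
  rw [Finset.mul_sum]
  apply Finset.sum_congr rfl
  intro a _
  ring

theorem f1l_preserves_of_gram (ok : Ok n F q) (M : Matrix (Fin n) (Fin n) F)
    (h : ∀ c d, f1lGram q M c d = if d = Fin.rev c then 1 else 0) (u v : Fin n → F) :
    hJ n F q (M *ᵥ u) (M *ᵥ v) = hJ n F q u v := by
  rw [f1l_hJ_mulVec ok]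
  unfold hJ
  apply Finset.sum_congr rfl
  intro c _
  rw [Finset.sum_eq_single (Fin.rev c)]
  · rw [h, if_pos rfl, mul_one]
  · intro d _ hd
    rw [h, if_neg hd, mul_zero]
  · intro h'
    exact absurd (Finset.mem_univ _) h'

theorem f1l_gram_of_mem (ok : Ok n F q) (g : GJ n F q) (c d : Fin n) :
    f1lGram q (mat g) c d = if d = Fin.rev c then 1 else 0 := by
  classical
  have h := hJ_mat g (Pi.single c 1) (Pi.single d 1)
  rw [f1l_hJ_mulVec ok] at h
  have hL : ∑ c', ∑ d', (Pi.single c (1 : F) : Fin n → F) c' *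
      ((Pi.single d (1 : F) : Fin n → F) d') ^ q * f1lGram q (mat g) c' d' =
      f1lGram q (mat g) c d := by
    rw [Finset.sum_eq_single c]
    · rw [Finset.sum_eq_single d]
      · simp
      · intro d' _ hd'
        rw [Pi.single_eq_of_ne hd', f1l_zero_pow ok, mul_zero, zero_mul]
      · intro h'
        exact absurd (Finset.mem_univ _) h'
    · intro c' _ hc'
      apply Finset.sum_eq_zero
      intro d' _
      rw [Pi.single_eq_of_ne hc', zero_mul, zero_mul]
    · intro h'
      exact absurd (Finset.mem_univ _) h'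
  rw [hL] at h
  rw [h]
  unfold hJ
  rw [Finset.sum_eq_single c]
  · rw [Pi.single_eq_same, one_mul]
    by_cases hd : d = Fin.rev c
    · rw [if_pos hd, hd, Pi.single_eq_same, one_pow]
    · rw [if_neg hd, Pi.single_eq_of_ne (Ne.symm hd), f1l_zero_pow ok]
  · intro i _ hi
    rw [Pi.single_eq_of_ne hi, zero_mul]
  · intro h'
    exact absurd (Finset.mem_univ _) h'

theorem f1l_diag (ok : Ok n F q) (b : GJ n F q) (hb : b ∈ Bsub n F q) (a : Fin n) :
    mat b a a * (mat b (Fin.rev a) (Fin.rev a)) ^ q = 1 := by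
  have h := f1l_gram_of_mem ok b a (Fin.rev a)
  rw [if_pos rfl] at h
  rw [← h]
  unfold f1lGram
  symm
  apply Finset.sum_eq_single a
  · intro i _ hi
    rcases lt_or_gt_of_ne hi with hlt | hgt
    · have h0 : mat b (Fin.rev i) (Fin.rev a) = 0 :=
        (mem_Bsub_iff b).1 hb _ _ (Fin.rev_lt_rev.mpr hlt)
      rw [h0, f1l_zero_pow ok, mul_zero]
    · rw [(mem_Bsub_iff b).1 hb i a hgt, zero_mul]
  · intro h'
    exact absurd (Finset.mem_univ _) h'

theorem f1l_diag_ne (ok : Ok n F q) (b : GJ n F q) (hb : b ∈ Bsub n F q) (a : Fin n) :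
    mat b a a ≠ 0 := by
  intro h0
  have h := f1l_diag ok b hb a
  rw [h0, zero_mul] at h
  exact zero_ne_one h

/-- the central block of `b` with rows scaled to unit diagonal, extended by the identity -/
noncomputable def f1lX (b : GJ n F q) : Matrix (Fin n) (Fin n) F := fun a c =>
  if (n / 2 - 1 ≤ a.val ∧ a.val ≤ n - n / 2) ∧ (n / 2 - 1 ≤ c.val ∧ c.val ≤ n - n / 2) then
    mat b a c / mat b a a
  else (1 : Matrix (Fin n) (Fin n) F) a c

theorem f1lX_upper (b : GJ n F q) (hb : b ∈ Bsub n F q) (a c : Fin n) (h : c < a) :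
    f1lX b a c = 0 := by
  unfold f1lX
  split_ifs
  · rw [(mem_Bsub_iff b).1 hb a c h, zero_div]
  · exact Matrix.one_apply_ne (ne_of_gt h)

theorem f1lX_diag (ok : Ok n F q) (b : GJ n F q) (hb : b ∈ Bsub n F q) (a : Fin n) :
    f1lX b a a = 1 := by
  unfold f1lX
  split_ifs
  · exact div_self (f1l_diag_ne ok b hb a)
  · exact Matrix.one_apply_eq a

theorem f1lX_det (ok : Ok n F q) (b : GJ n F q) (hb : b ∈ Bsub n F q) : (f1lX b).det = 1 := by
  have htri : (f1lX b).BlockTriangular id := fun a c h => f1lX_upper b hb a c h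
  rw [Matrix.det_of_isUpperTriangular htri]
  apply Finset.prod_eq_one
  intro a _
  exact f1lX_diag ok b hb a

theorem f1l_gram_X (ok : Ok n F q) (hn : 2 ≤ n) (b : GJ n F q) (hb : b ∈ Bsub n F q)
    (c d : Fin n) : f1lGram q (f1lX b) c d = if d = Fin.rev c then 1 else 0 := by
  classical
  by_cases hc : (n / 2 - 1 ≤ c.val ∧ c.val ≤ n - n / 2)
  · by_cases hd : (n / 2 - 1 ≤ d.val ∧ d.val ≤ n - n / 2)
    · rw [← f1l_gram_of_mem ok b c d]
      unfold f1lGram
      apply Finset.sum_congr rfl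
      intro a _
      by_cases ha : (n / 2 - 1 ≤ a.val ∧ a.val ≤ n - n / 2)
      · have ha' : (n / 2 - 1 ≤ (Fin.rev a).val ∧ (Fin.rev a).val ≤ n - n / 2) := by
          rw [Fin.val_rev]
          have := a.2
          omega
        unfold f1lX
        rw [if_pos ⟨ha, hc⟩, if_pos ⟨ha', hd⟩, div_pow, div_mul_div_comm, f1l_diag ok b hb a,
          div_one]
      · have hx : f1lX b a c = 0 := by
          unfold f1lX
          rw [if_neg (fun h => ha h.1)]
          have hne : a ≠ c := by
            rintro rfl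
            exact ha hc
          exact Matrix.one_apply_ne hne
        rw [hx, zero_mul]
        by_cases h1 : a.val < n / 2 - 1
        · have h0 : mat b (Fin.rev a) d = 0 := by
            apply (mem_Bsub_iff b).1 hb
            rw [Fin.lt_def, Fin.val_rev]
            have := a.2
            omega
          rw [h0, f1l_zero_pow ok, mul_zero]
        · have h0 : mat b a c = 0 := by
            apply (mem_Bsub_iff b).1 hb
            rw [Fin.lt_def]
            omega
          rw [h0, zero_mul]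
    · have hx : ∀ a : Fin n, f1lX b (Fin.rev a) d = (1 : Matrix (Fin n) (Fin n) F) (Fin.rev a) d := by
        intro a
        unfold f1lX
        rw [if_neg (fun h => hd h.2)]
      unfold f1lGram
      simp_rw [hx]
      rw [Finset.sum_eq_single (Fin.rev d)]
      · rw [Fin.rev_rev, Matrix.one_apply_eq, one_pow, mul_one]
        have hd' : ¬ (n / 2 - 1 ≤ (Fin.rev d).val ∧ (Fin.rev d).val ≤ n - n / 2) := by
          rw [Fin.val_rev]
          have := d.2
          omega
        unfold f1lX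
        rw [if_neg (fun h => hd' h.1), Matrix.one_apply]
        by_cases h : d = Fin.rev c
        · rw [if_pos h, if_pos (by rw [h, Fin.rev_rev])]
        · rw [if_neg h, if_neg]
          intro h2
          apply h
          rw [← h2, Fin.rev_rev]
      · intro a _ ha
        have hne : Fin.rev a ≠ d := fun h => ha (by rw [← h, Fin.rev_rev])
        rw [Matrix.one_apply_ne hne, f1l_zero_pow ok, mul_zero]
      · intro h'
        exact absurd (Finset.mem_univ _) h'
  · have hx : ∀ a : Fin n, f1lX b a c = (1 : Matrix (Fin n) (Fin n) F) a c := by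
      intro a
      unfold f1lX
      rw [if_neg (fun h => hc h.2)]
    unfold f1lGram
    simp_rw [hx]
    rw [Finset.sum_eq_single c]
    · rw [Matrix.one_apply_eq, one_mul]
      have hc' : ¬ (n / 2 - 1 ≤ (Fin.rev c).val ∧ (Fin.rev c).val ≤ n - n / 2) := by
        rw [Fin.val_rev]
        have := c.2
        omega
      unfold f1lX
      rw [if_neg (fun h => hc' h.1), Matrix.one_apply]
      by_cases h : d = Fin.rev c
      · rw [if_pos h, if_pos h.symm, one_pow]
      · rw [if_neg h, if_neg (Ne.symm h), f1l_zero_pow ok]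
    · intro a _ ha
      rw [Matrix.one_apply_ne ha, zero_mul]
    · intro h'
      exact absurd (Finset.mem_univ _) h'

/-- the element `x` of the group -/
noncomputable def f1lXg (ok : Ok n F q) (hn : 2 ≤ n) (b : GJ n F q) (hb : b ∈ Bsub n F q) :
    GJ n F q :=
  ⟨⟨f1lX b, f1lX_det ok b hb⟩,
    (mem_SUJ_iff _).2 (fun u v => f1l_preserves_of_gram ok _ (f1l_gram_X ok hn b hb) u v)⟩

theorem mat_f1lXg (ok : Ok n F q) (hn : 2 ≤ n) (b : GJ n F q) (hb : b ∈ Bsub n F q) :
    mat (f1lXg ok hn b hb) = f1lX b := rfl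

theorem f1lXg_mem_B (ok : Ok n F q) (hn : 2 ≤ n) (b : GJ n F q) (hb : b ∈ Bsub n F q) :
    f1lXg ok hn b hb ∈ Bsub n F q := by
  rw [mem_Bsub_iff]
  intro a c h
  rw [mat_f1lXg]
  exact f1lX_upper b hb a c h

theorem f1lXg_mem_XL (ok : Ok n F q) (hn : 2 ≤ n) (b : GJ n F q) (hb : b ∈ Bsub n F q) :
    f1lXg ok hn b hb ∈ XL n F q := by
  intro a c hA
  rw [mat_f1lXg]
  by_cases hcen : (n / 2 - 1 ≤ a.val ∧ a.val ≤ n - n / 2) ∧ (n / 2 - 1 ≤ c.val ∧ c.val ≤ n - n / 2)
  · have hca : ¬ a.val < c.val := fun h => hA ⟨hcen.1.1, h, hcen.2.2⟩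
    rcases Nat.lt_or_ge c.val a.val with h | h
    · rw [f1lX_upper b hb a c (Fin.lt_def.mpr h)]
      exact (Matrix.one_apply_ne (fun e => by rw [e] at h; exact lt_irrefl _ h)).symm
    · have hac : a = c := Fin.ext (by omega)
      rw [hac, f1lX_diag ok b hb c, Matrix.one_apply_eq]
  · unfold f1lX
    rw [if_neg hcen]

/-- the central block of `b x⁻¹` is diagonal -/
theorem f1l_block_diag (ok : Ok n F q) (hn : 2 ≤ n) (b : GJ n F q) (hb : b ∈ Bsub n F q)
    (a c : Fin n) (ha : n / 2 - 1 ≤ a.val ∧ a.val ≤ n - n / 2)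
    (hc : n / 2 - 1 ≤ c.val ∧ c.val ≤ n - n / 2) (hac : a ≠ c) :
    mat (b * (f1lXg ok hn b hb)⁻¹) a c = 0 := by
  classical
  set x := f1lXg ok hn b hb with hx
  have hxy : f1lX b * mat x⁻¹ = 1 := by
    rw [← mat_f1lXg ok hn b hb]
    exact mat_mul_inv x
  -- rows of `x⁻¹` outside the block are unit rows
  have hrow : ∀ i : Fin n, ¬ (n / 2 - 1 ≤ i.val ∧ i.val ≤ n - n / 2) →
      ∀ j, mat x⁻¹ i j = (1 : Matrix (Fin n) (Fin n) F) i j := by
    intro i hi j
    have h1 : (f1lX b * mat x⁻¹) i j = mat x⁻¹ i j := by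
      rw [Matrix.mul_apply, Finset.sum_eq_single i]
      · unfold f1lX
        rw [if_neg (fun h => hi h.1), Matrix.one_apply_eq, one_mul]
      · intro k _ hk
        unfold f1lX
        rw [if_neg (fun h => hi h.1), Matrix.one_apply_ne (Ne.symm hk), zero_mul]
      · intro h'
        exact absurd (Finset.mem_univ _) h'
    rw [← h1, hxy]
  rw [mat_mul, Matrix.mul_apply]
  have hterm : ∀ i : Fin n, mat b a i * mat x⁻¹ i c = mat b a a * (f1lX b a i * mat x⁻¹ i c) := by
    intro i
    by_cases hi : (n / 2 - 1 ≤ i.val ∧ i.val ≤ n - n / 2)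
    · unfold f1lX
      rw [if_pos ⟨ha, hi⟩, ← mul_assoc, mul_div_cancel₀ _ (f1l_diag_ne ok b hb a)]
    · have hic : i ≠ c := by
        rintro rfl
        exact hi hc
      rw [hrow i hi c, Matrix.one_apply_ne hic, mul_zero, mul_zero, mul_zero]
  rw [Finset.sum_congr rfl (fun i _ => hterm i), ← Finset.mul_sum, ← Matrix.mul_apply, hxy,
    Matrix.one_apply_ne hac, mul_zero]

/-- the involution of the last reflection: `rev` on the central block -/
def f1lPi (n : ℕ) (v : ℕ) : ℕ := if n / 2 - 1 ≤ v ∧ v ≤ n - n / 2 then n - 1 - v else v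

theorem f1l_sLast_ne_zero_iff (ok : Ok n F q) (hn : 2 ≤ n) (a c : Fin n) :
    mat (sLast n F q) a c ≠ 0 ↔ a.val = f1lPi n c.val := by
  have ha : aPar F q ≠ 0 := ok.a_ne
  have := a.2
  have := c.2
  rw [ok.last hn]
  unfold sLastMat f1lPi
  by_cases he : n % 2 = 0
  · rw [if_pos he]
    unfold sEvenMat
    simp only [Fin.ext_iff]
    split_ifs
    all_goals
      constructor
      · intro hh
        first | omega | exact absurd rfl hh
      · intro hh
        first | exact ha | exact one_ne_zero | exact neg_ne_zero.mpr (inv_ne_zero ha) | omega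
  · rw [if_neg he]
    unfold sOddMat
    simp only [Fin.ext_iff]
    split_ifs
    all_goals
      constructor
      · intro hh
        first | omega | exact absurd rfl hh
      · intro hh
        first | exact one_ne_zero | exact neg_ne_zero.mpr one_ne_zero | omega

theorem f1lPi_lt (hn : 2 ≤ n) (v : ℕ) (hv : v < n) : f1lPi n v < n := by
  unfold f1lPi
  split_ifs <;> omega

theorem f1lPi_invol (hn : 2 ≤ n) (v : ℕ) (hv : v < n) : f1lPi n (f1lPi n v) = v := by
  unfold f1lPi
  split_ifs <;> omega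

theorem f1l_conj_mem (ok : Ok n F q) (hn : 2 ≤ n) (b' : GJ n F q) (hb' : b' ∈ Bsub n F q)
    (h0 : ∀ a c : Fin n, (n / 2 - 1 ≤ a.val ∧ a.val ≤ n - n / 2) →
      (n / 2 - 1 ≤ c.val ∧ c.val ≤ n - n / 2) → a ≠ c → mat b' a c = 0) :
    sLast n F q * b' * (sLast n F q)⁻¹ ∈ Bsub n F q := by
  classical
  set s := sLast n F q with hs
  have hgs : (s * b' * s⁻¹) * s = s * b' := by group
  have hmat : mat (s * b' * s⁻¹) * mat s = mat s * mat b' := by
    rw [← mat_mul, ← mat_mul, hgs]
  let π : Fin n → Fin n := fun c => ⟨f1lPi n c.val, f1lPi_lt hn c.val c.2⟩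
  have hπ : ∀ c, π (π c) = c := fun c => Fin.ext (f1lPi_invol hn c.val c.2)
  have hs0 : ∀ a c, a ≠ π c → mat s a c = 0 := by
    intro a c hac
    by_contra hne
    exact hac (Fin.ext ((f1l_sLast_ne_zero_iff ok hn a c).1 hne))
  have hs1 : ∀ c, mat s (π c) c ≠ 0 := fun c => (f1l_sLast_ne_zero_iff ok hn (π c) c).2 rfl
  have e1 : ∀ a c, (mat (s * b' * s⁻¹) * mat s) a c = mat (s * b' * s⁻¹) a (π c) * mat s (π c) c := by
    intro a c
    rw [Matrix.mul_apply]
    apply Finset.sum_eq_single (π c)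
    · intro i _ hi
      rw [hs0 i c hi, mul_zero]
    · intro h'
      exact absurd (Finset.mem_univ _) h'
  have e2 : ∀ a c, (mat s * mat b') a c = mat s a (π a) * mat b' (π a) c := by
    intro a c
    rw [Matrix.mul_apply]
    apply Finset.sum_eq_single (π a)
    · intro i _ hi
      have hai : a ≠ π i := fun h => hi (by rw [h, hπ])
      rw [hs0 a i hai, zero_mul]
    · intro h'
      exact absurd (Finset.mem_univ _) h'
  rw [mem_Bsub_iff]
  intro a c hca
  have e := congrFun (congrFun hmat a) (π c)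
  rw [e1, e2, hπ] at e
  have hz : mat b' (π a) (π c) = 0 := by
    have hav := a.2
    have hcv := c.2
    have hca' : c.val < a.val := Fin.lt_def.mp hca
    by_cases hboth : (n / 2 - 1 ≤ a.val ∧ a.val ≤ n - n / 2) ∧
        (n / 2 - 1 ≤ c.val ∧ c.val ≤ n - n / 2)
    · apply h0
      · show n / 2 - 1 ≤ f1lPi n a.val ∧ f1lPi n a.val ≤ n - n / 2
        unfold f1lPi
        rw [if_pos hboth.1]
        omega
      · show n / 2 - 1 ≤ f1lPi n c.val ∧ f1lPi n c.val ≤ n - n / 2
        unfold f1lPi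
        rw [if_pos hboth.2]
        omega
      · intro h
        have h2 : π (π a) = π (π c) := by rw [h]
        rw [hπ, hπ] at h2
        rw [h2] at hca
        exact lt_irrefl _ hca
    · apply (mem_Bsub_iff b').1 hb'
      rw [Fin.lt_def]
      show f1lPi n c.val < f1lPi n a.val
      unfold f1lPi
      split_ifs <;> omega
  rw [hz, mul_zero] at e
  have hne : mat s c (π c) ≠ 0 := by
    have := hs1 (π c)
    rwa [hπ] at this
  exact (mul_eq_zero.mp e).resolve_right hne

/-- **LEAF F1L (254606).** -/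
theorem decomp_long (ok : Ok n F q) (hn : 2 ≤ n) (b : GJ n F q) (hb : b ∈ Bsub n F q) :
    ∃ b' ∈ Bsub n F q, ∃ x ∈ XL n F q, b = b' * x ∧
      sLast n F q * b' * (sLast n F q)⁻¹ ∈ Bsub n F q := by
  have hxB := f1lXg_mem_B ok hn b hb
  have hb' : b * (f1lXg ok hn b hb)⁻¹ ∈ Bsub n F q :=
    (Bsub n F q).mul_mem hb ((Bsub n F q).inv_mem hxB)
  refine ⟨b * (f1lXg ok hn b hb)⁻¹, hb', f1lXg ok hn b hb, f1lXg_mem_XL ok hn b hb, by group, ?_⟩
  exact f1l_conj_mem ok hn _ hb' (fun a c ha hc hac => f1l_block_diag ok hn b hb a c ha hc hac)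

end Cfsg.Agent.Lib.Helper04.StSU
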