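import Cfsg.Agent.Lib.Helper49.StSUDefs

/-!
# K-StSU-R1 (keystone 254604, pack K-StSU of S2546): the positive root sets lie in `B`
(parallel hand by helper4)
-/

set_option autoImplicit false
set_option linter.unusedSectionVars false
set_option linter.unusedVariables false

namespace Cfsg.Agent.Lib.Helper04.StSU

open Cfsg Cfsg.Agent.Lib.Helper49.StSU Matrix

variable {n : ℕ} {F : Type*} [Field F] {q : ℕ}

/-- a root set all of whose positions are on or above the diagonal lies in `B` -/
theorem r1_rootSet_subset_B (A : Fin n → Fin n → Prop) (hA : ∀ x y, A x y → x ≤ y) :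
    RootSet n F q A ⊆ (Bsub n F q : Set (GJ n F q)) := by
  intro g hg
  show g ∈ Bsub n F q
  rw [mem_Bsub_iff]
  intro a b hba
  have hnA : ¬ A a b := fun h => not_le_of_gt hba (hA a b h)
  rw [hg a b hnA]
  exact Matrix.one_apply_ne (ne_of_gt hba)

/-- **LEAF R1 (254604)**, short roots. -/
theorem XS_subset_B (i : ℕ) : XS n F q i ⊆ (Bsub n F q : Set (GJ n F q)) := by
  apply r1_rootSet_subset_B
  intro x y h
  rw [Fin.le_def]
  have := x.2
  have := y.2
  rcases h with ⟨h1, h2⟩ | ⟨h1, h2⟩ <;> omega

/-- **LEAF R1 (254604)**, last root. -/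
theorem XL_subset_B : XL n F q ⊆ (Bsub n F q : Set (GJ n F q)) := by
  apply r1_rootSet_subset_B
  intro x y h
  rw [Fin.le_def]
  exact le_of_lt h.2.1

end Cfsg.Agent.Lib.Helper04.StSU
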