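import Cfsg.Agent.Lib.Helper49.StSpDefs

/-!
# KEYSTONE 254511 K-StSp-C3a `sq_mem_B` (architect helper49, S2545 pack)
-/

set_option autoImplicit false
set_option linter.unusedSectionVars false
set_option linter.unusedVariables false

namespace Cfsg.Agent.Lib.Helper04.StSp

open Cfsg Cfsg.Agent.Lib.Helper49.StSp Matrix

variable {m : ℕ} {F : Type*} [Field F]

theorem sShortMat_sq (i j : Fin m) : sShortMat m F i j * sShortMat m F i j = 1 := by
  unfold sShortMat
  rw [Matrix.fromBlocks_multiply]
  simp only [Matrix.mul_zero, Matrix.zero_mul, add_zero, zero_add, ← Matrix.permMatrix_mul,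
    Equiv.swap_mul_self, Matrix.permMatrix_one, Matrix.fromBlocks_one]

/-- the square of `cSign k` is diagonal -/
theorem cSignMat_sq_apply_ne (k : Fin m) (a b : Fin m ⊕ Fin m) (hab : a ≠ b) :
    (cSignMat m F k * cSignMat m F k) a b = 0 := by
  unfold cSignMat
  rw [Matrix.fromBlocks_multiply]
  simp only [Matrix.diagonal_mul_diagonal, Matrix.neg_mul, Matrix.mul_neg]
  rcases a with a | a <;> rcases b with b | b
  · have h : a ≠ b := fun h => hab (by rw [h])
    simp only [Matrix.fromBlocks_apply₁₁, Matrix.add_apply, Matrix.neg_apply,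
      Matrix.diagonal_apply_ne _ h, neg_zero, add_zero]
  · simp only [Matrix.fromBlocks_apply₁₂, Matrix.add_apply, Matrix.neg_apply]
    by_cases h : a = b
    · subst h
      simp only [Matrix.diagonal_apply_eq]
      by_cases hk : a = k
      · subst hk
        simp
      · simp [Pi.single_apply, hk]
    · simp only [Matrix.diagonal_apply_ne _ h, neg_zero, add_zero]
  · simp only [Matrix.fromBlocks_apply₂₁, Matrix.add_apply]
    by_cases h : a = b
    · subst h
      simp only [Matrix.diagonal_apply_eq]
      by_cases hk : a = k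
      · subst hk
        simp
      · simp [Pi.single_apply, hk]
    · simp only [Matrix.diagonal_apply_ne _ h, add_zero]
  · have h : a ≠ b := fun h => hab (by rw [h])
    simp only [Matrix.fromBlocks_apply₂₂, Matrix.add_apply, Matrix.neg_apply,
      Matrix.diagonal_apply_ne _ h, neg_zero, add_zero]

/-- LEAF C3a (254511). -/
theorem sq_mem_B (s : SpG m F) (hs : s ∈ Sset m F) : s * s ∈ Bsub m F := by
  rcases hs with ⟨i, hi, rfl⟩ | ⟨hm, rfl⟩
  · have h1 : sShort m F i (nxt i hi) * sShort m F i (nxt i hi) = 1 := by
      apply Subtype.ext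
      rw [Submonoid.coe_mul]
      exact sShortMat_sq i (nxt i hi)
    rw [h1]
    exact (Bsub m F).one_mem
  · rw [mem_Bsub_iff]
    intro a b hab
    have hne : a ≠ b := by
      intro h
      rw [h] at hab
      exact lt_irrefl _ hab
    rw [Submonoid.coe_mul]
    exact cSignMat_sq_apply_ne (lastF hm) a b hne

end Cfsg.Agent.Lib.Helper04.StSp
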