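import Mathlib
import Cfsg.Agent.Lib.Helper04.PPrimeKerSup
import Cfsg.Agent.Lib.Helper04.PPrimeKerInf
import Cfsg.Agent.Lib.Helper03.NormalFusion
import Cfsg.Agent.Lib.Helper03.NormalPComplement
import Cfsg.Agent.Lib.Helper74.NPC
import Cfsg.Agent.Lib.Helper34.KerSum
import Cfsg.Agent.Lib.Helper33.IrrComp
import Cfsg.Agent.Lib.Helper04.Alperin
import Cfsg.Agent.Lib.Helper13.Basic
import Cfsg.Agent.Lib.Helper14.Tate
import Cfsg.Agent.Lib.Helper03.PGroupFrattini

/-!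
# Extension of the characters of degree prime to `p` of a Sylow normalizer
-/

set_option autoImplicit false

namespace Cfsg.Agent.Lib.Helper04

open Cfsg
open scoped ComplexConjugate

universe u

section SylNormExt

variable {G : Type u} [Group G] [Finite G] (p : ℕ) [hp : Fact p.Prime]

include hp in
/-- a subgroup of `p`-power index and a subgroup of index prime to `p` generate. -/
theorem le_sup_of_relIndex_pow {T K Q : Subgroup G} (hTK : T ≤ K) (hQK : Q ≤ K) {j : ℕ}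
    (hj : T.relIndex K = p ^ j) (hQ : ¬ p ∣ Q.relIndex K) : K ≤ T ⊔ Q := by
  have hTR : T ≤ T ⊔ Q := le_sup_left
  have hQR : Q ≤ T ⊔ Q := le_sup_right
  have hRK : T ⊔ Q ≤ K := sup_le hTK hQK
  have hd1 : (T ⊔ Q).relIndex K ∣ p ^ j := by
    rw [← hj, ← Subgroup.relIndex_mul_relIndex T (T ⊔ Q) K hTR hRK]
    exact dvd_mul_left _ _
  have hd2 : (T ⊔ Q).relIndex K ∣ Q.relIndex K := by
    rw [← Subgroup.relIndex_mul_relIndex Q (T ⊔ Q) K hQR hRK]
    exact dvd_mul_left _ _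
  have hone : (T ⊔ Q).relIndex K = 1 := by
    obtain ⟨i, _, hi2⟩ := (Nat.dvd_prime_pow hp.out).mp hd1
    cases i with
    | zero => simpa using hi2
    | succ i =>
      exfalso
      apply hQ
      refine dvd_trans ?_ hd2
      rw [hi2]
      exact dvd_pow_self p (Nat.succ_ne_zero i)
  exact Subgroup.relIndex_eq_one.mp hone

variable (P : Sylow p G)

include hp in
/-- an element of order prime to `p` in a `p`-subgroup is trivial. -/
theorem eq_one_of_coprime_of_mem_pgroup {Q : Subgroup G} (hQ : IsPGroup p Q) {x : G} (hx : x ∈ Q)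
    (hc : (orderOf x).Coprime p) : x = 1 := by
  obtain ⟨k, hk⟩ := hQ ⟨x, hx⟩
  have h1 : x ^ (p ^ k) = 1 := by
    have := congrArg Subtype.val hk
    simpa using this
  have h4 : orderOf x ∣ p ^ k := orderOf_dvd_of_pow_eq_one h1
  have h5 : orderOf x = 1 := Nat.Coprime.eq_one_of_dvd (hc.pow_right k) h4
  exact orderOf_eq_one_iff.mp h5

set_option maxHeartbeats 1600000 in
/-- if every irreducible character of degree prime to `p` of the normalizer of a Sylow
`p`-subgroup extends to the group, the normalizer has a normal complement. -/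
theorem exists_normal_complement_of_ext
    (hext : ∀ θ : IrrCharacter ↥(Subgroup.normalizer ((P : Subgroup G) : Set G)),
      ¬ p ∣ charDegree (θ : ↥(Subgroup.normalizer ((P : Subgroup G) : Set G)) → ℂ) →
      ∃ χ : IrrCharacter G, ∀ x : ↥(Subgroup.normalizer ((P : Subgroup G) : Set G)),
        (χ : G → ℂ) x = (θ : ↥(Subgroup.normalizer ((P : Subgroup G) : Set G)) → ℂ) x) :
    ∃ K : Subgroup G, K.Normal ∧ K ⊔ Subgroup.normalizer ((P : Subgroup G) : Set G) = ⊤ ∧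
      K ⊓ Subgroup.normalizer ((P : Subgroup G) : Set G) = ⊥ := by
  classical
  set H : Subgroup G := Subgroup.normalizer ((P : Subgroup G) : Set G) with hH
  have hPH : (P : Subgroup G) ≤ H := Subgroup.le_normalizer
  set PH : Subgroup H := (P : Subgroup G).subgroupOf H with hPHdef
  haveI hPHn : PH.Normal := Subgroup.normal_in_normalizer
  let PHs : Sylow p H := P.subtype hPH
  have hPHs : (PHs : Subgroup H) = PH := rfl
  haveI : Fintype H := Fintype.ofFinite H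
  haveI : Fintype (IrrCharacter H) := Fintype.ofFinite _
  choose ext hextv using hext
  have hext1 : ∀ (θ : IrrCharacter H) (h : ¬ p ∣ charDegree (θ : H → ℂ)),
      (ext θ h : G → ℂ) 1 = (θ : H → ℂ) 1 := by
    intro θ h
    have := hextv θ h 1
    rwa [Subgroup.coe_one] at this
  have hextx : ∀ (θ : IrrCharacter H) (h : ¬ p ∣ charDegree (θ : H → ℂ)) (x : G) (hx : x ∈ H),
      (ext θ h : G → ℂ) x = (θ : H → ℂ) ⟨x, hx⟩ := fun θ h x hx => hextv θ h ⟨x, hx⟩
  -- the two intersections of kernels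
  set K₁ : Subgroup G := ⨅ θ : {θ : IrrCharacter H // ¬ p ∣ charDegree (θ : H → ℂ)},
    Cfsg.Agent.Lib.Helper83.charKer
      (Cfsg.Agent.Lib.Helper83.IrrCharacter_isCharacter (ext θ.1 θ.2)) with hK₁
  have hK₁mem : ∀ g : G, g ∈ K₁ ↔ ∀ (θ : IrrCharacter H) (hθ : ¬ p ∣ charDegree (θ : H → ℂ)),
      (ext θ hθ : G → ℂ) g = (ext θ hθ : G → ℂ) 1 := by
    intro g
    rw [hK₁, Subgroup.mem_iInf]
    constructor
    · intro h θ hθ
      exact (Cfsg.Agent.Lib.Helper83.mem_charKer _ g).mp (h ⟨θ, hθ⟩)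
    · intro h θ
      exact (Cfsg.Agent.Lib.Helper83.mem_charKer _ g).mpr (h θ.1 θ.2)
  haveI hK₁n : K₁.Normal := by
    rw [hK₁]
    exact Subgroup.normal_iInf_normal (fun θ => Cfsg.Agent.Lib.Helper83.charKer_normal _)
  set M : Subgroup G := ⨅ θ : {θ : IrrCharacter H // ¬ p ∣ charDegree (θ : H → ℂ) ∧
      ∀ y ∈ PH, (θ : H → ℂ) y = (θ : H → ℂ) 1},
    Cfsg.Agent.Lib.Helper83.charKer
      (Cfsg.Agent.Lib.Helper83.IrrCharacter_isCharacter (ext θ.1 θ.2.1)) with hM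
  have hMmem : ∀ g : G, g ∈ M ↔ ∀ (θ : IrrCharacter H) (hθ : ¬ p ∣ charDegree (θ : H → ℂ)),
      (∀ y ∈ PH, (θ : H → ℂ) y = (θ : H → ℂ) 1) →
      (ext θ hθ : G → ℂ) g = (ext θ hθ : G → ℂ) 1 := by
    intro g
    rw [hM, Subgroup.mem_iInf]
    constructor
    · intro h θ hθ hk
      exact (Cfsg.Agent.Lib.Helper83.mem_charKer _ g).mp (h ⟨θ, hθ, hk⟩)
    · intro h θ
      exact (Cfsg.Agent.Lib.Helper83.mem_charKer _ g).mpr (h θ.1 θ.2.1 θ.2.2)
  haveI hMn : M.Normal := by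
    rw [hM]
    exact Subgroup.normal_iInf_normal (fun θ => Cfsg.Agent.Lib.Helper83.charKer_normal _)
  have hK₁M : K₁ ≤ M := by
    intro g hg
    rw [hMmem]
    intro θ hθ _
    exact (hK₁mem g).mp hg θ hθ
  have hPM : (P : Subgroup G) ≤ M := by
    intro x hx
    rw [hMmem]
    intro θ hθ hk
    rw [hextx θ hθ x (hPH hx), hext1]
    exact hk ⟨x, hPH hx⟩ (Subgroup.mem_subgroupOf.mpr hx)
  -- `M ∩ H ≤ P`
  have hidxPH : ¬ p ∣ PH.index := by
    rw [← hPHs]
    exact PHs.not_dvd_index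
  have hMH : M ⊓ H ≤ (P : Subgroup G) := by
    intro x hx
    obtain ⟨hxM, hxH⟩ := Subgroup.mem_inf.mp hx
    have hval : ∀ θ : IrrCharacter H, Cfsg.Agent.Lib.Helper34.KerGe PH (θ : H → ℂ) →
        (θ : H → ℂ) ⟨x, hxH⟩ = (θ : H → ℂ) 1 := by
      intro θ hk
      have hd : ¬ p ∣ charDegree (θ : H → ℂ) := fun h =>
        hidxPH (dvd_trans h (Cfsg.Agent.Lib.Helper83.irr_charDegree_dvd_index θ PH hk))
      rw [← hextx θ hd x hxH, ← hext1 θ hd]
      exact (hMmem x).mp hxM θ hd hk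
    have h1 := Cfsg.Agent.Lib.Helper34.sum_irr_kerGe_degree_mul PH (⟨x, hxH⟩ : H)
    have h2 := Cfsg.Agent.Lib.Helper34.sum_irr_kerGe_degree_mul PH (1 : H)
    rw [if_pos PH.one_mem] at h2
    have h3 : ∑ χ : IrrCharacter H,
        (if Cfsg.Agent.Lib.Helper34.KerGe PH (χ : H → ℂ) then
          (χ : H → ℂ) 1 * (χ : H → ℂ) ⟨x, hxH⟩ else 0) =
        ∑ χ : IrrCharacter H,
        (if Cfsg.Agent.Lib.Helper34.KerGe PH (χ : H → ℂ) then
          (χ : H → ℂ) 1 * (χ : H → ℂ) 1 else 0) := by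
      apply Finset.sum_congr rfl
      intro χ _
      by_cases hk : Cfsg.Agent.Lib.Helper34.KerGe PH (χ : H → ℂ)
      · rw [if_pos hk, if_pos hk, hval χ hk]
      · rw [if_neg hk, if_neg hk]
    rw [h3, h2] at h1
    by_contra hxP
    have hxPH : (⟨x, hxH⟩ : H) ∉ PH := fun h => hxP (Subgroup.mem_subgroupOf.mp h)
    rw [if_neg hxPH] at h1
    have : (PH.index : ℂ) ≠ 0 := by
      have : PH.index ≠ 0 := Subgroup.index_ne_zero_of_finite
      exact_mod_cast this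
    exact this h1
  -- `P' ≤ K₁`
  have hmapc : (⁅PH, PH⁆ : Subgroup H).map H.subtype =
      ⁅(P : Subgroup G), (P : Subgroup G)⁆ := by
    rw [Subgroup.map_commutator, hPHdef, Subgroup.map_subgroupOf_eq_of_le hPH]
  have hP'K₁ : ⁅(P : Subgroup G), (P : Subgroup G)⁆ ≤ K₁ := by
    intro x hx
    rw [← hmapc] at hx
    obtain ⟨y, hy, rfl⟩ := hx
    rw [hK₁mem]
    intro θ hθ
    have hPHp : IsPGroup p PH := by
      rw [← hPHs]
      exact PHs.2
    have hk := kernel_of_le_commutator p PH ⁅PH, PH⁆ hPHp le_rfl θ hθ y hy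
    rw [hext1, ← hk]
    exact hextv θ hθ y
  -- `K₁ ∩ P ≤ P'`
  have hK₁P : K₁ ⊓ (P : Subgroup G) ≤ ⁅(P : Subgroup G), (P : Subgroup G)⁆ := by
    intro x hx
    obtain ⟨hxK, hxP⟩ := Subgroup.mem_inf.mp hx
    have hy1 : (⟨x, hPH hxP⟩ : H) ∈ pprimeKer p H := by
      rw [mem_pprimeKer]
      intro θ hθ
      rw [← hextx θ hθ x (hPH hxP), ← hext1 θ hθ]
      exact (hK₁mem x).mp hxK θ hθ
    have hy2 : (⟨x, hPH hxP⟩ : H) ∈ (PHs : Subgroup H) := Subgroup.mem_subgroupOf.mpr hxP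
    have hy3 := pprimeKer_inf_sylow_le p PHs (Subgroup.mem_inf.mpr ⟨hy1, hy2⟩)
    rw [← hmapc]
    exact ⟨⟨x, hPH hxP⟩, hy3, rfl⟩
  -- the quotient by `K₁`
  have hπs : Function.Surjective (QuotientGroup.mk' K₁) := QuotientGroup.mk'_surjective K₁
  let Pq : Sylow p (G ⧸ K₁) := P.mapSurjective hπs
  have hPq : (Pq : Subgroup (G ⧸ K₁)) = (P : Subgroup G).map (QuotientGroup.mk' K₁) := rfl
  set Mq : Subgroup (G ⧸ K₁) := M.map (QuotientGroup.mk' K₁) with hMq
  haveI hMqn : Mq.Normal := Subgroup.Normal.map hMn _ hπs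
  have hPqMq : (Pq : Subgroup (G ⧸ K₁)) ≤ Mq := by
    rw [hPq]
    exact Subgroup.map_mono hPM
  have hcomapM : Mq.comap (QuotientGroup.mk' K₁) = M := by
    rw [hMq, Subgroup.comap_map_eq, QuotientGroup.ker_mk']
    exact sup_eq_left.mpr hK₁M
  have hcomapP : (Pq : Subgroup (G ⧸ K₁)).comap (QuotientGroup.mk' K₁) =
      (P : Subgroup G) ⊔ K₁ := by
    rw [hPq, Subgroup.comap_map_eq, QuotientGroup.ker_mk']
  -- `Pq` is abelian
  have hPqcomm : ∀ a ∈ (Pq : Subgroup (G ⧸ K₁)), ∀ b ∈ (Pq : Subgroup (G ⧸ K₁)),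
      a * b = b * a := by
    intro a ha b hb
    rw [hPq] at ha hb
    obtain ⟨x, hx, rfl⟩ := ha
    obtain ⟨y, hy, rfl⟩ := hb
    have h1 : x * y * x⁻¹ * y⁻¹ ∈ K₁ := hP'K₁ (Subgroup.commutator_mem_commutator hx hy)
    have h2 : (QuotientGroup.mk' K₁) (x * y * x⁻¹ * y⁻¹) = 1 :=
      (QuotientGroup.eq_one_iff _).mpr h1
    rw [map_mul, map_mul, map_mul, map_inv, map_inv] at h2
    have h3 := mul_inv_eq_one.mp h2
    have h4 := mul_inv_eq_iff_eq_mul.mp h3
    exact h4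
  -- `Pq` is self-normalizing in `Mq`
  have hself : ∀ y ∈ Mq, (∀ a ∈ (Pq : Subgroup (G ⧸ K₁)), y * a * y⁻¹ ∈ (Pq : Subgroup (G ⧸ K₁))) →
      y ∈ (Pq : Subgroup (G ⧸ K₁)) := by
    intro y hy hnorm
    obtain ⟨m, hm, rfl⟩ := hy
    have hRle : (P : Subgroup G) ⊔ K₁ ≤ M := sup_le hPM hK₁M
    -- `m` normalizes `R = P K₁`
    have hmR : m ∈ Subgroup.normalizer (((P : Subgroup G) ⊔ K₁ : Subgroup G) : Set G) := by
      have hfin : ∀ x ∈ (P : Subgroup G) ⊔ K₁, m * x * m⁻¹ ∈ (P : Subgroup G) ⊔ K₁ := by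
        intro x hx
        rw [← hcomapP, Subgroup.mem_comap] at hx ⊢
        rw [map_mul, map_mul, map_inv]
        exact hnorm _ hx
      exact mem_normalizer_of_conj_le _ m hfin
    have hrel : ¬ p ∣ (P : Subgroup G).relIndex ((P : Subgroup G) ⊔ K₁) := fun h =>
      P.not_dvd_index (dvd_trans h (Subgroup.relIndex_dvd_index_of_le le_sup_left))
    obtain ⟨z, hzR, hzN⟩ := Cfsg.Agent.Lib.Helper03.exists_mul_mem_normalizer_of_sylow
      (S₁ := (P : Subgroup G)) (X := (P : Subgroup G) ⊔ K₁)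
      (M := Subgroup.normalizer (((P : Subgroup G) ⊔ K₁ : Subgroup G) : Set G))
      le_sup_left P.2 hrel le_rfl hmR
    have hzmM : z * m ∈ M := M.mul_mem (hRle hzR) hm
    have hzmP : z * m ∈ (P : Subgroup G) := hMH (Subgroup.mem_inf.mpr ⟨hzmM, hzN⟩)
    have hmRmem : m ∈ (P : Subgroup G) ⊔ K₁ := by
      have : m = z⁻¹ * (z * m) := by group
      rw [this]
      exact Subgroup.mul_mem _ (Subgroup.inv_mem _ hzR) (le_sup_left (a := (P : Subgroup G)) hzmP)
    rw [← hcomapP] at hmRmem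
    exact hmRmem
  -- Burnside's transfer theorem in `Mq`
  let P' : Sylow p ↥Mq := Pq.subtype hPqMq
  have hP' : (P' : Subgroup ↥Mq) = (Pq : Subgroup (G ⧸ K₁)).subgroupOf Mq := rfl
  have hB : Subgroup.normalizer ((P' : Subgroup ↥Mq) : Set ↥Mq) ≤
      Subgroup.centralizer ((P' : Subgroup ↥Mq) : Set ↥Mq) := by
    intro y hy
    have hyPq : (y : G ⧸ K₁) ∈ (Pq : Subgroup (G ⧸ K₁)) := by
      apply hself (y : G ⧸ K₁) y.2
      intro a ha
      have h1 := (Subgroup.mem_normalizer_iff.mp hy ⟨a, hPqMq ha⟩).mp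
        (Subgroup.mem_subgroupOf.mpr ha)
      exact Subgroup.mem_subgroupOf.mp h1
    rw [Subgroup.mem_centralizer_iff]
    intro a ha
    have ha' : (a : G ⧸ K₁) ∈ (Pq : Subgroup (G ⧸ K₁)) := Subgroup.mem_subgroupOf.mp ha
    apply Subtype.ext
    exact hPqcomm _ ha' _ hyPq
  have hnpc : HasNormalPComplement p ↥Mq :=
    Cfsg.Agent.Lib.Helper03.hasNormalPComplement_of_normalizer_le_centralizer P' hB
  obtain ⟨L, hL⟩ := (Cfsg.Agent.Lib.Helper74.hasNormalPComplement_iff_exists_isNPC Mq).mp hnpc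
  haveI hLn : L.Normal := hL.normal
  set K : Subgroup G := L.comap (QuotientGroup.mk' K₁) with hK
  haveI hKn : K.Normal := Subgroup.Normal.comap hLn _
  have hKM : K ≤ M := by
    intro x hx
    rw [← hcomapM]
    exact hL.le hx
  have hK₁K : K₁ ≤ K := by
    intro x hx
    rw [hK, Subgroup.mem_comap]
    have : (QuotientGroup.mk' K₁) x = 1 := (QuotientGroup.eq_one_iff _).mpr hx
    rw [this]
    exact L.one_mem
  have hKP : K ⊓ (P : Subgroup G) ≤ ⁅(P : Subgroup G), (P : Subgroup G)⁆ := by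
    intro x hx
    obtain ⟨hxK, hxP⟩ := Subgroup.mem_inf.mp hx
    have h1 : (QuotientGroup.mk' K₁) x ∈ L := hxK
    have h2 : (QuotientGroup.mk' K₁) x ∈ (Pq : Subgroup (G ⧸ K₁)) := by
      rw [hPq]
      exact Subgroup.mem_map_of_mem _ hxP
    have h3 : (orderOf ((QuotientGroup.mk' K₁) x)).Coprime p :=
      Nat.Coprime.coprime_dvd_left (Subgroup.orderOf_dvd_natCard L h1) hL.cop
    have h4 : (QuotientGroup.mk' K₁) x = 1 := eq_one_of_coprime_of_mem_pgroup p Pq.2 h2 h3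
    have h5 : x ∈ K₁ := (QuotientGroup.eq_one_iff _).mp h4
    exact hK₁P (Subgroup.mem_inf.mpr ⟨h5, hxP⟩)
  have hMKP : M ≤ K ⊔ (P : Subgroup G) := by
    have hQi : ¬ p ∣ (Pq : Subgroup (G ⧸ K₁)).relIndex Mq := fun h =>
      Pq.not_dvd_index (dvd_trans h (Subgroup.relIndex_dvd_index_of_le hPqMq))
    have hsup : L ⊔ (Pq : Subgroup (G ⧸ K₁)) = Mq := hL.sup_eq hPqMq hQi
    rw [← hcomapM, ← hsup, ← Subgroup.comap_sup_eq _ _ _ hπs, hcomapP]
    exact sup_le le_sup_left (sup_le le_sup_right (hK₁K.trans le_sup_left))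
  -- Frattini
  have hfrat : ∀ g : G, ∃ y ∈ M, y * g ∈ H := by
    intro g
    have hrel' : ¬ p ∣ (P : Subgroup G).relIndex M := fun h =>
      P.not_dvd_index (dvd_trans h (Subgroup.relIndex_dvd_index_of_le hPM))
    have htop : (⊤ : Subgroup G) ≤ Subgroup.normalizer ((M : Subgroup G) : Set G) := by
      rw [Subgroup.normalizer_eq_top_iff.mpr hMn]
    exact Cfsg.Agent.Lib.Helper03.exists_mul_mem_normalizer_of_sylow
      (S₁ := (P : Subgroup G)) (X := M) (M := ⊤) hPM P.2 hrel' htop (Subgroup.mem_top g)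
  -- Tate's theorem
  have hfr : K ⊓ (P : Subgroup G) ≤
      (frattini (P : Subgroup G)).map (P : Subgroup G).subtype := by
    refine hKP.trans ?_
    rw [← Subgroup.map_subtype_commutator]
    exact Subgroup.map_mono (Cfsg.Agent.Lib.Helper03.commutator_le_frattini_of_isPGroup P.2)
  obtain ⟨T, hTn, hTK, _, hT2, j, hj⟩ :=
    Cfsg.Agent.Lib.Helper14.tate_aux P (Nat.card K) K hKn rfl hfr
  have hsyl : ¬ p ∣ (K ⊓ (P : Subgroup G)).relIndex K := by
    rw [Subgroup.inf_relIndex_left]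
    exact Cfsg.Agent.Lib.Helper13.not_dvd_relIndex_of_normal p (P : Subgroup G) K P.not_dvd_index
  have hKle : K ≤ T ⊔ (K ⊓ (P : Subgroup G)) := le_sup_of_relIndex_pow p hTK inf_le_left hj hsyl
  refine ⟨T, hTn, ?_, ?_⟩
  · rw [eq_top_iff]
    intro g _
    obtain ⟨y, hyM, hyg⟩ := hfrat g
    have h1 : y ∈ T ⊔ H := by
      have h2 : y ∈ K ⊔ (P : Subgroup G) := hMKP hyM
      have h3 : K ⊔ (P : Subgroup G) ≤ T ⊔ H := by
        apply sup_le
        · exact hKle.trans (sup_le le_sup_left ((inf_le_right.trans hPH).trans le_sup_right))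
        · exact hPH.trans le_sup_right
      exact h3 h2
    have h4 : g = y⁻¹ * (y * g) := by group
    rw [h4]
    exact Subgroup.mul_mem _ (Subgroup.inv_mem _ h1) (le_sup_right (a := T) hyg)
  · rw [Subgroup.eq_bot_iff_forall]
    intro x hx
    obtain ⟨hxT, hxH⟩ := Subgroup.mem_inf.mp hx
    have hxP : x ∈ (P : Subgroup G) := hMH (Subgroup.mem_inf.mpr ⟨hKM (hTK hxT), hxH⟩)
    exact eq_one_of_coprime_of_mem_pgroup p P.2 hxP (hT2 x hxT)

end SylNormExt

end Cfsg.Agent.Lib.Helper04
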