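import Mathlib
import Cfsg.Agent.Lib.Helper40.T1904Defs
import Cfsg.Agent.Lib.Helper40.T1904Basic

/-!
# S1904, keystone K15 (`final_contra`): exponent at least 8 is impossible

`dd x b = b⁻¹ (x b x⁻¹)` is the "derivation" attached to conjugation by `x` on the normal abelian
subgroup `B`.  The endomorphism `ν` of `Ω₁(B)` sends `t = s²` to `dd x s`.
-/

set_option autoImplicit false

namespace Cfsg.Agent.Lib.Helper04.T1904

open Cfsg.Agent.Lib.Helper40.T1904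
open scoped commutatorElement

universe u_1

variable {X : Type u_1} [Group X]

/-- `b⁻¹ (x b x⁻¹)`. -/
def dd (x b : X) : X := b⁻¹ * (x * b * x⁻¹)

theorem conj_eq (x b : X) : x * b * x⁻¹ = b * dd x b := by unfold dd; group

theorem dd_mem (B : Subgroup X) (hBn : B.Normal) (x : X) {b : X} (hb : b ∈ B) : dd x b ∈ B :=
  B.mul_mem (B.inv_mem hb) (hBn.conj_mem b hb x)

theorem sq_mul_of_ab (B : Subgroup X) (hBa : Ab B) {a b : X} (ha : a ∈ B) (hb : b ∈ B) :
    (a * b) * (a * b) = (a * a) * (b * b) := by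
  have hcm : b * a = a * b := hBa b hb a ha
  calc a * b * (a * b) = a * (b * a) * b := by group
    _ = a * (a * b) * b := by rw [hcm]
    _ = (a * a) * (b * b) := by group

theorem dd_mul (B : Subgroup X) (hBn : B.Normal) (hBa : Ab B) (x : X) {b b' : X} (hb : b ∈ B)
    (hb' : b' ∈ B) : dd x (b * b') = dd x b * dd x b' := by
  have h1 : x * b * x⁻¹ ∈ B := hBn.conj_mem b hb x
  have h2 : b'⁻¹ ∈ B := B.inv_mem hb'
  have hc : b'⁻¹ * (b⁻¹ * (x * b * x⁻¹)) = (b⁻¹ * (x * b * x⁻¹)) * b'⁻¹ :=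
    hBa _ h2 _ (B.mul_mem (B.inv_mem hb) h1)
  unfold dd
  calc (b * b')⁻¹ * (x * (b * b') * x⁻¹)
      = b'⁻¹ * (b⁻¹ * (x * b * x⁻¹)) * (x * b' * x⁻¹) := by group
    _ = (b⁻¹ * (x * b * x⁻¹)) * b'⁻¹ * (x * b' * x⁻¹) := by rw [hc]
    _ = b⁻¹ * (x * b * x⁻¹) * (b'⁻¹ * (x * b' * x⁻¹)) := by group

theorem pow_four_eq (f : X) : f ^ 4 = f * f * (f * f) := by
  rw [show (4 : ℕ) = 2 + 2 from rfl, pow_add, pow_two]

theorem dd_one (x : X) : dd x 1 = 1 := by unfold dd; group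

theorem dd_pow (B : Subgroup X) (hBn : B.Normal) (hBa : Ab B) (x : X) {b : X} (hb : b ∈ B) (n : ℕ) :
    dd x (b ^ n) = (dd x b) ^ n := by
  induction n with
  | zero => rw [pow_zero, pow_zero, dd_one]
  | succ n ih => rw [pow_succ, pow_succ, dd_mul B hBn hBa x (B.pow_mem hb n) hb, ih]

theorem dd_mul_left (x y b : X) : dd (x * y) b = dd x b * dd y b * dd x (dd y b) := by
  unfold dd; group

theorem dd_of_mem (B : Subgroup X) (hBa : Ab B) {x b : X} (hx : x ∈ B) (hb : b ∈ B) : dd x b = 1 := by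
  unfold dd
  rw [hBa x hx b hb]
  group

theorem dd_map (φ : MulAut X) (x b : X) : φ (dd x b) = dd (φ x) (φ b) := by
  unfold dd
  simp only [map_mul, map_inv]

/-- K15.  Exponent at least 8 is impossible. -/
theorem final_contra [Finite X] {A : Subgroup (MulAut X)} (h : Ctx X A) (hA3 : Nat.card A = 3)
    (hna : ¬ IsMulCommutative X)
    (B : Subgroup X) (hBn : B.Normal) (hBa : Ab B) (hBi : Inv A B) (hfpf : Fpf A B)
    (hsc : ∀ x : X, (∀ b ∈ B, x * b = b * x) → x ∈ B) (h8 : ∃ b ∈ B, b ^ 4 ≠ 1)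
    (hmod : ∀ x : X, ∀ b ∈ B, ∃ d ∈ B, x * b * x⁻¹ = b * (d * d))
    (hhom : ∀ c : ℕ, (∀ b ∈ B, b ^ (2 ^ c) = 1) → (∃ b ∈ B, b ^ (2 ^ (c - 1)) ≠ 1) →
      ∀ j : ℕ, j ≤ c → ∀ y ∈ B, ((∃ b ∈ B, y = b ^ (2 ^ j)) ↔ y ^ (2 ^ (c - j)) = 1))
    (hG2 : ∀ x : X, (∀ b ∈ B, ∃ d ∈ B, x * b * x⁻¹ = b * d ^ 4) → x ∈ B)
    (hfin : ∀ (E : Type u_1) [CommGroup E] [Finite E], Nat.card E = 4 → (∀ v : E, v * v = 1) →
      ∀ g : E ≃* E, (∀ v, g (g (g v)) = v) → (∀ v, g v = v → v = 1) →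
      ∀ ν : E →* E, (∀ v, ν (ν v) = ν v) → (∃ v, ν v ≠ 1) →
      (∀ v, ν v * g (ν (g.symm v)) * g (g (ν (g.symm (g.symm v)))) = 1) → False) : False := by
  classical
  have hdmod : ∀ x : X, ∀ b ∈ B, ∃ e ∈ B, dd x b = e * e := by
    intro x b hb
    obtain ⟨d, hd, hxd⟩ := hmod x b hb
    refine ⟨d, hd, ?_⟩
    unfold dd; rw [hxd]; group
  have hG2' : ∀ x : X, (∀ b ∈ B, ∃ d ∈ B, dd x b = d ^ 4) → x ∈ B := by
    intro x hx
    apply hG2
    intro b hb
    obtain ⟨d, hd, hxd⟩ := hx b hb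
    exact ⟨d, hd, by rw [conj_eq, hxd]⟩
  have h4th : ∀ x y : X, ∀ b ∈ B, ∃ f ∈ B, dd x (dd y b) = f ^ 4 := by
    intro x y b hb
    obtain ⟨e, he, hye⟩ := hdmod y b hb
    obtain ⟨f, hf, hxf⟩ := hdmod x e he
    refine ⟨f, hf, ?_⟩
    rw [hye, dd_mul B hBn hBa x he he, hxf, pow_four_eq]
  -- squares lie in B
  have hsq : ∀ x : X, x * x ∈ B := by
    intro x
    apply hG2'
    intro b hb
    obtain ⟨e, he, hxe⟩ := hdmod x b hb
    obtain ⟨f, hf, hxf⟩ := h4th x x b hb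
    refine ⟨e * f, B.mul_mem he hf, ?_⟩
    rw [dd_mul_left, hxf, hxe]
    have hcm : Commute e f := hBa e he f hf
    rw [hcm.mul_pow, pow_four_eq e]
  -- commutators lie in B
  have hcomm : ∀ x y : X, ⁅x, y⁆ ∈ B := by
    intro x y
    apply hG2
    intro b' hb'
    obtain ⟨b, hbdef⟩ : ∃ b, b = (y * x)⁻¹ * b' * (y * x) := ⟨_, rfl⟩
    have hb : b ∈ B := by
      have := hBn.conj_mem b' hb' (y * x)⁻¹
      rw [inv_inv] at this
      rw [hbdef]; exact this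
    obtain ⟨f1, hf1, h1⟩ := h4th x y b hb
    obtain ⟨f2, hf2, h2⟩ := h4th y x b hb
    refine ⟨f2⁻¹ * f1, B.mul_mem (B.inv_mem hf2) hf1, ?_⟩
    have e1 : ⁅x, y⁆ * b' * ⁅x, y⁆⁻¹ = (x * y) * b * (x * y)⁻¹ := by
      rw [hbdef, commutatorElement_def]; group
    have e2 : b' = (y * x) * b * (y * x)⁻¹ := by rw [hbdef]; group
    have e3 : b' = b * (dd y b * dd x b * f2 ^ 4) := by
      rw [← h2, ← dd_mul_left, ← conj_eq]; exact e2
    have hp := dd_mem B hBn x hb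
    have hq := dd_mem B hBn y hb
    have hpq : dd x b * dd y b = dd y b * dd x b := hBa _ hp _ hq
    have hc : Commute f2⁻¹ f1 := hBa _ (B.inv_mem hf2) _ hf1
    rw [e1, conj_eq (x * y) b, dd_mul_left, h1, hpq, hc.mul_pow]
    conv_rhs => rw [e3]
    group
  -- the exponent
  obtain ⟨m, hm⟩ := IsPGroup.iff_card.mp h.h2
  have hP : ∃ c : ℕ, ∀ b ∈ B, b ^ (2 ^ c) = 1 :=
    ⟨m, fun b _ => by rw [← hm]; exact pow_card_eq_one'⟩
  obtain ⟨c, hcdef⟩ : ∃ c, c = Nat.find hP := ⟨_, rfl⟩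
  have hc : ∀ b ∈ B, b ^ (2 ^ c) = 1 := by rw [hcdef]; exact Nat.find_spec hP
  obtain ⟨b8, hb8, hb8ne⟩ := h8
  have hc3 : 3 ≤ c := by
    by_contra hlt
    push Not at hlt
    apply hb8ne
    have h1 := hc b8 hb8
    have hdvd : (2:ℕ) ^ c ∣ 4 := by
      have h4 : (4:ℕ) = 2 ^ 2 := by norm_num
      rw [h4]; exact pow_dvd_pow 2 (by omega)
    obtain ⟨k, hk⟩ := hdvd
    rw [hk, pow_mul, h1, one_pow]
  have hc' : ∃ b ∈ B, b ^ (2 ^ (c - 1)) ≠ 1 := by
    by_contra hno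
    push Not at hno
    have : c ≤ c - 1 := by rw [hcdef]; exact Nat.find_min' hP (by rw [← hcdef]; exact hno)
    omega
  have hH := hhom c hc hc'
  -- elements of square one are killed by dd
  have hdd1 : ∀ x : X, ∀ t ∈ B, t * t = 1 → dd x t = 1 := by
    intro x t ht htt
    obtain ⟨b, hb, hbt⟩ := (hH (c - 1) (by omega) t ht).mpr (by
      have : c - (c - 1) = 1 := by omega
      rw [this, pow_one, pow_two]; exact htt)
    rw [hbt, dd_pow B hBn hBa x hb]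
    obtain ⟨e, he, hxe⟩ := hdmod x b hb
    rw [hxe, ← pow_two, ← pow_mul, ← pow_succ']
    have : c - 1 + 1 = c := by omega
    rw [this]; exact hc e he
  have hroot : ∀ t ∈ B, t * t = 1 → ∃ s ∈ B, s * s = t := by
    intro t ht htt
    obtain ⟨s, hs, hts⟩ := (hH 1 (by omega) t ht).mpr (by
      obtain ⟨k, hk⟩ : ∃ k, c - 1 = k + 1 := ⟨c - 2, by omega⟩
      rw [hk, pow_succ', pow_mul, pow_two, htt, one_pow])
    exact ⟨s, hs, by rw [hts, pow_one, pow_two]⟩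
  have hwd : ∀ x : X, ∀ s₁ ∈ B, ∀ s₂ ∈ B, s₁ * s₁ = s₂ * s₂ → dd x s₁ = dd x s₂ := by
    intro x s₁ h₁ s₂ h₂ heq
    have hr : s₁ * s₂⁻¹ ∈ B := B.mul_mem h₁ (B.inv_mem h₂)
    have hrr : (s₁ * s₂⁻¹) * (s₁ * s₂⁻¹) = 1 := by
      rw [sq_mul_of_ab B hBa h₁ (B.inv_mem h₂), heq]
      group
    have h3 := hdd1 x _ hr hrr
    have h4 : dd x s₁ = dd x ((s₁ * s₂⁻¹) * s₂) := by
      congr 1; group
    rw [h4, dd_mul B hBn hBa x hr h₂, h3, one_mul]
  have hddΩ : ∀ x : X, ∀ s ∈ B, (s * s) * (s * s) = 1 → dd x s ∈ B ∧ dd x s * dd x s = 1 := by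
    intro x s hs hss
    refine ⟨dd_mem B hBn x hs, ?_⟩
    rw [← dd_mul B hBn hBa x hs hs]
    exact hdd1 x _ (B.mul_mem hs hs) hss
  -- the subgroup Ω₁(B)
  let Ω : Subgroup X :=
    { carrier := {t | t ∈ B ∧ t * t = 1}
      one_mem' := ⟨B.one_mem, by simp⟩
      mul_mem' := by
        rintro a b ⟨ha, haa⟩ ⟨hb, hbb⟩
        refine ⟨B.mul_mem ha hb, ?_⟩
        rw [sq_mul_of_ab B hBa ha hb, haa, hbb, mul_one]
      inv_mem' := by
        rintro a ⟨ha, haa⟩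
        refine ⟨B.inv_mem ha, ?_⟩
        rw [← mul_inv_rev, haa, inv_one] }
  have hΩmem : ∀ t : X, t ∈ Ω ↔ t ∈ B ∧ t * t = 1 := fun t => Iff.rfl
  letI instE : CommGroup Ω :=
    { (inferInstance : Group Ω) with
      mul_comm := by
        rintro ⟨a, ha⟩ ⟨b, hb⟩
        apply Subtype.ext
        exact hBa a ha.1 b hb.1 }
  -- a generator of A
  haveI : Fact (Nat.Prime 3) := ⟨by norm_num⟩
  have hAfin : Finite A := Nat.finite_of_card_ne_zero (by rw [hA3]; norm_num)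
  have hAnt : Nontrivial A := (Finite.one_lt_card_iff_nontrivial).mp (by rw [hA3]; norm_num)
  obtain ⟨g0, hg0⟩ := exists_ne (1 : A)
  have hztop : Subgroup.zpowers g0 = ⊤ := zpowers_eq_top_of_prime_card hA3 hg0
  obtain ⟨g, hgdef⟩ : ∃ g : MulAut X, g = g0.1 := ⟨_, rfl⟩
  have hgA : g ∈ A := by rw [hgdef]; exact g0.2
  have hg3pow : g ^ 3 = 1 := by
    have h1 : g0 ^ 3 = 1 := by rw [← hA3]; exact pow_card_eq_one'
    have := congrArg Subtype.val h1
    rw [hgdef]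
    simpa using this
  have hg3 : ∀ v : X, g (g (g v)) = v := by
    intro v
    have h1 : (g ^ 3) v = v := by rw [hg3pow]; rfl
    rw [pow_succ, pow_succ, pow_one, MulAut.mul_apply, MulAut.mul_apply] at h1
    exact h1
  have hA_cases : ∀ φ ∈ A, φ = 1 ∨ φ = g ∨ φ = g * g := by
    intro φ hφ
    have hmem : (⟨φ, hφ⟩ : A) ∈ Subgroup.zpowers g0 := by rw [hztop]; trivial
    obtain ⟨k, hk⟩ := Subgroup.mem_zpowers_iff.mp hmem
    have hφk : φ = g ^ k := by
      have := congrArg Subtype.val hk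
      rw [hgdef]
      simpa using this.symm
    have hk3 : g ^ k = g ^ (k % 3) := by
      conv_lhs => rw [← Int.emod_add_mul_ediv k 3, zpow_add, zpow_mul]
      have : g ^ (3 : ℤ) = 1 := by
        have := hg3pow
        rw [← zpow_natCast] at this
        exact_mod_cast this
      rw [this, one_zpow, mul_one]
    have h0 : 0 ≤ k % 3 := Int.emod_nonneg k (by norm_num)
    have h3 : k % 3 < 3 := Int.emod_lt_of_pos k (by norm_num)
    rw [hφk, hk3]
    obtain ⟨r, hr⟩ : ∃ r : ℕ, k % 3 = r := ⟨(k % 3).toNat, (Int.toNat_of_nonneg h0).symm⟩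
    rw [hr] at h3 ⊢
    have hr3 : r < 3 := by exact_mod_cast h3
    rw [zpow_natCast]
    interval_cases r
    · left; rfl
    · right; left; rw [pow_one]
    · right; right; rw [pow_two]
  have hgfix : ∀ v : X, g v = v → ∀ φ ∈ A, φ v = v := by
    intro v hv φ hφ
    rcases hA_cases φ hφ with rfl | rfl | rfl
    · rfl
    · exact hv
    · rw [MulAut.mul_apply, hv, hv]
  -- g on Ω
  have hΩg : ∀ t ∈ Ω, g t ∈ Ω := by
    rintro t ⟨ht, htt⟩
    exact ⟨hBi g hgA t ht, by rw [← map_mul, htt, map_one]⟩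
  let gE : Ω ≃* Ω :=
    { toFun := fun t => ⟨g t.1, hΩg t.1 t.2⟩
      invFun := fun t => ⟨g (g t.1), hΩg _ (hΩg t.1 t.2)⟩
      left_inv := fun t => Subtype.ext (hg3 t.1)
      right_inv := fun t => Subtype.ext (hg3 t.1)
      map_mul' := fun a b => Subtype.ext (by simp) }
  have hgE1 : ∀ v : Ω, (gE v).1 = g v.1 := fun v => rfl
  have hgE2 : ∀ v : Ω, (gE.symm v).1 = g (g v.1) := fun v => rfl
  have hgE3 : ∀ v : Ω, gE (gE (gE v)) = v := fun v => Subtype.ext (hg3 v.1)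
  have hgEf : ∀ v : Ω, gE v = v → v = 1 := by
    intro v hv
    have h1 : g v.1 = v.1 := congrArg Subtype.val hv
    have h2 := hfpf v.1 v.2.1 (hgfix v.1 h1)
    exact Subtype.ext h2
  -- the order of Ω
  have hcardle : Nat.card Ω ≤ 4 := by
    have := h.hR B hBn hBa
    exact this
  have hΩ2 : IsPGroup 2 Ω := h.h2.to_subgroup Ω
  obtain ⟨k, hk⟩ := IsPGroup.iff_card.mp hΩ2
  obtain ⟨b1, hb1, hb1ne⟩ := hc'
  have ht0mem : b1 ^ (2 ^ (c - 1)) ∈ Ω := by
    refine ⟨B.pow_mem hb1 _, ?_⟩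
    rw [← pow_two, ← pow_mul, ← pow_succ]
    have : c - 1 + 1 = c := by omega
    rw [this]; exact hc b1 hb1
  have ht0 : (⟨b1 ^ (2 ^ (c - 1)), ht0mem⟩ : Ω) ≠ 1 := fun h => hb1ne (congrArg Subtype.val h)
  have hcard4 : Nat.card Ω = 4 := by
    have hk0 : k ≠ 0 := by
      intro hk0
      rw [hk0, pow_zero] at hk
      have := (Nat.card_eq_one_iff_unique.mp hk).1
      exact ht0 (Subsingleton.elim _ _)
    have hk1 : k ≠ 1 := by
      intro hk1
      rw [hk1, pow_one] at hk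
      obtain ⟨y, hy, hyu⟩ := (Nat.card_eq_two_iff' (1 : Ω)).mp hk
      have h1 := hyu _ ht0
      have h2 := hyu (gE ⟨b1 ^ (2 ^ (c - 1)), ht0mem⟩) (by
        intro h
        apply ht0
        exact gE.injective (h.trans (map_one gE).symm))
      exact ht0 (hgEf _ (h2.trans h1.symm))
    have hk2 : k ≤ 2 := by
      by_contra hgt
      push Not at hgt
      have : 2 ^ 3 ≤ 2 ^ k := Nat.pow_le_pow_right (by norm_num) hgt
      omega
    interval_cases k
    · exact absurd rfl hk0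
    · exact absurd rfl hk1
    · rw [hk]; norm_num
  -- an element outside B
  obtain ⟨x, hxB⟩ : ∃ x : X, x ∉ B := by
    by_contra hall
    push Not at hall
    exact hna ⟨⟨fun a b => hBa a (hall a) b (hall b)⟩⟩
  -- the endomorphism ν
  have hνex : ∀ t : Ω, ∃ s ∈ B, s * s = t.1 := fun t => hroot t.1 t.2.1 t.2.2
  let sq : Ω → X := fun t => Classical.choose (hνex t)
  have hsq1 : ∀ t : Ω, sq t ∈ B := fun t => (Classical.choose_spec (hνex t)).1
  have hsq2 : ∀ t : Ω, sq t * sq t = t.1 := fun t => (Classical.choose_spec (hνex t)).2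
  have hνmem : ∀ t : Ω, dd x (sq t) ∈ Ω := by
    intro t
    exact hddΩ x (sq t) (hsq1 t) (by rw [hsq2]; exact t.2.2)
  have hνspec : ∀ (t : Ω) (s : X), s ∈ B → s * s = t.1 → dd x (sq t) = dd x s := by
    intro t s hs hst
    exact hwd x _ (hsq1 t) s hs (by rw [hsq2, hst])
  let ν : Ω →* Ω := MonoidHom.mk' (fun t => ⟨dd x (sq t), hνmem t⟩) (by
    intro a b
    apply Subtype.ext
    show dd x (sq (a * b)) = dd x (sq a) * dd x (sq b)
    rw [hνspec (a * b) (sq a * sq b) (B.mul_mem (hsq1 a) (hsq1 b))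
      (by rw [sq_mul_of_ab B hBa (hsq1 a) (hsq1 b), hsq2, hsq2]; rfl),
      dd_mul B hBn hBa x (hsq1 a) (hsq1 b)])
  have hν1 : ∀ t : Ω, (ν t).1 = dd x (sq t) := fun t => rfl
  -- ν is nontrivial
  have hνne : ∃ v, ν v ≠ 1 := by
    have hnot : ¬ ∀ b ∈ B, ∃ d ∈ B, dd x b = d ^ 4 := fun hh => hxB (hG2' x hh)
    push Not at hnot
    obtain ⟨b, hb, hbne⟩ := hnot
    have hu : dd x b ∈ B := dd_mem B hBn x hb
    have hune : (dd x b) ^ (2 ^ (c - 2)) ≠ 1 := by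
      intro hu1
      obtain ⟨d, hd, hdu⟩ := (hH 2 (by omega) (dd x b) hu).mpr hu1
      exact hbne d hd (by rw [hdu]; norm_num)
    obtain ⟨s, hsdef⟩ : ∃ s, s = b ^ (2 ^ (c - 2)) := ⟨_, rfl⟩
    have hs : s ∈ B := by rw [hsdef]; exact B.pow_mem hb _
    have hst : (s * s) * (s * s) = 1 := by
      rw [← pow_four_eq, hsdef, ← pow_mul]
      have : 2 ^ (c - 2) * 4 = 2 ^ c := by
        obtain ⟨k', hk'⟩ : ∃ k', c = k' + 2 := ⟨c - 2, by omega⟩
        rw [hk', Nat.add_sub_cancel, pow_succ, pow_succ]; ring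
      rw [this]; exact hc b hb
    refine ⟨⟨s * s, B.mul_mem hs hs, hst⟩, ?_⟩
    intro hν0
    have h1 : dd x (sq ⟨s * s, B.mul_mem hs hs, hst⟩) = 1 := congrArg Subtype.val hν0
    rw [hνspec ⟨s * s, B.mul_mem hs hs, hst⟩ s hs rfl, hsdef, dd_pow B hBn hBa x hb] at h1
    exact hune h1
  -- ν is idempotent
  have hidem : ∀ v, ν (ν v) = ν v := by
    intro v
    obtain ⟨b0, hb0, hvb0⟩ := (hH (c - 1) (by omega) v.1 v.2.1).mpr (by
      have : c - (c - 1) = 1 := by omega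
      rw [this, pow_one, pow_two]; exact v.2.2)
    obtain ⟨b, hbdef⟩ : ∃ b, b = b0 ^ (2 ^ (c - 3)) := ⟨_, rfl⟩
    have hb : b ∈ B := by rw [hbdef]; exact B.pow_mem hb0 _
    have hb4 : (b * b) * (b * b) = v.1 := by
      rw [← pow_four_eq, hvb0, hbdef, ← pow_mul]
      congr 1
      obtain ⟨k', hk'⟩ : ∃ k', c = k' + 3 := ⟨c - 3, by omega⟩
      rw [hk', Nat.add_sub_cancel, show k' + 3 - 1 = k' + 2 by omega, pow_succ, pow_succ]; ring
    have h1 : (ν v).1 = dd x (b * b) := hνspec v (b * b) (B.mul_mem hb hb) hb4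
    have hu : dd x b ∈ B := dd_mem B hBn x hb
    have h2 : dd x (b * b) = dd x b * dd x b := dd_mul B hBn hBa x hb hb
    have h3 : (ν (ν v)).1 = dd x (dd x b) := hνspec (ν v) (dd x b) hu (by rw [h1, h2])
    have h4 : dd (x * x) b = 1 := dd_of_mem B hBa (hsq x) hb
    rw [dd_mul_left] at h4
    have h5 : (ν v).1 * (ν (ν v)).1 = 1 := by rw [h1, h2, h3]; exact h4
    have h6 : (ν v).1 * (ν v).1 = 1 := (ν v).2.2
    exact Subtype.ext (mul_left_cancel (h5.trans h6.symm))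
  -- the trace condition
  have hy : x * g x * g (g x) ∈ B := by
    apply fix_quot h B hBn hBi hcomm
    intro φ hφ
    rcases hA_cases φ hφ with h1 | h1 | h1
    · rw [h1, MulAut.one_apply, inv_mul_cancel]; exact B.one_mem
    · have e : (x * g x * g (g x))⁻¹ * g (x * g x * g (g x)) = ⁅(g x * g (g x))⁻¹, x⁻¹⁆ := by
        rw [map_mul, map_mul, hg3 x, commutatorElement_def]; group
      rw [h1, e]; exact hcomm _ _
    · have e : (x * g x * g (g x))⁻¹ * (g * g) (x * g x * g (g x))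
          = ⁅(g (g x))⁻¹, (x * g x)⁻¹⁆ := by
        rw [MulAut.mul_apply, map_mul, map_mul, map_mul, map_mul, hg3 x,
          commutatorElement_def]; group
      rw [h1, e]; exact hcomm _ _
  have htr : ∀ v, ν v * gE (ν (gE.symm v)) * gE (gE (ν (gE.symm (gE.symm v)))) = 1 := by
    intro v
    apply Subtype.ext
    obtain ⟨s, hsdef⟩ : ∃ s, s = sq v := ⟨_, rfl⟩
    have hs : s ∈ B := by rw [hsdef]; exact hsq1 v
    have hss : s * s = v.1 := by rw [hsdef]; exact hsq2 v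
    have hs4 : (s * s) * (s * s) = 1 := by rw [hss]; exact v.2.2
    have hgs : g s ∈ B := hBi g hgA s hs
    have hggs : g (g s) ∈ B := hBi g hgA _ hgs
    -- first term
    have t1 : (ν v).1 = dd x s := by rw [hsdef]; rfl
    -- second term
    have t2 : (gE (ν (gE.symm v))).1 = dd (g x) s := by
      rw [hgE1, hν1, hνspec (gE.symm v) (g (g s)) hggs
        (by rw [hgE2, ← map_mul, ← map_mul, hss]), dd_map, hg3]
    -- third term
    have t3 : (gE (gE (ν (gE.symm (gE.symm v))))).1 = dd (g (g x)) s := by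
      rw [hgE1, hgE1, hν1, hνspec (gE.symm (gE.symm v)) (g s) hgs
        (by rw [hgE2, hgE2, hg3, ← map_mul, hss]), dd_map, dd_map, hg3]
    show (ν v).1 * (gE (ν (gE.symm v))).1 * (gE (gE (ν (gE.symm (gE.symm v))))).1 = 1
    rw [t1, t2, t3]
    have h1 : dd (x * g x * g (g x)) s = 1 := dd_of_mem B hBa hy hs
    rw [dd_mul_left, dd_mul_left] at h1
    have r1 := hddΩ (g x) s hs hs4
    have r2 := hddΩ (g (g x)) s hs hs4
    rw [hdd1 _ _ r1.1 r1.2, hdd1 _ _ r2.1 r2.2, mul_one, mul_one] at h1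
    exact h1
  exact hfin Ω hcard4 (fun v => Subtype.ext v.2.2) gE hgE3 hgEf ν hidem hνne htr

end Cfsg.Agent.Lib.Helper04.T1904
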