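import Mathlib
import Cfsg.Agent.Lib.Helper94.THDefs

/-!
# KEYSTONE 163214 K-TH-D1 `thetaC_hasSum` (architect helper94, S1632 pack), hypothesis form

`thetaC_hasSum_of` takes the statement of THC2 (`summable_thetaC`, keystone 163212) at `τ` as a hypothesis.
-/

set_option autoImplicit false

namespace Cfsg.Agent.Lib.Helper04.TH

open Matrix Complex ModularForm
open UpperHalfPlane hiding I
open scoped Real MatrixGroups
open Cfsg.Agent.Lib.Helper94.TH

/-- THD1 with THC2 as a hypothesis. -/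
theorem thetaC_hasSum_of {B : Matrix (Fin 24) (Fin 24) ℤ} (h : Hyp B) (τ : ℍ)
    (hC2 : Summable (fun x : Fin 24 → ℤ => ‖cexp (π * I * (τ : ℂ) * (qf B x : ℂ))‖)) :
    HasSum (fun m : ℕ => (rep B m : ℂ) • Function.Periodic.qParam 1 (τ : ℂ) ^ m)
      (thetaC B (τ : ℂ)) := by
  classical
  set q : ℂ := Function.Periodic.qParam 1 (τ : ℂ) with hq
  have hq0 : q ≠ 0 := by
    rw [hq, Function.Periodic.qParam]
    exact Complex.exp_ne_zero _
  let μ : (Fin 24 → ℤ) → ℕ := fun x => (qf B x / 2).toNat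
  have hμ : ∀ x, qf B x = 2 * (μ x : ℤ) := by
    intro x
    have h0 : 0 ≤ qf B x := by
      by_cases hx : x = 0
      · rw [hx]
        simp [qf]
      · exact (h.pos x hx).le
    obtain ⟨k, hk⟩ := h.even x
    have hk' : qf B x = 2 * k := hk
    simp only [μ]
    rw [hk'] at h0 ⊢
    rw [Int.mul_ediv_cancel_left _ (by norm_num : (2 : ℤ) ≠ 0), Int.toNat_of_nonneg (by omega)]
  have hf : ∀ x, cexp (π * I * (τ : ℂ) * (qf B x : ℂ)) = q ^ μ x := by
    intro x
    rw [hμ x, hq, Function.Periodic.qParam, ← Complex.exp_nat_mul]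
    congr 1
    push_cast
    ring
  have hsum : Summable (fun x : Fin 24 → ℤ => cexp (π * I * (τ : ℂ) * (qf B x : ℂ))) :=
    hC2.of_norm
  have hS : HasSum (fun x : Fin 24 → ℤ => q ^ μ x) (thetaC B (τ : ℂ)) := by
    have h1 := hsum.hasSum
    have h2 : (fun x : Fin 24 → ℤ => cexp (π * I * (τ : ℂ) * (qf B x : ℂ))) =
        fun x => q ^ μ x := funext hf
    unfold thetaC
    rw [h2] at h1 ⊢
    exact h1
  have hS' : HasSum (fun p : (Σ m : ℕ, {x : Fin 24 → ℤ // μ x = m}) =>
      q ^ μ ((p.2 : Fin 24 → ℤ))) (thetaC B (τ : ℂ)) :=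
    (Equiv.sigmaFiberEquiv μ).hasSum_iff.mpr hS
  refine HasSum.sigma hS' (fun m => ?_)
  have hconst : (fun x : {x : Fin 24 → ℤ // μ x = m} => q ^ μ (x : Fin 24 → ℤ)) =
      fun _ => q ^ m := funext (fun x => by rw [x.2])
  have hfin : Finite {x : Fin 24 → ℤ // μ x = m} := by
    by_contra hinf
    rw [not_finite_iff_infinite] at hinf
    have hs : Summable (fun x : {x : Fin 24 → ℤ // μ x = m} => q ^ μ (x : Fin 24 → ℤ)) :=
      hS.summable.subtype _
    rw [hconst, summable_const_iff] at hs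
    exact pow_ne_zero m hq0 hs
  haveI := Fintype.ofFinite {x : Fin 24 → ℤ // μ x = m}
  have hrep : rep B m = Fintype.card {x : Fin 24 → ℤ // μ x = m} := by
    unfold rep
    rw [← Nat.card_eq_fintype_card, ← _root_.Nat.card_coe_set_eq]
    refine Nat.card_congr (Equiv.subtypeEquivRight (fun x => ?_))
    show x ⬝ᵥ (B *ᵥ x) = 2 * (m : ℤ) ↔ μ x = m
    have := hμ x
    unfold qf at this
    rw [this]
    constructor
    · intro h1
      have : (μ x : ℤ) = m := by omega
      exact_mod_cast this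
    · intro h1
      rw [h1]
  show HasSum (fun x : {x : Fin 24 → ℤ // μ x = m} => q ^ μ (x : Fin 24 → ℤ)) _
  rw [hconst]
  have hval : (rep B m : ℂ) • q ^ m = ∑ _c : {x : Fin 24 → ℤ // μ x = m}, q ^ m := by
    rw [Finset.sum_const, Finset.card_univ, hrep, nsmul_eq_mul, smul_eq_mul]
  rw [hval]
  exact hasSum_fintype _

end Cfsg.Agent.Lib.Helper04.TH
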