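import Cfsg.Agent.Lib.Helper04.THD1
import Cfsg.Agent.Lib.Helper96.THC2

/-!
# KEYSTONE 163214 K-TH-D1 `thetaC_hasSum` (architect helper94, S1632 pack): exact-signature wrapper
-/

set_option autoImplicit false

namespace Cfsg.Agent.Lib.Helper04.TH

open Matrix Complex ModularForm
open UpperHalfPlane hiding I
open scoped Real MatrixGroups
open Cfsg.Agent.Lib.Helper94.TH

/-- THD1 -/
theorem thetaC_hasSum {B : Matrix (Fin 24) (Fin 24) ℤ} (h : Hyp B) (τ : ℍ) :
    HasSum (fun m : ℕ => (rep B m : ℂ) • Function.Periodic.qParam 1 (τ : ℂ) ^ m)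
      (thetaC B (τ : ℂ)) :=
  thetaC_hasSum_of h τ (Cfsg.Agent.Lib.Helper96.TH.summable_thetaC h τ.2)

end Cfsg.Agent.Lib.Helper04.TH
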